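import Cfsg.Agent.Lib.CoTwoRec.SpinModule

/-!
# The models of the modules with a fixed vector and the search for the last two transvections
-/

set_option autoImplicit false
set_option maxRecDepth 100000
set_option Elab.async false

namespace CfsgLib.CoTwoRec

open CfsgLib.ThType.Coords

/-- The centres of the transvections. -/
def cenA : List ℕ := [1, 2, 4, 8, 16, 32, 131, 134]

/-- The partner of a vector of the basis. -/
def prA (U : ℕ) : ℕ := ([3, 4, 5, 0, 1, 2, 7, 6] : List ℕ).getD U 8

/-- The polar form. -/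
def betaA (m n : ℕ) : Bool :=
  (List.range 8).foldl (fun acc W => acc ^^ (n.testBit W && m.testBit (prA W))) false

/-- The quadratic forms of the two types. -/
def qA (ε : Bool) (m : ℕ) : Bool :=
  ((m.testBit 0 || m.testBit 3) ^^ (m.testBit 1 || m.testBit 4) ^^ (m.testBit 2 || m.testBit 5)) ^^
    ((ε && m.testBit 6) ^^ m.testBit 7 ^^ (m.testBit 6 && m.testBit 7))

/-- A transvection. -/
def fA (k : Fin 8) (m : ℕ) : ℕ :=
  m ^^^ ((if betaA m (cenA.getD k.val 0) then cenA.getD k.val 0 else 0) ^^^ if m.testBit 6 then 128 else 0)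

/-- The transvections of the pairs commuting with one of the last two. -/
def comL (g : Fin 8) : List (Fin 8) := if g = 6 then [0, 1, 2, 5] else [0, 1, 2, 3]

/-- The others. -/
def nonL (g : Fin 8) : List (Fin 8) := if g = 6 then [3, 4] else [4, 5]

/-- The possible images of a vector of the basis. -/
noncomputable def candA (g : Fin 8) (ε : Bool) (U : ℕ) : List ℕ :=
  (List.range 256).filter fun m => (qA ε m == qA ε (2 ^ U)) && ((comL g).all fun l =>
    ((!Nat.beq (fA l (2 ^ U)) (2 ^ U)) || Nat.beq (fA l m) m) &&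
      ((!Nat.beq U 6) || Nat.beq (fA l m ^^^ m) (fA 0 m ^^^ m)))

/-- The images of the basis from four of them. -/
def imgA (m3 m4 m5 m6 : ℕ) : List ℕ :=
  [fA 0 m3 ^^^ m3, fA 1 m4 ^^^ m4, fA 2 m5 ^^^ m5, m3, m4, m5, m6, fA 0 m6 ^^^ m6]

/-- One braid relation on a vector of the basis. -/
noncomputable def brA (t : ℕ → ℕ) (l : Fin 8) (U : ℕ) : Bool :=
  Nat.beq (t (fA l (t (fA l (t (fA l (2 ^ U))))))) (2 ^ U)

/-- The relations that single the images out. -/
noncomputable def goodA (g : Fin 8) (ε : Bool) (L : List ℕ) : Bool :=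
  if g = 6 then
    brA (linN (fun i => L.getD i 0) 8) 3 4 && (brA (linN (fun i => L.getD i 0) 8) 4 1 &&
      (brA (linN (fun i => L.getD i 0) 8) 3 5 && (brA (linN (fun i => L.getD i 0) 8) 3 6 &&
        qA ε (linN (fun i => L.getD i 0) 8 72) == qA ε 72)))
  else
    brA (linN (fun i => L.getD i 0) 8) 4 3 && (brA (linN (fun i => L.getD i 0) 8) 5 4 &&
      (brA (linN (fun i => L.getD i 0) 8) 4 1 && (brA (linN (fun i => L.getD i 0) 8) 4 6 &&
        qA ε (linN (fun i => L.getD i 0) 8 80) == qA ε 80)))

/-- The possible images, listed. -/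
def litA (g : Fin 8) (ε : Bool) : List (List ℕ) :=
  if g = 6 then
    [[1, 2, 8, 9, 128, 131, 138, 139], [1, 2, 16, 18, 128, 131, 145, 147], [1, 2, 32, 35, 128, 131, 161, 162],
      if ε then [1, 2, 64, 67, 128, 131, 192, 195] else [0, 3, 64, 67, 129, 130, 192, 195]]
  else
    [[2, 4, 8, 14, 128, 134, 138, 140], [2, 4, 16, 18, 128, 134, 148, 150], [2, 4, 32, 36, 128, 134, 162, 166],
      if ε then [2, 4, 64, 70, 128, 134, 192, 198] else [0, 6, 64, 70, 130, 132, 192, 198]]

theorem cand_six : ∀ (ε : Bool) (U : Fin 4), candA 6 ε (U.val + 3) = (litA 6 ε).getD U.val [] := by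
  decide +kernel

theorem cand_seven : ∀ (ε : Bool) (U : Fin 4), candA 7 ε (U.val + 3) = (litA 7 ε).getD U.val [] := by
  decide +kernel

theorem cand_lit {g : Fin 8} (hg : g = 6 ∨ g = 7) (ε : Bool) (U : Fin 4) :
    candA g ε (U.val + 3) = (litA g ε).getD U.val [] := by
  rcases hg with rfl | rfl
  exacts [cand_six ε U, cand_seven ε U]

/-- Only the transvection has these relations. -/
noncomputable def searchA (g : Fin 8) (ε : Bool) : Bool :=
  ((litA g ε).getD 0 []).all fun m3 => ((litA g ε).getD 1 []).all fun m4 => ((litA g ε).getD 2 []).all fun m5 =>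
    ((litA g ε).getD 3 []).all fun m6 =>
      (!goodA g ε (imgA m3 m4 m5 m6)) || (List.range 8).all fun U =>
        Nat.beq ((imgA m3 m4 m5 m6).getD U 0) (fA g (2 ^ U))

theorem search_six_false : searchA 6 false = true := by decide +kernel

theorem search_six_true : searchA 6 true = true := by decide +kernel

theorem search_seven_false : searchA 7 false = true := by decide +kernel

theorem search_seven_true : searchA 7 true = true := by decide +kernel

theorem search_ok {g : Fin 8} (hg : g = 6 ∨ g = 7) (ε : Bool) : searchA g ε = true := by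
  rcases hg with rfl | rfl <;> cases ε
  exacts [search_six_false, search_six_true, search_seven_false, search_seven_true]

theorem fA_lin : ∀ k : Fin 8, ((List.range 256).all fun m =>
    Nat.beq (linN (fun i => fA k (2 ^ i)) 8 m) (fA k m) && Nat.blt (fA k m) 256) = true := by decide +kernel

theorem qA_polar : ∀ (ε : Bool) (U : Fin 8), ((List.range 256).all fun m =>
    qA ε (m ^^^ 2 ^ U.val) == ((qA ε m ^^ qA ε (2 ^ U.val)) ^^ m.testBit (prA U.val))) = true := by decide +kernel

theorem rel_table : ∀ g : Fin 8, (g = 6 ∨ g = 7) → ((comL g).all fun l => sameB [g, l] [l, g]) = true ∧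
    ((nonL g).all fun l => sameB [g, l, g, l, g, l] []) = true := by decide +kernel

theorem drv_table : ∀ i : Fin 3,
    fA (i.castLE (by norm_num)) (2 ^ (i.val + 3)) ^^^ 2 ^ (i.val + 3) = 2 ^ i.val := by decide +kernel

theorem n_table : fA 0 (2 ^ 6) ^^^ 2 ^ 6 = 2 ^ 7 := by decide +kernel

theorem pow_table : ∀ U : Fin 8, ∀ i : Fin 8, ((2 : ℕ) ^ U.val).testBit i.val = decide (U = i) := by
  decide +kernel

end CfsgLib.CoTwoRec
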