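import Cfsg.Agent.Lib.CoTwoRec.AxisKill
import Cfsg.Agent.Lib.CoTwoRec.AxisModel

/-!
# The two modules with a fixed vector

A module of order 256 on which a product of two non-commuting transvections has a fixed vector has the
coordinates of one of the two models; hence there are at most three modules.
-/

set_option autoImplicit false
set_option maxRecDepth 100000

namespace CfsgLib.CoTwoRec

open CfsgLib.ExtraNine CfsgLib.Schur.Tails.SpSix CfsgLib.ThType.Perm CfsgLib.ThType.Coords

/-- The coordinates of a module with a fixed vector. -/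
structure AxisChart {V : Type*} [AddCommGroup V] (ε : Bool) (S : QV V) (A : Act Sp2 V) where
  /-- The vector of a combination. -/
  c : ℕ → V
  xor : ∀ m n, c (m ^^^ n) = c m + c n
  inj : ∀ m < 256, ∀ n < 256, c m = c n → m = n
  surj : ∀ x, ∃ m < 256, c m = x
  act : ∀ k, ∀ m < 256, A.σ (tv k) (c m) = c (fA k m)
  form : ∀ m < 256, S.q (c m) = if qA ε m then 1 else 0
  polar : ∀ m < 256, ∀ n < 256, S.B (c m) (c n) = if betaA m n then 1 else 0

variable {V : Type*} [AddCommGroup V] {S : QV V} (A : Act Sp2 V) (H : AxisHyp S A)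

/-- The basis of a chart. -/
def basV (a b : Fin 3 → V) (f n : V) (U : ℕ) : V :=
  ([a 0, a 1, a 2, b 0, b 1, b 2, f, n] : List V).getD U 0

theorem sig_lin (g : Sp2) (bs : ℕ → V) (h : ℕ → ℕ)
    (hb : ∀ U < 8, A.σ g (bs U) = lin bs 8 (h U)) (m : ℕ) :
    A.σ g (lin bs 8 m) = lin bs 8 (linN h 8 m) :=
  map_lin A.two (A.a g) bs h 8 m hb

/-- An action on a basis in the coordinates of a model. -/
theorem act_of_basis {bs : ℕ → V} {k : Fin 8} (hb : ∀ U < 8, A.σ (tv k) (bs U) = lin bs 8 (fA k (2 ^ U)))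
    {m : ℕ} (hm : m < 256) : A.σ (tv k) (lin bs 8 m) = lin bs 8 (fA k m) := by
  have h := List.all_eq_true.1 (fA_lin k) m (List.mem_range.2 hm)
  rw [Bool.and_eq_true, Nat.beq_eq] at h
  rw [sig_lin A _ bs (fun i => fA k (2 ^ i)) hb m, h.1]

theorem fA_lt {k : Fin 8} {m : ℕ} (hm : m < 256) : fA k m < 256 := by
  have h := List.all_eq_true.1 (fA_lin k) m (List.mem_range.2 hm)
  rw [Bool.and_eq_true] at h
  simpa using h.2

theorem basis_table : ∀ i j : Fin 3,
    (fA (sA j) (2 ^ i.val) = 2 ^ i.val ∧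
      fA (sA j) (2 ^ (i.val + 3)) = if i = j then 2 ^ i.val ^^^ 2 ^ (i.val + 3) else 2 ^ (i.val + 3)) ∧
    (fA (sB j) (2 ^ i.val) = (if i = j then 2 ^ i.val ^^^ 2 ^ (i.val + 3) else 2 ^ i.val) ∧
      fA (sB j) (2 ^ (i.val + 3)) = 2 ^ (i.val + 3)) ∧
    (fA (sA j) (2 ^ 6) = 2 ^ 6 ^^^ 2 ^ 7 ∧ fA (sA j) (2 ^ 7) = 2 ^ 7) ∧
    (fA (sB j) (2 ^ 6) = 2 ^ 6 ^^^ 2 ^ 7 ∧ fA (sB j) (2 ^ 7) = 2 ^ 7) := by decide +kernel

theorem basis_cases : ∀ U < 8, (∃ i : Fin 3, U = i.val) ∨ (∃ i : Fin 3, U = i.val + 3) ∨ U = 6 ∨ U = 7 := by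
  decide

theorem pow_lt_byte {U : ℕ} (hU : U < 8) : 2 ^ U < 256 := by
  calc 2 ^ U < 2 ^ 8 := Nat.pow_lt_pow_right (by norm_num) hU
    _ = 256 := by norm_num

include H

/-- A module with a fixed vector has the coordinates of a model. -/
theorem exists_axisChart : ∃ ε, Nonempty (AxisChart ε S A) := by
  haveI : Finite V := Nat.finite_of_card_ne_zero (by rw [H.card]; norm_num)
  obtain ⟨a, b, P⟩ := exists_planes A H
  obtain ⟨f, n, Rf, Rn, n0, qn, Bfn, mvf, fxn⟩ :=
    (exists_axis A H).resolve_left (no_reflections A H)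
  set ε : Bool := decide (S.q f = 1) with hε
  refine ⟨ε, ?_⟩
  have qf : S.q f = zb ε := by
    rcases zm_two (S.q f) with h | h <;> rw [hε, h] <;> decide
  have Xfix : ∀ j u, pR A u = u → A.σ (pX j) u = u := fun j u hu =>
    fix_of_F A (by rw [← hu, F_R A H])
  have Bf : ∀ i u, pR A u = u → S.B u (a i) = 0 ∧ S.B u (b i) = 0 := fun i u hu => by
    constructor
    · rw [← hu, ← P.Fa i]; exact B_pR_F A H i _ _
    · rw [← hu, ← P.Fb i]; exact B_pR_F A H i _ _
  have Bp : ∀ i j, S.B (a i) (a j) = 0 ∧ S.B (b i) (b j) = 0 ∧ S.B (a i) (b j) = zb (decide (i = j)) := fun i j => by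
    rcases eq_or_ne i j with rfl | h
    · exact ⟨S.B_self _, S.B_self _, by rw [(plane_form A H P i).2.2]; simp [zb]⟩
    · refine ⟨?_, ?_, ?_⟩
      · rw [← P.Fa i, ← P.Fa j]; exact B_F_F A H h _ _
      · rw [← P.Fb i, ← P.Fb j]; exact B_F_F A H h _ _
      · rw [← P.Fa i, ← P.Fb j, B_F_F A H h]; simp [zb, h]
  set bs : ℕ → V := basV a b f n with hbs
  have tbl : ∀ U W : Fin 8, S.B (bs U.val) (bs W.val) = zb (decide (U.val = prA W.val)) := by
    have f1 := fun i => (Bf i f Rf).1
    have f2 := fun i => (Bf i f Rf).2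
    have f3 := fun i => (Bf i n Rn).1
    have f4 := fun i => (Bf i n Rn).2
    have f5 : ∀ i, S.B (a i) f = 0 := fun i => by rw [S.B_comm, f1]
    have f6 : ∀ i, S.B (b i) f = 0 := fun i => by rw [S.B_comm, f2]
    have f7 : ∀ i, S.B (a i) n = 0 := fun i => by rw [S.B_comm, f3]
    have f8 : ∀ i, S.B (b i) n = 0 := fun i => by rw [S.B_comm, f4]
    have f9 : S.B n f = 1 := by rw [S.B_comm, Bfn]
    have f10 : ∀ i j, S.B (b i) (a j) = zb (decide (j = i)) := fun i j => by rw [S.B_comm, (Bp j i).2.2]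
    intro U W
    fin_cases U <;> fin_cases W <;>
      simp [hbs, basV, prA, zb, f1, f2, f3, f4, f5, f6, f7, f8, f9, f10, Bfn, S.B_self,
        fun i j => (Bp i j).1, fun i j => (Bp i j).2.1, fun i j => (Bp i j).2.2]
  set C : ℕ → V := lin bs 8 with hC
  have Cx : ∀ m n, C (m ^^^ n) = C m + C n := lin_xor A.two bs 8
  have C0 : C 0 = 0 := lin_zero bs 8
  have Cp : ∀ U < 8, C (2 ^ U) = bs U := fun U hU => by
    simp only [hC, lin, Nat.testBit_two_pow]
    interval_cases U <;> simp
  have Bcoord : ∀ m W, W < 8 → S.B (C m) (bs W) = zb (m.testBit (prA W)) := fun m W hW => by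
    have term : ∀ l, l < 8 → S.B (if m.testBit l then bs l else 0) (bs W) =
        zb (m.testBit l && decide (l = prA W)) := fun l hl => by
      cases m.testBit l
      · exact S.B_zero_left _
      · exact tbl ⟨l, hl⟩ ⟨W, hW⟩
    have hp : prA W < 8 := by interval_cases W <;> decide
    simp only [hC, lin, S.B_add_left, S.B_zero_left, zero_add]
    rw [term 0 (by norm_num), term 1 (by norm_num), term 2 (by norm_num), term 3 (by norm_num),
      term 4 (by norm_num), term 5 (by norm_num), term 6 (by norm_num), term 7 (by norm_num)]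
    generalize prA W = p at hp
    interval_cases p <;> simp [zb]
  have polar : ∀ m n, S.B (C m) (C n) = zb (betaA m n) := fun m n => by
    have term : ∀ l, l < 8 → S.B (C m) (if n.testBit l then bs l else 0) =
        zb (n.testBit l && m.testBit (prA l)) := fun l hl => by
      cases n.testBit l
      · exact S.B_zero_right _
      · exact Bcoord m l hl
    rw [betaA, show List.range 8 = [0, 1, 2, 3, 4, 5, 6, 7] from rfl]
    simp only [List.foldl_cons, List.foldl_nil, zb_xor]
    rw [← term 0 (by norm_num), ← term 1 (by norm_num), ← term 2 (by norm_num), ← term 3 (by norm_num),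
      ← term 4 (by norm_num), ← term 5 (by norm_num), ← term 6 (by norm_num), ← term 7 (by norm_num),
      show zb false = 0 from rfl]
    have e : C n = 0 + (if n.testBit 0 then bs 0 else 0) + (if n.testBit 1 then bs 1 else 0) +
        (if n.testBit 2 then bs 2 else 0) + (if n.testBit 3 then bs 3 else 0) + (if n.testBit 4 then bs 4 else 0) +
        (if n.testBit 5 then bs 5 else 0) + (if n.testBit 6 then bs 6 else 0) +
        (if n.testBit 7 then bs 7 else 0) := rfl
    rw [e]
    simp only [S.B_add_right, S.B_zero_right]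
  have cinj : ∀ m < 256, ∀ k < 256, C m = C k → m = k := fun m hm k hk e => by
    refine Nat.eq_of_testBit_eq fun i => ?_
    by_cases hi : i < 8
    · have e1 := congrArg (fun u => S.B u (bs (prA i))) e
      have hp : prA i < 8 := by interval_cases i <;> decide
      rw [Bcoord m _ hp, Bcoord k _ hp, show prA (prA i) = i by interval_cases i <;> rfl] at e1
      revert e1
      cases m.testBit i <;> cases k.testBit i <;> decide
    · have big : ∀ {x}, x < 256 → x.testBit i = false := fun {x} hx => Nat.testBit_lt_two_pow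
        (hx.trans_le (by
          calc 256 = 2 ^ 8 := by norm_num
            _ ≤ 2 ^ i := Nat.pow_le_pow_right (by norm_num) (by omega)))
      rw [big hm, big hk]
  have csurj : ∀ x, ∃ m < 256, C m = x := fun x => by
    have hb : Function.Bijective fun m : Fin 256 => C m.val :=
      (Nat.bijective_iff_injective_and_card _).2 ⟨fun u w e => Fin.ext (cinj _ u.isLt _ w.isLt e), by
        rw [H.card, Nat.card_fin]⟩
    obtain ⟨m, hm⟩ := hb.2 x
    exact ⟨m.val, m.isLt, hm⟩
  have qb : ∀ U < 8, S.q (bs U) = zb (qA ε (2 ^ U)) := fun U hU => by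
    have e1 := fun i => (plane_form A H P i).1
    have e2 := fun i => (plane_form A H P i).2.1
    interval_cases U <;> simp [hbs, basV, qA, e1, e2, qn, qf, zb, Nat.testBit_two_pow, Nat.testBit]
  have form : ∀ m < 256, S.q (C m) = zb (qA ε m) := by
    have step : ∀ m < 256, ∀ U < 8, S.q (C m) = zb (qA ε m) →
        S.q (C (m ^^^ 2 ^ U)) = zb (qA ε (m ^^^ 2 ^ U)) := fun m hm U hU h => by
      have t := List.all_eq_true.1 (qA_polar ε ⟨U, hU⟩) m (List.mem_range.2 hm)
      rw [beq_iff_eq] at t
      simp only at t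
      rw [Cx, Cp U hU, S.q_add, h, qb U hU, Bcoord m U hU, t, zb_xor, zb_xor]
    have key : ∀ m k, k ≤ 8 → linN (fun U => 2 ^ U) k m < 256 ∧
        S.q (C (linN (fun U => 2 ^ U) k m)) = zb (qA ε (linN (fun U => 2 ^ U) k m)) := fun m k => by
      induction k with
      | zero =>
        intro _
        refine ⟨by simp [linN], ?_⟩
        rw [linN, C0, S.q_zero]
        cases ε <;> decide +kernel
      | succ k ih =>
        intro hk
        obtain ⟨h1, h2⟩ := ih (by omega)
        rw [linN]
        by_cases hb : m.testBit k = true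
        · rw [if_pos hb]
          exact ⟨Nat.xor_lt_two_pow (n := 8) h1 (pow_lt_byte (by omega)), step _ h1 k (by omega) h2⟩
        · rw [if_neg hb, Nat.xor_zero]; exact ⟨h1, h2⟩
    intro m hm
    have e : ∀ m < 256, linN (fun U => 2 ^ U) 8 m = m := by decide +kernel
    have := (key m 8 le_rfl).2
    rwa [e m hm] at this
  -- the transvections of the pairs
  have act6 : ∀ k : Fin 8, k.val < 6 → ∀ m < 256, A.σ (tv k) (C m) = C (fA k m) := fun k hk m hm => by
    refine act_of_basis A (fun U hU => ?_) hm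
    show A.σ (tv k) (bs U) = C (fA k (2 ^ U))
    have p6 : C (2 ^ 6 ^^^ 2 ^ 7) = f + n := by rw [Cx, Cp 6 (by norm_num), Cp 7 (by norm_num)]; rfl
    have p7 : C (2 ^ 7) = n := Cp 7 (by norm_num)
    have pa : ∀ i : Fin 3, bs i.val = a i ∧ bs (i.val + 3) = b i := fun i => by fin_cases i <;> exact ⟨rfl, rfl⟩
    have ca : ∀ i : Fin 3, C (2 ^ i.val) = a i ∧ C (2 ^ (i.val + 3)) = b i ∧
        C (2 ^ i.val ^^^ 2 ^ (i.val + 3)) = a i + b i := fun i => by
      rw [Cx, Cp _ (by omega), Cp _ (by omega), (pa i).1, (pa i).2]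
      exact ⟨rfl, rfl, rfl⟩
    obtain ⟨j, rfl | rfl⟩ : ∃ j : Fin 3, k = sA j ∨ k = sB j := by revert k; decide
    · rcases basis_cases U hU with ⟨i, rfl⟩ | ⟨i, rfl⟩ | rfl | rfl
      · rw [(basis_table i j).1.1, (ca i).1, (pa i).1, P.Aa]
      · rw [(basis_table i j).1.2, (pa i).2, P.Ab]
        split_ifs
        exacts [(ca i).2.2.symm, (ca i).2.1.symm]
      · rw [(basis_table 0 j).2.2.1.1, p6]; exact mvf j
      · rw [(basis_table 0 j).2.2.1.2, p7]; exact fxn j
    · have g1 : A.σ (tv (sB j)) f = f + n := by rw [sB_eq, sig_mul, Xfix j f Rf, mvf]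
      have g2 : A.σ (tv (sB j)) n = n := by rw [sB_eq, sig_mul, Xfix j n Rn, fxn]
      rcases basis_cases U hU with ⟨i, rfl⟩ | ⟨i, rfl⟩ | rfl | rfl
      · rw [(basis_table i j).2.1.1, (pa i).1, P.Ba]
        split_ifs
        exacts [(ca i).2.2.symm, (ca i).1.symm]
      · rw [(basis_table i j).2.1.2, (ca i).2.1, (pa i).2, P.Bb]
      · rw [(basis_table 0 j).2.2.2.1, p6]; exact g1
      · rw [(basis_table 0 j).2.2.2.2, p7]; exact g2
  -- the last two
  have act67 : ∀ g : Fin 8, g = 6 ∨ g = 7 → ∀ m < 256, A.σ (tv g) (C m) = C (fA g m) := fun g hg m hm => by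
    choose mm mlt meq using fun U => csurj (A.σ (tv g) (bs U))
    have ht : ∀ u, A.σ (tv g) (C u) = C (linN mm 8 u) :=
      sig_lin A (tv g) bs mm fun U _ => (meq U).symm
    have tlt : ∀ u, linN mm 8 u < 256 := linN_lt fun i _ => mlt i
    have comlt : ∀ l ∈ comL g, l.val < 6 := by rcases hg with rfl | rfl <;> decide
    have nonlt : ∀ l ∈ nonL g, l.val < 6 := by rcases hg with rfl | rfl <;> decide
    have comm : ∀ l ∈ comL g, ∀ u < 256, linN mm 8 (fA l u) = fA l (linN mm 8 u) := fun l hl u hu => by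
      refine cinj _ (tlt _) _ (fA_lt (tlt _)) ?_
      have e := List.all_eq_true.1 (rel_table g hg).1 l hl
      rw [← ht, ← act6 l (comlt l hl) u hu, ← act6 l (comlt l hl) _ (tlt u), ← ht, ← sig_mul, ← sig_mul,
        ← tvW_pair, ← tvW_pair, tvW_eq e]
    have braid : ∀ l ∈ nonL g, ∀ u < 256,
        linN mm 8 (fA l (linN mm 8 (fA l (linN mm 8 (fA l u))))) = u := fun l hl u hu => by
      refine cinj _ (tlt _) _ hu ?_
      have e := List.all_eq_true.1 (rel_table g hg).2 l hl
      have h := congrArg (fun z => A.σ z (C u)) (tvW_eq e)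
      rw [show tvW [g, l, g, l, g, l] = tv g * (tv l * (tv g * (tv l * (tv g * tv l)))) by simp [tvW],
        show tvW [] = 1 from rfl, map_one] at h
      simp only [sig_mul] at h
      rw [act6 l (nonlt l hl) u hu, ht, act6 l (nonlt l hl) _ (tlt _), ht, act6 l (nonlt l hl) _ (tlt _), ht] at h
      exact h
    have qinv : ∀ u < 256, qA ε (linN mm 8 u) = qA ε u := fun u hu => by
      have h := (H.iso (tv g)).2 (C u)
      rw [ht, form _ (tlt u), form u hu] at h
      revert h
      cases qA ε (linN mm 8 u) <;> cases qA ε u <;> decide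
    have tp : ∀ U < 8, linN mm 8 (2 ^ U) = mm U := fun U hU => by
      simp only [linN, Nat.testBit_two_pow]
      interval_cases U <;> simp
    have com0 : ∀ i : Fin 3, sA i ∈ comL g := by rcases hg with rfl | rfl <;> decide
    have drv : ∀ i : Fin 3, mm i.val = fA (sA i) (mm (i.val + 3)) ^^^ mm (i.val + 3) := fun i => by
      have hU : i.val + 3 < 8 := by omega
      have h := comm _ (com0 i) _ (pow_lt_byte hU)
      rw [tp _ hU] at h
      rw [← h, ← tp _ hU, ← linN_xor, sA, drv_table i, tp i.val (by omega)]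
    have drn : mm 7 = fA 0 (mm 6) ^^^ mm 6 := by
      have h := comm 0 (com0 0) _ (pow_lt_byte (U := 6) (by norm_num))
      rw [tp 6 (by norm_num)] at h
      rw [← h, ← tp 6 (by norm_num), ← linN_xor, n_table, tp 7 (by norm_num)]
    set L := imgA (mm 3) (mm 4) (mm 5) (mm 6) with hL
    have Lget : ∀ U < 8, L.getD U 0 = mm U := fun U hU => by
      have d0 := drv 0
      have d1 := drv 1
      have d2 := drv 2
      rw [hL]
      interval_cases U <;> simp only [imgA, List.getD_cons_succ, List.getD_cons_zero] <;>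
        first | rfl | exact d0.symm | exact d1.symm | exact d2.symm | exact drn.symm
    have Llin : ∀ u, linN (fun i => L.getD i 0) 8 u = linN mm 8 u := fun u => by
      simp only [linN, Lget 0 (by norm_num), Lget 1 (by norm_num), Lget 2 (by norm_num), Lget 3 (by norm_num),
        Lget 4 (by norm_num), Lget 5 (by norm_num), Lget 6 (by norm_num), Lget 7 (by norm_num)]
    have good : goodA g ε L = true := by
      have br : ∀ l ∈ nonL g, ∀ U < 8, brA (linN (fun i => L.getD i 0) 8) l U = true := fun l hl U hU => by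
        simp only [brA, Nat.beq_eq, Llin]
        exact braid l hl _ (pow_lt_byte hU)
      rw [goodA]
      rcases hg with rfl | rfl
      · rw [if_pos rfl, br 3 (by decide) 4 (by norm_num), br 4 (by decide) 1 (by norm_num),
          br 3 (by decide) 5 (by norm_num), br 3 (by decide) 6 (by norm_num), Llin, qinv 72 (by norm_num),
          beq_self_eq_true]
        rfl
      · rw [if_neg (by decide), br 4 (by decide) 3 (by norm_num), br 5 (by decide) 4 (by norm_num),
          br 4 (by decide) 1 (by norm_num), br 4 (by decide) 6 (by norm_num), Llin, qinv 80 (by norm_num),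
          beq_self_eq_true]
        rfl
    have hcand : ∀ U : Fin 4, mm (U.val + 3) ∈ (litA g ε).getD U.val [] := fun U => by
      have hU : U.val + 3 < 8 := by omega
      rw [← cand_lit hg ε U]
      simp only [candA, List.mem_filter, List.mem_range, Bool.and_eq_true, List.all_eq_true, Bool.or_eq_true,
        Bool.not_eq_true', beq_iff_eq]
      refine ⟨mlt _, ?_, fun l hl => ⟨?_, ?_⟩⟩
      · rw [← tp _ hU]
        exact qinv _ (pow_lt_byte hU)
      · rcases Nat.decEq (fA l (2 ^ (U.val + 3))) (2 ^ (U.val + 3)) with h | h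
        · exact Or.inl (Bool.eq_false_iff.2 fun e => h (Nat.eq_of_beq_eq_true e))
        · right
          rw [Nat.beq_eq]
          conv_rhs => rw [← tp _ hU, ← h, comm l hl _ (pow_lt_byte hU), tp _ hU]
      · rcases Nat.decEq (U.val + 3) 6 with h | h
        · exact Or.inl (Bool.eq_false_iff.2 fun e => h (Nat.eq_of_beq_eq_true e))
        · right
          rw [Nat.beq_eq, h, ← tp 6 (by norm_num), ← comm l hl _ (pow_lt_byte (by norm_num)),
            ← comm 0 (com0 0) _ (pow_lt_byte (by norm_num)), ← linN_xor, ← linN_xor]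
          congr 1
          rcases hg with rfl | rfl <;> revert l <;> decide +kernel
    have hs := search_ok hg ε
    simp only [searchA, List.all_eq_true] at hs
    have hh := hs _ (hcand 0) _ (hcand 1) _ (hcand 2) _ (hcand 3)
    rw [show (0 : Fin 4).val + 3 = 3 from rfl, show (1 : Fin 4).val + 3 = 4 from rfl,
      show (2 : Fin 4).val + 3 = 5 from rfl, show (3 : Fin 4).val + 3 = 6 from rfl, ← hL, good] at hh
    simp only [Bool.not_true, Bool.false_or, List.all_eq_true, List.mem_range, Nat.beq_eq] at hh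
    refine act_of_basis A (fun U hU => ?_) hm
    rw [← hh U hU, Lget U hU]
    exact (meq U).symm
  refine ⟨⟨C, Cx, cinj, csurj, fun k m hm => ?_, form, fun m _ k _ => polar m k⟩⟩
  rcases lt_or_ge k.val 6 with hk | hk
  · exact act6 k hk m hm
  · exact act67 k (by omega) m hm

omit H

/-- The three modules. -/
theorem exists_chart (hiso : ∀ g, A.σ g ∈ S.Iso) (hcard : Nat.card V = 256)
    (hne : ¬ ∀ v, A.σ (tv 0 * tv 3) v = v) :
    Nonempty (SpinChart S A) ∨ ∃ ε, Nonempty (AxisChart ε S A) := by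
  by_cases h : ∀ f, A.σ (tv 0 * tv 3) f = f → f = 0
  · exact Or.inl (exists_spinChart A h hiso hcard)
  · push Not at h
    obtain ⟨f, hf, f0⟩ := h
    exact Or.inr (exists_axisChart A ⟨hiso, hcard, hne, f, f0, hf⟩)

end CfsgLib.CoTwoRec
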