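import Cfsg.Agent.Lib.CoTwoRec.AxisTriple

/-!
# A basis adapted to the three planes
-/

set_option autoImplicit false
set_option maxRecDepth 100000

namespace CfsgLib.CoTwoRec

open CfsgLib.ExtraNine CfsgLib.Schur.Tails.SpSix CfsgLib.ThType.Perm

variable {V : Type*} [AddCommGroup V] {S : QV V} (A : Act Sp2 V) (H : AxisHyp S A)

theorem sig_sq (k : Fin 8) (v : V) : A.σ (tv k) (A.σ (tv k) v) = v := by
  rw [← sig_mul, tv_sq, map_one]; rfl

/-- Vectors of three planes and of the complement. -/
structure Planes (a b : Fin 3 → V) : Prop where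
  mem : ∀ i p, (∃ v, pF A i v = p) → p = 0 ∨ p = a i ∨ p = b i ∨ p = a i + b i
  Fa : ∀ i, pF A i (a i) = a i
  Fb : ∀ i, pF A i (b i) = b i
  Xa : ∀ i, A.σ (pX i) (a i) = b i
  Aa : ∀ i j, A.σ (tv (sA j)) (a i) = a i
  Ab : ∀ i j, A.σ (tv (sA j)) (b i) = if i = j then a i + b i else b i
  Ba : ∀ i j, A.σ (tv (sB j)) (a i) = if i = j then a i + b i else a i
  Bb : ∀ i j, A.σ (tv (sB j)) (b i) = b i
  ne : ∀ i, a i ≠ 0

include H

theorem exists_planes : ∃ a b : Fin 3 → V, Planes A a b := by
  haveI : Finite V := Nat.finite_of_card_ne_zero (by rw [H.card]; norm_num)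
  obtain ⟨h4, h0⟩ := plane_facts A H
  have cyc3 : ∀ i p, pF A i p = p → p + A.σ (pX i) p + A.σ (pX i) (A.σ (pX i) p) = 0 := fun i p hp => by
    have h : p + A.E (pX i) p = p := hp
    exact add_eq_left.1 h
  have ex : ∀ i, ∃ a : V, a ≠ 0 ∧ pF A i a = a ∧ A.σ (tv (sA i)) a = a := fun i => by
    by_cases hall : ∀ p, pF A i p = p → A.σ (tv (sA i)) p = p
    · exfalso
      have triv : ∀ p, pF A i p = p → p = 0 := fun p hp => by
        have c2 := cyc3 i p hp
        have hx : pF A i (A.σ (pX i) p) = A.σ (pX i) p := by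
          have := DFunLike.congr_fun (A.a_comm (Commute.refl (pX i))).eq p
          have e : A.a (pX i) * pF A i = pF A i * A.a (pX i) := by
            show A.a (pX i) * (1 + A.E (pX i)) = (1 + A.E (pX i)) * A.a (pX i)
            simp only [Act.E, mul_add, add_mul, mul_one, one_mul, mul_assoc]
          have e' : A.σ (pX i) (pF A i p) = pF A i (A.σ (pX i) p) := DFunLike.congr_fun e p
          rw [← e', hp]
        have e := hall _ hx
        rw [← sig_mul, show tv (sA i) * pX i = (pX i)⁻¹ * tv (sA i) by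
          rw [← sA_pX_self, inv_mul_cancel_right], sig_mul, hall p hp] at e
        have e2 : p = A.σ (pX i) (A.σ (pX i) p) := by
          conv_lhs => rw [show p = A.σ (pX i) (A.σ (pX i)⁻¹ p) by rw [← sig_mul, mul_inv_cancel, map_one]; rfl, e]
        have e3 : A.σ (pX i) p = p := by
          conv_lhs => rw [e2, ← sig_mul, ← sig_mul, pX_cube, map_one]
          rfl
        rw [e3, e3, A.two, zero_add] at c2
        exact c2
      have z : pF A i = 0 := AddMonoidHom.ext fun v =>
        triv _ (DFunLike.congr_fun (A.F_idem (pX_cube i)) v)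
      have h := h4 i
      rw [z] at h
      have h1 : Act.r (0 : AddMonoid.End V) = 1 := by
        rw [Act.r, Nat.card_eq_one_iff_unique]
        exact ⟨⟨by rintro ⟨_, u, rfl⟩ ⟨_, w, rfl⟩; rfl⟩, ⟨⟨0, 0, rfl⟩⟩⟩
      omega
    · push Not at hall
      obtain ⟨p, hp, hne⟩ := hall
      refine ⟨A.σ (tv (sA i)) p + p, fun h => hne ?_, by rw [map_add, sA_F, hp], by
        rw [A.add, sig_sq, add_comm]⟩
      calc A.σ (tv (sA i)) p = A.σ (tv (sA i)) p + p + p := by rw [add_assoc, A.two, add_zero]
        _ = p := by rw [h, zero_add]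
  choose a ha0 haF haA using ex
  set b : Fin 3 → V := fun i => A.σ (pX i) (a i) with hb
  have bF : ∀ i, pF A i (b i) = b i := fun i => by
    have e : A.a (pX i) * pF A i = pF A i * A.a (pX i) := by
      show A.a (pX i) * (1 + A.E (pX i)) = (1 + A.E (pX i)) * A.a (pX i)
      simp only [Act.E, mul_add, add_mul, mul_one, one_mul, mul_assoc]
    have e' : A.σ (pX i) (pF A i (a i)) = pF A i (A.σ (pX i) (a i)) := DFunLike.congr_fun e (a i)
    show pF A i (A.σ (pX i) (a i)) = A.σ (pX i) (a i)
    rw [← e', haF]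
  have third : ∀ i, A.σ (pX i) (b i) = a i + b i := fun i => by
    calc A.σ (pX i) (b i) = A.σ (pX i) (b i) + ((a i + b i) + (a i + b i)) := by rw [A.two, add_zero]
      _ = (a i + b i + A.σ (pX i) (b i)) + (a i + b i) := by abel
      _ = _ := by rw [show a i + b i + A.σ (pX i) (b i) = 0 from cyc3 i _ (haF i), zero_add]
  have ab : ∀ i, a i ≠ b i := fun i h => ha0 i (by
    have h2 := third i
    rw [← h, A.two] at h2
    exact (A.σ (pX i)).injective (h2.trans (sig_zero A _).symm))
  have b0 : ∀ i, b i ≠ 0 := fun i h =>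
    ha0 i ((A.σ (pX i)).injective (h.trans (sig_zero A _).symm))
  have s0 : ∀ i, a i + b i ≠ 0 := fun i h => ab i (by
    calc a i = a i + (b i + b i) := by rw [A.two, add_zero]
      _ = a i + b i + b i := by abel
      _ = b i := by rw [h, zero_add])
  have mem : ∀ i p, (∃ v, pF A i v = p) → p = 0 ∨ p = a i ∨ p = b i ∨ p = a i + b i := fun i p hp => by
    have hsub : ({0, a i, b i, a i + b i} : Set V) ⊆ Set.range (pF A i) := by
      rintro u (rfl | rfl | rfl | rfl)
      exacts [⟨0, map_zero _⟩, ⟨_, haF i⟩, ⟨_, bF i⟩, ⟨a i + b i, by rw [map_add, haF, bF]⟩]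
    have hc : ({0, a i, b i, a i + b i} : Set V).ncard = 4 := by
      rw [Set.ncard_insert_of_notMem, Set.ncard_insert_of_notMem, Set.ncard_insert_of_notMem,
        Set.ncard_singleton]
      · simp only [Set.mem_singleton_iff]; intro h; exact ha0 i (by simpa using h)
      · simp only [Set.mem_insert_iff, Set.mem_singleton_iff, not_or]
        exact ⟨ab i, fun h => b0 i (by simpa using h)⟩
      · simp only [Set.mem_insert_iff, Set.mem_singleton_iff, not_or]
        exact ⟨(ha0 i).symm, (b0 i).symm, (s0 i).symm⟩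
    have e := Set.eq_of_subset_of_ncard_le hsub (by
      rw [hc, ← Nat.card_coe_set_eq]; exact (h4 i).le) (Set.toFinite _)
    have hp' : p ∈ Set.range (pF A i) := hp
    rw [← e] at hp'
    exact hp'
  have Ab' : ∀ i, A.σ (tv (sA i)) (b i) = a i + b i := fun i => by
    show A.σ (tv (sA i)) (A.σ (pX i) (a i)) = _
    rw [← sig_mul, show tv (sA i) * pX i = (pX i)⁻¹ * tv (sA i) by
      rw [← sA_pX_self, inv_mul_cancel_right], sig_mul, haA, ← third i]
    show _ = A.σ (pX i) (A.σ (pX i) (a i))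
    rw [← sig_mul, inv_eq_of_mul_eq_one_left (pX_cube i)]
  have Fj : ∀ i j p, i ≠ j → pF A i p = p → A.σ (pX j) p = p := fun i j p h hp =>
    fix_of_F A (by rw [← hp, F_F A H, if_neg (Ne.symm h)])
  have Aa : ∀ i j, A.σ (tv (sA j)) (a i) = a i := fun i j => by
    rcases eq_or_ne i j with rfl | h
    · exact haA i
    have hfix : A.σ (tv (sA i)) (A.σ (tv (sA j)) (a i)) = A.σ (tv (sA j)) (a i) := by
      rw [← sig_mul, tv_comm ((by decide : ∀ i j : Fin 3, adj (sA i) (sA j) = false) i j), sig_mul, haA]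
    rcases mem i _ ⟨A.σ (tv (sA j)) (a i), by rw [sA_F, haF]⟩ with e | e | e | e
    · exact absurd ((A.σ _).injective (e.trans (sig_zero A _).symm)) (ha0 i)
    · exact e
    · rw [e, Ab'] at hfix
      exact absurd (by simpa using hfix) (ha0 i)
    · rw [e, A.add, haA, Ab', ← add_assoc, A.two, zero_add] at hfix
      exact absurd (by simpa using hfix.symm) (ha0 i)
  have Ab : ∀ i j, A.σ (tv (sA j)) (b i) = if i = j then a i + b i else b i := fun i j => by
    split_ifs with h
    · subst h; exact Ab' i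
    · show A.σ (tv (sA j)) (A.σ (pX i) (a i)) = _
      rw [← sig_mul, sA_pX (Ne.symm h), sig_mul, Aa]
  refine ⟨a, b, mem, haF, bF, fun i => rfl, Aa, Ab, fun i j => ?_, fun i j => ?_, ha0⟩
  · rw [sB_eq, sig_mul]
    split_ifs with h
    · subst h; exact Ab' i
    · rw [Fj i j _ h (haF i), Aa]
  · rw [sB_eq, sig_mul]
    rcases eq_or_ne i j with rfl | h
    · rw [third, A.add, Aa, Ab', ← add_assoc, A.two, zero_add]
    · rw [Fj i j _ h (bF i), Ab, if_neg h]

theorem B_pR_F (i : Fin 3) (u w : V) : S.B (pR A u) (pF A i w) = 0 := by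
  rw [← F_adjoint A H.iso, F_R A H, S.B_zero_left]

theorem B_F_F {i j : Fin 3} (h : i ≠ j) (u w : V) : S.B (pF A i u) (pF A j w) = 0 := by
  rw [F_adjoint A H.iso, F_F A H, if_neg h, S.B_zero_right]

theorem plane_form {a b : Fin 3 → V} (P : Planes A a b) (i : Fin 3) :
    S.q (a i) = 1 ∧ S.q (b i) = 1 ∧ S.B (a i) (b i) = 1 := by
  have qb : S.q (b i) = S.q (a i) := by rw [← P.Xa, (H.iso _).2]
  have qs : S.q (a i + b i) = S.q (a i) := by
    have h : A.σ (tv (sB i)) (a i) = a i + b i := by rw [P.Ba, if_pos rfl]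
    rw [← h, (H.iso _).2]
  have hB : S.B (a i) (b i) = S.q (a i) := by
    rw [QV.B, qs, qb, CharTwo.add_self_eq_zero, zero_add]
  rcases (show ∀ z : ZMod 2, z = 0 ∨ z = 1 by decide) (S.q (a i)) with h | h
  · exfalso
    refine P.ne i (S.nondeg _ fun w => ?_)
    show S.B (a i) w = 0
    have o : ∀ j, S.B (a i) (pF A j w) = 0 := fun j => by
      rcases eq_or_ne i j with rfl | hij
      · rcases P.mem i _ ⟨w, rfl⟩ with e | e | e | e <;> rw [e]
        · exact S.B_zero_right _
        · exact S.B_self _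
        · rw [hB, h]
        · rw [S.B_add_right, S.B_self, hB, h, add_zero]
      · rw [← P.Fa i]; exact B_F_F A H hij _ _
    rw [sum_eq A w, S.B_add_right, S.B_add_right, S.B_add_right, o, o, o, ← P.Fa i, S.B_comm,
      B_pR_F A H]
    simp
  · exact ⟨h, qb.trans h, hB.trans h⟩

/-- Either the transvections of the pairs fix the complement, or they share a transvection there. -/
theorem exists_axis : (∀ i v, A.σ (tv (sA i)) (pR A v) = pR A v) ∨
    ∃ f n : V, pR A f = f ∧ pR A n = n ∧ n ≠ 0 ∧ S.q n = 1 ∧ S.B f n = 1 ∧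
      (∀ i, A.σ (tv (sA i)) f = f + n) ∧ ∀ i, A.σ (tv (sA i)) n = n := by
  haveI : Finite V := Nat.finite_of_card_ne_zero (by rw [H.card]; norm_num)
  have push : ∀ i, (∀ v, A.σ (tv (sA i)) (pR A v) = pR A v) →
      ∀ v, A.σ (tv (sA (i + 1))) (pR A v) = pR A v := fun i h v => by
    rw [← cyc_sA, sig_mul, sig_mul, show A.σ (tvW cycW)⁻¹ (pR A v) = pR A (A.σ (tvW cycW)⁻¹ v) by
      apply (A.σ (tvW cycW)).injective
      rw [← cyc_R, ← sig_mul, mul_inv_cancel, ← sig_mul, mul_inv_cancel, map_one]; rfl, h, ← cyc_R,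
      ← sig_mul, mul_inv_cancel, map_one]
    rfl
  by_cases h0 : ∀ v, A.σ (tv (sA 0)) (pR A v) = pR A v
  · exact Or.inl (Fin.forall_fin_succ.2 ⟨h0, Fin.forall_fin_two.2 ⟨push 0 h0, push 1 (push 0 h0)⟩⟩)
  right
  push Not at h0
  obtain ⟨v, hv⟩ := h0
  set f : V := pR A v with hf
  set n : V := A.σ (tv (sA 0)) f + f with hn
  have Rf : pR A f = f := R_R A H v
  have Rn : pR A n = n := by rw [hn, map_add, sA_R, Rf]
  have sf : A.σ (tv (sA 0)) f = f + n := by
    rw [hn, add_comm _ f, ← add_assoc, A.two, zero_add]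
  have n0 : n ≠ 0 := fun h => hv (by rw [sf, h, add_zero])
  have sn : A.σ (tv (sA 0)) n = n := by rw [hn, A.add, sig_sq, add_comm]
  have fn : f ≠ n := fun h => hv (by rw [h]; exact sn)
  have f0 : f ≠ 0 := fun h => hv (by rw [h]; exact sig_zero A _)
  have fn0 : f + n ≠ 0 := fun h => f0 ((A.σ (tv (sA 0))).injective ((sf.trans h).trans (sig_zero A _).symm))
  have mem : ∀ u, pR A u = u → u = 0 ∨ u = n ∨ u = f ∨ u = f + n := fun u hu => by
    have hsub : ({0, n, f, f + n} : Set V) ⊆ Set.range (pR A) := by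
      rintro w (rfl | rfl | rfl | rfl)
      exacts [⟨0, map_zero _⟩, ⟨_, Rn⟩, ⟨_, Rf⟩, ⟨f + n, by rw [map_add, Rf, Rn]⟩]
    have hc : ({0, n, f, f + n} : Set V).ncard = 4 := by
      rw [Set.ncard_insert_of_notMem, Set.ncard_insert_of_notMem, Set.ncard_insert_of_notMem,
        Set.ncard_singleton]
      · simp only [Set.mem_singleton_iff]; intro h; exact n0 (by simpa using h)
      · simp only [Set.mem_insert_iff, Set.mem_singleton_iff, not_or]
        exact ⟨fn.symm, fun h => f0 (by simpa using h)⟩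
      · simp only [Set.mem_insert_iff, Set.mem_singleton_iff, not_or]
        exact ⟨n0.symm, f0.symm, fn0.symm⟩
    have e := Set.eq_of_subset_of_ncard_le hsub (by
      rw [hc, ← Nat.card_coe_set_eq]; exact (r_R A H).le) (Set.toFinite _)
    have hu' : u ∈ Set.range (pR A) := ⟨u, hu⟩
    rw [← e] at hu'
    exact hu'
  have fix_n : ∀ i, A.σ (tv (sA i)) n = n := fun i => by
    have hfix : A.σ (tv (sA 0)) (A.σ (tv (sA i)) n) = A.σ (tv (sA i)) n := by
      rw [← sig_mul, tv_comm ((by decide : ∀ i : Fin 3, adj (sA 0) (sA i) = false) i), sig_mul, sn]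
    rcases mem (A.σ (tv (sA i)) n) (by rw [sA_R, Rn]) with e | e | e | e
    · exact absurd ((A.σ _).injective (e.trans (sig_zero A _).symm)) n0
    · exact e
    · rw [e, sf] at hfix
      exact absurd (by simpa using hfix) n0
    · rw [e, A.add, sf, sn, add_assoc f n n, A.two, add_zero] at hfix
      exact absurd (by simpa using hfix) n0
  have move : ∀ i, A.σ (tv (sA i)) f = f + n := fun i => by
    rcases mem _ (show pR A (A.σ (tv (sA i)) f) = _ by rw [sA_R, Rf]) with e | e | e | e
    · exact absurd ((A.σ _).injective (e.trans (sig_zero A _).symm)) f0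
    · exact absurd ((A.σ _).injective (e.trans (fix_n i).symm)) fn
    · exfalso
      have hi : ∀ u, A.σ (tv (sA i)) (pR A u) = pR A u := fun u => by
        rcases mem _ (R_R A H u) with e' | e' | e' | e' <;> rw [e']
        · exact sig_zero A _
        · exact fix_n i
        · exact e
        · rw [A.add, e, fix_n]
      fin_cases i
      · exact n0 (by simpa using sf.symm.trans e)
      · exact hv (push 2 (push 1 hi) v)
      · exact hv (push 2 hi v)
    · exact e
  have hB : S.B f n = 1 := by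
    rcases (show ∀ z : ZMod 2, z = 0 ∨ z = 1 by decide) (S.B f n) with h | h
    · exfalso
      refine n0 (S.nondeg _ fun w => ?_)
      show S.B n w = 0
      have o : ∀ j, S.B n (pF A j w) = 0 := fun j => by rw [← Rn]; exact B_pR_F A H j _ _
      rw [sum_eq A w, S.B_add_right, S.B_add_right, S.B_add_right, o, o, o]
      rcases mem _ (R_R A H w) with e | e | e | e <;> rw [e]
      · simp [S.B_zero_right]
      · simp [S.B_self]
      · simp [S.B_comm n f, h]
      · simp [S.B_add_right, S.B_self, S.B_comm n f, h]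
    · exact h
  refine ⟨f, n, Rf, Rn, n0, ?_, hB, move, fix_n⟩
  have h := (H.iso (tv (sA 0))).2 f
  rw [sf, S.q_add, hB] at h
  revert h
  generalize S.q f = x
  generalize S.q n = y
  revert x y
  decide

end CfsgLib.CoTwoRec
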