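import Mathlib.Data.Nat.Notation

/-!
# Orbits on the singular vectors of the modules with a fixed vector

A triple is a vector, an earlier one and a transvection carrying the latter to the former.
-/

set_option autoImplicit false
set_option maxRecDepth 10000

namespace CfsgLib.CoTwoRec

/-- The tree of the smaller form. -/
def singTreeA0 : List (ℕ × ℕ × ℕ) := [
    (11, 3, 3), (19, 3, 4), (10, 11, 0), (27, 11, 4), (136, 11, 6), (17, 19, 1), (144, 19, 6), (149, 19, 7),
    (26, 10, 4), (137, 10, 6), (25, 27, 1), (157, 27, 7), (146, 17, 6), (151, 17, 7), (22, 144, 7),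
    (181, 149, 5), (24, 26, 1), (156, 26, 7), (129, 137, 3), (159, 25, 7), (189, 157, 5), (130, 146, 4),
    (20, 146, 7), (135, 151, 4), (183, 151, 5), (6, 22, 4), (54, 22, 5), (177, 181, 2), (158, 24, 7),
    (188, 156, 5), (143, 159, 4), (191, 159, 5), (185, 189, 2), (52, 20, 5), (167, 135, 5), (179, 183, 2),
    (38, 6, 5), (50, 54, 2), (142, 158, 4), (190, 158, 5), (184, 188, 2), (175, 143, 5), (12, 143, 6),
    (187, 191, 2), (48, 52, 2), (163, 167, 2), (33, 167, 7), (34, 38, 2), (160, 38, 7), (174, 142, 5),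
    (13, 142, 6), (186, 190, 2), (171, 175, 2), (44, 175, 6), (41, 175, 7), (37, 163, 7), (164, 34, 7),
    (170, 174, 2), (45, 174, 6), (40, 174, 7), (5, 13, 3), (132, 164, 5), (192, 64, 0), (67, 64, 6),
    (70, 64, 7), (195, 192, 6), (198, 192, 7), (203, 67, 3), (211, 67, 4), (69, 67, 7), (214, 70, 4),
    (230, 70, 5), (75, 195, 3), (83, 195, 4), (197, 195, 7), (86, 198, 4), (102, 198, 5), (74, 203, 0),
    (91, 203, 4), (205, 203, 7), (81, 211, 1), (229, 69, 5), (84, 214, 1), (118, 214, 5), (98, 230, 2),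
    (202, 75, 0), (219, 75, 4), (77, 75, 7), (209, 83, 1), (101, 197, 5), (212, 86, 1), (246, 86, 5),
    (226, 102, 2), (218, 74, 4), (76, 74, 7), (217, 91, 1), (88, 91, 6), (109, 205, 5), (97, 229, 2),
    (244, 84, 5), (242, 118, 2), (112, 118, 7), (90, 202, 4), (204, 202, 7), (89, 219, 1), (216, 219, 6),
    (237, 77, 5), (225, 101, 2), (116, 212, 5), (114, 246, 2), (240, 246, 7), (236, 76, 5), (233, 109, 2),
    (108, 204, 5), (105, 237, 2), (104, 236, 2), (232, 108, 2)]

/-- The tree of the larger form. -/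
def singTreeA1 : List (ℕ × ℕ × ℕ) := [
    (11, 3, 3), (19, 3, 4), (10, 11, 0), (27, 11, 4), (136, 11, 6), (17, 19, 1), (144, 19, 6), (149, 19, 7),
    (26, 10, 4), (137, 10, 6), (25, 27, 1), (157, 27, 7), (146, 17, 6), (151, 17, 7), (22, 144, 7),
    (181, 149, 5), (24, 26, 1), (156, 26, 7), (129, 137, 3), (159, 25, 7), (189, 157, 5), (130, 146, 4),
    (20, 146, 7), (135, 151, 4), (183, 151, 5), (6, 22, 4), (54, 22, 5), (177, 181, 2), (158, 24, 7),
    (188, 156, 5), (143, 159, 4), (191, 159, 5), (185, 189, 2), (52, 20, 5), (167, 135, 5), (179, 183, 2),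
    (38, 6, 5), (50, 54, 2), (142, 158, 4), (190, 158, 5), (184, 188, 2), (175, 143, 5), (12, 143, 6),
    (187, 191, 2), (48, 52, 2), (163, 167, 2), (33, 167, 7), (34, 38, 2), (160, 38, 7), (174, 142, 5),
    (13, 142, 6), (186, 190, 2), (171, 175, 2), (44, 175, 6), (41, 175, 7), (37, 163, 7), (164, 34, 7),
    (170, 174, 2), (45, 174, 6), (40, 174, 7), (5, 13, 3), (132, 164, 5), (193, 65, 0), (201, 65, 3),
    (66, 65, 6), (71, 65, 7), (73, 193, 3), (194, 193, 6), (199, 193, 7), (72, 201, 0), (207, 201, 7),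
    (210, 66, 4), (68, 66, 7), (215, 71, 4), (231, 71, 5), (200, 73, 0), (79, 73, 7), (82, 194, 4),
    (196, 194, 7), (87, 199, 4), (103, 199, 5), (78, 72, 7), (95, 207, 4), (111, 207, 5), (80, 210, 1),
    (228, 68, 5), (85, 215, 1), (119, 215, 5), (99, 231, 2), (206, 200, 7), (223, 79, 4), (239, 79, 5),
    (208, 82, 1), (100, 196, 5), (213, 87, 1), (247, 87, 5), (227, 103, 2), (222, 78, 4), (238, 78, 5),
    (221, 95, 1), (255, 95, 5), (92, 95, 6), (235, 111, 2), (96, 228, 2), (245, 85, 5), (243, 119, 2),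
    (113, 119, 7), (94, 206, 4), (110, 206, 5), (93, 223, 1), (127, 223, 5), (220, 223, 6), (107, 239, 2),
    (224, 100, 2), (117, 213, 5), (115, 247, 2), (241, 247, 7), (126, 222, 5), (106, 238, 2), (125, 221, 5),
    (123, 255, 2), (252, 255, 6), (249, 255, 7), (254, 94, 5), (234, 110, 2), (253, 93, 5), (251, 127, 2),
    (124, 127, 6), (121, 127, 7), (250, 126, 2), (120, 126, 7), (122, 254, 2), (248, 254, 7)]

end CfsgLib.CoTwoRec
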