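import Cfsg.Agent.Lib.CoTwoRec.AxisChart
import Cfsg.Agent.Lib.CoTwoRec.AxisInQData
import Cfsg.Agent.Lib.ExtraNine.Excl

/-!
# With a fixed vector no other conjugate of the central involution is in the extraspecial group

The stabiliser of a singular vector leaves no larger totally singular space invariant, and the group fixes a
nonsingular vector, so it does not contain all sixty-four isometries that are trivial around the singular one.
-/

set_option autoImplicit false
set_option maxRecDepth 100000

namespace CfsgLib.CoTwoRec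

open CfsgLib.ExtraNine CfsgLib.Schur.Tails.SpSix CfsgLib.ThType.Perm CfsgLib.ThType.Coords

/-- Representatives of the singular vectors. -/
def rootsA (ε : Bool) : List ℕ := if ε then [3, 65] else [3, 64]

/-- The trees. -/
def treeA (ε : Bool) : List (ℕ × ℕ × ℕ) := if ε then singTreeA1 else singTreeA0

/-- Elements fixing a representative. -/
def witA (ε : Bool) (r : ℕ) : List (List (Fin 8)) :=
  if r = 3 then (if ε then [[2, 5], [7, 3, 4, 6, 4, 3]] else [[0], [2], [5], [3, 4, 6, 4, 3]])
  else if ε then [[0, 3, 6, 3], [0, 4], [0, 1]] else [[0, 3], [0, 1], [0, 4]]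

/-- A product of transvections on combinations. -/
def appA (w : List (Fin 8)) (m : ℕ) : ℕ := w.foldr fA m

/-- The elements move every other orthogonal singular vector by a nonsingular one. -/
noncomputable def witB (ε : Bool) : Bool :=
  (rootsA ε).all fun r => Nat.blt r 256 && ((witA ε r).all fun W => Nat.beq (appA W r) r) &&
    (List.range 256).all fun w =>
      qA ε w || betaA r w || Nat.beq w 0 || Nat.beq w r || (witA ε r).any fun W => qA ε (appA W w ^^^ w)

/-- The trees reach all singular vectors. -/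
noncomputable def treeB (ε : Bool) : Bool :=
  ((List.range (treeA ε).length).all fun i =>
    let e := (treeA ε).getD i (0, 0, 0)
    Nat.blt e.2.1 256 && Nat.beq (fA (Fin.ofNat 8 e.2.2) e.2.1) e.1 &&
      ((rootsA ε).contains e.2.1 || (List.range i).any fun j => Nat.beq ((treeA ε).getD j (0, 0, 0)).1 e.2.1)) &&
  (List.range 256).all fun m => Nat.beq m 0 || qA ε m || (rootsA ε).contains m ||
    (List.range (treeA ε).length).any fun i => Nat.beq ((treeA ε).getD i (0, 0, 0)).1 m

theorem witB_false : witB false = true := by decide +kernel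

theorem witB_true : witB true = true := by decide +kernel

theorem witB_ok (ε : Bool) : witB ε = true := by cases ε; exacts [witB_false, witB_true]

theorem treeB_false : treeB false = true := by decide +kernel

theorem treeB_true : treeB true = true := by decide +kernel

theorem treeB_ok (ε : Bool) : treeB ε = true := by cases ε; exacts [treeB_false, treeB_true]

theorem perp_count : Nat.card {m : Fin 256 // betaA m.val 3 = false ∧ betaA m.val 128 = false} = 64 := by
  rw [Nat.card_eq_fintype_card]
  decide +kernel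

theorem root_orth : ∀ ε, ∀ r ∈ rootsA ε, r = 3 ∨ betaA r 128 = true := by decide +kernel

theorem fix_code : ∀ k : Fin 8, fA k 128 = 128 := by decide +kernel

variable {V : Type*} [AddCommGroup V] {S : QV V} {A : Act Sp2 V} {ε : Bool} (Ch : AxisChart ε S A)
include Ch

theorem AxisChart.c_zero : Ch.c 0 = 0 := by
  have h := Ch.xor 0 0
  rw [Nat.xor_self] at h
  exact left_eq_add.1 h

theorem AxisChart.app (W : List (Fin 8)) : ∀ {m : ℕ}, m < 256 →
    appA W m < 256 ∧ A.σ (tvW W) (Ch.c m) = Ch.c (appA W m) := by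
  intro m hm
  induction W with
  | nil => exact ⟨hm, by rw [show tvW [] = 1 from rfl, map_one]; rfl⟩
  | cons k W ih =>
    refine ⟨fA_lt ih.1, ?_⟩
    rw [show tvW (k :: W) = tv k * tvW W by simp [tvW], sig_mul, ih.2, Ch.act k _ ih.1]
    rfl

/-- The fixed vector. -/
theorem AxisChart.fix (g : Sp2) : A.σ g (Ch.c 128) = Ch.c 128 := by
  have hg : g ∈ Subgroup.closure (Set.range tv) := tv_generate ▸ Subgroup.mem_top g
  induction hg using Subgroup.closure_induction with
  | mem x hx =>
    obtain ⟨k, rfl⟩ := hx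
    rw [Ch.act k 128 (by norm_num), fix_code k]
  | one => rw [map_one]; rfl
  | mul x y _ _ hx hy => rw [sig_mul, hy, hx]
  | inv x _ hx =>
    conv_lhs => rw [← hx, ← sig_mul, inv_mul_cancel, map_one]
    rfl

theorem AxisChart.exists_root {v : V} (hv : v ≠ 0) (hq : S.q v = 0) :
    ∃ r ∈ rootsA ε, ∃ g : Sp2, A.σ g (Ch.c r) = v := by
  obtain ⟨m, hm, rfl⟩ := Ch.surj v
  have h := treeB_ok ε
  simp only [treeB, Bool.and_eq_true, Bool.or_eq_true, List.all_eq_true, List.mem_range, Nat.beq_eq,
    List.any_eq_true, List.contains_iff_mem, Nat.blt_eq] at h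
  obtain ⟨hstep, hcov⟩ := h
  have key : ∀ i, i < (treeA ε).length →
      ∃ r ∈ rootsA ε, ∃ g : Sp2, A.σ g (Ch.c r) = Ch.c ((treeA ε).getD i (0, 0, 0)).1 := by
    intro i
    induction i using Nat.strong_induction_on with
    | h i ih =>
      intro hi
      obtain ⟨⟨hlt, he⟩, hp⟩ := hstep i hi
      have mv : ∀ g r, A.σ g (Ch.c r) = Ch.c ((treeA ε).getD i (0, 0, 0)).2.1 →
          A.σ (tv (Fin.ofNat 8 ((treeA ε).getD i (0, 0, 0)).2.2) * g) (Ch.c r) =
            Ch.c ((treeA ε).getD i (0, 0, 0)).1 := fun g r e => by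
        rw [sig_mul, e, Ch.act _ _ hlt, he]
      rcases hp with hr | ⟨j, hj, ej⟩
      · exact ⟨_, hr, _, mv 1 _ (by rw [map_one]; rfl)⟩
      · obtain ⟨r, hr, g, e⟩ := ih j hj (lt_trans hj hi)
        exact ⟨r, hr, _, mv g r (by rw [e, ej])⟩
  rcases hcov m hm with ((h0 | hq') | hr) | ⟨i, hi, e⟩
  · exact absurd (by rw [h0, Ch.c_zero]) hv
  · rw [Ch.form m hm, hq', if_pos rfl] at hq
    exact absurd hq one_ne_zero
  · exact ⟨m, hr, 1, by rw [map_one]; rfl⟩
  · obtain ⟨r, hr, g, eg⟩ := key i hi
    exact ⟨r, hr, g, by rw [eg, e]⟩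

/-- The space of a pair is the line of its vector. -/
theorem AxisChart.line {H : Subgroup (Equiv.Perm V)} (hH : A.σ.range = H) (hiso : ∀ g, A.σ g ∈ S.Iso)
    {r : ℕ} (hr : r ∈ rootsA ε) {g : Sp2} {v : V} (d : PairData S H v) (hv : A.σ g (Ch.c r) = v) :
    ∀ w ∈ d.W, w = 0 ∨ w = v := by
  subst hv
  intro w hw
  have h := List.all_eq_true.1 (witB_ok ε) r hr
  simp only [Bool.and_eq_true, Bool.or_eq_true, List.all_eq_true, List.mem_range, Nat.beq_eq,
    List.any_eq_true, Nat.blt_eq] at h
  obtain ⟨⟨hr256, hfix⟩, hall⟩ := h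
  obtain ⟨m, hm, em⟩ := Ch.surj (A.σ g⁻¹ w)
  have hw' : w = A.σ g (Ch.c m) := by rw [em, ← sig_mul, mul_inv_cancel, map_one]; rfl
  rcases hall m hm with (((hq | hb) | h0) | he) | ⟨W, hW, hq⟩
  · exfalso
    have e := d.singular w hw
    rw [hw', (hiso g).2, Ch.form m hm, hq, if_pos rfl] at e
    exact one_ne_zero e
  · exfalso
    have e : S.B (A.σ g (Ch.c r)) (A.σ g (Ch.c m)) = 0 := by
      rw [← hw', QV.B, d.singular _ (add_mem d.v_mem hw), d.singular _ d.v_mem, d.singular _ hw]
      simp
    rw [QV.iso_B (hiso g), Ch.polar r hr256 m hm, hb, if_pos rfl] at e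
    exact one_ne_zero e
  · exact Or.inl (by rw [hw', h0, Ch.c_zero]; exact sig_zero A g)
  · exact Or.inr (by rw [hw', he])
  · exfalso
    set s : Equiv.Perm V := A.σ (g * tvW W * g⁻¹) with hs
    have hsv : s (A.σ g (Ch.c r)) = A.σ g (Ch.c r) := by
      rw [hs, ← sig_mul, inv_mul_cancel_right, sig_mul, (Ch.app W hr256).2, hfix W hW]
    have hsw := (d.stab s (hH ▸ ⟨_, rfl⟩) hsv).1 w hw
    have e := d.singular _ (add_mem hsw hw)
    obtain ⟨hlt, happ⟩ := Ch.app W hm
    rw [hs, hw', ← sig_mul, inv_mul_cancel_right, sig_mul, happ, ← A.add, (hiso g).2, ← Ch.xor,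
      Ch.form _ (Nat.xor_lt_two_pow (n := 8) hlt hm), hq, if_pos rfl] at e
    exact one_ne_zero e

omit Ch in
theorem perp_or (v u : V) : S.B v u = 0 ∨ S.B v u = 1 := zm_two _

omit Ch in
/-- An isometry trivial around a singular vector is known from the image of one further vector. -/
theorem radical_ext {H : Subgroup (Equiv.Perm V)} (hiso : ∀ b ∈ H, b ∈ S.Iso) {v : V} (d : PairData S H v)
    (hline : ∀ w ∈ d.W, w = 0 ∨ w = v) {u0 : V} (hu0 : S.B v u0 = 1) {b c : Equiv.Perm V} (hb : b ∈ d.Bb)
    (hc : c ∈ d.Bb) (e : b u0 = c u0) : b = c := by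
  have move : ∀ k ∈ d.Bb, ∀ u, S.B v u = 0 → k u = u + if S.B u u0 + S.B u (k u0) = 1 then v else 0 := by
    intro k hk u hu
    have ki := hiso k (d.le hk)
    have h1 : S.B v (k u0) = 1 := by
      conv_lhs => rw [← d.fixed k hk]
      rw [QV.iso_B ki, hu0]
    have h2 : S.B (k u) (k u0) = S.B u u0 := QV.iso_B ki u u0
    rcases hline _ (d.perp_map k hk u hu) with h | h
    · have ek : k u = u := by
        calc k u = k u + u + u := by rw [add_assoc, S.two, add_zero]
          _ = u := by rw [h, zero_add]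
      rw [ek] at h2
      rw [ek, ← h2, CharTwo.add_self_eq_zero, if_neg zero_ne_one, add_zero]
    · have ek : k u = u + v := by
        calc k u = k u + u + u := by rw [add_assoc, S.two, add_zero]
          _ = _ := by rw [h, add_comm]
      rw [ek, S.B_add_left, h1] at h2
      rw [ek, ← h2, add_right_comm, CharTwo.add_self_eq_zero, zero_add, if_pos rfl]
  refine Equiv.ext fun u => ?_
  rcases perp_or (S := S) v u with h | h
  · rw [move b hb u h, move c hc u h, e]
  · have h' : S.B v (u + u0) = 0 := by rw [S.B_add_right, h, hu0]; decide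
    have hu : u = u + u0 + u0 := by rw [add_assoc, S.two, add_zero]
    rw [hu, (hiso b (d.le hb)).1, (hiso c (d.le hc)).1, move b hb _ h', move c hc _ h', e]

/-- No pair belongs to a vector. -/
theorem AxisChart.no_pair [Finite V] {H : Subgroup (Equiv.Perm V)} (hH : A.σ.range = H)
    (hiso : ∀ g, A.σ g ∈ S.Iso) {v : V} (d : PairData S H v) : False := by
  classical
  obtain ⟨r, hr, g, hv'⟩ := Ch.exists_root d.v_ne (d.singular _ d.v_mem)
  have hline := Ch.line hH hiso hr d hv'
  have hv : v = A.σ g (Ch.c r) := hv'.symm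
  have hW : Nat.card d.W = 2 := by
    rw [Nat.card_eq_two_iff]
    refine ⟨⟨0, zero_mem _⟩, ⟨v, d.v_mem⟩, fun h => d.v_ne (congrArg Subtype.val h).symm, ?_⟩
    refine Set.eq_univ_of_forall fun w => ?_
    rcases hline w.1 w.2 with h | h
    · exact Or.inl (Subtype.ext h)
    · exact Or.inr (Subtype.ext h)
  have hBb : Nat.card d.Bb = 64 := by
    have h := d.card_Bb
    rw [hW] at h
    omega
  have hHiso : ∀ b ∈ H, b ∈ S.Iso := by
    rw [← hH]
    rintro _ ⟨x, rfl⟩
    exact hiso x
  have hn : ∀ b ∈ d.Bb, b (Ch.c 128) = Ch.c 128 := fun b hb => by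
    obtain ⟨x, hx⟩ := hH.ge (d.le hb)
    rw [← hx]
    exact Ch.fix x
  have hr256 : r < 256 := by
    have h := List.all_eq_true.1 (witB_ok ε) r hr
    simp only [Bool.and_eq_true, Nat.blt_eq] at h
    exact h.1.1
  have hvn : S.B v (Ch.c 128) = if betaA r 128 then 1 else 0 := by
    rw [← Ch.fix g, hv, QV.iso_B (hiso g), Ch.polar r hr256 128 (by norm_num)]
  rcases root_orth ε r hr with rfl | h1
  · have hvn0 : S.B v (Ch.c 128) = 0 := by
      rw [hvn, show betaA 3 128 = false by decide +kernel]; rfl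
    obtain ⟨u0, hu0⟩ : ∃ u0, S.B v u0 = 1 := by
      by_contra hne
      push Not at hne
      exact d.v_ne (S.nondeg v fun u => (zm_two (S.B v u)).resolve_right (hne u))
    let T := {x : V // S.B v x = 0 ∧ S.B (Ch.c 128) x = 0}
    let Ψ : d.Bb × Bool → T := fun p => ⟨(p.1 : Equiv.Perm V) u0 + u0 + if p.2 then v else 0, by
      have ki := hHiso _ (d.le p.1.2)
      have h1 : S.B v ((p.1 : Equiv.Perm V) u0) = S.B v u0 :=
        (congrArg (fun z => S.B z _) (d.fixed _ p.1.2)).symm.trans (QV.iso_B ki v u0)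
      have h2 : S.B (Ch.c 128) ((p.1 : Equiv.Perm V) u0) = S.B (Ch.c 128) u0 :=
        (congrArg (fun z => S.B z _) (hn _ p.1.2)).symm.trans (QV.iso_B ki _ u0)
      have h3 : S.B v (if p.2 then v else 0) = 0 ∧ S.B (Ch.c 128) (if p.2 then v else 0) = 0 := by
        cases p.2
        · exact ⟨S.B_zero_right _, S.B_zero_right _⟩
        · exact ⟨S.B_self v, by rw [S.B_comm]; exact hvn0⟩
      constructor
      · rw [S.B_add_right, S.B_add_right, h1, h3.1, CharTwo.add_self_eq_zero, zero_add]
      · rw [S.B_add_right, S.B_add_right, h2, h3.2, CharTwo.add_self_eq_zero, zero_add]⟩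
    have hΨ : Function.Injective Ψ := by
      rintro ⟨b, s⟩ ⟨c, t⟩ e
      have e' : (b : Equiv.Perm V) u0 + (if s then v else 0) = (c : Equiv.Perm V) u0 + if t then v else 0 := by
        have := congrArg Subtype.val e
        simp only [Ψ] at this
        rw [add_right_comm, add_right_comm ((c : Equiv.Perm V) u0)] at this
        exact add_right_cancel this
      have qu : ∀ k : d.Bb, S.q ((k : Equiv.Perm V) u0) = S.q u0 ∧ S.B ((k : Equiv.Perm V) u0) v = 1 := fun k => by
        refine ⟨(hHiso _ (d.le k.2)).2 u0, ?_⟩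
        refine (congrArg (fun z => S.B _ z) (d.fixed _ k.2)).symm.trans ?_
        rw [QV.iso_B (hHiso _ (d.le k.2)), S.B_comm, hu0]
      have hqv : S.q v = 0 := d.singular _ d.v_mem
      rcases s <;> rcases t <;> simp only [Bool.false_eq_true, if_false, if_true, add_zero] at e'
      · exact Prod.ext (Subtype.ext (radical_ext hHiso d hline hu0 b.2 c.2 e')) rfl
      · exfalso
        have h := congrArg S.q e'
        rw [S.q_add, (qu b).1, (qu c).1, (qu c).2, hqv, add_zero] at h
        exact one_ne_zero (left_eq_add.1 h)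
      · exfalso
        have h := congrArg S.q e'
        rw [S.q_add, (qu b).1, (qu c).1, (qu b).2, hqv, add_zero] at h
        exact one_ne_zero (add_eq_left.1 h)
      · exact Prod.ext (Subtype.ext (radical_ext hHiso d hline hu0 b.2 c.2 (add_right_cancel e'))) rfl
    have hT : Nat.card T ≤ 64 := by
      rw [← perp_count]
      choose m hlt hm using fun x : T => Ch.surj (A.σ g⁻¹ x.1)
      have back : ∀ x : T, A.σ g (Ch.c (m x)) = x.1 := fun x => by
        rw [hm, ← sig_mul, mul_inv_cancel, map_one]; rfl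
      refine Nat.card_le_card_of_injective (fun x => ⟨⟨m x, hlt x⟩, ?_, ?_⟩) fun x y e => ?_
      · have h : S.B v x.1 = 0 := x.2.1
        rw [← back x, hv, QV.iso_B (hiso g), S.B_comm, Ch.polar _ (hlt x) 3 (by norm_num)] at h
        by_contra hne
        rw [Bool.not_eq_false] at hne
        rw [hne, if_pos rfl] at h
        exact one_ne_zero h
      · have h : S.B (Ch.c 128) x.1 = 0 := x.2.2
        rw [← back x, ← Ch.fix g, QV.iso_B (hiso g), S.B_comm, Ch.polar _ (hlt x) 128 (by norm_num)] at h
        by_contra hne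
        rw [Bool.not_eq_false] at hne
        rw [hne, if_pos rfl] at h
        exact one_ne_zero h
      · have e' : m x = m y := congrArg (fun z => (z.1 : Fin 256).val) e
        exact Subtype.ext (by rw [← back x, ← back y, e'])
    haveI : Finite T := Subtype.finite
    have := (Nat.card_le_card_of_injective Ψ hΨ).trans hT
    rw [Nat.card_prod, hBb, Nat.card_eq_fintype_card, Fintype.card_bool] at this
    omega
  · have hu0 : S.B v (Ch.c 128) = 1 := by rw [hvn, h1]; rfl
    have : Subsingleton d.Bb := ⟨fun b c =>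
      Subtype.ext (radical_ext hHiso d hline hu0 b.2 c.2 (by rw [hn _ b.2, hn _ c.2]))⟩
    rw [Nat.card_of_subsingleton (⟨1, one_mem _⟩ : d.Bb)] at hBb
    omega

omit Ch in
/-- No other conjugate of the central involution lies in the extraspecial group. -/
theorem axis_no_inQ {G : Type*} [Group G] [Finite G] {N : Nine G V} {A : Act Sp2 V}
    (Ch : AxisChart ε N.S A) [Finite V] (hr : A.σ.range = N.ρ.range) {g : G}
    (hx : g * N.z * g⁻¹ ∈ N.Q) : g * N.z * g⁻¹ = N.z := by
  haveI := Fintype.ofFinite V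
  by_contra hne
  obtain ⟨d, -⟩ := N.exists_pairData hx hne
  exact Ch.no_pair hr (fun x => by
    obtain ⟨h, hh⟩ := hr.le ⟨x, rfl⟩
    rw [← hh]
    exact N.ρ_mem h) d

end CfsgLib.CoTwoRec
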