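import Cfsg.Agent.Lib.CoTwoRec.AxisFrame

/-!
# The transvections of the group are not all transvections of the space

If they were, seven of them would be reflections in vectors that span a space with a radical vector, and the
product of length 63 that is trivial in the group would be the reflection in that vector.
-/

set_option autoImplicit false
set_option maxRecDepth 100000
set_option maxHeartbeats 400000

namespace CfsgLib.CoTwoRec

open CfsgLib.ExtraNine CfsgLib.Schur.Tails.SpSix CfsgLib.ThType.Perm CfsgLib.ThType.Coords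

/-- A product carrying the first transvection to a given one. -/
def toW : List (List (Fin 8)) :=
  [[], [4, 6, 1, 4, 3, 6, 0, 3], [5, 7, 2, 5, 4, 7, 6, 4, 3, 6, 0, 3], [0, 3], [6, 4, 3, 6, 0, 3],
    [7, 5, 4, 7, 6, 4, 3, 6, 0, 3], [3, 6, 0, 3], [4, 7, 6, 4, 3, 6, 0, 3]]

theorem toW_test : ∀ k : Fin 8, sameB (toW.getD k.val [] ++ [0]) ([k] ++ toW.getD k.val []) = true := by
  decide +kernel

theorem toW_conj (k : Fin 8) :
    tvW (toW.getD k.val []) * tv 0 * (tvW (toW.getD k.val []))⁻¹ = tv k := by
  rw [mul_inv_eq_iff_eq_mul, ← tvW_single, ← tvW_single, ← tvW_append, ← tvW_append]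
  exact tvW_eq (toW_test k)

/-- A product of odd length that is trivial. -/
def oddW : List (Fin 8) := (List.replicate 9 ([1, 2, 3, 4, 5, 6, 7] : List (Fin 8))).flatten

theorem oddW_test : sameB oddW [] = true := by decide +kernel

/-- The parity of the neighbours of a transvection in a set of them. -/
def parA (m : ℕ) (k : Fin 8) : Bool :=
  (List.finRange 8).foldl (fun acc l => acc ^^ (m.testBit l.val && adj l k)) false

/-- The sum of reflections, on the sets of centres, of a vector with given products. -/
def stepA (χ : ℕ) (k : Fin 8) (m : ℕ) : ℕ :=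
  if χ.testBit k.val ^^ parA m k then m ^^^ 2 ^ k.val else m

/-- The set of centres added by the trivial product. -/
noncomputable def sumA (χ : ℕ) : ℕ := oddW.foldr (stepA χ) 0

theorem sumA_table : ((List.range 256).all fun χ =>
    Nat.beq (sumA χ) (if (χ.testBit 1 ^^ χ.testBit 2) ^^ χ.testBit 7 then 134 else 0)) = true := by
  decide +kernel

variable {V : Type*} [AddCommGroup V] {S : QV V} (A : Act Sp2 V)

/-- A bit as a scalar. -/
def zb (b : Bool) : ZMod 2 := if b then 1 else 0

theorem zb_xor (a b : Bool) : zb (a ^^ b) = zb a + zb b := by revert a b; decide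

/-- The number with given eight bits. -/
def natOf (f : Fin 8 → Bool) : ℕ :=
  (List.finRange 8).foldl (fun acc l => acc + if f l then 2 ^ l.val else 0) 0

theorem natOf_bits : ∀ a b c d e f g h : Bool,
    natOf ![a, b, c, d, e, f, g, h] < 256 ∧
      ∀ k : Fin 8, (natOf ![a, b, c, d, e, f, g, h]).testBit k.val = ![a, b, c, d, e, f, g, h] k := by
  decide +kernel

theorem zm_two (z : ZMod 2) : z = 0 ∨ z = 1 := by revert z; decide

/-- An isometry moving all vectors by multiples of one vector is the reflection in it. -/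
theorem reflection (hiso : ∀ g, A.σ g ∈ S.Iso) {g : Sp2} {c : V} (hc : c ≠ 0)
    (hg : ∀ v, A.σ g v = v ∨ A.σ g v = v + c) (hgg : g * g = 1) (hmove : ∃ v, A.σ g v ≠ v) :
    S.q c = 1 ∧ ∀ v, A.σ g v = v + if S.B v c = 1 then c else 0 := by
  obtain ⟨v, hv⟩ := hmove
  have ev : A.σ g v = v + c := (hg v).resolve_left hv
  have key : ∀ w, A.σ g w = w + if S.B v w + S.B v (A.σ g w) = 1 then c else 0 := fun w => by
    rcases hg w with e | e
    · rw [e, CharTwo.add_self_eq_zero]; simp
    · have h1 : S.B v w + S.B v (A.σ g w) = S.B v c := by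
        rw [e, S.B_add_right, ← add_assoc, CharTwo.add_self_eq_zero, zero_add]
      have adj' : S.B (A.σ g v) w = S.B v (A.σ g w) := by
        conv_rhs => rw [← QV.iso_B (hiso g), ← sig_mul, hgg, map_one]
        rfl
      rcases zm_two (S.B v c) with h | h
      · exfalso
        refine hc (S.nondeg c fun u => ?_)
        show S.B c u = 0
        have a : S.B (A.σ g v) u = S.B v (A.σ g u) := by
          conv_rhs => rw [← QV.iso_B (hiso g), ← sig_mul, hgg, map_one]
          rfl
        rw [ev, S.B_add_left] at a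
        rcases hg u with e' | e' <;> rw [e'] at a
        · exact add_eq_left.1 a
        · rw [S.B_add_right, h, add_zero] at a
          exact add_eq_left.1 a
      · rw [h1, h, if_pos rfl, e]
  have same : ∀ w, S.B v w + S.B v (A.σ g w) = S.B w c := fun w => by
    have a : S.B (A.σ g v) w = S.B v (A.σ g w) := by
      conv_rhs => rw [← QV.iso_B (hiso g), ← sig_mul, hgg, map_one]
      rfl
    rw [← a, ev, S.B_add_left, ← add_assoc, CharTwo.add_self_eq_zero, zero_add, S.B_comm]
  refine ⟨?_, fun w => by rw [key w, same]⟩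
  have hB : S.B v c = 1 := by
    rcases zm_two (S.B v c) with h | h
    · have e := key v
      rw [same, h, ev] at e
      simp at e
      exact absurd e hc
    · exact h
  have e := (hiso g).2 v
  rw [ev, S.q_add, hB] at e
  revert e
  generalize S.q v = x
  generalize S.q c = y
  revert x y
  decide

variable (H : AxisHyp S A)
include H

theorem no_reflections : ¬ ∀ i v, A.σ (tv (sA i)) (pR A v) = pR A v := fun hR => by
  obtain ⟨a, b, P⟩ := exists_planes A H
  set a0 : V := a 0 with ha0
  have base : ∀ v, A.σ (tv 0) v = v ∨ A.σ (tv 0) v = v + a0 := fun v => by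
    have e1 : ∀ i, i ≠ 0 → A.σ (tv (sA 0)) (pF A i v) = pF A i v := fun i hi => by
      rcases P.mem i _ ⟨v, rfl⟩ with e | e | e | e <;> rw [e]
      · exact sig_zero A _
      · exact P.Aa i 0
      · rw [P.Ab, if_neg hi]
      · rw [A.add, P.Aa, P.Ab, if_neg hi]
    have e0 : A.σ (tv (sA 0)) (pF A 0 v) = pF A 0 v ∨ A.σ (tv (sA 0)) (pF A 0 v) = pF A 0 v + a0 := by
      rcases P.mem 0 _ ⟨v, rfl⟩ with e | e | e | e <;> rw [e]
      · exact Or.inl (sig_zero A _)
      · exact Or.inl (P.Aa 0 0)
      · exact Or.inr (by rw [P.Ab, if_pos rfl, add_comm])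
      · exact Or.inr (by rw [A.add, P.Aa, P.Ab, if_pos rfl]; abel)
    have hv : A.σ (tv (sA 0)) v = pR A v + A.σ (tv (sA 0)) (pF A 0 v) + pF A 1 v + pF A 2 v := by
      conv_lhs => rw [sum_eq A v]
      rw [A.add, A.add, A.add, hR, e1 1 (by decide), e1 2 (by decide)]
    show A.σ (tv (sA 0)) v = v ∨ A.σ (tv (sA 0)) v = v + a0
    rcases e0 with e | e <;> rw [hv, e]
    · exact Or.inl (sum_eq A v).symm
    · right
      conv_rhs => rw [sum_eq A v]
      abel
  set g : Fin 8 → Sp2 := fun k => tvW (toW.getD k.val []) with hg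
  set c : Fin 8 → V := fun k => A.σ (g k) a0 with hc
  have cne : ∀ k, c k ≠ 0 := fun k h => P.ne 0 ((A.σ (g k)).injective (h.trans (sig_zero A _).symm))
  have back : ∀ k v, A.σ (tv k) v = A.σ (g k) (A.σ (tv 0) (A.σ (g k)⁻¹ v)) := fun k v => by
    rw [← toW_conj k, sig_mul, sig_mul]
  have undo : ∀ k v, A.σ (g k) (A.σ (g k)⁻¹ v) = v := fun k v => by
    rw [← sig_mul, mul_inv_cancel, map_one]; rfl
  have refl : ∀ k, S.q (c k) = 1 ∧ ∀ v, A.σ (tv k) v = v + if S.B v (c k) = 1 then c k else 0 := fun k => by
    refine reflection A H.iso (cne k) (fun v => ?_) (tv_sq k) ⟨A.σ (g k) (b 0), fun h => ?_⟩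
    · rcases base (A.σ (g k)⁻¹ v) with e | e <;> rw [back, e]
      · exact Or.inl (undo k v)
      · exact Or.inr (by rw [A.add, undo])
    · rw [back, ← sig_mul (g := (g k)⁻¹), inv_mul_cancel, map_one, Equiv.Perm.one_apply] at h
      have e := (A.σ (g k)).injective h
      change A.σ (tv (sA 0)) (b 0) = b 0 at e
      rw [P.Ab, if_pos rfl] at e
      exact P.ne 0 (by simpa using e)
  have gram : ∀ k l, S.B (c k) (c l) = if adj k l then 1 else 0 := fun k l => by
    rcases zm_two (S.B (c k) (c l)) with h | h
    · rw [h]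
      split_ifs with ha
      · exfalso
        have com : ∀ v, A.σ (tv k) (A.σ (tv l) v) = A.σ (tv l) (A.σ (tv k) v) := fun v => by
          have h' : S.B (c l) (c k) = 0 := by rw [S.B_comm, h]
          have zl : S.B (if S.B v (c l) = 1 then c l else 0) (c k) = 0 := by
            split_ifs
            exacts [h', S.B_zero_left _]
          have zk : S.B (if S.B v (c k) = 1 then c k else 0) (c l) = 0 := by
            split_ifs
            exacts [h, S.B_zero_left _]
          rw [(refl l).2 v, (refl k).2 v, (refl k).2 (v + _), (refl l).2 (v + _), S.B_add_left, S.B_add_left,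
            zl, zk, add_zero, add_zero]
          abel
        refine H.moved fun v => ?_
        set M : Sp2 := tv k * tv l
        have hc2 : ∀ v, A.σ (M * M) v = v := fun v => by
          rw [sig_mul, sig_mul, sig_mul, com (A.σ (tv k) _), sig_sq, sig_sq]
        have hM3 : M * M * M = 1 := by
          show tv k * tv l * (tv k * tv l) * (tv k * tv l) = 1
          rw [← tv_conj ha]
          calc _ = tvW (conjW k l) * (tv 0 * tv 3 * (tv 0 * tv 3) * (tv 0 * tv 3)) * (tvW (conjW k l))⁻¹ := by group
            _ = 1 := by rw [tv_cube, mul_one, mul_inv_cancel]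
        have hM : ∀ v, A.σ M v = v := fun v => by
          conv_rhs => rw [show v = A.σ (M * M * M) v by rw [hM3, map_one]; rfl, sig_mul, hc2]
        have e : tv 0 * tv 3 = (tvW (conjW k l))⁻¹ * M * tvW (conjW k l) := by
          show _ = _ * (tv k * tv l) * _
          rw [← tv_conj ha]; group
        rw [e, sig_mul, sig_mul, hM, ← sig_mul, inv_mul_cancel, map_one]
        rfl
      · rfl
    · rw [h]
      split_ifs with ha
      · rfl
      · exfalso
        have e := congrArg (fun z => A.σ z (c k)) (tv_comm (k := k) (l := l) (by simpa using ha))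
        simp only [sig_mul] at e
        have h' : S.B (c l) (c k) = 1 := by rw [S.B_comm, h]
        have e1 : A.σ (tv l) (c k) = c k + c l := by rw [(refl l).2, h, if_pos rfl]
        have e2 : A.σ (tv k) (c k) = c k := by
          rw [(refl k).2, S.B_self, if_neg zero_ne_one, add_zero]
        have e3 : A.σ (tv k) (c l) = c l + c k := by rw [(refl k).2, h', if_pos rfl]
        rw [e1, A.add, e2, e3, e1] at e
        refine cne k ?_
        calc c k = c k + c l + (c k + (c l + c k)) := by
              calc c k = c k + ((c k + c k) + (c l + c l)) := by rw [A.two, A.two, add_zero, add_zero]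
                _ = _ := by abel
          _ = 0 := by rw [e, A.two]
  -- the trivial product of odd length
  set C : ℕ → V := lin (fun U => c (Fin.ofNat 8 U)) 8 with hC
  have Cx : ∀ m n, C (m ^^^ n) = C m + C n := lin_xor A.two _ 8
  have Cp : ∀ k : Fin 8, C (2 ^ k.val) = c k := fun k => by
    simp only [hC, lin, Nat.testBit_two_pow]
    fin_cases k <;> simp [Fin.ofNat]
  have C0 : C 0 = 0 := lin_zero _ 8
  have term : ∀ (m : ℕ) (l k : Fin 8),
      S.B (if m.testBit l.val then c l else 0) (c k) = zb (m.testBit l.val && adj l k) := fun m l k => by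
    cases m.testBit l.val
    · exact S.B_zero_left _
    · show S.B (c l) (c k) = zb (adj l k)
      rw [gram]; rfl
  have Bpar : ∀ m k, S.B (C m) (c k) = if parA m k then 1 else 0 := fun m k => by
    show _ = zb (parA m k)
    rw [parA, show List.finRange 8 = [0, 1, 2, 3, 4, 5, 6, 7] from rfl]
    simp only [List.foldl_cons, List.foldl_nil, zb_xor, ← term]
    simp only [hC, lin, S.B_add_left, S.B_zero_left]
    rfl
  have main : ∀ (v : V) (χ : ℕ), (∀ k : Fin 8, χ.testBit k.val = decide (S.B v (c k) = 1)) →
      ∀ w : List (Fin 8), A.σ (tvW w) v = v + C (w.foldr (stepA χ) 0) := fun v χ hχ w => by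
    induction w with
    | nil =>
      rw [List.foldr_nil, C0, add_zero, show tvW [] = 1 from rfl, map_one]
      rfl
    | cons k w ih =>
      rw [show tvW (k :: w) = tv k * tvW w by simp [tvW], sig_mul, ih, (refl k).2, List.foldr_cons]
      generalize w.foldr (stepA χ) 0 = m
      rw [S.B_add_left, Bpar, stepA, hχ]
      rcases zm_two (S.B v (c k)) with h | h <;> cases parA m k <;>
        simp [h, Cx, Cp, add_assoc, show ((1 : ZMod 2) + 1 = 0) from rfl]
  set R : V := c 1 + c 2 + c 7 with hRdef
  have qR : S.q R = 1 := by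
    rw [hRdef, S.q_add, S.q_add, S.B_add_left, (refl 1).1, (refl 2).1, (refl 7).1, gram, gram, gram,
      show adj 1 2 = false by decide +kernel, show adj 1 7 = false by decide +kernel,
      show adj 2 7 = false by decide +kernel]
    rfl
  have R0 : R ≠ 0 := fun h => by rw [h, S.q_zero] at qR; exact absurd qR (by decide)
  refine R0 (S.nondeg R fun v => ?_)
  show S.B R v = 0
  let f : Fin 8 → Bool := fun k => decide (S.B v (c k) = 1)
  have ef : f = ![f 0, f 1, f 2, f 3, f 4, f 5, f 6, f 7] := by
    funext k
    fin_cases k <;> rfl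
  obtain ⟨χlt, hb⟩ := natOf_bits (f 0) (f 1) (f 2) (f 3) (f 4) (f 5) (f 6) (f 7)
  rw [← ef] at χlt hb
  set χ : ℕ := natOf f
  have hχ : ∀ k : Fin 8, χ.testBit k.val = decide (S.B v (c k) = 1) := hb
  have hs := main v χ hχ oddW
  rw [tvW_eq oddW_test, show tvW [] = 1 from rfl, map_one] at hs
  have ht := List.all_eq_true.1 sumA_table χ (List.mem_range.2 χlt)
  rw [Nat.beq_eq] at ht
  change v = v + C (sumA χ) at hs
  rw [ht, show χ.testBit 1 = decide (S.B v (c 1) = 1) from hχ 1, show χ.testBit 2 = decide (S.B v (c 2) = 1) from hχ 2,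
    show χ.testBit 7 = decide (S.B v (c 7) = 1) from hχ 7] at hs
  rw [S.B_comm, hRdef, S.B_add_right, S.B_add_right]
  revert hs
  have C134 : C 134 = R := by
    rw [show (134 : ℕ) = 2 ^ (1 : Fin 8).val ^^^ 2 ^ (2 : Fin 8).val ^^^ 2 ^ (7 : Fin 8).val by decide, Cx, Cx,
      Cp, Cp, Cp]
  rcases zm_two (S.B v (c 1)) with h1 | h1 <;> rcases zm_two (S.B v (c 2)) with h2 | h2 <;>
    rcases zm_two (S.B v (c 7)) with h7 | h7 <;> simp only [h1, h2, h7] <;>
    first | (intro _; decide) | (intro e; exact absurd (by simpa [C134] using e) R0)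

end CfsgLib.CoTwoRec
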