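import Cfsg.Agent.Lib.CoTwoRec.SpinModule

/-!
# Three planes and their complement

If the product of two non-commuting transvections has a fixed vector, its commutator space is a plane, and the
three such planes of three orthogonal pairs have a complement of order four that these products fix.
-/

set_option autoImplicit false
set_option maxRecDepth 100000

namespace CfsgLib.CoTwoRec

open CfsgLib.ExtraNine CfsgLib.Schur.Tails.SpSix CfsgLib.ThType.Perm

/-- The first transvection of a pair. -/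
def sA (i : Fin 3) : Fin 8 := i.castLE (by norm_num)

/-- The second transvection of a pair. -/
def sB (i : Fin 3) : Fin 8 := ⟨i.val + 3, by omega⟩

/-- The product of a pair. -/
def pX (i : Fin 3) : Sp2 := tv (sA i) * tv (sB i)

theorem pair_table : ∀ i j : Fin 3,
    sameB [sA i, sB i, sA j, sB j] [sA j, sB j, sA i, sB i] = true ∧
    sameB [sA i, sB i, sA i, sB i, sA i, sB i] [] = true ∧
    sameB [sA i, sA j, sB j] (if i = j then [sB i, sA i, sA i] else [sA j, sB j, sA i]) = true ∧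
    sameB (cycW ++ [sA i, sB i]) ([sA (i + 1), sB (i + 1)] ++ cycW) = true ∧
    sameB (cycW ++ [sA i]) ([sA (i + 1)] ++ cycW) = true := by decide +kernel

theorem tvW_pX (i : Fin 3) : tvW [sA i, sB i] = pX i := tvW_pair _ _

theorem pX_comm (i j : Fin 3) : Commute (pX i) (pX j) := by
  show pX i * pX j = pX j * pX i
  rw [← tvW_pX, ← tvW_pX, ← tvW_append, ← tvW_append]
  exact tvW_eq (pair_table i j).1

theorem pX_cube (i : Fin 3) : pX i * pX i * pX i = 1 := by
  rw [← tvW_pX, ← tvW_append, ← tvW_append]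
  exact tvW_eq (pair_table i i).2.1

theorem sA_pX_self (i : Fin 3) : tv (sA i) * pX i * (tv (sA i))⁻¹ = (pX i)⁻¹ := by
  have h : tv (sA i) * tv (sA i) = 1 := tv_sq _
  rw [pX, mul_inv_rev, inv_eq_of_mul_eq_one_right h, inv_eq_of_mul_eq_one_right (tv_sq (sB i))]
  rw [← mul_assoc (tv (sA i)), h, one_mul]

theorem sA_pX {i j : Fin 3} (h : i ≠ j) : tv (sA i) * pX j = pX j * tv (sA i) := by
  have e := tvW_eq (pair_table i j).2.2.1
  rw [if_neg h] at e
  rw [← tvW_pX, ← tvW_single, ← tvW_append, ← tvW_append]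
  exact e

theorem sB_eq (i : Fin 3) : tv (sB i) = tv (sA i) * pX i := by
  rw [pX, ← mul_assoc, tv_sq, one_mul]

theorem cyc_pX (i : Fin 3) : tvW cycW * pX i * (tvW cycW)⁻¹ = pX (i + 1) := by
  rw [mul_inv_eq_iff_eq_mul, ← tvW_pX, ← tvW_pX, ← tvW_append, ← tvW_append]
  exact tvW_eq (pair_table i i).2.2.2.1

theorem cyc_sA (i : Fin 3) : tvW cycW * tv (sA i) * (tvW cycW)⁻¹ = tv (sA (i + 1)) := by
  rw [mul_inv_eq_iff_eq_mul, ← tvW_single, ← tvW_single, ← tvW_append, ← tvW_append]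
  exact tvW_eq (pair_table i i).2.2.2.2

theorem pX_tri : Act.Tri (pX 0) (pX 1) (pX 2) := by
  have two : ∀ i j k : Fin 3, i ≠ j → k ≠ i → k ≠ j →
      tv (sA i) * tv (sA j) * pX i * (tv (sA i) * tv (sA j))⁻¹ = (pX i)⁻¹ ∧
      tv (sA i) * tv (sA j) * pX j * (tv (sA i) * tv (sA j))⁻¹ = (pX j)⁻¹ ∧
      tv (sA i) * tv (sA j) * pX k * (tv (sA i) * tv (sA j))⁻¹ = pX k := fun i j k hij hki hkj => by
    have fixd : ∀ {p q : Fin 3}, p ≠ q → tv (sA p) * pX q * (tv (sA p))⁻¹ = pX q := fun h => by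
      rw [sA_pX h, mul_inv_cancel_right]
    have step : ∀ z : Sp2, tv (sA i) * tv (sA j) * z * (tv (sA i) * tv (sA j))⁻¹ =
        tv (sA i) * (tv (sA j) * z * (tv (sA j))⁻¹) * (tv (sA i))⁻¹ := fun z => by group
    refine ⟨?_, ?_, ?_⟩
    · rw [step, fixd (Ne.symm hij), sA_pX_self]
    · rw [step, sA_pX_self, show tv (sA i) * (pX j)⁻¹ * (tv (sA i))⁻¹ = (tv (sA i) * pX j * (tv (sA i))⁻¹)⁻¹ by
        group, fixd hij]
    · rw [step, fixd (Ne.symm hkj), fixd (Ne.symm hki)]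
  exact ⟨pX_cube 0, pX_cube 1, pX_cube 2, pX_comm 0 1, pX_comm 0 2, pX_comm 1 2,
    ⟨tvW cycW, cyc_pX 0, cyc_pX 1, cyc_pX 2⟩,
    ⟨_, two 0 1 2 (by decide) (by decide) (by decide)⟩,
    ⟨_, let h := two 0 2 1 (by decide) (by decide) (by decide); ⟨h.1, h.2.2, h.2.1⟩⟩,
    ⟨_, let h := two 1 2 0 (by decide) (by decide) (by decide); ⟨h.2.2, h.1, h.2.1⟩⟩⟩

variable {V : Type*} [AddCommGroup V]

/-- A space of order 256 on which a product of two transvections has a fixed vector and is not trivial. -/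
structure AxisHyp (S : QV V) (A : Act Sp2 V) : Prop where
  iso : ∀ g, A.σ g ∈ S.Iso
  card : Nat.card V = 256
  moved : ¬ ∀ v, A.σ (tv 0 * tv 3) v = v
  fixd : ∃ f : V, f ≠ 0 ∧ A.σ (tv 0 * tv 3) f = f

/-- The projection on the plane of a pair. -/
def pF (A : Act Sp2 V) (i : Fin 3) : AddMonoid.End V := A.F (pX i)

/-- The projection on the complement. -/
def pR (A : Act Sp2 V) : AddMonoid.End V := 1 + pF A 0 + pF A 1 + pF A 2

variable {S : QV V} (A : Act Sp2 V)

theorem sig_mul (g h : Sp2) (v : V) : A.σ (g * h) v = A.σ g (A.σ h v) := by rw [map_mul]; rfl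

theorem sig_zero (g : Sp2) : A.σ g 0 = 0 := map_zero (A.a g)

theorem E_adjoint (hiso : ∀ g, A.σ g ∈ S.Iso) {g : Sp2} (h : g * g * g = 1) (u w : V) :
    S.B (A.E g u) w = S.B u (A.E g w) := by
  have mv : ∀ u w : V, S.B (A.σ g u) w = S.B u (A.σ g (A.σ g w)) := fun u w => by
    conv_rhs => rw [← QV.iso_B (hiso g), ← sig_mul, ← sig_mul, h, map_one]
    rfl
  show S.B (u + A.σ g u + A.σ g (A.σ g u)) w = S.B u (w + A.σ g w + A.σ g (A.σ g w))
  have e : A.σ g (A.σ g (A.σ g (A.σ g w))) = A.σ g w := by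
    rw [← sig_mul, ← sig_mul, h, map_one]; rfl
  rw [S.B_add_left, S.B_add_left, S.B_add_right, S.B_add_right, mv, mv (A.σ g u), mv u, e]
  abel

theorem F_adjoint (hiso : ∀ g, A.σ g ∈ S.Iso) (i : Fin 3) (u w : V) :
    S.B (pF A i u) w = S.B u (pF A i w) := by
  show S.B (u + A.E (pX i) u) w = S.B u (w + A.E (pX i) w)
  rw [S.B_add_left, S.B_add_right, E_adjoint A hiso (pX_cube i)]

variable (H : AxisHyp S A)
include H

theorem plane_facts : (∀ i, Act.r (pF A i) = 4) ∧ ∀ i j, i ≠ j → pF A i * pF A j = 0 := by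
  haveI : Finite V := Nat.finite_of_card_ne_zero (by rw [H.card]; norm_num)
  obtain ⟨h4, h0⟩ := A.planes H.card pX_tri H.moved H.fixd
  have sh : ∀ i, A.cj (tvW cycW) (pF A i) = pF A (i + 1) := fun i => by
    rw [pF, A.cj_F, cyc_pX]; rfl
  have r1 : Act.r (pF A 1) = 4 := by rw [show (1 : Fin 3) = 0 + 1 from rfl, ← sh, A.r_cj]; exact h4
  have r2 : Act.r (pF A 2) = 4 := by rw [show (2 : Fin 3) = 1 + 1 from rfl, ← sh, A.r_cj]; exact r1
  have zero : A.cj (tvW cycW) 0 = 0 := by simp [Act.cj]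
  have z01 : pF A 0 * pF A (0 + 1) = 0 := h0
  have zs : ∀ i : Fin 3, pF A i * pF A (i + 1) = 0 := by
    have nxt : ∀ i, pF A i * pF A (i + 1) = 0 → pF A (i + 1) * pF A (i + 1 + 1) = 0 := fun i h => by
      have := congrArg (A.cj (tvW cycW)) h
      rwa [A.cj_mul, sh, sh, zero] at this
    exact Fin.forall_fin_succ.2 ⟨z01, Fin.forall_fin_two.2 ⟨nxt 0 z01, nxt 1 (nxt 0 z01)⟩⟩
  have sw : ∀ {i j}, pF A i * pF A j = 0 → pF A j * pF A i = 0 := fun {i j} h => by
    show A.F (pX j) * A.F (pX i) = 0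
    rw [(A.F_comm (pX_comm j i)).eq]
    exact h
  refine ⟨Fin.forall_fin_succ.2 ⟨h4, Fin.forall_fin_two.2 ⟨r1, r2⟩⟩, fun i j hij => ?_⟩
  rcases (show ∀ i j : Fin 3, i ≠ j → j = i + 1 ∨ i = j + 1 by decide) i j hij with rfl | rfl
  · exact zs i
  · exact sw (zs j)

theorem F_F (i j : Fin 3) (v : V) : pF A i (pF A j v) = if i = j then pF A i v else 0 := by
  split_ifs with h
  · subst h; exact DFunLike.congr_fun (A.F_idem (pX_cube i)) v
  · exact DFunLike.congr_fun ((plane_facts A H).2 i j h) v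

theorem F_R (i : Fin 3) (v : V) : pF A i (pR A v) = 0 := by
  show pF A i (v + pF A 0 v + pF A 1 v + pF A 2 v) = 0
  simp only [map_add, F_F A H]
  fin_cases i <;> simp [A.two]

theorem R_F (i : Fin 3) (v : V) : pR A (pF A i v) = 0 := by
  show pF A i v + pF A 0 (pF A i v) + pF A 1 (pF A i v) + pF A 2 (pF A i v) = 0
  simp only [F_F A H]
  fin_cases i <;> simp [A.two]

omit H in
theorem sum_eq (v : V) : v = pR A v + pF A 0 v + pF A 1 v + pF A 2 v := by
  show v = v + pF A 0 v + pF A 1 v + pF A 2 v + pF A 0 v + pF A 1 v + pF A 2 v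
  calc v = v + ((pF A 0 v + pF A 0 v) + (pF A 1 v + pF A 1 v) + (pF A 2 v + pF A 2 v)) := by
        simp only [A.two, add_zero]
    _ = _ := by abel

theorem R_R (v : V) : pR A (pR A v) = pR A v := by
  show pR A v + pF A 0 (pR A v) + pF A 1 (pR A v) + pF A 2 (pR A v) = _
  simp only [F_R A H, add_zero]

omit H in
theorem fix_of_F {i : Fin 3} {v : V} (h : pF A i v = 0) : A.σ (pX i) v = v := by
  have e : A.E (pX i) v = v := by
    have h' : v + A.E (pX i) v = 0 := h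
    calc A.E (pX i) v = A.E (pX i) v + (v + v) := by rw [A.two, add_zero]
      _ = v + A.E (pX i) v + v := by abel
      _ = v := by rw [h', zero_add]
  have e2 : A.σ (pX i) (A.E (pX i) v) = A.E (pX i) v := by
    show A.σ (pX i) (v + A.σ (pX i) v + A.σ (pX i) (A.σ (pX i) v)) = v + A.σ (pX i) v + A.σ (pX i) (A.σ (pX i) v)
    have e3 : A.σ (pX i) (A.σ (pX i) (A.σ (pX i) v)) = v := by
      rw [← sig_mul, ← sig_mul, pX_cube, map_one]; rfl
    rw [A.add, A.add, e3]
    abel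
  rwa [e] at e2

theorem r_R : Act.r (pR A) = 4 := by
  haveI : Finite V := Nat.finite_of_card_ne_zero (by rw [H.card]; norm_num)
  obtain ⟨h4, h0⟩ := plane_facts A H
  let e : V ≃ Set.range (pR A) × Set.range (pF A 0) × Set.range (pF A 1) × Set.range (pF A 2) :=
    { toFun := fun v => (⟨_, v, rfl⟩, ⟨_, v, rfl⟩, ⟨_, v, rfl⟩, ⟨_, v, rfl⟩)
      invFun := fun p => p.1 + p.2.1 + p.2.2.1 + p.2.2.2
      left_inv := fun v => (sum_eq A v).symm
      right_inv := fun p => by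
        obtain ⟨⟨_, a, rfl⟩, ⟨_, b, rfl⟩, ⟨_, c, rfl⟩, ⟨_, d, rfl⟩⟩ := p
        refine Prod.ext (Subtype.ext ?_) (Prod.ext (Subtype.ext ?_) (Prod.ext (Subtype.ext ?_) (Subtype.ext ?_))) <;>
          simp [map_add, F_R A H, R_F A H, R_R A H, F_F A H] }
  have h := Nat.card_congr e
  rw [H.card, Nat.card_prod, Nat.card_prod, Nat.card_prod] at h
  have := h4 0; have := h4 1; have := h4 2
  simp only [Act.r] at *
  rw [h4 0, h4 1, h4 2] at h
  omega

omit H in
/-- A transvection of a pair commutes with all projections. -/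
theorem sA_F (i j : Fin 3) (v : V) : pF A j (A.σ (tv (sA i)) v) = A.σ (tv (sA i)) (pF A j v) := by
  have e : A.cj (tv (sA i)) (pF A j) = pF A j := by
    rw [pF, A.cj_F]
    rcases eq_or_ne i j with rfl | h
    · rw [sA_pX_self, A.F_inv (pX_cube i)]
    · rw [sA_pX h, mul_inv_cancel_right]
  have := DFunLike.congr_fun e (A.σ (tv (sA i)) v)
  change A.σ (tv (sA i)) (pF A j (A.σ (tv (sA i))⁻¹ (A.σ (tv (sA i)) v))) = _ at this
  rw [← this, ← sig_mul, inv_mul_cancel, map_one]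
  rfl

omit H in
theorem sA_R (i : Fin 3) (v : V) : pR A (A.σ (tv (sA i)) v) = A.σ (tv (sA i)) (pR A v) := by
  show A.σ (tv (sA i)) v + pF A 0 _ + pF A 1 _ + pF A 2 _ = A.σ (tv (sA i)) (v + pF A 0 v + pF A 1 v + pF A 2 v)
  simp only [A.add, sA_F]

omit H in
theorem cyc_R (v : V) : pR A (A.σ (tvW cycW) v) = A.σ (tvW cycW) (pR A v) := by
  have e : ∀ i, pF A (i + 1) (A.σ (tvW cycW) v) = A.σ (tvW cycW) (pF A i v) := fun i => by
    rw [show pF A (i + 1) = A.cj (tvW cycW) (pF A i) by rw [pF, pF, A.cj_F, cyc_pX]]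
    show A.σ (tvW cycW) (pF A i (A.σ (tvW cycW)⁻¹ (A.σ (tvW cycW) v))) = _
    rw [← sig_mul, inv_mul_cancel, map_one]
    rfl
  show A.σ (tvW cycW) v + pF A 0 _ + pF A 1 _ + pF A 2 _ = A.σ (tvW cycW) (v + pF A 0 v + pF A 1 v + pF A 2 v)
  simp only [A.add]
  rw [← e 0, ← e 1, ← e 2, show (0 + 1 : Fin 3) = 1 from rfl, show (1 + 1 : Fin 3) = 2 from rfl,
    show (2 + 1 : Fin 3) = 0 from rfl]
  abel

end CfsgLib.CoTwoRec
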