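import Mathlib.Data.Int.Notation
import Mathlib.Data.Nat.Notation

/-!
# Data for the involution centraliser of Co2 and one further element

All letters are involutions. The letters `0` to `7` are the lifts of the eight transvections, `8` to `15` lie over
the basis of the spin module in the extraspecial group, `16` exchanges the central involution and its neighbour.
A code is the action on the twenty three coordinates modulo two of the stabiliser of a minimal vector.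
-/

set_option autoImplicit false
set_option maxRecDepth 100000

namespace CfsgLib.CoTwoRec

/-- The codes of the letters. -/
def codes : List (List ℕ) := [
  [890493, 7770623, 3561896, 4325296, 3809737, 5756588, 4245521, 1515101, 3575984, 2202769, 814473, 129013, 8062589, 6387392, 3885004, 7864308, 5001169, 1384157, 1296189, 2723693, 1920924, 7178189, 8058937],
  [5651277, 3656482, 5989672, 5902176, 16, 6299205, 6299173, 38016, 8121860, 1827628, 3661677, 5724424, 3628909, 819236, 5922597, 5120, 2126956, 7961348, 4460544, 8347501, 7462945, 5649705, 7819117],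
  [2017440, 5020461, 2035111, 6821224, 5070397, 8094593, 6648339, 2932849, 1207184, 5908067, 2948514, 6636288, 5722960, 5913904, 4549056, 3564767, 50434, 3158275, 7203121, 8331664, 6550604, 2925105, 5022257],
  [6638505, 1861787, 5366807, 7743441, 154264, 8029536, 2188385, 6821192, 4754448, 8288803, 5391970, 2134232, 6552643, 7246371, 3807146, 4650241, 2122785, 1796355, 7203121, 5141761, 3326544, 1576226, 7867682],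
  [8222052, 3120026, 6397656, 554981, 5752672, 3418899, 3212030, 5435005, 4278300, 4591630, 6547523, 2048, 2025857, 7246371, 3885004, 3403809, 90279, 3239969, 7203121, 6594587, 3200960, 3265918, 262198],
  [3868621, 1523087, 2123284, 6422989, 3004375, 3802706, 3926964, 1729389, 2938745, 5827072, 7657025, 5591640, 7250348, 7246371, 2914766, 1463172, 7683705, 1663571, 6088704, 2020228, 4844081, 6514283, 932740],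
  [5099223, 876130, 904863, 2740263, 5017773, 37083, 37051, 884345, 256, 6943483, 2665181, 2443487, 2670301, 2478269, 4275903, 32768, 6655490, 7235033, 7159961, 524288, 1422779, 4800665, 2703513],
  [3971023, 6579453, 1420568, 5442226, 6021489, 6778081, 6777985, 8363837, 6896543, 7526835, 2766572, 1486114, 4632008, 4965288, 1907881, 2183433, 1761580, 1116919, 3706272, 3850640, 1422779, 4683439, 6118569],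
  [6882951, 2103242, 4893945, 1019954, 8189249, 6401321, 5523798, 4497433, 4754448, 512, 2899521, 2048, 3557804, 8192, 4735488, 1622528, 5158565, 1569751, 5948276, 1065472, 4210688, 7182152, 5784064],
  [5752689, 5850118, 6727021, 5796837, 171320, 5687022, 4120723, 951284, 3700205, 4016146, 6635007, 5591640, 6457896, 7246371, 5876273, 402025, 278271, 6330920, 5526256, 3492370, 4844081, 8122235, 8120443],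
  [4722983, 7917585, 233955, 4819236, 7600461, 6989875, 5089402, 2062645, 5924902, 271126, 4720128, 2048, 5222871, 8192, 2046389, 2824598, 5529982, 6429015, 5689743, 1602029, 2146613, 2922943, 5525755],
  [1515228, 838894, 5913713, 3435193, 818334, 4320868, 5914800, 8026682, 883760, 164223, 5153897, 7246371, 5559172, 5591640, 1479556, 1463172, 5836648, 7961348, 4025092, 2020228, 2714372, 3100205, 7321728],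
  [2830880, 4924600, 5955199, 728492, 3852528, 8050194, 37073, 4186605, 5924902, 757557, 5365779, 2134232, 3431316, 7246371, 4511956, 1757240, 102545, 4696014, 5620703, 5079042, 2881530, 2107340, 4204492],
  [5048770, 6660511, 886660, 217874, 7404166, 7865173, 486427, 4501890, 4944468, 8012963, 5605030, 1464319, 5559172, 2727570, 6332414, 3403809, 3608130, 2568158, 4321312, 6850576, 5993300, 5307030, 6631390],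
  [4144144, 888268, 2363031, 6453907, 544430, 6386689, 3839232, 5494067, 4754448, 8012963, 5667042, 1790115, 4443481, 5591640, 6972520, 3738551, 4314083, 2140536, 7739472, 2379872, 7117604, 807008, 5782584],
  [904531, 905324, 651799, 4230731, 7675450, 7850829, 2385138, 5115319, 7118783, 452614, 1228541, 2268040, 1511133, 6028177, 7134911, 4174176, 4172289, 1384157, 3879264, 5908866, 8167103, 8111789, 7179165],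
  [5828446, 7951412, 3680057, 833564, 3505840, 6430248, 1747959, 2941833, 874848, 1747383, 1570775, 6365206, 5832543, 7720415, 1552938, 3538592, 2329975, 7889448, 5464232, 2845955, 1923168, 4245602, 6458743]]

/-- The central involution. -/
def tWord : List ℕ := [8, 15, 8, 15]

/-- An involution of the centraliser which is a neighbour of the central one. -/
def xWord : List ℕ := [0, 1, 6, 11]

/-- An involution of the centraliser over a transvection, conjugate to the central one. -/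
def yWord : List ℕ := [0]

/-- The matrix of letter 0. -/
def mat0 : List (List ℤ) := [
    [1, 0, 0, 0, 0, 0, 0, 0, 0, 0, 0, 0, 0, 0, 0, 0, 0, 0, 0, 0, 0, 0, 0, 0],
    [18, -9, 0, -21, -11, -9, -11, -21, -20, -18, -19, -19, 46, 47, 26, -10, 7, 39, 30, -1, 47, 10, 48, 46],
    [29, -15, -1, -33, -15, -15, -21, -33, -35, -29, -32, -32, 70, 73, 42, -18, 7, 62, 45, -5, 74, 9, 75, 75],
    [-25, 12, 0, 30, 15, 14, 17, 30, 29, 27, 28, 28, -69, -71, -40, 15, -10, -60, -45, 3, -72, -15, -73, -68],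
    [39, -20, 0, -46, -22, -21, -27, -46, -47, -41, -45, -45, 107, 109, 63, -25, 13, 93, 68, -6, 112, 18, 112, 117],
    [-21, 11, 0, 26, 11, 12, 16, 27, 27, 23, 26, 26, -68, -68, -41, 16, -8, -60, -43, 4, -73, -11, -71, -70],
    [31, -16, 0, -37, -17, -18, -21, -38, -37, -34, -37, -37, 98, 97, 58, -21, 15, 83, 61, -3, 102, 19, 100, 107],
    [-22, 11, 0, 26, 12, 13, 14, 26, 26, 24, 26, 26, -71, -70, -42, 15, -11, -60, -44, 2, -74, -14, -72, -77],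
    [-8, 5, 0, 9, 5, 3, 6, 9, 10, 8, 9, 9, -11, -13, -6, 4, 0, -9, -7, 1, -10, 1, -12, -18],
    [0, 0, 0, 0, 0, 1, -1, 0, -1, 0, 0, 0, -6, -5, -4, 0, -3, -4, -3, -1, -6, -3, -5, -6],
    [0, 1, 0, 0, 0, -1, 0, 0, 1, 0, 0, 1, 3, 3, 2, 0, 1, 3, 2, 0, 4, 2, 3, -2],
    [1, -1, 0, 0, -1, 0, 0, 0, -1, -1, 0, -1, -5, -4, -3, 1, 0, -6, -4, 1, -7, -2, -6, 0],
    [-13, 7, 0, 13, 6, 7, 7, 13, 13, 13, 13, 13, -34, -33, -21, 7, -7, -27, -20, 0, -34, -6, -34, -36],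
    [-2, 1, 0, 3, 1, 1, 1, 3, 2, 2, 3, 3, -10, -10, -6, 2, -2, -9, -7, 0, -11, -3, -11, -7],
    [0, 0, 0, 0, 0, 0, 0, 1, 1, 0, 1, 1, -4, -3, -3, 1, 0, -3, -2, 0, -4, 0, -3, -7],
    [1, 0, 0, -1, -1, 0, 0, -1, -1, -1, -1, -1, 2, 2, 0, -1, 0, 1, 1, 0, 1, 1, 1, 6],
    [3, -2, 0, -3, -2, -1, -1, -3, -3, -3, -3, -3, 5, 5, 3, -1, 1, 3, 3, 1, 4, 1, 5, 7],
    [1, -1, 0, 0, 0, -1, 0, -1, -1, -1, -1, -1, 5, 4, 4, -1, 2, 2, 2, 1, 5, 0, 4, 7],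
    [-1, 1, 0, 1, 1, 1, 0, 1, 1, 2, 1, 1, -3, -3, -2, 0, -2, -1, -2, -1, -2, -1, -2, -6],
    [2, -1, 0, -1, -1, -1, -1, -2, -2, -1, -1, -1, 2, 2, 2, -1, 1, 1, 1, 0, 2, -1, 2, 0],
    [3, -1, 0, -3, -1, -2, -1, -3, -2, -3, -3, -3, 13, 12, 8, -2, 3, 11, 8, 0, 13, 4, 13, 12],
    [-1, 0, 0, 1, 1, 1, 0, 2, 1, 1, 1, 1, -7, -6, -4, 1, -2, -5, -4, -1, -7, -3, -6, -6],
    [1, -1, 0, -1, -1, 0, 0, -1, -1, -1, -1, -1, 0, 0, 0, 0, 1, -1, 0, 1, -1, 0, -1, 1],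
    [2, -1, 0, -2, -1, -1, -1, -2, -2, -2, -2, -2, 5, 5, 3, -1, 1, 4, 3, 0, 5, 1, 5, 5]]

/-- Its product with the Gram matrix. -/
def matG0 : List (List ℤ) := [
    [4, -33, -57, 52, -81, 50, -67, 47, 16, 0, 1, 1, 20, 5, 2, -1, -4, -1, 2, -1, -4, 2, -1, -3],
    [-33, 134, 254, -244, 347, -222, 291, -199, -62, -4, 2, -27, -60, -12, -4, -8, 1, -4, -11, 4, 5, -14, -3, 8],
    [-57, 254, 470, -451, 650, -411, 542, -373, -118, -7, 3, -44, -123, -23, -9, -12, 8, -4, -20, 8, 14, -27, -4, 17],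
    [52, -244, -451, 426, -620, 393, -519, 359, 113, 8, -1, 38, 123, 25, 8, 9, -9, 3, 18, -7, -15, 23, 1, -17],
    [-81, 347, 650, -620, 894, -569, 748, -515, -161, -11, 4, -63, -167, -32, -12, -17, 8, -6, -27, 10, 18, -36, -6, 23],
    [50, -222, -411, 393, -569, 360, -474, 327, 103, 6, -2, 38, 108, 21, 8, 9, -7, 3, 17, -7, -13, 23, 4, -15],
    [-67, 291, 542, -519, 748, -474, 622, -427, -136, -7, 2, -52, -137, -27, -10, -13, 8, -6, -23, 9, 15, -29, -6, 19],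
    [47, -199, -373, 359, -515, 327, -427, 290, 94, 3, -1, 38, 88, 17, 7, 10, -4, 6, 16, -6, -8, 20, 6, -12],
    [16, -62, -118, 113, -161, 103, -136, 94, 28, 3, -2, 13, 29, 5, 2, 4, 0, 1, 5, -2, -2, 8, 1, -4],
    [0, -4, -7, 8, -11, 6, -7, 3, 3, -2, 1, 0, 0, 0, 0, 0, -1, 1, 1, 0, 0, -1, 1, 0],
    [1, 2, 3, -1, 4, -2, 2, -1, -2, 1, -2, 2, -1, 0, 0, 1, 1, 0, 0, 0, 0, 1, 0, 0],
    [1, -27, -44, 38, -63, 38, -52, 38, 13, 0, 2, -2, 20, 5, 2, -2, -5, -2, 1, -1, -5, 1, -2, -3],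
    [20, -60, -123, 123, -167, 108, -137, 88, 29, 0, -1, 20, 12, 2, 0, 7, 5, 6, 7, -1, 5, 7, 6, -1],
    [5, -12, -23, 25, -32, 21, -27, 17, 5, 0, 0, 5, 2, 0, 0, 2, 1, 2, 1, 0, 1, 2, 1, 0],
    [2, -4, -9, 8, -12, 8, -10, 7, 2, 0, 0, 2, 0, 0, 0, 0, 1, 0, 0, 0, 1, 1, 1, 0],
    [-1, -8, -12, 9, -17, 9, -13, 10, 4, 0, 1, -2, 7, 2, 0, -2, -2, -1, 0, -1, -2, 0, -1, -1],
    [-4, 1, 8, -9, 8, -7, 8, -4, 0, -1, 1, -5, 5, 1, 1, -2, -4, -2, -1, 0, -3, -1, -1, -1],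
    [-1, -4, -4, 3, -6, 3, -6, 6, 1, 1, 0, -2, 6, 2, 0, -1, -2, -2, 0, 0, -2, 0, -1, -1],
    [2, -11, -20, 18, -27, 17, -23, 16, 5, 1, 0, 1, 7, 1, 0, 0, -1, 0, 0, 0, -1, 1, 0, -1],
    [-1, 4, 8, -7, 10, -7, 9, -6, -2, 0, 0, -1, -1, 0, 0, -1, 0, 0, 0, 0, -1, -1, 0, 0],
    [-4, 5, 14, -15, 18, -13, 15, -8, -2, 0, 0, -5, 5, 1, 1, -2, -3, -2, -1, -1, -4, -1, -2, -1],
    [2, -14, -27, 23, -36, 23, -29, 20, 8, -1, 1, 1, 7, 2, 1, 0, -1, 0, 1, -1, -1, 0, 0, -1],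
    [-1, -3, -4, 1, -6, 4, -6, 6, 1, 1, 0, -2, 6, 1, 1, -1, -1, -1, 0, 0, -2, 0, -2, -1],
    [-3, 8, 17, -17, 23, -15, 19, -12, -4, 0, 0, -3, -1, 0, 0, -1, -1, -1, -1, 0, -1, -1, -1, 0]]

/-- The matrix of letter 1. -/
def mat1 : List (List ℤ) := [
    [1, 0, 0, 0, 0, 0, 0, 0, 0, 0, 0, 0, 0, 0, 0, 0, 0, 0, 0, 0, 0, 0, 0, 0],
    [-19, 9, 0, 9, 7, 0, 8, 7, 0, 11, 11, 6, 37, 13, 31, -6, 2, 38, 21, -9, 46, 9, 38, 15],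
    [-32, 12, -1, 16, 12, 0, 11, 12, 0, 17, 17, 10, 43, 6, 42, -7, 1, 45, 21, -13, 56, 7, 45, 12],
    [28, -12, 0, -14, -9, 0, -9, -10, 0, -15, -16, -7, -34, -4, -33, 5, -2, -37, -17, 12, -45, -7, -36, -1],
    [-46, 18, 0, 24, 16, 0, 17, 17, 0, 25, 25, 13, 65, 12, 62, -10, 4, 66, 31, -18, 83, 11, 66, 23],
    [28, -10, 0, -14, -10, -1, -10, -10, 0, -14, -14, -8, -38, -6, -36, 6, -2, -38, -18, 10, -48, -6, -38, -16],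
    [-38, 15, 0, 19, 14, 0, 14, 13, 0, 20, 19, 11, 63, 17, 56, -10, 4, 62, 32, -14, 78, 12, 63, 31],
    [27, -11, 0, -13, -10, 0, -11, -10, 0, -14, -13, -9, -49, -15, -42, 8, -2, -48, -26, 10, -60, -10, -49, -27],
    [10, -4, 0, -6, -4, 0, -4, -4, -1, -6, -6, -3, -14, -3, -14, 2, -1, -14, -6, 4, -18, -2, -14, -6],
    [0, 0, 0, 1, 0, 0, 0, 0, 0, 0, 1, -1, -3, -2, -1, 1, 1, -3, -3, 0, -3, -1, -3, -5],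
    [1, 0, 0, -1, -1, 0, -1, 0, 0, -1, -1, 0, -6, -4, -5, 1, -1, -5, -3, 0, -7, -1, -6, -6],
    [-1, 1, 0, 1, 1, 0, 1, 1, 0, 1, 1, 1, 5, 3, 4, -1, -1, 5, 3, -1, 6, 1, 5, 6],
    [13, -6, 0, -6, -7, 0, -6, -6, 0, -7, -6, -6, -35, -15, -28, 7, 0, -35, -21, 7, -42, -7, -36, -23],
    [2, -1, 0, -1, -1, 0, -1, -1, 0, -1, -1, -1, -5, -1, -4, 1, 0, -5, -3, 1, -6, -1, -5, -2],
    [1, 0, 0, -1, 0, 0, -1, 0, 0, 0, 0, 0, -2, 0, -2, 0, -1, 0, 0, -1, -1, 0, 0, -6],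
    [-1, 1, 0, 1, 0, 0, 1, 0, 0, 1, 1, 1, 3, 1, 2, -1, 0, 2, 1, 0, 3, 1, 2, 3],
    [-3, 2, 0, 2, 2, 0, 2, 2, 0, 2, 2, 1, 10, 5, 8, -2, 0, 10, 6, -2, 12, 2, 10, 8],
    [-1, 0, 0, 1, 1, 0, 1, 1, 0, 0, 0, 1, 4, 1, 3, -1, 0, 2, 2, 0, 4, 0, 3, 8],
    [1, 0, 0, -1, 0, 0, 0, 0, 0, -1, -1, 0, 3, 3, 1, -1, 0, 3, 2, 0, 3, 1, 3, 5],
    [0, 0, 0, 0, 0, 0, 0, 0, 0, 0, 0, 0, 0, -1, 0, 0, 0, 0, 0, -1, 0, 0, 0, -1],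
    [-2, 1, 0, 1, 1, 0, 1, 1, 0, 1, 1, 1, 5, 1, 4, -1, 0, 5, 3, -1, 5, 1, 5, 3],
    [1, -1, 0, 0, 0, 0, -1, 0, 0, 0, 0, 0, -6, -4, -3, 1, -1, -5, -4, 0, -6, -3, -5, -7],
    [-1, 1, 0, 0, 1, 0, 1, 0, 0, 1, 0, 1, 10, 7, 7, -2, 0, 10, 7, -1, 12, 3, 10, 7],
    [-2, 1, 0, 1, 1, 0, 1, 1, 0, 1, 1, 1, 5, 2, 4, -1, 0, 5, 3, -1, 6, 1, 5, 3]]

/-- Its product with the Gram matrix. -/
def matG1 : List (List ℤ) := [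
    [4, -33, -57, 52, -81, 50, -67, 47, 16, 0, 1, 1, 20, 5, 2, -1, -4, -1, 2, -1, -4, 2, -1, -3],
    [-33, 288, 475, -440, 683, -428, 570, -402, -134, -1, -6, -12, -161, -66, -12, 10, 38, 11, -14, 2, 32, -13, 12, 25],
    [-57, 475, 782, -728, 1130, -707, 946, -670, -220, -6, -10, -18, -271, -110, -20, 18, 63, 20, -27, 3, 56, -22, 22, 42],
    [52, -440, -728, 674, -1046, 655, -871, 614, 206, 1, 10, 19, 246, 99, 19, -15, -58, -16, 22, -4, -49, 20, -18, -38],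
    [-81, 683, 1130, -1046, 1626, -1018, 1358, -960, -319, -5, -15, -27, -387, -156, -29, 25, 90, 28, -37, 6, 78, -31, 30, 60],
    [50, -428, -707, 655, -1018, 634, -849, 601, 200, 4, 10, 15, 245, 96, 18, -17, -57, -18, 24, -5, -50, 20, -19, -38],
    [-67, 570, 946, -871, 1358, -849, 1130, -799, -269, -2, -15, -21, -322, -129, -25, 22, 75, 23, -30, 7, 64, -25, 25, 50],
    [47, -402, -670, 614, -960, 601, -799, 564, 191, 1, 12, 14, 226, 91, 18, -16, -52, -16, 21, -5, -44, 17, -18, -35],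
    [16, -134, -220, 206, -319, 200, -269, 191, 60, 3, 1, 6, 77, 31, 5, -5, -17, -6, 8, 0, -16, 7, -6, -12],
    [0, -1, -6, 1, -5, 4, -2, 1, 3, -2, 2, -1, 0, 0, 1, 0, 0, 0, -1, -1, 1, -1, 0, 0],
    [1, -6, -10, 10, -15, 10, -15, 12, 1, 2, -2, 1, 6, 2, 0, 0, 0, -1, 1, 0, -2, 1, -1, -1],
    [1, -12, -18, 19, -27, 15, -21, 14, 6, -1, 1, 0, 7, 1, 1, 0, -3, 0, 1, -1, -2, 1, 0, -1],
    [20, -161, -271, 246, -387, 245, -322, 226, 77, 0, 6, 7, 84, 39, 6, -6, -19, -6, 7, 0, -13, 6, -7, -13],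
    [5, -66, -110, 99, -156, 96, -129, 91, 31, 0, 2, 1, 39, 14, 3, -3, -9, -3, 3, -2, -8, 3, -3, -6],
    [2, -12, -20, 19, -29, 18, -25, 18, 5, 1, 0, 1, 6, 3, 0, -1, -1, -1, 1, 0, -1, 1, 0, -1],
    [-1, 10, 18, -15, 25, -17, 22, -16, -5, 0, 0, 0, -6, -3, -1, 0, 1, 1, -1, 0, 1, 0, 1, 1],
    [-4, 38, 63, -58, 90, -57, 75, -52, -17, 0, 0, -3, -19, -9, -1, 1, 4, 1, -1, 0, 3, -2, 1, 3],
    [-1, 11, 20, -16, 28, -18, 23, -16, -6, 0, -1, 0, -6, -3, -1, 1, 1, 0, 0, 0, 1, 0, 1, 1],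
    [2, -14, -27, 22, -37, 24, -30, 21, 8, -1, 1, 1, 7, 3, 1, -1, -1, 0, 0, 0, -1, 0, 0, -1],
    [-1, 2, 3, -4, 6, -5, 7, -5, 0, -1, 0, -1, 0, -2, 0, 0, 0, 0, 0, -2, 0, 0, 0, 0],
    [-4, 32, 56, -49, 78, -50, 64, -44, -16, 1, -2, -2, -13, -8, -1, 1, 3, 1, -1, 0, 0, -1, 1, 2],
    [2, -13, -22, 20, -31, 20, -25, 17, 7, -1, 1, 1, 6, 3, 1, 0, -2, 0, 0, 0, -1, 0, 0, -1],
    [-1, 12, 22, -18, 30, -19, 25, -18, -6, 0, -1, 0, -7, -3, 0, 1, 1, 1, 0, 0, 1, 0, 0, 1],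
    [-3, 25, 42, -38, 60, -38, 50, -35, -12, 0, -1, -1, -13, -6, -1, 1, 3, 1, -1, 0, 2, -1, 1, 2]]

/-- The matrix of letter 2. -/
def mat2 : List (List ℤ) := [
    [1, 0, 0, 0, 0, 0, 0, 0, 0, 0, 0, 0, 0, 0, 0, 0, 0, 0, 0, 0, 0, 0, 0, 0],
    [-18, 8, 0, -2, -2, 8, 7, -4, -3, 16, 6, 0, 23, 20, 12, -1, -9, 36, 21, -9, 31, 17, 38, -12],
    [-36, 13, 2, 1, 1, 16, 15, -2, -4, 29, 13, 2, 47, 37, 28, -4, -13, 66, 38, -17, 63, 26, 72, -5],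
    [30, -13, -1, 1, 2, -12, -11, 4, 3, -23, -10, -1, -35, -30, -18, 2, 12, -53, -31, 13, -47, -25, -56, 14],
    [-48, 18, 2, 0, -1, 20, 19, -5, -6, 39, 16, 1, 60, 49, 36, -4, -18, 88, 50, -22, 81, 36, 95, -15],
    [31, -11, -2, -1, -1, -13, -13, 2, 2, -24, -11, -1, -43, -35, -26, 3, 8, -59, -34, 13, -57, -24, -64, 5],
    [-40, 15, 2, 0, 0, 16, 16, -4, -3, 33, 15, 0, 54, 46, 32, -2, -11, 79, 45, -18, 73, 33, 85, -19],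
    [28, -11, -1, 0, 0, -11, -12, 2, 2, -24, -11, 0, -38, -33, -23, 1, 8, -57, -32, 13, -52, -24, -61, 17],
    [9, -3, 0, 0, 0, -5, -3, 1, 2, -8, -2, 0, -6, -4, -4, 1, 7, -12, -6, 5, -9, -4, -13, 2],
    [0, 0, 0, 0, 0, 1, 0, 0, -1, -1, -1, 0, -1, -2, -1, -1, -2, -2, -1, 0, -2, -1, -2, 6],
    [-1, 1, 1, 0, 0, 0, 1, 1, 2, 0, 1, 1, 4, 4, 1, 0, 2, 4, 3, 0, 5, 3, 4, -1],
    [1, 0, -1, 0, 0, 0, -1, 0, -1, 1, 0, -1, -7, -5, -3, 1, -3, -4, -4, -1, -7, -2, -5, -8],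
    [13, -6, 0, 0, 0, -6, -6, 0, 0, -13, -7, 0, -12, -12, -6, -1, 6, -25, -12, 7, -18, -12, -25, 19],
    [3, -2, 0, 0, 0, -1, -2, 1, 0, -3, -1, 0, -10, -9, -6, 1, 0, -11, -7, 1, -12, -5, -12, -3],
    [1, 0, 0, 0, 0, -1, -1, 0, 0, -1, 0, 1, -1, -1, -1, 0, 0, -2, -1, 0, -1, -1, -2, -1],
    [0, 0, 0, 0, 0, 0, 0, -1, -1, 1, 0, 0, 3, 2, 3, -1, 0, 3, 2, -1, 4, 0, 4, -1],
    [-1, 1, -1, -1, -1, 1, 0, -1, -1, 2, 0, -1, -4, -2, -3, 1, -4, 0, -1, -1, -4, 1, -1, -8],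
    [0, 0, -1, 0, 0, 0, 0, 0, 0, 1, 0, -1, -4, -2, -2, 1, -1, -2, -2, 0, -4, 0, -2, -6],
    [1, -1, 1, 0, 0, 0, 0, 0, 0, -1, 0, 0, 2, 1, 1, 0, 2, 0, 0, 0, 2, -1, 1, 2],
    [-1, 1, 0, 0, 0, 1, 1, 0, 0, 1, 0, 0, 3, 2, 1, -1, -1, 3, 2, -1, 3, 2, 3, 5],
    [-3, 2, 0, 0, 0, 1, 2, 0, 1, 3, 2, 0, 6, 6, 3, 0, 0, 9, 5, -1, 7, 5, 9, -3],
    [0, 0, 0, 1, 1, 0, 0, 1, 0, 0, 0, 1, 0, -1, 1, -1, -1, -1, -1, 0, 0, -2, -1, 5],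
    [-1, 1, 0, 0, 0, 1, 1, 0, 0, 2, 1, 0, 2, 2, 1, 0, -1, 4, 2, -1, 3, 2, 3, -2],
    [-2, 1, 0, 0, 0, 1, 1, 0, 0, 2, 1, 0, 2, 2, 1, 0, -1, 4, 2, -1, 3, 2, 4, -3]]

/-- Its product with the Gram matrix. -/
def matG2 : List (List ℤ) := [
    [4, -33, -57, 52, -81, 50, -67, 47, 16, 0, 1, 1, 20, 5, 2, -1, -4, -1, 2, -1, -4, 2, -1, -3],
    [-33, 68, 138, -118, 195, -141, 185, -137, -40, -4, -9, -9, -33, -16, -10, 3, -4, 1, -9, -9, -2, -3, 12, 4],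
    [-57, 138, 266, -233, 380, -265, 353, -260, -78, -8, -14, -14, -75, -30, -17, 6, -1, 2, -17, -14, 2, -7, 23, 10],
    [52, -118, -233, 200, -328, 234, -306, 226, 67, 7, 13, 14, 62, 26, 16, -4, 3, -2, 13, 12, 0, 6, -19, -8],
    [-81, 195, 380, -328, 538, -378, 501, -370, -110, -12, -21, -20, -107, -43, -24, 8, -2, 5, -23, -19, 2, -10, 32, 14],
    [50, -141, -265, 234, -378, 258, -346, 254, 76, 8, 12, 12, 81, 29, 15, -6, -3, -4, 16, 10, -6, 8, -20, -11],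
    [-67, 185, 353, -306, 501, -346, 460, -338, -102, -9, -18, -16, -105, -39, -22, 8, 3, 6, -20, -14, 6, -10, 27, 14],
    [47, -137, -260, 226, -370, 254, -338, 246, 76, 5, 14, 11, 76, 28, 16, -6, -3, -4, 15, 10, -4, 7, -19, -10],
    [16, -40, -78, 67, -110, 76, -102, 76, 22, 3, 4, 4, 22, 9, 4, -2, 1, -1, 5, 4, 0, 2, -7, -3],
    [0, -4, -8, 7, -12, 8, -9, 5, 3, -2, 1, 0, 1, 0, 1, 0, -1, 0, 0, 0, 0, 0, 1, 0],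
    [1, -9, -14, 13, -21, 12, -18, 14, 4, 1, 0, 0, 6, 2, 0, -1, -1, -1, 1, 0, -1, 1, -1, -1],
    [1, -9, -14, 14, -20, 12, -16, 11, 4, 0, 0, 0, 6, 1, 1, 0, -2, 0, 0, -1, -2, 1, 0, -1],
    [20, -33, -75, 62, -107, 81, -105, 76, 22, 1, 6, 6, 12, 8, 7, -1, 5, -1, 7, 7, 5, 1, -7, -1],
    [5, -16, -30, 26, -43, 29, -39, 28, 9, 0, 2, 1, 8, 2, 2, -1, 0, 0, 2, 1, 0, 1, -2, -1],
    [2, -10, -17, 16, -24, 15, -22, 16, 4, 1, 0, 1, 7, 2, 0, 0, -1, -1, 1, 0, -1, 1, -1, -1],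
    [-1, 3, 6, -4, 8, -6, 8, -6, -2, 0, -1, 0, -1, -1, 0, 0, 0, 0, 0, -1, -1, 0, 1, 0],
    [-4, -4, -1, 3, -2, -3, 3, -3, 1, -1, -1, -2, 5, 0, -1, 0, -4, 0, -1, -2, -3, 0, 1, -1],
    [-1, 1, 2, -2, 5, -4, 6, -4, -1, 0, -1, 0, -1, 0, -1, 0, 0, 0, -1, -1, 0, 0, 1, 0],
    [2, -9, -17, 13, -23, 16, -20, 15, 5, 0, 1, 0, 7, 2, 1, 0, -1, -1, 0, 0, -1, 0, -1, -1],
    [-1, -9, -14, 12, -19, 10, -14, 10, 4, 0, 0, -1, 7, 1, 0, -1, -2, -1, 0, -2, -2, 1, 0, -1],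
    [-4, -2, 2, 0, 2, -6, 6, -4, 0, 0, -1, -2, 5, 0, -1, -1, -3, 0, -1, -2, -4, 0, 1, -1],
    [2, -3, -7, 6, -10, 8, -10, 7, 2, 0, 1, 1, 1, 1, 1, 0, 0, 0, 0, 1, 0, 0, 0, 0],
    [-1, 12, 23, -19, 32, -20, 27, -19, -7, 1, -1, 0, -7, -2, -1, 1, 1, 1, -1, 0, 1, 0, 0, 1],
    [-3, 4, 10, -8, 14, -11, 14, -10, -3, 0, -1, -1, -1, -1, -1, 0, -1, 0, -1, -1, -1, 0, 1, 0]]

/-- The matrix of letter 3. -/
def mat3 : List (List ℤ) := [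
    [1, 0, 0, 0, 0, 0, 0, 0, 0, 0, 0, 0, 0, 0, 0, 0, 0, 0, 0, 0, 0, 0, 0, 0],
    [-17, 15, 8, 0, -1, -2, 7, -4, -1, 11, -1, 6, 95, 70, 56, -17, 2, 85, 50, -17, 114, 24, 97, 75],
    [-28, 25, 11, 0, -3, -3, 10, -6, -3, 18, -2, 10, 137, 100, 81, -27, -2, 122, 70, -27, 165, 33, 140, 114],
    [25, -21, -11, -1, 2, 3, -8, 6, 2, -16, 2, -7, -122, -90, -73, 23, -1, -109, -62, 24, -148, -29, -126, -95],
    [-40, 35, 18, 0, -4, -5, 14, -9, -3, 25, -3, 13, 204, 150, 121, -38, 2, 182, 105, -39, 246, 49, 209, 163],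
    [23, -20, -10, 0, 3, 3, -8, 6, 3, -14, 3, -8, -117, -85, -70, 23, 0, -102, -59, 22, -140, -26, -118, -100],
    [-31, 28, 14, 0, -4, -6, 11, -9, -4, 19, -4, 11, 170, 124, 102, -32, 3, 148, 87, -30, 203, 39, 171, 141],
    [23, -21, -10, 0, 2, 4, -9, 5, 2, -14, 2, -9, -126, -92, -75, 23, -2, -111, -66, 22, -150, -30, -127, -104],
    [9, -8, -4, 0, 1, 0, -4, 1, 0, -5, 0, -3, -42, -31, -24, 8, 0, -38, -22, 8, -51, -12, -43, -33],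
    [0, 0, 0, 0, 0, 1, 0, 0, 0, 0, 0, -1, -3, -2, -2, 0, -1, -2, -2, 0, -3, 0, -2, -3],
    [1, -1, -1, 0, 0, 0, -1, 0, 0, 0, -1, 0, -9, -7, -5, 1, -2, -8, -5, 1, -11, -3, -9, -5],
    [-1, 2, 1, 0, 0, 0, 1, 1, 0, 0, 1, 1, 8, 6, 4, -1, 0, 8, 5, -2, 10, 3, 8, 5],
    [12, -12, -6, 0, 1, 1, -6, 1, 1, -6, 0, -6, -68, -49, -38, 12, -1, -60, -36, 12, -80, -18, -67, -56],
    [3, -3, -1, 0, 0, 0, -2, 1, 0, -2, 0, -1, -19, -15, -11, 3, -1, -17, -11, 2, -22, -6, -19, -15],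
    [1, -1, -1, 0, 0, 0, -1, 0, 0, 0, 1, 0, -10, -7, -6, 2, -1, -8, -5, 1, -11, -2, -9, -13],
    [-2, 2, 1, 0, 1, 0, 1, 0, 1, 1, 1, 1, 14, 11, 8, -2, 2, 14, 9, -2, 17, 5, 15, 6],
    [-3, 3, 2, 0, 0, 0, 2, 0, 0, 1, 0, 1, 20, 15, 11, -3, 1, 18, 11, -3, 24, 6, 20, 15],
    [-1, 1, 0, 0, 0, 0, 1, 0, 0, 0, 0, 1, 6, 4, 3, -1, 0, 4, 4, 0, 6, 2, 5, 8],
    [1, -1, -1, 0, 0, 0, 0, 0, 0, -1, 0, 0, -5, -4, -3, 1, 0, -5, -3, 2, -7, -1, -6, -2],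
    [-1, 1, 0, 0, 0, 1, 1, 0, 0, 1, 0, 0, 3, 2, 1, -1, -1, 3, 2, -1, 3, 2, 3, 5],
    [-3, 3, 2, 0, 0, 0, 2, 0, 0, 1, 0, 1, 20, 15, 11, -3, 2, 18, 11, -3, 23, 6, 20, 15],
    [0, 0, 0, 0, 0, 1, 0, 1, 0, 0, 1, 0, -6, -4, -4, 1, -1, -4, -3, 0, -6, -1, -5, -8],
    [-1, 2, 1, 0, 0, 0, 1, 0, 0, 1, 0, 1, 11, 8, 6, -2, 0, 10, 6, -2, 13, 3, 10, 10],
    [-2, 2, 1, 0, 0, 0, 1, 0, 0, 1, 0, 1, 11, 8, 6, -2, 0, 10, 6, -2, 13, 3, 11, 9]]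

/-- Its product with the Gram matrix. -/
def matG3 : List (List ℤ) := [
    [4, -33, -57, 52, -81, 50, -67, 47, 16, 0, 1, 1, 20, 5, 2, -1, -4, -1, 2, -1, -4, 2, -1, -3],
    [-33, 84, 157, -144, 223, -161, 204, -147, -42, -4, -7, -11, -34, -17, -11, 0, -4, -6, -13, -9, 1, -3, 13, 5],
    [-57, 157, 274, -266, 397, -280, 361, -259, -73, -8, -8, -20, -66, -30, -17, -2, -2, -11, -24, -14, 5, -9, 23, 10],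
    [52, -144, -266, 244, -377, 267, -339, 243, 72, 5, 11, 18, 62, 27, 17, 1, 3, 9, 20, 12, -3, 6, -20, -9],
    [-81, 223, 397, -377, 568, -402, 515, -370, -105, -11, -13, -29, -94, -43, -24, -2, -4, -15, -32, -19, 6, -12, 32, 14],
    [50, -161, -280, 267, -402, 276, -359, 257, 75, 7, 8, 17, 73, 29, 15, 0, -2, 8, 21, 10, -7, 10, -20, -11],
    [-67, 204, 361, -339, 515, -359, 460, -329, -98, -7, -13, -23, -87, -38, -21, 0, 0, -12, -26, -14, 6, -11, 26, 13],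
    [47, -147, -259, 243, -370, 257, -329, 234, 71, 4, 10, 16, 60, 27, 15, -1, 0, 9, 18, 10, -3, 8, -18, -9],
    [16, -42, -73, 72, -105, 75, -98, 71, 18, 4, 1, 6, 20, 9, 4, 1, 1, 3, 7, 4, -3, 2, -7, -3],
    [0, -4, -8, 5, -11, 7, -7, 4, 4, -2, 2, -1, 0, 0, 1, -1, -1, 0, -1, 0, 1, 0, 1, 0],
    [1, -7, -8, 11, -13, 8, -13, 10, 1, 2, -2, 1, 6, 2, 0, 0, -1, 0, 1, 0, -3, 1, -1, -1],
    [1, -11, -20, 18, -29, 17, -23, 16, 6, -1, 1, 0, 7, 1, 1, 0, -2, -1, 1, -1, -1, 1, 0, -1],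
    [20, -34, -66, 62, -94, 73, -87, 60, 20, 0, 6, 7, 0, 7, 6, 0, 6, 7, 7, 7, 6, 0, -6, 0],
    [5, -17, -30, 27, -43, 29, -38, 27, 9, 0, 2, 1, 7, 2, 2, -1, 0, 1, 2, 1, 0, 1, -2, -1],
    [2, -11, -17, 17, -24, 15, -21, 15, 4, 1, 0, 1, 6, 2, 0, 0, -1, 0, 1, 0, -1, 1, -1, -1],
    [-1, 0, -2, 1, -2, 0, 0, -1, 1, -1, 0, 0, 0, -1, 0, 0, 0, 0, 0, -1, 0, 0, 1, 0],
    [-4, -4, -2, 3, -4, -2, 0, 0, 1, -1, -1, -2, 6, 0, -1, 0, -4, -2, -1, -2, -2, 1, 1, -1],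
    [-1, -6, -11, 9, -15, 8, -12, 9, 3, 0, 0, -1, 7, 1, 0, 0, -2, -2, 1, -1, -2, 0, 0, -1],
    [2, -13, -24, 20, -32, 21, -26, 18, 7, -1, 1, 1, 7, 2, 1, 0, -1, 1, 0, 0, -1, 0, -1, -1],
    [-1, -9, -14, 12, -19, 10, -14, 10, 4, 0, 0, -1, 7, 1, 0, -1, -2, -1, 0, -2, -2, 1, 0, -1],
    [-4, 1, 5, -3, 6, -7, 6, -3, -3, 1, -3, -1, 6, 0, -1, 0, -2, -2, -1, -2, -4, 1, 1, -1],
    [2, -3, -9, 6, -12, 10, -11, 8, 2, 0, 1, 1, 0, 1, 1, 0, 1, 0, 0, 1, 1, 0, 0, 0],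
    [-1, 13, 23, -20, 32, -20, 26, -18, -7, 1, -1, 0, -6, -2, -1, 1, 1, 0, -1, 0, 1, 0, 0, 1],
    [-3, 5, 10, -9, 14, -11, 13, -9, -3, 0, -1, -1, 0, -1, -1, 0, -1, -1, -1, -1, -1, 0, 1, 0]]

/-- The matrix of letter 4. -/
def mat4 : List (List ℤ) := [
    [1, 0, 0, 0, 0, 0, 0, 0, 0, 0, 0, 0, 0, 0, 0, 0, 0, 0, 0, 0, 0, 0, 0, 0],
    [-17, 14, 8, 5, -4, 10, 7, -3, -2, -1, -2, -3, 36, 23, 5, -13, -2, 21, 10, -7, 31, 15, 19, 81],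
    [-29, 24, 13, 6, -9, 15, 12, -4, -1, -1, -3, -4, 57, 37, 6, -18, -3, 35, 15, -11, 47, 28, 29, 132],
    [25, -20, -10, -6, 7, -13, -10, 5, 3, 2, 3, 5, -49, -33, -6, 16, 3, -29, -14, 8, -40, -24, -25, -115],
    [-40, 33, 18, 9, -12, 20, 17, -7, -3, -3, -5, -7, 88, 59, 15, -27, -2, 54, 26, -14, 75, 40, 48, 194],
    [26, -20, -12, -6, 6, -12, -11, 3, 0, 1, 3, 3, -60, -40, -14, 17, -1, -39, -19, 9, -54, -25, -36, -121],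
    [-33, 27, 15, 8, -8, 15, 14, -6, -2, -3, -5, -6, 85, 58, 21, -24, 2, 54, 28, -11, 76, 35, 51, 172],
    [24, -20, -11, -7, 5, -11, -11, 3, 1, 2, 3, 4, -62, -42, -16, 18, -2, -39, -20, 8, -56, -25, -37, -124],
    [8, -7, -4, -1, 3, -5, -3, 1, 0, 0, 1, 1, -13, -8, 1, 5, 3, -8, -3, 4, -10, -7, -6, -35],
    [0, 0, 0, -1, -1, 1, 0, 0, 0, 0, 0, 0, -5, -4, -4, 1, -2, -3, -2, 0, -6, 0, -4, -5],
    [0, 0, -1, 1, 1, 0, 0, 0, 0, 0, 0, 0, -2, -1, 0, 0, 0, -2, -1, 1, -2, 0, -2, -3],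
    [0, 1, 1, 0, 0, 0, 0, 1, 0, 0, 0, 0, 3, 2, 1, -1, -1, 3, 1, -2, 4, 0, 3, 5],
    [13, -12, -6, -6, 0, -6, -6, 0, 0, 0, 0, 0, -37, -24, -12, 12, 0, -24, -12, 6, -36, -12, -24, -66],
    [4, -3, -2, -2, 0, -2, -2, 0, -1, -1, 0, 0, -9, -6, -3, 3, -1, -6, -3, 1, -9, -3, -6, -14],
    [1, -1, -1, 0, 0, 0, -1, 0, 0, 0, 1, 0, -10, -7, -6, 2, -1, -8, -5, 1, -11, -2, -9, -13],
    [1, 0, 0, -1, -1, 0, 0, -1, -1, -1, -1, -1, 2, 2, 0, -1, 0, 1, 1, 0, 1, 1, 1, 6],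
    [-3, 3, 2, 2, 0, 2, 1, 0, 0, 0, 0, 0, 6, 3, 1, -3, -1, 3, 1, -2, 6, 1, 3, 12],
    [-1, 1, 1, 1, 0, 0, 1, 0, 1, 0, 0, 0, 6, 4, 3, -1, 2, 3, 2, 0, 6, 2, 4, 8],
    [1, -1, 0, 0, 0, 0, -1, 0, 0, 0, 0, 0, -6, -5, -3, 1, 0, -5, -4, 0, -6, -3, -5, -10],
    [-1, 1, 0, 0, 0, 1, 1, 0, 0, 1, 0, 0, 3, 2, 1, -1, -1, 3, 2, -1, 3, 2, 3, 5],
    [-3, 3, 1, 2, 1, 1, 2, 0, 0, 0, 0, 0, 14, 10, 7, -4, 1, 10, 6, -1, 14, 4, 11, 21],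
    [0, 0, 0, 0, 0, 0, 0, 1, 1, 1, 1, 1, -4, -3, -2, 1, -1, -2, -2, 0, -4, -1, -3, -6],
    [-2, 2, 1, 1, 1, 1, 1, 1, 0, 1, 0, 1, 8, 5, 4, -3, -1, 7, 4, -2, 10, 1, 7, 10],
    [-2, 2, 1, 1, 0, 1, 1, 0, 0, 0, 0, 0, 6, 4, 2, -2, 0, 4, 2, -1, 6, 2, 4, 10]]

/-- Its product with the Gram matrix. -/
def matG4 : List (List ℤ) := [
    [4, -33, -57, 52, -81, 50, -67, 47, 16, 0, 1, 1, 20, 5, 2, -1, -4, -1, 2, -1, -4, 2, -1, -3],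
    [-33, 46, 100, -95, 140, -105, 127, -91, -27, -3, 0, -19, -10, -5, -11, -8, -6, -5, -9, -9, -4, -2, 1, 3],
    [-57, 100, 202, -197, 285, -205, 254, -181, -54, -5, 0, -31, -29, -13, -17, -12, -6, -6, -19, -14, -4, -4, 1, 7],
    [52, -95, -197, 182, -275, 197, -244, 175, 54, 5, 2, 27, 33, 11, 17, 9, 6, 5, 15, 12, 3, 4, -2, -7],
    [-81, 140, 285, -275, 400, -289, 358, -256, -75, -9, 1, -45, -43, -17, -24, -17, -10, -9, -25, -19, -5, -7, 2, 10],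
    [50, -105, -205, 197, -289, 202, -254, 181, 55, 5, 1, 26, 39, 14, 15, 9, 2, 4, 17, 10, 0, 5, -2, -8],
    [-67, 127, 254, -244, 358, -254, 314, -223, -69, -5, -1, -37, -40, -15, -21, -13, -6, -8, -21, -14, -3, -6, 1, 9],
    [47, -91, -181, 175, -256, 181, -223, 156, 50, 2, 1, 27, 26, 10, 15, 10, 4, 7, 15, 10, 3, 4, 0, -6],
    [16, -27, -54, 54, -75, 55, -69, 50, 12, 3, -2, 10, 8, 4, 4, 4, 3, 2, 5, 4, 1, 2, -1, -2],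
    [0, -3, -5, 5, -9, 5, -5, 2, 3, -2, 1, 0, 0, -1, 1, 0, -1, 1, 0, 0, 0, 0, 1, 0],
    [1, 0, 0, 2, 1, 1, -1, 1, -2, 1, -2, 2, -1, 1, 0, 1, 1, 0, 0, 0, 0, 1, 0, 0],
    [1, -19, -31, 27, -45, 26, -37, 27, 10, 0, 2, -2, 14, 3, 1, -2, -4, -2, 1, -1, -3, 1, -1, -2],
    [20, -10, -29, 33, -43, 39, -40, 26, 8, 0, -1, 14, -14, -1, 6, 7, 8, 7, 6, 7, 8, 0, 1, 1],
    [5, -5, -13, 11, -17, 14, -15, 10, 4, -1, 1, 3, -1, 0, 2, 2, 1, 1, 1, 1, 2, 0, 0, 0],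
    [2, -11, -17, 17, -24, 15, -21, 15, 4, 1, 0, 1, 6, 2, 0, 0, -1, 0, 1, 0, -1, 1, -1, -1],
    [-1, -8, -12, 9, -17, 9, -13, 10, 4, 0, 1, -2, 7, 2, 0, -2, -2, -1, 0, -1, -2, 0, -1, -1],
    [-4, -6, -6, 6, -10, 2, -6, 4, 3, -1, 1, -4, 8, 1, -1, -2, -4, -2, 0, -2, -3, 0, 0, -1],
    [-1, -5, -6, 5, -9, 4, -8, 7, 2, 1, 0, -2, 7, 1, 0, -1, -2, -2, 0, -1, -2, 1, -1, -1],
    [2, -9, -19, 15, -25, 17, -21, 15, 5, 0, 0, 1, 6, 1, 1, 0, 0, 0, 0, 0, -1, 0, 0, -1],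
    [-1, -9, -14, 12, -19, 10, -14, 10, 4, 0, 0, -1, 7, 1, 0, -1, -2, -1, 0, -2, -2, 1, 0, -1],
    [-4, -4, -4, 3, -5, 0, -3, 3, 1, 0, 0, -3, 8, 2, -1, -2, -3, -2, -1, -2, -4, 0, 0, -1],
    [2, -2, -4, 4, -7, 5, -6, 4, 2, 0, 1, 1, 0, 0, 1, 0, 0, 1, 0, 1, 0, 0, 0, 0],
    [-1, 1, 1, -2, 2, -2, 1, 0, -1, 1, 0, -1, 1, 0, -1, -1, 0, -1, 0, 0, 0, 0, 0, 0],
    [-3, 3, 7, -7, 10, -8, 9, -6, -2, 0, 0, -2, 1, 0, -1, -1, -1, -1, -1, -1, -1, 0, 0, 0]]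

/-- The matrix of letter 5. -/
def mat5 : List (List ℤ) := [
    [1, 0, 0, 0, 0, 0, 0, 0, 0, 0, 0, 0, 0, 0, 0, 0, 0, 0, 0, 0, 0, 0, 0, 0],
    [-2, -1, 0, -9, -1, 2, 0, -1, -9, -9, -27, -3, 36, 22, 20, -16, -18, 29, 21, -8, 35, -1, 27, 120],
    [-2, -3, -1, -17, -1, 2, -2, -2, -17, -17, -44, -7, 61, 39, 35, -26, -28, 51, 37, -15, 60, -1, 50, 196],
    [3, 2, 0, 13, 2, -3, 2, 2, 14, 14, 39, 7, -42, -26, -23, 21, 26, -34, -24, 12, -40, 4, -31, -160],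
    [-4, -3, 0, -23, -3, 4, -2, -3, -23, -23, -62, -10, 82, 52, 46, -36, -40, 68, 49, -20, 80, -2, 65, 271],
    [5, 1, -1, 13, 0, -3, 0, 1, 13, 13, 35, 5, -60, -39, -34, 23, 21, -51, -36, 13, -61, -2, -51, -166],
    [-6, 0, 1, -18, 0, 5, 0, -1, -18, -18, -49, -7, 80, 52, 44, -32, -32, 70, 49, -18, 81, 3, 67, 226],
    [4, 0, 0, 13, 0, -3, -1, 0, 13, 13, 35, 4, -59, -38, -33, 23, 23, -51, -37, 12, -59, -3, -49, -166],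
    [0, 1, 0, 5, 1, 0, 1, 1, 4, 5, 13, 2, -16, -10, -9, 7, 8, -12, -9, 4, -15, 1, -12, -58],
    [1, -1, 0, 0, -1, -1, -1, -1, 0, -1, -1, -1, -4, -3, -2, 1, 1, -6, -4, 1, -5, -2, -5, 0],
    [0, 0, 0, 0, 0, 0, 0, 0, 0, 0, 1, 0, -1, 0, -1, 1, 1, 0, 0, 0, -1, 1, 0, -7],
    [0, 1, 0, 0, 0, 0, 0, 1, 0, 0, -1, 1, 0, -1, 0, -1, -3, 0, 0, -1, 0, -1, -1, 7],
    [1, 0, 0, 6, -1, -1, 0, -1, 6, 6, 19, 0, -30, -17, -18, 13, 14, -25, -18, 7, -30, 1, -24, -89],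
    [1, 0, 0, 1, -1, 0, -1, 0, 1, 1, 4, 0, -14, -10, -9, 4, 1, -12, -9, 1, -15, -2, -13, -25],
    [1, -1, -1, 0, 0, 0, -1, 0, 0, 0, 1, 0, -10, -7, -6, 2, -1, -8, -5, 1, -11, -2, -9, -13],
    [1, 0, -1, -1, -1, 0, 0, -1, -1, -1, -2, 0, -1, -1, -1, -1, -2, -2, 0, 1, -3, 0, -3, 8],
    [0, 0, 0, -1, 0, 0, 0, 0, -1, -1, -5, 0, 6, 3, 4, -3, -4, 4, 3, -1, 6, -1, 4, 22],
    [-1, 1, 0, 0, 1, 1, 1, 1, 0, 0, -1, 1, 5, 3, 3, -2, -2, 5, 4, -1, 6, 1, 5, 7],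
    [1, -1, -1, 0, 0, -1, 0, -1, 0, 0, 1, 0, 0, 0, 1, 1, 2, -1, 0, 2, -1, 1, 0, -2],
    [0, 0, 0, 0, 0, 0, 0, 0, 0, 0, -2, 0, 1, 0, 1, -1, -1, 0, 0, -1, 1, -1, 0, 7],
    [0, 0, 0, -1, 0, 0, 0, 0, -1, -1, -5, 0, 6, 3, 4, -3, -3, 4, 3, -1, 5, -1, 4, 22],
    [1, -1, 0, 0, 0, -1, -1, 0, 0, 0, 1, 0, -3, -2, -1, 1, 1, -3, -2, 0, -3, -2, -2, -5],
    [-1, 1, 1, 0, 1, 0, 1, 1, 0, 0, -1, 1, 12, 8, 7, -3, 0, 11, 7, -2, 14, 2, 11, 15],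
    [0, 0, 0, -1, 0, 0, 0, 0, -1, -1, -3, 0, 5, 3, 3, -2, -2, 4, 3, -1, 5, 0, 4, 14]]

/-- Its product with the Gram matrix. -/
def matG5 : List (List ℤ) := [
    [4, -33, -57, 52, -81, 50, -67, 47, 16, 0, 1, 1, 20, 5, 2, -1, -4, -1, 2, -1, -4, 2, -1, -3],
    [-33, 188, 338, -298, 475, -296, 406, -293, -91, -14, -15, -3, -130, -28, -11, 8, 19, 12, -12, -1, 24, -12, 9, 20],
    [-57, 338, 590, -533, 837, -517, 714, -515, -159, -26, -22, -6, -233, -51, -17, 13, 38, 19, -22, -2, 45, -23, 18, 36],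
    [52, -298, -533, 472, -750, 466, -638, 459, 145, 20, 23, 6, 203, 43, 17, -12, -31, -17, 19, 1, -37, 19, -14, -31],
    [-81, 475, 837, -750, 1180, -731, 1006, -725, -225, -35, -32, -10, -325, -71, -24, 18, 51, 27, -30, -1, 61, -32, 24, 50],
    [50, -296, -517, 466, -731, 452, -622, 448, 140, 21, 19, 6, 201, 45, 15, -11, -33, -16, 19, 0, -38, 20, -16, -31],
    [-67, 406, 714, -638, 1006, -622, 854, -614, -194, -27, -28, -8, -273, -61, -21, 16, 44, 23, -25, 1, 50, -27, 20, 42],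
    [47, -293, -515, 459, -725, 448, -614, 440, 141, 18, 21, 5, 195, 44, 15, -12, -32, -16, 17, -1, -35, 19, -14, -30],
    [16, -91, -159, 145, -225, 140, -194, 141, 40, 9, 4, 3, 64, 14, 4, -3, -9, -5, 6, 1, -13, 7, -5, -10],
    [0, -14, -26, 20, -35, 21, -27, 18, 9, -2, 2, -1, 7, 2, 1, -1, -2, -1, 0, -1, 0, 0, 0, -1],
    [1, -15, -22, 23, -32, 19, -28, 21, 4, 2, -2, 1, 12, 3, 0, 0, -2, -1, 1, -1, -4, 2, -1, -2],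
    [1, -3, -6, 6, -10, 6, -8, 5, 3, -1, 1, 0, 1, 0, 1, 0, -1, 0, 1, 0, 0, 0, 0, 0],
    [20, -130, -233, 203, -325, 201, -273, 195, 64, 7, 12, 1, 84, 20, 6, -6, -13, -7, 7, 0, -13, 7, -6, -13],
    [5, -28, -51, 43, -71, 45, -61, 44, 14, 2, 3, 0, 20, 4, 2, -1, -3, -2, 1, 0, -3, 2, -2, -3],
    [2, -11, -17, 17, -24, 15, -21, 15, 4, 1, 0, 1, 6, 2, 0, 0, -1, 0, 1, 0, -1, 1, -1, -1],
    [-1, 8, 13, -12, 18, -11, 16, -12, -3, -1, 0, 0, -6, -1, 0, 0, 1, 1, 0, 0, 1, -1, 0, 1],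
    [-4, 19, 38, -31, 51, -33, 44, -32, -9, -2, -2, -1, -13, -3, -1, 1, 0, 1, -1, 0, 2, -1, 1, 2],
    [-1, 12, 19, -17, 27, -16, 23, -16, -5, -1, -1, 0, -7, -2, 0, 1, 1, 0, 0, 0, 1, -1, 1, 1],
    [2, -12, -22, 19, -30, 19, -25, 17, 6, 0, 1, 1, 7, 1, 1, 0, -1, 0, 0, 0, -1, 1, 0, -1],
    [-1, -1, -2, 1, -1, 0, 1, -1, 1, -1, -1, 0, 0, 0, 0, 0, 0, 0, 0, -2, 0, 0, 0, 0],
    [-4, 24, 45, -37, 61, -38, 50, -35, -13, 0, -4, 0, -13, -3, -1, 1, 2, 1, -1, 0, 0, -1, 1, 2],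
    [2, -12, -23, 19, -32, 20, -27, 19, 7, 0, 2, 0, 7, 2, 1, -1, -1, -1, 1, 0, -1, 0, 0, -1],
    [-1, 9, 18, -14, 24, -16, 20, -14, -5, 0, -1, 0, -6, -2, -1, 0, 1, 1, 0, 0, 1, 0, 0, 1],
    [-3, 20, 36, -31, 50, -31, 42, -30, -10, -1, -2, 0, -13, -3, -1, 1, 2, 1, -1, 0, 2, -1, 1, 2]]

/-- The matrix of letter 6. -/
def mat6 : List (List ℤ) := [
    [1, 0, 0, 0, 0, 0, 0, 0, 0, 0, 0, 0, 0, 0, 0, 0, 0, 0, 0, 0, 0, 0, 0, 0],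
    [-24, 11, 5, 1, 10, 11, 2, 1, 11, 2, 1, 3, 39, 32, 12, -13, 3, 45, 30, -5, 55, 20, 48, -23],
    [-40, 16, 7, 4, 16, 16, 3, 3, 16, 2, 1, 3, 53, 43, 18, -19, 6, 61, 40, -7, 77, 26, 66, -36],
    [36, -15, -7, -1, -15, -15, -2, -2, -15, -4, -1, -5, -57, -46, -20, 19, -3, -67, -44, 9, -81, -26, -72, 30],
    [-58, 23, 11, 5, 24, 24, 5, 4, 24, 4, 2, 6, 86, 69, 30, -29, 9, 97, 64, -10, 121, 40, 105, -42],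
    [34, -13, -6, -3, -13, -14, -3, -2, -13, -2, 0, -2, -46, -37, -16, 16, -5, -52, -34, 5, -65, -22, -56, 23],
    [-47, 19, 9, 4, 19, 19, 4, 3, 19, 4, 0, 4, 72, 57, 26, -24, 7, 80, 52, -8, 100, 32, 86, -26],
    [32, -13, -5, -2, -13, -13, -3, -2, -13, -2, 0, -2, -48, -39, -16, 16, -5, -54, -36, 4, -66, -24, -58, 20],
    [12, -5, -2, -2, -5, -5, -1, -1, -6, 0, -1, -1, -13, -11, -3, 5, -2, -15, -10, 1, -19, -8, -16, 12],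
    [0, 0, 0, 0, 0, 0, 0, 0, 0, -1, 0, 0, 0, 0, 0, 0, 0, 0, 0, 0, 0, 0, 0, 0],
    [2, -1, -1, -2, -1, -1, -1, -1, -1, 0, -1, 0, -2, -1, -1, 1, -1, -1, 0, 0, -3, 0, -1, -1],
    [-1, 1, 0, 1, 1, 1, 0, 1, 1, 0, 1, 0, -3, -2, -3, 0, -1, -2, -2, 0, -3, 0, -3, -4],
    [14, -7, -1, -1, -7, -7, 0, -1, -7, 0, 0, 0, -13, -12, 0, 7, 0, -19, -12, 1, -20, -12, -19, 24],
    [2, -1, 0, 1, -1, -1, 0, 1, -1, 0, 1, 1, -7, -7, -3, 2, -1, -8, -6, 0, -9, -4, -9, 2],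
    [2, -1, 0, -1, -1, -1, -1, 0, -1, 0, 0, 0, -4, -3, -2, 1, -1, -3, -2, -1, -4, -2, -3, -4],
    [-2, 1, 1, 1, 1, 1, 1, 0, 1, 0, 1, 1, 7, 5, 3, -2, 2, 5, 4, 0, 8, 2, 6, 3],
    [-3, 2, 0, 0, 2, 2, 0, 0, 2, 0, 0, 0, 4, 4, 0, -2, -1, 6, 4, 0, 6, 4, 6, -6],
    [0, 0, -1, 0, 0, 0, 0, 0, 0, 0, -1, -1, -3, -2, -2, 0, -1, -3, -2, 1, -4, 0, -3, 1],
    [2, -1, 0, 0, -1, -1, 0, -1, -1, -1, 0, -1, 0, 0, 1, 1, 2, -2, -1, 1, -1, 0, -1, 1],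
    [-1, 1, 0, 0, 1, 1, 0, 0, 1, 0, 0, 0, 2, 2, 0, -1, 0, 3, 2, -1, 3, 2, 3, -3],
    [-3, 2, 0, 0, 2, 2, 0, 0, 2, 0, 0, 0, 4, 4, 0, -2, 0, 6, 4, 0, 5, 4, 6, -6],
    [2, -1, -1, 0, -1, -1, -1, 0, -1, -1, 0, -1, -10, -7, -5, 2, -1, -9, -6, 1, -12, -3, -10, -6],
    [-1, 1, 0, 0, 1, 1, 0, 0, 1, 0, 0, 0, 2, 2, 0, -1, 0, 3, 2, 0, 3, 2, 2, -3],
    [-2, 1, 0, 0, 1, 1, 0, 0, 1, 0, 0, 0, 2, 2, 0, -1, 0, 3, 2, 0, 3, 2, 3, -4]]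

/-- Its product with the Gram matrix. -/
def matG6 : List (List ℤ) := [
    [4, -33, -57, 52, -81, 50, -67, 47, 16, 0, 1, 1, 20, 5, 2, -1, -4, -1, 2, -1, -4, 2, -1, -3],
    [-33, -60, -105, 55, -128, 60, -95, 73, 37, -6, 2, -28, 69, 8, -2, -16, -20, -16, -1, -8, -15, -5, -4, -12],
    [-57, -105, -188, 100, -228, 109, -168, 128, 65, -13, 4, -47, 115, 14, -1, -27, -32, -26, -1, -16, -25, -9, -7, -20],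
    [52, 55, 100, -32, 111, -41, 75, -60, -39, 10, -2, 40, -78, -6, 4, 22, 24, 21, 3, 11, 18, 10, 3, 14],
    [-81, -128, -228, 111, -272, 124, -198, 152, 81, -17, 5, -65, 149, 17, -4, -37, -43, -35, -3, -19, -33, -14, -8, -26],
    [50, 60, 109, -41, 124, -52, 87, -69, -40, 10, -2, 39, -79, -8, 2, 21, 23, 20, 3, 11, 18, 9, 5, 14],
    [-67, -95, -168, 75, -198, 87, -146, 115, 59, -10, 2, -54, 121, 13, -4, -30, -34, -29, -3, -14, -28, -11, -8, -21],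
    [47, 73, 128, -60, 152, -69, 115, -92, -43, 5, -1, 39, -93, -11, 3, 22, 25, 22, 2, 10, 22, 7, 7, 16],
    [16, 37, 65, -39, 81, -40, 59, -43, -24, 6, -3, 14, -35, -5, 0, 8, 11, 7, 0, 5, 7, 3, 2, 6],
    [0, -6, -13, 10, -17, 10, -10, 5, 6, -4, 2, 0, 0, 0, 1, 0, -1, 1, 0, -1, 1, -1, 1, 0],
    [1, 2, 4, -2, 5, -2, 2, -1, -3, 2, -2, 2, 0, 0, 0, 1, 1, 0, 0, 0, -1, 1, 0, 0],
    [1, -28, -47, 40, -65, 39, -54, 39, 14, 0, 2, -2, 20, 5, 1, -2, -5, -2, 1, -1, -4, 1, -2, -3],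
    [20, 69, 115, -78, 149, -79, 121, -93, -35, 0, 0, 20, -72, -11, 0, 13, 18, 13, 0, 6, 18, 0, 6, 12],
    [5, 8, 14, -6, 17, -8, 13, -11, -5, 0, 0, 5, -11, -2, 0, 3, 3, 3, 0, 1, 3, 1, 1, 2],
    [2, -2, -1, 4, -4, 2, -4, 3, 0, 1, 0, 1, 0, 0, 0, 0, 0, 0, 1, 0, 0, 1, 0, 0],
    [-1, -16, -27, 22, -37, 21, -30, 22, 8, 0, 1, -2, 13, 3, 0, -2, -3, -2, 1, -1, -3, 0, -1, -2],
    [-4, -20, -32, 24, -43, 23, -34, 25, 11, -1, 1, -5, 18, 3, 0, -3, -6, -3, 0, -1, -4, 0, -1, -3],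
    [-1, -16, -26, 21, -35, 20, -29, 22, 7, 1, 0, -2, 13, 3, 0, -2, -3, -2, 0, -1, -3, 1, -1, -2],
    [2, -1, -1, 3, -3, 3, -3, 2, 0, 0, 0, 1, 0, 0, 1, 1, 0, 0, 0, 0, 0, 1, 0, 0],
    [-1, -8, -16, 11, -19, 11, -14, 10, 5, -1, 0, -1, 6, 1, 0, -1, -1, -1, 0, -2, -1, 0, 0, -1],
    [-4, -15, -25, 18, -33, 18, -28, 22, 7, 1, -1, -4, 18, 3, 0, -3, -4, -3, 0, -1, -6, 0, -1, -3],
    [2, -5, -9, 10, -14, 9, -11, 7, 3, -1, 1, 1, 0, 1, 1, 0, 0, 1, 1, 0, 0, 0, 0, 0],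
    [-1, -4, -7, 3, -8, 5, -8, 7, 2, 1, 0, -2, 6, 1, 0, -1, -1, -1, 0, 0, -1, 0, -2, -1],
    [-3, -12, -20, 14, -26, 14, -21, 16, 6, 0, 0, -3, 12, 2, 0, -2, -3, -2, 0, -1, -3, 0, -1, -2]]

/-- The matrix of letter 7. -/
def mat7 : List (List ℤ) := [
    [1, 0, 0, 0, 0, 0, 0, 0, 0, 0, 0, 0, 0, 0, 0, 0, 0, 0, 0, 0, 0, 0, 0, 0],
    [-20, 9, -1, -3, 7, 0, 10, -1, 11, 19, -1, 11, 82, 65, 52, -8, -1, 82, 58, -7, 99, 31, 91, 52],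
    [-31, 13, -6, -5, 11, -3, 15, -1, 17, 30, -4, 15, 118, 96, 79, -9, -4, 120, 86, -9, 142, 48, 133, 85],
    [31, -14, 2, 4, -11, -1, -14, 0, -16, -27, 2, -17, -113, -90, -71, 12, 5, -115, -82, 11, -138, -43, -126, -72],
    [-47, 20, -5, -6, 18, -1, 23, 0, 25, 44, -5, 24, 183, 146, 120, -18, -6, 185, 131, -16, 222, 69, 204, 129],
    [27, -11, 4, 4, -10, 1, -13, 1, -14, -25, 4, -12, -104, -84, -69, 9, 3, -105, -75, 8, -125, -41, -116, -77],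
    [-39, 17, -4, -4, 16, 0, 19, -1, 19, 36, -4, 19, 157, 124, 103, -17, -4, 157, 111, -13, 190, 58, 173, 111],
    [28, -13, 2, 2, -12, 0, -14, 0, -13, -26, 2, -13, -117, -92, -77, 13, 2, -117, -81, 11, -142, -42, -129, -81],
    [9, -3, 2, 1, -3, 1, -5, 0, -6, -9, 1, -5, -31, -25, -22, 2, 1, -31, -23, 1, -37, -13, -35, -23],
    [1, -1, -1, -1, -1, -1, 0, 0, 1, -1, -1, 0, -5, -3, -3, 2, 0, -5, -2, 2, -7, 0, -5, -1],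
    [0, 1, 1, 0, 0, 1, -1, 0, -1, -1, 0, 0, -1, -1, -2, -1, -1, 0, -1, -2, 0, -1, -1, -5],
    [-1, 0, 0, 1, 1, 0, 1, 1, 1, 2, 1, 1, 2, 1, 3, 0, 0, 2, 1, 0, 3, 0, 3, 0],
    [13, -6, 1, 0, -6, 0, -7, 0, -6, -13, 0, -7, -55, -42, -37, 6, 1, -54, -37, 5, -66, -19, -60, -36],
    [3, -2, 0, 0, -1, 0, -2, 1, -1, -3, 0, -1, -17, -14, -11, 2, -1, -16, -11, 1, -20, -6, -18, -11],
    [1, 0, 0, 0, -1, 0, -1, 0, -1, -1, 1, 0, -8, -6, -6, 1, -1, -7, -5, 0, -9, -2, -8, -9],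
    [-1, 1, 0, 0, 1, 0, 1, 0, 1, 2, 0, 1, 9, 7, 6, -2, 0, 9, 6, -1, 11, 3, 10, 6],
    [-3, 1, 0, 0, 1, 0, 2, 0, 2, 3, 0, 2, 12, 9, 8, -1, 0, 11, 8, 0, 14, 4, 13, 8],
    [-1, 0, 0, 1, 1, 0, 1, 0, 0, 1, 0, 0, 6, 4, 5, -1, 1, 4, 3, 0, 7, 1, 6, 6],
    [3, -1, -1, -1, -2, -1, -1, -1, -1, -2, -1, -2, -9, -6, -6, 2, 0, -9, -6, 2, -12, -1, -10, -4],
    [-1, 0, 0, 0, 0, 0, 1, 0, 1, 1, 0, 1, 3, 2, 2, 0, 1, 2, 2, 0, 3, 1, 3, 2],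
    [-3, 2, 0, 0, 2, 1, 2, 0, 1, 3, 0, 2, 16, 12, 10, -3, -1, 16, 11, -2, 19, 5, 17, 10],
    [2, -1, -1, 0, -1, -1, -1, 0, -1, -1, 0, -1, -10, -7, -5, 2, -1, -9, -6, 1, -12, -3, -10, -6],
    [-2, 1, 1, 1, 1, 0, 1, 0, 1, 2, 1, 1, 10, 7, 7, -1, 2, 9, 5, -1, 12, 2, 10, 5],
    [-2, 1, 0, 0, 1, 0, 1, 0, 1, 2, 0, 1, 9, 7, 6, -1, 0, 9, 6, -1, 11, 3, 10, 5]]

/-- Its product with the Gram matrix. -/
def matG7 : List (List ℤ) := [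
    [4, -33, -57, 52, -81, 50, -67, 47, 16, 0, 1, 1, 20, 5, 2, -1, -4, -1, 2, -1, -4, 2, -1, -3],
    [-33, 136, 255, -231, 372, -243, 315, -219, -72, 6, -18, -7, -60, -20, -14, 12, 2, -5, -12, -6, 6, -5, 5, 8],
    [-57, 255, 470, -426, 688, -445, 581, -405, -134, 9, -32, -10, -124, -37, -24, 22, 10, -6, -21, -11, 16, -9, 9, 17],
    [52, -231, -426, 386, -621, 402, -524, 365, 121, -8, 28, 10, 110, 33, 23, -19, -8, 6, 18, 8, -14, 10, -8, -15],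
    [-81, 372, 688, -621, 1002, -647, 845, -589, -195, 13, -45, -15, -182, -54, -35, 31, 14, -8, -30, -13, 24, -14, 13, 25],
    [50, -243, -445, 402, -647, 414, -543, 379, 127, -8, 28, 9, 122, 35, 21, -20, -12, 4, 19, 7, -17, 9, -8, -17],
    [-67, 315, 581, -524, 845, -543, 708, -493, -167, 13, -38, -13, -152, -46, -29, 26, 13, -7, -25, -9, 20, -11, 10, 21],
    [47, -219, -405, 365, -589, 379, -493, 342, 117, -10, 27, 10, 102, 32, 20, -18, -8, 6, 18, 7, -12, 7, -7, -14],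
    [16, -72, -134, 121, -195, 127, -167, 117, 36, -1, 8, 3, 37, 11, 6, -6, -2, 1, 6, 3, -5, 3, -3, -5],
    [0, 6, 9, -8, 13, -8, 13, -10, -1, -2, 0, 1, -7, -1, 0, 1, 1, 1, 0, 0, 2, -1, 1, 1],
    [1, -18, -32, 28, -45, 28, -38, 27, 8, 0, 0, 0, 13, 3, 1, -1, -2, -1, 1, -1, -3, 1, -1, -2],
    [1, -7, -10, 10, -15, 9, -13, 10, 3, 1, 0, 0, 6, 1, 1, 0, -2, -1, 0, 0, -2, 1, 0, -1],
    [20, -60, -124, 110, -182, 122, -152, 102, 37, -7, 13, 6, 12, 8, 7, -7, 5, 6, 7, 6, 5, 0, 0, -1],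
    [5, -20, -37, 33, -54, 35, -46, 32, 11, -1, 3, 1, 8, 2, 2, -2, 0, 1, 2, 1, 0, 1, -1, -1],
    [2, -14, -24, 23, -35, 21, -29, 20, 6, 0, 1, 1, 7, 2, 0, -1, -1, 0, 1, 0, -1, 1, 0, -1],
    [-1, 12, 22, -19, 31, -20, 26, -18, -6, 1, -1, 0, -7, -2, -1, 0, 1, 0, -1, 0, 1, 0, 1, 1],
    [-4, 2, 10, -8, 14, -12, 13, -8, -2, 1, -2, -2, 5, 0, -1, 1, -4, -2, -1, -1, -3, 0, 0, -1],
    [-1, -5, -6, 6, -8, 4, -7, 6, 1, 1, -1, -1, 6, 1, 0, 0, -2, -2, 0, -1, -2, 1, 0, -1],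
    [2, -12, -21, 18, -30, 19, -25, 18, 6, 0, 1, 0, 7, 2, 1, -1, -1, 0, 0, 0, -1, 1, -1, -1],
    [-1, -6, -11, 8, -13, 7, -9, 7, 3, 0, -1, 0, 6, 1, 0, 0, -1, -1, 0, -2, -2, 0, 0, -1],
    [-4, 6, 16, -14, 24, -17, 20, -12, -5, 2, -3, -2, 5, 0, -1, 1, -3, -2, -1, -2, -4, 0, -1, -1],
    [2, -5, -9, 10, -14, 9, -11, 7, 3, -1, 1, 1, 0, 1, 1, 0, 0, 1, 1, 0, 0, 0, 0, 0],
    [-1, 5, 9, -8, 13, -8, 10, -7, -3, 1, -1, 0, 0, -1, 0, 1, 0, 0, -1, 0, -1, 0, 0, 0],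
    [-3, 8, 17, -15, 25, -17, 21, -14, -5, 1, -2, -1, -1, -1, -1, 1, -1, -1, -1, -1, -1, 0, 0, 0]]

/-- The matrix of letter 8. -/
def mat8 : List (List ℤ) := [
    [1, 0, 0, 0, 0, 0, 0, 0, 0, 0, 0, 0, 0, 0, 0, 0, 0, 0, 0, 0, 0, 0, 0, 0],
    [0, 1, -1, -1, 0, -2, 0, 0, -1, -2, -9, 3, 6, 4, 4, -12, 0, 5, 6, 0, 15, -6, 5, -9],
    [-2, 2, -1, -2, 1, -2, 0, 1, -1, -1, -15, 7, 10, 7, 6, -20, -4, 12, 12, -2, 28, -12, 11, -24],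
    [2, -1, 2, 2, -1, 3, -1, -1, 1, 2, 12, -7, -13, -8, -9, 18, 1, -12, -13, 0, -27, 8, -12, 11],
    [-3, 2, -3, -2, 2, -3, 1, 2, -2, -2, -20, 10, 12, 7, 8, -28, -5, 13, 15, -1, 35, -16, 12, -28],
    [1, -1, 2, 2, 0, 2, 0, -1, 2, 1, 12, -5, -2, -1, -1, 15, 5, -4, -6, 1, -15, 11, -3, 21],
    [-2, 1, -2, -2, 1, -2, 1, 2, -2, -1, -16, 7, 7, 4, 5, -22, -5, 9, 10, -2, 26, -14, 9, -25],
    [1, 0, 1, 1, 0, 1, 0, -1, 2, 1, 12, -4, 1, 2, 0, 15, 4, 0, -2, 1, -12, 13, 0, 21],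
    [1, -1, 0, 0, -1, 1, 0, 0, 0, 0, 4, -2, -8, -6, -5, 6, -1, -8, -6, 1, -14, 2, -8, 5],
    [0, 0, 0, 0, 0, -1, 0, 0, 0, 0, 0, 1, 3, 2, 2, 0, 1, 2, 2, 0, 3, 0, 2, 3],
    [0, 0, 0, 0, 0, 0, 0, 0, 0, 0, 1, 0, 0, 0, 0, 0, 0, 0, 0, 0, 0, 0, 0, 0],
    [1, -1, 0, 0, 0, 0, 0, -1, 0, 0, -1, -1, 1, 1, 1, 0, 2, 0, 0, 1, 1, 0, 1, 0],
    [0, 0, 0, 0, 0, 0, 0, 0, 0, 0, 6, 0, 1, 0, 0, 6, 0, 0, 0, 0, -6, 6, 0, 12],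
    [-1, 0, 0, 1, 1, 0, 1, 0, 1, 1, 2, 0, 5, 4, 4, 1, 2, 4, 3, 1, 4, 3, 5, 6],
    [0, 0, 0, 0, 0, 0, 0, 0, 0, 0, 0, 0, 0, 0, 1, 0, 0, 0, 0, 0, 0, 0, 0, 0],
    [0, 0, 0, 0, 0, 0, 0, 0, 0, 0, -1, 0, 0, 0, 0, -1, 0, 0, 0, 0, 1, 0, 0, -1],
    [0, 0, 0, 0, 0, 0, 0, 0, 0, 0, -1, 0, 0, 0, 0, -1, 1, 0, 0, 0, 1, -1, 0, -2],
    [1, -1, 0, -1, 0, 0, -1, 0, -1, 0, -1, -1, -2, -1, -1, 0, -1, 0, -1, -1, -1, -2, 0, -3],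
    [-1, 1, 1, 1, 0, 1, 0, 1, 1, 1, 1, 0, -4, -3, -3, 1, -1, -3, -3, -1, -4, -1, -4, -4],
    [1, 0, 0, -1, 0, -1, -1, -1, 0, -1, -1, 0, 4, 4, 2, -1, 1, 4, 3, 0, 5, 1, 4, 1],
    [0, 0, 0, 0, 0, 0, 0, 0, 0, 0, -1, 0, 0, 0, 0, -1, 0, 0, 0, 0, 2, -1, 0, -2],
    [0, 0, 0, 0, 0, 0, 0, 0, 0, 0, 0, 0, 0, 0, 0, 1, 0, 0, 0, 0, 0, 0, 0, -1],
    [1, 0, 0, 0, -1, 0, 0, -1, 0, -1, -1, -1, -2, -1, -2, 0, 1, -3, -2, 1, -3, 0, -3, -1],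
    [0, 0, 0, 0, 0, 0, 0, 0, 0, 0, -1, 0, 0, 0, 0, -1, 0, 0, 0, 0, 1, -1, 0, -1]]

/-- Its product with the Gram matrix. -/
def matG8 : List (List ℤ) := [
    [4, -33, -57, 52, -81, 50, -67, 47, 16, 0, 1, 1, 20, 5, 2, -1, -4, -1, 2, -1, -4, 2, -1, -3],
    [-33, 582, 955, -868, 1365, -824, 1128, -791, -276, 4, -23, 8, -389, -90, -39, 18, 97, 27, -28, 28, 92, -37, 27, 58],
    [-57, 955, 1578, -1428, 2253, -1364, 1863, -1305, -456, 8, -41, 12, -634, -146, -67, 31, 155, 44, -45, 46, 148, -62, 43, 94],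
    [52, -868, -1428, 1300, -2042, 1235, -1689, 1184, 411, -5, 33, -10, 577, 135, 58, -27, -142, -40, 42, -41, -136, 56, -39, -86],
    [-81, 1365, 2253, -2042, 3220, -1948, 2662, -1865, -652, 11, -57, 18, -908, -210, -95, 44, 223, 63, -66, 65, 213, -87, 62, 135],
    [50, -824, -1364, 1235, -1948, 1180, -1611, 1128, 394, -7, 34, -9, 545, 126, 58, -27, -132, -37, 40, -39, -127, 53, -37, -81],
    [-67, 1128, 1863, -1689, 2662, -1611, 2204, -1545, -537, 7, -45, 14, -753, -174, -78, 36, 183, 52, -56, 53, 177, -72, 53, 112],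
    [47, -791, -1305, 1184, -1865, 1128, -1545, 1084, 376, -4, 31, -10, 531, 122, 55, -25, -129, -37, 40, -38, -126, 51, -38, -79],
    [16, -276, -456, 411, -652, 394, -537, 376, 134, -4, 14, -5, 182, 42, 20, -10, -46, -13, 13, -13, -42, 17, -12, -27],
    [0, 4, 8, -5, 11, -7, 7, -4, -4, 2, -2, 1, 0, 0, -1, 1, 1, 0, 1, 0, -1, 0, -1, 0],
    [1, -23, -41, 33, -57, 34, -45, 31, 14, -2, 4, -2, 14, 3, 2, -2, -4, -1, 1, -1, -2, 0, -1, -2],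
    [1, 8, 12, -10, 18, -9, 14, -10, -5, 1, -2, 2, -7, -1, -1, 1, 3, 1, -1, 1, 2, 0, 1, 1],
    [20, -389, -634, 577, -908, 545, -753, 531, 182, 0, 14, -7, 268, 60, 26, -14, -66, -20, 20, -20, -66, 26, -20, -40],
    [5, -90, -146, 135, -210, 126, -174, 122, 42, 0, 3, -1, 60, 14, 6, -3, -15, -4, 5, -4, -15, 6, -4, -9],
    [2, -39, -67, 58, -95, 58, -78, 55, 20, -1, 2, -1, 26, 6, 4, -2, -6, -2, 2, -2, -6, 2, -2, -4],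
    [-1, 18, 31, -27, 44, -27, 36, -25, -10, 1, -2, 1, -14, -3, -2, 0, 4, 1, -1, 1, 4, 0, 1, 2],
    [-4, 97, 155, -142, 223, -132, 183, -129, -46, 1, -4, 3, -66, -15, -6, 4, 18, 5, -5, 5, 16, -6, 5, 10],
    [-1, 27, 44, -40, 63, -37, 52, -37, -13, 0, -1, 1, -20, -4, -2, 1, 5, 2, -2, 2, 5, -2, 2, 3],
    [2, -28, -45, 42, -66, 40, -56, 40, 13, 1, 1, -1, 20, 5, 2, -1, -5, -2, 2, -1, -5, 2, -2, -3],
    [-1, 28, 46, -41, 65, -39, 53, -38, -13, 0, -1, 1, -20, -4, -2, 1, 5, 2, -1, 2, 5, -2, 1, 3],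
    [-4, 92, 148, -136, 213, -127, 177, -126, -42, -1, -2, 2, -66, -15, -6, 4, 16, 5, -5, 5, 18, -6, 5, 10],
    [2, -37, -62, 56, -87, 53, -72, 51, 17, 0, 0, 0, 26, 6, 2, 0, -6, -2, 2, -2, -6, 2, -2, -4],
    [-1, 27, 43, -39, 62, -37, 53, -38, -12, -1, -1, 1, -20, -4, -2, 1, 5, 2, -2, 1, 5, -2, 2, 3],
    [-3, 58, 94, -86, 135, -81, 112, -79, -27, 0, -2, 1, -40, -9, -4, 2, 10, 3, -3, 3, 10, -4, 3, 6]]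

/-- The matrix of letter 9. -/
def mat9 : List (List ℤ) := [
    [1, 0, 0, 0, 0, 0, 0, 0, 0, 0, 0, 0, 0, 0, 0, 0, 0, 0, 0, 0, 0, 0, 0, 0],
    [-3, -7, -8, 2, -6, -11, -7, -7, 2, 1, 19, 3, -60, -38, -30, 23, 13, -63, -35, 17, -74, -5, -60, -87],
    [-7, -10, -13, 3, -10, -16, -10, -12, 4, 4, 32, 7, -96, -60, -50, 37, 18, -99, -54, 28, -119, -5, -96, -143],
    [7, 9, 10, -3, 9, 14, 9, 9, -4, -3, -28, -7, 86, 56, 45, -32, -17, 90, 51, -23, 106, 8, 87, 125],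
    [-10, -15, -18, 5, -14, -22, -15, -15, 5, 5, 45, 10, -146, -95, -77, 53, 24, -150, -84, 38, -179, -13, -146, -209],
    [5, 10, 12, -2, 9, 13, 9, 10, -2, -3, -26, -5, 91, 59, 48, -32, -13, 92, 51, -24, 112, 8, 90, 128],
    [-7, -14, -15, 3, -13, -18, -13, -13, 3, 4, 37, 7, -128, -84, -68, 45, 19, -130, -73, 31, -156, -13, -126, -181],
    [4, 11, 11, -2, 10, 13, 10, 10, -1, -2, -26, -4, 96, 64, 51, -33, -13, 98, 55, -23, 117, 11, 95, 130],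
    [2, 2, 4, -1, 2, 5, 3, 3, -1, -1, -9, -2, 24, 14, 12, -10, -5, 24, 13, -7, 29, 0, 24, 40],
    [-1, 1, 0, 1, 1, 0, 1, 1, 1, 1, 0, 1, 4, 3, 3, -1, 0, 4, 2, 0, 5, 1, 3, 4],
    [0, 0, 1, 0, 0, 1, 0, 0, 0, 0, 0, 0, 1, 0, 0, -1, 0, 1, 0, -1, 1, -1, 1, 2],
    [2, -1, -1, -1, -1, -1, -1, -1, -1, -1, 0, -1, -5, -3, -3, 2, 0, -5, -2, 1, -6, 0, -5, -5],
    [0, 6, 6, 0, 7, 7, 6, 7, 0, 0, -13, 0, 54, 35, 30, -19, -8, 55, 30, -13, 66, 5, 54, 71],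
    [0, 2, 2, 0, 1, 2, 1, 2, 0, 0, -3, 0, 9, 6, 4, -4, -3, 10, 5, -4, 12, 0, 9, 13],
    [0, 1, 1, 0, 0, 0, 1, 0, 0, 0, -1, 0, 10, 7, 6, -2, 1, 8, 5, -1, 11, 2, 9, 13],
    [0, -1, 0, 0, 0, -1, -1, 0, 0, 0, 1, 0, -3, -2, -1, 2, 1, -3, -2, 0, -3, -1, -2, -5],
    [0, -1, -2, 0, -1, -2, -1, -1, 0, 0, 3, 0, -10, -6, -5, 4, 2, -10, -5, 3, -12, 0, -10, -14],
    [1, -1, -1, -1, -1, -1, -1, -1, -1, 0, 1, -1, -5, -3, -3, 2, 0, -4, -2, 1, -6, 0, -4, -6],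
    [0, 0, 0, 0, 1, 0, 1, 0, 0, 0, -1, 0, 9, 7, 6, -2, 1, 8, 6, 0, 10, 2, 9, 11],
    [0, 0, 0, 0, 0, -1, -1, -1, 1, 0, 1, 0, 0, 1, 0, 1, 2, 0, 0, 1, 0, 1, 0, -5],
    [0, -2, -1, 0, -2, -1, -2, -2, 0, 0, 3, 0, -17, -12, -10, 5, 2, -17, -10, 3, -20, -3, -17, -22],
    [0, 1, 0, 0, 0, 1, 1, 0, 0, 0, -1, 0, 3, 2, 1, -1, -1, 3, 2, 0, 3, 2, 2, 5],
    [1, -1, -1, 0, -1, -1, -1, -1, 0, -1, 1, -1, -9, -6, -5, 3, 1, -9, -5, 2, -11, -1, -9, -11],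
    [0, -1, -1, 0, -1, -1, -1, -1, 0, 0, 2, 0, -9, -6, -5, 3, 1, -9, -5, 2, -11, -1, -9, -11]]

/-- Its product with the Gram matrix. -/
def matG9 : List (List ℤ) := [
    [4, -33, -57, 52, -81, 50, -67, 47, 16, 0, 1, 1, 20, 5, 2, -1, -4, -1, 2, -1, -4, 2, -1, -3],
    [-33, 440, 744, -679, 1058, -638, 852, -598, -217, 13, -5, 0, -269, -62, -22, 20, 62, 9, -25, 21, 58, -21, 11, 41],
    [-57, 744, 1274, -1150, 1804, -1092, 1454, -1021, -372, 24, -12, 1, -454, -104, -40, 35, 101, 17, -42, 36, 95, -34, 18, 69],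
    [52, -679, -1150, 1050, -1635, 987, -1319, 925, 335, -20, 9, 0, 413, 96, 35, -30, -95, -15, 40, -32, -88, 33, -17, -63],
    [-81, 1058, 1804, -1635, 2560, -1548, 2063, -1447, -528, 34, -17, 1, -644, -149, -57, 49, 146, 23, -60, 50, 136, -49, 26, 98],
    [50, -638, -1092, 987, -1548, 938, -1250, 877, 319, -20, 11, 0, 389, 90, 35, -29, -87, -15, 36, -30, -81, 30, -16, -59],
    [-67, 852, 1454, -1319, 2063, -1250, 1666, -1169, -424, 26, -12, -1, -520, -121, -46, 38, 117, 18, -48, 39, 110, -40, 22, 79],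
    [47, -598, -1021, 925, -1447, 877, -1169, 822, 297, -17, 7, 1, 368, 86, 32, -27, -82, -13, 33, -28, -79, 28, -16, -56],
    [16, -217, -372, 335, -528, 319, -424, 297, 110, -8, 5, -1, 132, 30, 12, -11, -30, -5, 12, -10, -28, 9, -4, -20],
    [0, 13, 24, -20, 34, -20, 26, -17, -8, 2, -2, 1, -7, -1, -1, 1, 2, 1, -1, 1, 1, 0, -1, 1],
    [1, -5, -12, 9, -17, 11, -12, 7, 5, -2, 2, 0, 1, 0, 1, -1, 0, 1, 0, 0, 0, -1, 1, 0],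
    [1, 0, 1, 0, 1, 0, -1, 1, -1, 1, 0, 0, 0, 0, 0, 1, 0, -1, 1, 0, 1, 1, -1, 0],
    [20, -269, -454, 413, -644, 389, -520, 368, 132, -7, 1, 0, 170, 39, 14, -13, -39, -6, 13, -13, -39, 13, -7, -26],
    [5, -62, -104, 96, -149, 90, -121, 86, 30, -1, 0, 0, 39, 10, 3, -3, -9, -2, 4, -3, -9, 3, -2, -6],
    [2, -22, -40, 35, -57, 35, -46, 32, 12, -1, 1, 0, 14, 3, 2, -1, -3, -1, 1, -1, -3, 1, 0, -2],
    [-1, 20, 35, -30, 49, -29, 38, -27, -11, 1, -1, 1, -13, -3, -1, 2, 3, 0, -1, 1, 3, 0, 1, 2],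
    [-4, 62, 101, -95, 146, -87, 117, -82, -30, 2, 0, 0, -39, -9, -3, 3, 10, 1, -3, 3, 10, -3, 1, 6],
    [-1, 9, 17, -15, 23, -15, 18, -13, -5, 1, 1, -1, -6, -2, -1, 0, 1, 0, 0, 1, 2, 0, 0, 1],
    [2, -25, -42, 40, -60, 36, -48, 33, 12, -1, 0, 1, 13, 4, 1, -1, -3, 0, 2, -1, -3, 1, 0, -2],
    [-1, 21, 36, -32, 50, -30, 39, -28, -10, 1, 0, 0, -13, -3, -1, 1, 3, 1, -1, 2, 3, -1, 0, 2],
    [-4, 58, 95, -88, 136, -81, 110, -79, -28, 1, 0, 1, -39, -9, -3, 3, 10, 2, -3, 3, 10, -3, 2, 6],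
    [2, -21, -34, 33, -49, 30, -40, 28, 9, 0, -1, 1, 13, 3, 1, 0, -3, 0, 1, -1, -3, 2, -1, -2],
    [-1, 11, 18, -17, 26, -16, 22, -16, -4, -1, 1, -1, -7, -2, 0, 1, 1, 0, 0, 0, 2, -1, 0, 1],
    [-3, 41, 69, -63, 98, -59, 79, -56, -20, 1, 0, 0, -26, -6, -2, 2, 6, 1, -2, 2, 6, -2, 1, 4]]

/-- The matrix of letter 10. -/
def mat10 : List (List ℤ) := [
    [1, 0, 0, 0, 0, 0, 0, 0, 0, 0, 0, 0, 0, 0, 0, 0, 0, 0, 0, 0, 0, 0, 0, 0],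
    [-17, 11, 5, 17, 8, 6, 9, 8, 8, 17, 0, 0, 16, 11, 18, -8, -2, 18, 0, -6, 31, -4, 16, 7],
    [-26, 15, 8, 26, 12, 7, 12, 14, 14, 26, 0, 0, 14, 9, 22, -9, -3, 20, -8, -8, 37, -11, 17, -5],
    [25, -15, -7, -24, -10, -8, -11, -13, -11, -25, 0, 0, -6, -3, -16, 8, 7, -13, 11, 10, -26, 12, -8, 4],
    [-37, 22, 10, 37, 16, 12, 17, 20, 18, 37, 0, 0, 7, 2, 22, -12, -9, 17, -18, -12, 37, -18, 10, -13],
    [21, -11, -6, -21, -9, -6, -10, -11, -10, -21, 0, 0, -7, -3, -15, 7, 3, -11, 9, 6, -24, 11, -9, 5],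
    [-30, 17, 9, 30, 12, 11, 15, 16, 14, 30, 0, 0, 5, 0, 17, -10, -7, 12, -15, -10, 29, -16, 7, -11],
    [22, -12, -7, -22, -9, -9, -11, -11, -10, -22, 0, 0, -5, 0, -13, 8, 5, -9, 10, 7, -23, 12, -6, 7],
    [7, -5, -2, -7, -4, -1, -3, -4, -4, -7, 0, 0, -9, -7, -9, 3, 0, -11, -1, 3, -17, 1, -10, 0],
    [1, 0, -1, -1, 0, -2, -1, 0, 0, 0, 0, 0, 1, 2, 1, 1, 0, 2, 1, 0, 1, 1, 2, 1],
    [-1, 0, 1, 1, 0, 1, 0, 0, 0, 1, 1, 0, -2, -2, -1, 0, 0, -2, -2, -1, -2, -2, -2, -2],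
    [1, 0, 0, 0, 0, 0, 0, 0, 0, 0, -1, -1, 0, 0, 0, 0, 0, 0, 0, 0, 1, 0, 0, -1],
    [12, -6, -6, -12, -6, -6, -6, -6, -6, -12, 0, 0, -11, -6, -12, 6, 0, -12, 0, 6, -24, 6, -12, 0],
    [3, -1, -1, -3, -2, -1, -2, -1, -1, -3, 0, 0, -8, -5, -7, 2, -1, -7, -3, 1, -11, 0, -8, -7],
    [0, 0, 0, 0, 0, 0, 0, 0, 0, 0, 0, 0, 0, 0, 1, 0, 0, 0, 0, 0, 0, 0, 0, 0],
    [-1, 1, 0, 1, 0, 1, 1, 0, 1, 1, 0, 0, -1, -1, -1, 0, 0, -1, -1, 1, -1, 1, -2, -2],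
    [-3, 2, 1, 3, 2, 1, 2, 2, 1, 3, 0, 0, 7, 5, 6, -2, 0, 7, 3, -2, 11, 0, 7, 6],
    [-1, 0, 1, 1, 1, 1, 1, 1, 0, 1, 0, 0, 4, 2, 3, -1, 0, 4, 2, -1, 6, -1, 4, 3],
    [1, -1, -1, -1, 0, -1, 0, -1, 0, -1, 0, 0, 3, 3, 2, 0, 2, 2, 3, 2, 2, 2, 3, 3],
    [-1, 1, 1, 1, 1, 0, 0, 0, 1, 1, 0, 0, 6, 5, 4, -1, 1, 6, 3, -1, 8, 1, 6, 3],
    [-3, 1, 2, 3, 1, 2, 1, 1, 1, 3, 0, 0, 0, -1, 1, -1, 0, 0, -2, -2, 3, -3, 0, -2],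
    [1, -1, 0, -1, 0, -1, -1, 0, 0, -1, 0, 0, 0, 0, 0, 1, 1, 0, 0, 0, 0, 0, 1, -2],
    [-1, 1, 1, 1, 1, 1, 1, 0, 1, 1, 0, 0, 7, 5, 4, -2, 1, 6, 4, -1, 9, 2, 7, 4],
    [-2, 1, 1, 2, 1, 1, 1, 1, 1, 2, 0, 0, 2, 1, 2, -1, 0, 2, 0, -1, 4, -1, 2, 1]]

/-- Its product with the Gram matrix. -/
def matG10 : List (List ℤ) := [
    [4, -33, -57, 52, -81, 50, -67, 47, 16, 0, 1, 1, 20, 5, 2, -1, -4, -1, 2, -1, -4, 2, -1, -3],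
    [-33, 598, 1018, -887, 1436, -867, 1179, -830, -297, 12, -32, 10, -395, -88, -39, 30, 88, 29, -33, 29, 84, -29, 28, 59],
    [-57, 1018, 1738, -1515, 2449, -1481, 2010, -1414, -505, 20, -53, 16, -670, -151, -67, 50, 148, 50, -58, 52, 142, -50, 48, 100],
    [52, -887, -1515, 1320, -2136, 1292, -1754, 1234, 442, -18, 48, -14, 583, 130, 58, -44, -129, -43, 50, -42, -122, 43, -41, -87],
    [-81, 1436, 2449, -2136, 3454, -2088, 2835, -1994, -714, 29, -76, 23, -944, -213, -95, 71, 210, 70, -81, 71, 200, -70, 67, 141],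
    [50, -867, -1481, 1292, -2088, 1264, -1715, 1206, 431, -17, 45, -13, 569, 129, 58, -42, -126, -42, 49, -43, -120, 43, -41, -85],
    [-67, 1179, 2010, -1754, 2835, -1715, 2332, -1641, -584, 21, -61, 18, -777, -176, -78, 58, 172, 58, -66, 57, 165, -59, 56, 116],
    [47, -830, -1414, 1234, -1994, 1206, -1641, 1156, 410, -14, 42, -12, 549, 125, 55, -41, -121, -41, 46, -41, -118, 42, -40, -82],
    [16, -297, -505, 442, -714, 431, -584, 410, 148, -7, 16, -5, 194, 44, 20, -15, -44, -14, 17, -15, -42, 14, -13, -29],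
    [0, 12, 20, -18, 29, -17, 21, -14, -7, 2, -1, 1, -6, -1, -1, 1, 2, 0, -1, 1, 1, 0, 0, 1],
    [1, -32, -53, 48, -76, 45, -61, 42, 16, -1, 2, -1, 20, 5, 2, -2, -5, -1, 2, -2, -5, 1, -1, -3],
    [1, 10, 16, -14, 23, -13, 18, -12, -5, 1, -1, 0, -7, -2, -1, 1, 2, 0, 0, 1, 3, 0, 0, 1],
    [20, -395, -670, 583, -944, 569, -777, 549, 194, -6, 20, -7, 268, 60, 26, -20, -60, -20, 20, -20, -60, 20, -20, -40],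
    [5, -88, -151, 130, -213, 129, -176, 125, 44, -1, 5, -2, 60, 14, 6, -5, -13, -5, 5, -4, -13, 4, -5, -9],
    [2, -39, -67, 58, -95, 58, -78, 55, 20, -1, 2, -1, 26, 6, 4, -2, -6, -2, 2, -2, -6, 2, -2, -4],
    [-1, 30, 50, -44, 71, -42, 58, -41, -15, 1, -2, 1, -20, -5, -2, 2, 5, 2, -2, 2, 5, -1, 1, 3],
    [-4, 88, 148, -129, 210, -126, 172, -121, -44, 2, -5, 2, -60, -13, -6, 5, 14, 4, -4, 4, 14, -4, 4, 9],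
    [-1, 29, 50, -43, 70, -42, 58, -41, -14, 0, -1, 0, -20, -5, -2, 2, 4, 2, -1, 2, 5, -2, 1, 3],
    [2, -33, -58, 50, -81, 49, -66, 46, 17, -1, 2, 0, 20, 5, 2, -2, -4, -1, 2, -1, -4, 1, -1, -3],
    [-1, 29, 52, -42, 71, -43, 57, -41, -15, 1, -2, 1, -20, -4, -2, 2, 4, 2, -1, 2, 4, -1, 1, 3],
    [-4, 84, 142, -122, 200, -120, 165, -118, -42, 1, -5, 3, -60, -13, -6, 5, 14, 5, -4, 4, 14, -4, 5, 9],
    [2, -29, -50, 43, -70, 43, -59, 42, 14, 0, 1, 0, 20, 4, 2, -1, -4, -2, 1, -1, -4, 2, -1, -3],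
    [-1, 28, 48, -41, 67, -41, 56, -40, -13, 0, -1, 0, -20, -5, -2, 1, 4, 1, -1, 1, 5, -1, 2, 3],
    [-3, 59, 100, -87, 141, -85, 116, -82, -29, 1, -3, 1, -40, -9, -4, 3, 9, 3, -3, 3, 9, -3, 3, 6]]

/-- The matrix of letter 11. -/
def mat11 : List (List ℤ) := [
    [1, 0, 0, 0, 0, 0, 0, 0, 0, 0, 0, 0, 0, 0, 0, 0, 0, 0, 0, 0, 0, 0, 0, 0],
    [-20, 0, -2, 19, 3, -1, 2, 1, 9, 18, 19, 3, -51, -37, -18, 16, 10, -53, -37, 11, -52, -15, -52, -86],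
    [-33, 0, -3, 29, 5, -2, 3, 1, 17, 30, 32, 7, -79, -56, -28, 25, 17, -80, -56, 19, -79, -20, -78, -150],
    [32, -1, 2, -28, -6, 1, -5, -3, -14, -28, -28, -7, 61, 45, 17, -20, -14, 64, 45, -14, 59, 19, 62, 115],
    [-47, 1, -4, 42, 7, -3, 5, 2, 23, 42, 45, 10, -109, -78, -37, 35, 24, -112, -78, 25, -108, -29, -109, -208],
    [26, 0, 3, -23, -3, 3, -2, 0, -13, -24, -26, -5, 65, 45, 23, -21, -14, 66, 46, -15, 65, 16, 64, 124],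
    [-37, 0, -4, 33, 4, -2, 3, 1, 18, 34, 37, 7, -101, -72, -39, 31, 17, -101, -70, 20, -102, -26, -100, -181],
    [26, 0, 2, -24, -2, 1, -1, 0, -13, -24, -26, -4, 78, 56, 32, -23, -12, 78, 55, -14, 79, 21, 78, 135],
    [9, 0, 1, -8, -1, 1, -1, 0, -4, -8, -9, -2, 21, 15, 7, -7, -6, 22, 15, -6, 21, 5, 21, 43],
    [0, 0, 0, 0, 0, -1, 1, 0, 0, 0, 0, 1, 7, 5, 5, -1, 2, 5, 4, 1, 7, 2, 6, 8],
    [-1, 1, 1, 1, 1, 1, 1, 1, 0, 1, 0, 0, 6, 4, 4, -2, -1, 6, 3, -2, 8, 0, 6, 8],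
    [1, -1, 0, 0, -1, 0, -1, -1, 0, 0, 0, -1, -8, -6, -5, 2, 1, -8, -5, 1, -9, -2, -8, -11],
    [12, 1, 1, -12, 0, 0, 1, 0, -6, -12, -13, 0, 52, 37, 24, -14, -5, 50, 35, -7, 53, 14, 51, 79],
    [3, 0, 0, -3, 0, 0, 0, 0, -1, -3, -3, 0, 10, 7, 4, -3, -1, 10, 8, -1, 10, 3, 10, 15],
    [0, 0, 0, 0, 1, 1, 0, 1, 0, 0, -1, 0, 0, -1, 0, -1, -2, 1, 0, -1, 0, -1, 0, 5],
    [-1, 0, 0, 1, 0, 0, 0, 0, 1, 1, 1, 0, -4, -3, -2, 2, 1, -4, -3, 1, -4, -1, -4, -8],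
    [-3, 0, 0, 3, 0, 0, 0, 0, 1, 3, 3, 0, -10, -7, -4, 3, 2, -10, -7, 1, -10, -3, -10, -16],
    [0, 0, 0, 0, -1, 0, -1, -1, 0, 1, 1, -1, -7, -4, -4, 2, 0, -5, -4, 0, -7, -1, -6, -13],
    [1, 0, 0, -1, 0, 0, 0, 0, 0, -1, -1, 0, 3, 3, 1, -1, 0, 3, 2, 0, 3, 1, 3, 5],
    [-1, 0, 0, 1, 0, 0, 0, 0, 0, 1, 1, 0, -3, -2, -1, 1, 0, -3, -2, 1, -3, -1, -3, -4],
    [-3, 0, 0, 3, 0, 0, 0, 0, 1, 3, 3, 0, -10, -7, -4, 3, 1, -10, -7, 1, -9, -3, -10, -16],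
    [1, 0, 0, -1, 0, 0, 0, 0, 0, -1, -1, 0, 3, 2, 1, -1, 0, 3, 2, 0, 3, 2, 3, 4],
    [0, -1, 0, 1, -1, 0, -1, 0, 0, 0, 1, -1, -13, -10, -8, 3, 0, -13, -9, 1, -15, -4, -13, -12],
    [-2, 0, 0, 2, 0, 0, 0, 0, 1, 2, 2, 0, -7, -5, -3, 2, 1, -7, -5, 1, -7, -2, -7, -11]]

/-- Its product with the Gram matrix. -/
def matG11 : List (List ℤ) := [
    [4, -33, -57, 52, -81, 50, -67, 47, 16, 0, 1, 1, 20, 5, 2, -1, -4, -1, 2, -1, -4, 2, -1, -3],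
    [-33, 292, 520, -458, 739, -457, 594, -411, -158, 21, -15, -7, -166, -37, -23, 14, 36, 3, -14, 12, 31, -13, 2, 24],
    [-57, 520, 930, -819, 1316, -815, 1059, -733, -279, 36, -25, -12, -298, -68, -40, 22, 63, 7, -27, 24, 56, -22, 5, 43],
    [52, -458, -819, 720, -1161, 720, -937, 649, 246, -30, 23, 11, 263, 60, 35, -21, -55, -6, 22, -18, -49, 20, -4, -38],
    [-81, 739, 1316, -1161, 1866, -1155, 1504, -1041, -395, 49, -36, -17, -423, -97, -56, 33, 90, 9, -37, 31, 80, -32, 7, 61],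
    [50, -457, -815, 720, -1155, 716, -933, 646, 243, -29, 21, 11, 263, 60, 35, -19, -55, -6, 24, -19, -50, 20, -5, -38],
    [-67, 594, 1059, -937, 1504, -933, 1216, -842, -316, 38, -27, -16, -340, -78, -46, 26, 71, 7, -30, 23, 65, -27, 5, 49],
    [47, -411, -733, 649, -1041, 646, -842, 584, 218, -26, 18, 12, 236, 54, 32, -18, -49, -5, 21, -16, -46, 19, -3, -34],
    [16, -158, -279, 246, -395, 243, -316, 218, 86, -12, 9, 2, 90, 21, 12, -7, -21, -2, 8, -8, -17, 6, -2, -13],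
    [0, 21, 36, -30, 49, -29, 38, -26, -12, 2, -2, 2, -13, -3, -1, 1, 4, 1, -1, 2, 2, 0, 1, 2],
    [1, -15, -25, 23, -36, 21, -27, 18, 9, -2, 2, -1, 7, 2, 1, -1, -3, 0, 1, -1, -1, 0, 0, -1],
    [1, -7, -12, 11, -17, 11, -16, 12, 2, 2, -1, 0, 6, 1, 0, 0, 0, -1, 1, 0, -1, 1, -1, -1],
    [20, -166, -298, 263, -423, 263, -340, 236, 90, -13, 7, 6, 98, 21, 14, -7, -21, -1, 7, -7, -21, 7, 0, -14],
    [5, -37, -68, 60, -97, 60, -78, 54, 21, -3, 2, 1, 21, 4, 3, -2, -4, 0, 3, -1, -4, 1, 0, -3],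
    [2, -23, -40, 35, -56, 35, -46, 32, 12, -1, 1, 0, 14, 3, 2, -1, -3, 0, 1, -1, -3, 1, -1, -2],
    [-1, 14, 22, -21, 33, -19, 26, -18, -7, 1, -1, 0, -7, -2, -1, 2, 2, 0, -1, 1, 2, -1, 0, 1],
    [-4, 36, 63, -55, 90, -55, 71, -49, -21, 4, -3, 0, -21, -4, -3, 2, 6, 0, -1, 1, 4, -1, 0, 3],
    [-1, 3, 7, -6, 9, -6, 7, -5, -2, 1, 0, -1, -1, 0, 0, 0, 0, 0, 0, 0, 0, 0, -1, 0],
    [2, -14, -27, 22, -37, 24, -30, 21, 8, -1, 1, 1, 7, 3, 1, -1, -1, 0, 0, 0, -1, 0, 0, -1],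
    [-1, 12, 24, -18, 31, -19, 23, -16, -8, 2, -1, 0, -7, -1, -1, 1, 1, 0, 0, 2, 1, 0, 0, 1],
    [-4, 31, 56, -49, 80, -50, 65, -46, -17, 2, -1, -1, -21, -4, -3, 2, 4, 0, -1, 1, 6, -1, 0, 3],
    [2, -13, -22, 20, -32, 20, -27, 19, 6, 0, 0, 1, 7, 1, 1, -1, -1, 0, 0, 0, -1, 2, 0, -1],
    [-1, 2, 5, -4, 7, -5, 5, -3, -2, 1, 0, -1, 0, 0, -1, 0, 0, -1, 0, 0, 0, 0, 0, 0],
    [-3, 24, 43, -38, 61, -38, 49, -34, -13, 2, -1, -1, -14, -3, -2, 1, 3, 0, -1, 1, 3, -1, 0, 2]]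

/-- The matrix of letter 12. -/
def mat12 : List (List ℤ) := [
    [1, 0, 0, 0, 0, 0, 0, 0, 0, 0, 0, 0, 0, 0, 0, 0, 0, 0, 0, 0, 0, 0, 0, 0],
    [-20, 2, 0, 10, 12, 16, 1, 12, 12, 8, 9, 10, -58, -43, -37, -2, -16, -41, -29, 0, -57, -14, -59, -66],
    [-26, 2, -4, 10, 15, 23, -3, 16, 17, 10, 12, 13, -114, -80, -75, 2, -32, -79, -55, 2, -117, -22, -112, -127],
    [29, -3, -1, -13, -17, -23, -1, -17, -18, -12, -13, -15, 79, 59, 52, 3, 23, 54, 39, 2, 77, 19, 80, 93],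
    [-39, 2, -4, 17, 23, 34, -3, 24, 25, 15, 18, 19, -159, -115, -104, 2, -42, -113, -79, 2, -163, -34, -158, -176],
    [21, 0, 4, -8, -12, -19, 3, -13, -13, -8, -10, -10, 101, 72, 66, -3, 27, 72, 49, -2, 105, 21, 99, 110],
    [-32, 0, -3, 14, 18, 29, -2, 20, 20, 12, 15, 15, -138, -101, -90, 3, -35, -100, -69, 2, -143, -31, -137, -149],
    [22, 1, 2, -10, -12, -21, 2, -13, -13, -8, -10, -10, 102, 75, 66, -2, 25, 76, 52, -2, 106, 24, 102, 108],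
    [8, -1, 2, -3, -5, -6, 1, -5, -5, -3, -4, -4, 32, 22, 21, -1, 9, 21, 15, -1, 33, 5, 31, 36],
    [1, 0, -1, -1, 0, -2, -1, 0, 0, 0, 0, 0, 1, 2, 1, 1, 0, 2, 1, 0, 1, 1, 2, 1],
    [-1, 1, 2, 1, 0, 1, 1, 0, 0, 1, 1, 1, 7, 4, 4, -2, 1, 5, 3, -2, 9, 0, 6, 4],
    [0, -1, -1, 0, 0, 1, 0, 0, 0, 0, 0, 0, -8, -6, -5, 1, -1, -7, -4, 2, -10, -1, -8, -5],
    [13, 0, 0, -6, -7, -13, 0, -7, -7, -6, -6, -6, 50, 37, 32, 0, 13, 36, 24, 0, 50, 12, 49, 56],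
    [3, 0, 0, -1, -2, -3, 0, -2, -1, -1, -1, -2, 9, 7, 6, 1, 4, 6, 4, 1, 8, 3, 9, 10],
    [0, 1, 1, 0, 0, 0, 1, 0, 0, 0, -1, 0, 10, 7, 6, -2, 1, 8, 5, -1, 11, 2, 9, 13],
    [-1, 0, 0, 1, 0, 1, 0, 1, 1, 0, 0, 0, -9, -7, -6, 1, -1, -8, -6, 1, -10, -2, -10, -7],
    [-4, 0, 0, 2, 3, 3, 1, 2, 2, 2, 2, 2, -4, -3, -2, -1, -1, -2, -1, 0, -3, -1, -4, -6],
    [0, -1, 0, 0, 0, 1, 0, 0, -1, 0, 0, 0, -4, -3, -2, 0, -1, -3, -2, 0, -4, -2, -4, -4],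
    [2, 0, -1, -1, -1, -2, 0, -1, -1, -1, -1, -1, 4, 4, 3, 0, 1, 3, 3, 1, 4, 2, 4, 5],
    [-2, 1, 1, 1, 1, 1, 0, 1, 1, 1, 1, 2, 0, 0, 0, -1, -1, 1, 0, -1, 2, -1, 0, -5],
    [-4, 0, 1, 2, 2, 4, 0, 2, 2, 2, 2, 2, -12, -10, -8, 0, -3, -9, -6, -1, -11, -4, -12, -15],
    [2, 0, -1, -2, -1, -1, -1, -1, -1, -1, -1, -1, 0, 1, -1, 1, -1, 1, 1, 0, -1, 2, 1, 2],
    [-2, 0, 0, 1, 1, 2, 0, 1, 1, 1, 1, 1, -8, -6, -5, 0, -2, -6, -4, 0, -8, -2, -7, -10],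
    [-2, 0, 0, 1, 1, 2, 0, 1, 1, 1, 1, 1, -8, -6, -5, 0, -2, -6, -4, 0, -8, -2, -8, -9]]

/-- Its product with the Gram matrix. -/
def matG12 : List (List ℤ) := [
    [4, -33, -57, 52, -81, 50, -67, 47, 16, 0, 1, 1, 20, 5, 2, -1, -4, -1, 2, -1, -4, 2, -1, -3],
    [-33, 420, 735, -665, 1042, -624, 840, -583, -209, 12, -11, -4, -269, -52, -22, 10, 59, 18, -23, 21, 57, -22, -1, 40],
    [-57, 735, 1290, -1162, 1825, -1096, 1474, -1025, -366, 20, -20, -6, -471, -92, -40, 19, 101, 33, -41, 37, 99, -38, 0, 70],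
    [52, -665, -1162, 1052, -1647, 988, -1330, 924, 329, -18, 17, 7, 422, 85, 35, -17, -92, -28, 37, -32, -89, 35, 0, -63],
    [-81, 1042, 1825, -1647, 2586, -1552, 2088, -1451, -519, 29, -29, -9, -665, -132, -57, 27, 145, 46, -58, 51, 140, -54, 0, 99],
    [50, -624, -1096, 988, -1552, 934, -1255, 872, 311, -17, 17, 7, 397, 79, 35, -16, -85, -27, 34, -30, -83, 33, 0, -59],
    [-67, 840, 1474, -1330, 2088, -1255, 1690, -1175, -417, 21, -22, -9, -538, -107, -46, 21, 116, 38, -46, 40, 113, -45, 0, 80],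
    [47, -583, -1025, 924, -1451, 872, -1175, 818, 290, -14, 15, 6, 377, 74, 32, -14, -81, -27, 32, -28, -80, 31, 0, -56],
    [16, -209, -366, 329, -519, 311, -417, 290, 106, -7, 7, 0, 134, 26, 12, -6, -30, -10, 12, -11, -28, 10, 0, -20],
    [0, 12, 20, -18, 29, -17, 21, -14, -7, 2, -1, 1, -6, -1, -1, 1, 2, 0, -1, 1, 1, 0, 0, 1],
    [1, -11, -20, 17, -29, 17, -22, 15, 7, -1, 2, -1, 7, 1, 1, -1, -2, -1, 1, -1, -1, 0, 0, -1],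
    [1, -4, -6, 7, -9, 7, -9, 6, 0, 1, -1, 2, 0, 1, 0, 0, 1, 1, 0, 1, 0, 1, 0, 0],
    [20, -269, -471, 422, -665, 397, -538, 377, 134, -6, 7, 0, 182, 34, 14, -7, -40, -14, 13, -14, -40, 14, -1, -27],
    [5, -52, -92, 85, -132, 79, -107, 74, 26, -1, 1, 1, 34, 6, 3, -1, -7, -2, 3, -2, -8, 3, 1, -5],
    [2, -22, -40, 35, -57, 35, -46, 32, 12, -1, 1, 0, 14, 3, 2, -1, -3, -1, 1, -1, -3, 1, 0, -2],
    [-1, 10, 19, -17, 27, -16, 21, -14, -6, 1, -1, 0, -7, -1, -1, 0, 2, 1, -1, 1, 2, 0, -1, 1],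
    [-4, 59, 101, -92, 145, -85, 116, -81, -30, 2, -2, 1, -40, -7, -3, 2, 10, 3, -3, 3, 9, -3, 0, 6],
    [-1, 18, 33, -28, 46, -27, 38, -27, -10, 0, -1, 1, -14, -2, -1, 1, 3, 2, -1, 1, 3, -1, 0, 2],
    [2, -23, -41, 37, -58, 34, -46, 32, 12, -1, 1, 0, 13, 3, 1, -1, -3, -1, 2, -1, -2, 1, 0, -2],
    [-1, 21, 37, -32, 51, -30, 40, -28, -11, 1, -1, 1, -14, -2, -1, 1, 3, 1, -1, 2, 3, -1, 0, 2],
    [-4, 57, 99, -89, 140, -83, 113, -80, -28, 1, -1, 0, -40, -8, -3, 2, 9, 3, -2, 3, 10, -3, 0, 6],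
    [2, -22, -38, 35, -54, 33, -45, 31, 10, 0, 0, 1, 14, 3, 1, 0, -3, -1, 1, -1, -3, 2, 0, -2],
    [-1, -1, 0, 0, 0, 0, 0, 0, 0, 0, 0, 0, -1, 1, 0, -1, 0, 0, 0, 0, 0, 0, 0, 0],
    [-3, 40, 70, -63, 99, -59, 80, -56, -20, 1, -1, 0, -27, -5, -2, 1, 6, 2, -2, 2, 6, -2, 0, 4]]

/-- The matrix of letter 13. -/
def mat13 : List (List ℤ) := [
    [1, 0, 0, 0, 0, 0, 0, 0, 0, 0, 0, 0, 0, 0, 0, 0, 0, 0, 0, 0, 0, 0, 0, 0],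
    [-20, 2, 9, 10, 12, 10, 2, 11, 9, 11, 8, 10, 5, -8, 0, -4, -2, 5, 8, -11, 17, -16, 6, -15],
    [-31, 3, 15, 13, 19, 13, 2, 16, 15, 17, 12, 18, 22, 0, 9, -8, -1, 23, 24, -19, 46, -22, 27, -29],
    [29, -2, -12, -13, -18, -14, -2, -16, -13, -17, -11, -15, -6, 12, 0, 6, 5, -9, -12, 17, -25, 24, -10, 28],
    [-46, 4, 21, 20, 28, 21, 4, 24, 22, 25, 19, 26, 24, -7, 8, -11, -2, 25, 29, -26, 56, -32, 30, -44],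
    [27, -2, -13, -11, -16, -12, -2, -14, -13, -14, -11, -16, -15, 3, -5, 7, 1, -16, -18, 16, -34, 19, -19, 27],
    [-39, 3, 18, 17, 22, 19, 4, 21, 18, 21, 17, 22, 10, -14, 0, -8, -4, 12, 18, -22, 35, -29, 15, -43],
    [27, -1, -13, -12, -15, -13, -2, -14, -12, -14, -12, -15, -5, 12, 1, 5, 2, -5, -11, 15, -22, 22, -8, 30],
    [10, -2, -5, -4, -6, -4, -2, -4, -5, -5, -4, -6, -18, -9, -9, 4, -3, -16, -14, 5, -26, 2, -18, 1],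
    [1, 0, 0, -1, 0, -1, 0, -1, 0, 0, -1, 0, 8, 7, 5, -1, 2, 7, 5, 0, 9, 2, 8, 5],
    [1, -1, -1, 0, 0, 0, -1, 0, -1, 0, 0, -1, -8, -6, -4, 1, -2, -6, -5, 0, -9, -3, -7, -5],
    [-1, 0, 1, 1, 0, 0, 1, 0, 1, 0, 1, 1, 4, 2, 2, 0, 3, 1, 2, 1, 4, 1, 2, 3],
    [14, -1, -7, -7, -7, -7, -1, -7, -7, -7, -7, -7, 2, 9, 4, 1, 0, 2, -3, 7, -6, 11, 2, 18],
    [3, 0, -2, -1, -2, -2, 0, -2, -1, -1, -1, -2, -2, 1, 0, 1, 1, -2, -2, 3, -4, 3, -2, -1],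
    [1, 0, -1, 0, 0, -1, 0, 0, -1, 0, -1, -1, 1, 1, 2, 0, -1, 1, 0, 0, 1, 0, 1, 6],
    [-2, 0, 1, 1, 1, 1, 1, 1, 1, 1, 1, 1, 3, 1, 2, 0, 1, 2, 2, 0, 4, 0, 3, 1],
    [-4, 1, 2, 2, 2, 2, 1, 2, 2, 2, 2, 2, 4, 1, 1, -1, 1, 3, 3, -2, 6, -1, 3, 2],
    [-1, 0, 1, 0, 0, 0, 0, 1, 0, 0, 1, 1, 1, 0, 0, 0, 0, 1, 1, -1, 2, -1, 1, 0],
    [2, 0, -1, -1, -1, -1, 0, -1, -1, -1, -1, -1, 1, 2, 1, 0, 0, 1, 1, 1, 0, 2, 1, 4],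
    [0, 0, 0, 0, 0, 0, -1, 0, 0, 0, 0, 0, -4, -3, -3, 1, -1, -3, -2, 0, -4, -2, -4, -5],
    [-4, 0, 2, 2, 2, 3, 0, 2, 2, 2, 2, 2, -5, -6, -4, 0, -1, -4, -2, -2, -3, -4, -5, -9],
    [1, 0, 0, -1, 0, -1, 0, -1, 0, -1, -1, 0, 8, 7, 5, -1, 2, 7, 5, 0, 9, 3, 8, 5],
    [-1, 0, 1, 1, 0, 1, 0, 0, 1, 0, 1, 0, -3, -3, -3, 1, 1, -4, -2, 0, -4, -1, -4, -3],
    [-2, 0, 1, 1, 1, 1, 0, 1, 1, 1, 1, 1, -1, -2, -1, 0, 0, -1, 0, -1, 0, -2, -1, -3]]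

/-- Its product with the Gram matrix. -/
def matG13 : List (List ℤ) := [
    [4, -33, -57, 52, -81, 50, -67, 47, 16, 0, 1, 1, 20, 5, 2, -1, -4, -1, 2, -1, -4, 2, -1, -3],
    [-33, 462, 785, -697, 1108, -674, 895, -624, -225, 15, -16, -10, -275, -73, -33, 22, 63, 9, -6, 22, 59, -31, 11, 42],
    [-57, 785, 1338, -1186, 1886, -1151, 1528, -1066, -381, 23, -28, -16, -469, -124, -56, 37, 105, 16, -11, 37, 100, -53, 20, 71],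
    [52, -697, -1186, 1058, -1678, 1022, -1358, 946, 339, -22, 24, 16, 414, 110, 50, -32, -94, -14, 12, -32, -89, 47, -16, -63],
    [-81, 1108, 1886, -1678, 2662, -1622, 2154, -1501, -538, 34, -38, -24, -659, -175, -78, 51, 149, 21, -17, 52, 141, -74, 27, 100],
    [50, -674, -1151, 1022, -1622, 990, -1315, 917, 327, -19, 23, 14, 403, 106, 47, -30, -90, -14, 11, -31, -85, 45, -17, -61],
    [-67, 895, 1528, -1358, 2154, -1315, 1746, -1217, -434, 26, -29, -21, -534, -142, -63, 40, 119, 17, -13, 41, 114, -60, 22, 81],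
    [47, -624, -1066, 946, -1501, 917, -1217, 850, 302, -17, 19, 15, 375, 100, 44, -28, -83, -12, 8, -29, -81, 42, -16, -57],
    [16, -225, -381, 339, -538, 327, -434, 302, 110, -8, 9, 4, 132, 35, 16, -11, -31, -4, 3, -11, -28, 15, -5, -20],
    [0, 15, 23, -22, 34, -19, 26, -17, -8, 2, -2, 1, -7, -1, -1, 1, 3, 0, -1, 1, 1, -1, 0, 1],
    [1, -16, -28, 24, -38, 23, -29, 19, 9, -2, 2, 0, 7, 2, 1, -1, -2, 1, 0, -1, -1, 0, 0, -1],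
    [1, -10, -16, 16, -24, 14, -21, 15, 4, 1, 0, 0, 7, 1, 0, 0, -1, -1, 2, 0, -1, 1, -1, -1],
    [20, -275, -469, 414, -659, 403, -534, 375, 132, -7, 7, 7, 170, 45, 20, -13, -38, -6, 0, -13, -39, 19, -6, -26],
    [5, -73, -124, 110, -175, 106, -142, 100, 35, -1, 2, 1, 45, 12, 5, -4, -10, -2, 1, -3, -10, 5, -2, -7],
    [2, -33, -56, 50, -78, 47, -63, 44, 16, -1, 1, 0, 20, 5, 2, -1, -5, -1, 1, -2, -4, 2, -1, -3],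
    [-1, 22, 37, -32, 51, -30, 40, -28, -11, 1, -1, 0, -13, -4, -1, 2, 3, 0, 0, 2, 3, -1, 1, 2],
    [-4, 63, 105, -94, 149, -90, 119, -83, -31, 3, -2, -1, -38, -10, -5, 3, 10, 1, 0, 3, 9, -4, 1, 6],
    [-1, 9, 16, -14, 21, -14, 17, -12, -4, 0, 1, -1, -6, -2, -1, 0, 1, 0, 1, 1, 2, -1, 0, 1],
    [2, -6, -11, 12, -17, 11, -13, 8, 3, -1, 0, 2, 0, 1, 1, 0, 0, 1, 0, 0, 0, 1, 1, 0],
    [-1, 22, 37, -32, 52, -31, 41, -29, -11, 1, -1, 0, -13, -3, -2, 2, 3, 1, 0, 2, 3, -2, 0, 2],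
    [-4, 59, 100, -89, 141, -85, 114, -81, -28, 1, -1, -1, -39, -10, -4, 3, 9, 2, 0, 3, 10, -4, 1, 6],
    [2, -31, -53, 47, -74, 45, -60, 42, 15, -1, 0, 1, 19, 5, 2, -1, -4, -1, 1, -2, -4, 2, -1, -3],
    [-1, 11, 20, -16, 27, -17, 22, -16, -5, 0, 0, -1, -6, -2, -1, 1, 1, 0, 1, 0, 1, -1, 0, 1],
    [-3, 42, 71, -63, 100, -61, 81, -57, -20, 1, -1, -1, -26, -7, -3, 2, 6, 1, 0, 2, 6, -3, 1, 4]]

/-- The matrix of letter 14. -/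
def mat14 : List (List ℤ) := [
    [1, 0, 0, 0, 0, 0, 0, 0, 0, 0, 0, 0, 0, 0, 0, 0, 0, 0, 0, 0, 0, 0, 0, 0],
    [-3, 2, 0, 2, -8, -9, 12, -16, 0, 0, 0, -7, 73, 69, 51, -2, 36, 43, 41, 19, 71, 29, 61, 64],
    [-1, 2, 0, -1, -17, -16, 16, -29, -1, -3, -2, -13, 107, 106, 72, 0, 57, 61, 62, 31, 101, 46, 88, 88],
    [3, -1, 1, -1, 14, 15, -16, 24, 1, 2, 1, 11, -97, -94, -68, 0, -52, -54, -54, -29, -90, -40, -79, -92],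
    [-3, 3, -1, 0, -24, -23, 24, -40, -1, -4, -1, -18, 149, 147, 101, 1, 82, 82, 85, 46, 138, 66, 121, 129],
    [1, -2, 1, 1, 15, 14, -13, 24, 1, 2, 1, 11, -83, -84, -56, -1, -46, -46, -48, -26, -77, -38, -68, -68],
    [-3, 3, 0, 0, -20, -18, 20, -32, 0, -2, 0, -15, 120, 119, 81, 1, 66, 67, 68, 36, 112, 54, 99, 101],
    [2, -2, 0, 0, 14, 12, -14, 24, 0, 1, 0, 11, -86, -85, -58, 0, -47, -48, -49, -26, -81, -39, -71, -70],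
    [1, -1, -1, 0, 4, 5, -5, 8, 0, 1, 0, 3, -40, -37, -26, 1, -19, -25, -23, -8, -40, -15, -34, -31],
    [0, 0, 0, 0, 0, -1, 0, 0, 0, 0, 0, 1, 3, 2, 2, 0, 1, 2, 2, 0, 3, 0, 2, 3],
    [1, -1, -1, 0, 0, 0, -1, 0, -1, 0, 0, -1, -8, -6, -4, 1, -2, -6, -5, 0, -9, -3, -7, -5],
    [0, 0, 1, 0, 0, 0, 1, -1, 1, 0, 0, 0, 9, 7, 5, -1, 4, 6, 5, 1, 10, 3, 8, 5],
    [1, -1, -1, 0, 6, 6, -7, 12, -1, 0, 0, 6, -50, -49, -34, 1, -26, -31, -29, -12, -51, -21, -44, -36],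
    [1, -1, 0, 0, 1, 1, -2, 3, 0, -1, 0, 1, -15, -14, -10, 1, -5, -11, -9, -2, -16, -6, -14, -11],
    [0, 0, 0, 0, 1, 1, 0, 1, 0, 0, -1, 0, 0, -1, 0, -1, -2, 1, 0, -1, 0, -1, 0, 5],
    [0, 0, 0, 0, -1, 0, 1, -1, 0, 0, 0, -1, 2, 2, 1, 1, 2, 0, 1, 2, 1, 2, 1, 3],
    [-2, 1, 1, 1, 0, -1, 3, -2, 1, 1, 1, 0, 21, 18, 14, -2, 8, 15, 12, 2, 23, 7, 19, 16],
    [-1, 1, 1, 0, 0, 0, 1, -1, 1, 1, 1, 0, 10, 9, 6, -1, 3, 9, 6, 0, 12, 4, 10, 3],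
    [0, 0, 0, 0, 1, 1, -1, 1, 0, 1, 0, 0, -5, -4, -3, 0, -3, -2, -2, -2, -4, -2, -3, -6],
    [0, 0, 0, 0, 0, -1, 0, -1, 0, 0, 0, 0, 5, 5, 4, 0, 2, 4, 3, 1, 6, 1, 5, 1],
    [0, 0, 0, 0, -2, -2, 1, -3, 0, 0, 0, -2, 8, 9, 6, 1, 6, 4, 4, 3, 8, 4, 7, 6],
    [1, 0, 0, -1, 0, 0, -1, 0, 0, -1, -1, 0, -1, -1, -2, 0, -1, 0, 0, -1, -1, 0, -1, -1],
    [0, 0, 0, 0, 0, 0, 1, -1, 0, 0, 0, 0, 6, 5, 4, -1, 2, 4, 4, 1, 7, 2, 6, 2],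
    [0, 0, 0, 0, -1, -1, 1, -2, 0, 0, 0, -1, 7, 7, 5, 0, 4, 4, 4, 2, 7, 3, 6, 5]]

/-- Its product with the Gram matrix. -/
def matG14 : List (List ℤ) := [
    [4, -33, -57, 52, -81, 50, -67, 47, 16, 0, 1, 1, 20, 5, 2, -1, -4, -1, 2, -1, -4, 2, -1, -3],
    [-33, 436, 724, -649, 1022, -616, 845, -595, -209, 4, -16, 1, -276, -53, -23, 22, 61, 11, -21, 21, 55, -30, 20, 41],
    [-57, 724, 1214, -1083, 1708, -1034, 1412, -993, -349, 8, -28, -1, -453, -87, -40, 36, 98, 18, -33, 34, 88, -50, 30, 67],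
    [52, -649, -1083, 970, -1528, 924, -1265, 891, 312, -5, 24, -1, 410, 79, 35, -32, -90, -18, 32, -30, -80, 45, -29, -61],
    [-81, 1022, 1708, -1528, 2406, -1456, 1989, -1399, -492, 11, -38, -1, -640, -124, -56, 50, 140, 25, -48, 48, 125, -70, 44, 95],
    [50, -616, -1034, 924, -1456, 884, -1205, 847, 297, -7, 23, 2, 385, 75, 35, -29, -83, -15, 29, -28, -75, 42, -26, -57],
    [-67, 845, 1412, -1265, 1989, -1205, 1648, -1160, -404, 7, -29, -2, -532, -104, -46, 40, 115, 21, -41, 39, 105, -58, 38, 79],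
    [47, -595, -993, 891, -1399, 847, -1160, 818, 283, -4, 19, 2, 377, 74, 32, -28, -81, -15, 29, -28, -76, 41, -27, -56],
    [16, -209, -349, 312, -492, 297, -404, 283, 102, -4, 9, 0, 128, 25, 12, -11, -29, -4, 9, -10, -25, 14, -8, -19],
    [0, 4, 8, -5, 11, -7, 7, -4, -4, 2, -2, 1, 0, 0, -1, 1, 1, 0, 1, 0, -1, 0, -1, 0],
    [1, -16, -28, 24, -38, 23, -29, 19, 9, -2, 2, 0, 7, 2, 1, -1, -2, 1, 0, -1, -1, 0, 0, -1],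
    [1, 1, -1, -1, -1, 2, -2, 2, 0, 1, 0, 0, 0, 0, 0, 0, 1, -1, 0, 1, 1, 0, 0, 0],
    [20, -276, -453, 410, -640, 385, -532, 377, 128, 0, 7, 0, 182, 34, 14, -13, -40, -7, 13, -14, -40, 20, -14, -27],
    [5, -53, -87, 79, -124, 75, -104, 74, 25, 0, 2, 0, 34, 6, 3, -3, -7, -1, 3, -2, -7, 4, -3, -5],
    [2, -23, -40, 35, -56, 35, -46, 32, 12, -1, 1, 0, 14, 3, 2, -1, -3, 0, 1, -1, -3, 1, -1, -2],
    [-1, 22, 36, -32, 50, -29, 40, -28, -11, 1, -1, 0, -13, -3, -1, 2, 3, 0, -1, 2, 3, -1, 1, 2],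
    [-4, 61, 98, -90, 140, -83, 115, -81, -29, 1, -2, 1, -40, -7, -3, 3, 10, 1, -3, 3, 9, -4, 3, 6],
    [-1, 11, 18, -18, 25, -15, 21, -15, -4, 0, 1, -1, -7, -1, 0, 0, 1, 0, -1, 1, 2, -1, 0, 1],
    [2, -21, -33, 32, -48, 29, -41, 29, 9, 1, 0, 0, 13, 3, 1, -1, -3, -1, 2, -1, -3, 2, -1, -2],
    [-1, 21, 34, -30, 48, -28, 39, -28, -10, 0, -1, 1, -14, -2, -1, 2, 3, 1, -1, 2, 3, -2, 1, 2],
    [-4, 55, 88, -80, 125, -75, 105, -76, -25, -1, -1, 1, -40, -7, -3, 3, 9, 2, -3, 3, 10, -4, 4, 6],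
    [2, -30, -50, 45, -70, 42, -58, 41, 14, 0, 0, 0, 20, 4, 1, -1, -4, -1, 2, -2, -4, 2, -2, -3],
    [-1, 20, 30, -29, 44, -26, 38, -27, -8, -1, 0, 0, -14, -3, -1, 1, 3, 0, -1, 1, 4, -2, 2, 2],
    [-3, 41, 67, -61, 95, -57, 79, -56, -19, 0, -1, 0, -27, -5, -2, 2, 6, 1, -2, 2, 6, -3, 2, 4]]

/-- The matrix of letter 15. -/
def mat15 : List (List ℤ) := [
    [1, 0, 0, 0, 0, 0, 0, 0, 0, 0, 0, 0, 0, 0, 0, 0, 0, 0, 0, 0, 0, 0, 0, 0],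
    [-16, 7, -1, 8, 10, 7, 0, -1, 8, 25, 8, -1, 1, 6, 6, -1, -5, 15, 6, -7, 17, 2, 18, -52],
    [-21, 8, -4, 9, 13, 8, -5, -3, 10, 38, 12, -4, -22, -5, -4, 5, -13, 7, -2, -11, 1, -2, 10, -110],
    [23, -9, 1, -11, -14, -9, 2, 0, -12, -36, -11, 2, 8, -1, -3, -1, 9, -15, -2, 12, -15, 2, -18, 84],
    [-35, 15, -3, 16, 21, 14, -4, -1, 18, 56, 19, -3, -19, 0, 0, 4, -17, 20, 2, -18, 16, 0, 24, -143],
    [19, -8, 3, -8, -11, -7, 3, 2, -10, -32, -11, 3, 15, 1, 2, -4, 10, -9, 0, 9, -4, -1, -11, 89],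
    [-30, 13, -2, 13, 17, 12, -2, -1, 16, 47, 17, -2, -11, 4, 2, 3, -13, 21, 5, -15, 18, 3, 25, -115],
    [22, -10, 1, -10, -12, -9, 1, 1, -11, -34, -12, 1, 6, -4, -3, -1, 10, -16, -4, 11, -16, -2, -19, 80],
    [7, -3, 1, -3, -4, -3, 1, 0, -3, -11, -4, 1, 7, 2, 2, -2, 4, -2, 1, 3, 1, 0, -2, 31],
    [2, -1, -1, -1, -1, -1, -1, 0, -1, -1, -1, -1, -7, -5, -4, 2, -1, -6, -4, 1, -9, -2, -7, -3],
    [0, 0, 1, 1, 0, 0, 0, 0, 0, 0, 0, 0, 1, 0, 1, -1, 1, 0, -1, -1, 2, -2, 0, 0],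
    [-2, 1, 0, 1, 1, 1, 1, 1, 1, 2, 1, 1, 1, 1, 1, 0, -1, 2, 1, 0, 2, 1, 2, 0],
    [13, -6, 0, -6, -7, -6, 0, 0, -7, -19, -7, 0, 3, -3, -2, 0, 5, -10, -3, 6, -10, -2, -11, 44],
    [2, -1, 0, -1, -1, -1, 0, 1, -1, -4, -1, 1, -1, -2, -2, 0, 0, -3, -1, 1, -4, -1, -4, 10],
    [1, -1, 0, 0, 0, -1, 0, 0, -1, -1, -1, 0, 3, 1, 3, -1, 1, 1, 1, 0, 3, -1, 2, 7],
    [-2, 1, 1, 1, 1, 1, 1, 0, 1, 2, 1, 1, 7, 5, 4, -1, 1, 6, 4, -1, 9, 2, 7, 3],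
    [-4, 2, 0, 2, 2, 2, 1, 1, 2, 5, 2, 0, 0, 1, 1, 0, -1, 3, 1, -1, 3, 1, 3, -8],
    [-1, 1, 0, 0, 0, 0, 0, 0, 0, 2, 1, 0, 1, 2, 1, 0, -1, 3, 1, -1, 3, 1, 3, -4],
    [2, -1, 0, -1, -1, -1, 0, -1, -1, -2, -1, -1, 3, 3, 2, 0, 2, 1, 2, 1, 2, 1, 2, 6],
    [0, 0, 0, 0, 0, 0, -1, -1, 0, 1, 0, 0, -2, -1, -1, 0, 0, -1, -1, 0, -1, -1, -1, -8],
    [-4, 2, 1, 2, 2, 2, 0, 0, 3, 5, 2, 0, 1, 2, 1, 0, 0, 4, 1, -2, 5, 1, 4, -11],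
    [2, -1, -1, -1, -1, -1, -1, 0, -1, -2, -1, -1, -7, -5, -4, 2, -1, -6, -4, 1, -9, -1, -7, -3],
    [-2, 1, 0, 1, 1, 2, 1, 0, 1, 2, 1, 1, 0, 0, 0, -1, -1, 1, 1, 0, 1, 1, 1, -5],
    [-2, 1, 0, 1, 1, 1, 0, 0, 1, 3, 1, 0, -1, 0, 0, 0, -1, 1, 0, -1, 1, 0, 1, -7]]

/-- Its product with the Gram matrix. -/
def matG15 : List (List ℤ) := [
    [4, -33, -57, 52, -81, 50, -67, 47, 16, 0, 1, 1, 20, 5, 2, -1, -4, -1, 2, -1, -4, 2, -1, -3],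
    [-33, 462, 785, -698, 1116, -675, 902, -632, -233, 24, -23, -3, -282, -67, -33, 21, 64, 9, -22, 22, 59, -22, 19, 42],
    [-57, 785, 1348, -1190, 1909, -1158, 1543, -1081, -399, 40, -40, -5, -479, -113, -56, 37, 105, 16, -37, 37, 98, -36, 31, 71],
    [52, -698, -1190, 1060, -1692, 1026, -1369, 958, 351, -35, 34, 7, 423, 102, 50, -31, -95, -14, 34, -32, -88, 34, -27, -63],
    [-81, 1116, 1909, -1692, 2708, -1641, 2189, -1533, -564, 56, -55, -8, -679, -161, -79, 52, 150, 22, -54, 52, 140, -52, 44, 101],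
    [50, -675, -1158, 1026, -1641, 996, -1329, 931, 340, -32, 32, 6, 411, 97, 47, -31, -89, -14, 33, -31, -84, 32, -26, -61],
    [-67, 902, 1543, -1369, 2189, -1329, 1774, -1244, -453, 43, -42, -8, -551, -131, -64, 41, 120, 18, -44, 41, 114, -43, 37, 82],
    [47, -632, -1081, 958, -1533, 931, -1244, 874, 317, -29, 29, 5, 390, 92, 45, -29, -84, -13, 31, -29, -82, 30, -27, -58],
    [16, -233, -399, 351, -564, 340, -453, 317, 120, -13, 13, 0, 141, 33, 16, -12, -32, -5, 11, -12, -28, 10, -9, -21],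
    [0, 24, 40, -35, 56, -32, 43, -29, -13, 2, -2, 1, -13, -3, -1, 2, 4, 1, -1, 2, 2, -1, 0, 2],
    [1, -23, -40, 34, -55, 32, -42, 29, 13, -2, 2, -1, 13, 3, 1, -2, -3, 0, 1, -2, -2, 0, -1, -2],
    [1, -3, -5, 7, -8, 6, -8, 5, 0, 1, -1, 2, 0, 1, 0, 1, 0, 0, 0, 1, 0, 1, 1, 0],
    [20, -282, -479, 423, -679, 411, -551, 390, 141, -13, 13, 0, 182, 41, 20, -13, -40, -7, 13, -14, -40, 13, -14, -27],
    [5, -67, -113, 102, -161, 97, -131, 92, 33, -3, 3, 1, 41, 10, 4, -3, -9, -1, 4, -3, -9, 3, -3, -6],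
    [2, -33, -56, 50, -79, 47, -64, 45, 16, -1, 1, 0, 20, 4, 2, -2, -4, -1, 2, -2, -4, 2, -1, -3],
    [-1, 21, 37, -31, 52, -31, 41, -29, -12, 2, -2, 1, -13, -3, -2, 2, 3, 0, -1, 1, 3, 0, 1, 2],
    [-4, 64, 105, -95, 150, -89, 120, -84, -32, 4, -3, 0, -40, -9, -4, 3, 10, 1, -3, 4, 9, -3, 3, 6],
    [-1, 9, 16, -14, 22, -14, 18, -13, -5, 1, 0, 0, -7, -1, -1, 0, 1, 0, -1, 1, 2, 0, 1, 1],
    [2, -22, -37, 34, -54, 33, -44, 31, 11, -1, 1, 0, 13, 4, 2, -1, -3, -1, 2, -1, -3, 1, -1, -2],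
    [-1, 22, 37, -32, 52, -31, 41, -29, -12, 2, -2, 1, -14, -3, -2, 1, 4, 1, -1, 2, 3, -1, 1, 2],
    [-4, 59, 98, -88, 140, -84, 114, -82, -28, 2, -2, 0, -40, -9, -4, 3, 9, 2, -3, 3, 10, -3, 3, 6],
    [2, -22, -36, 34, -52, 32, -43, 30, 10, -1, 0, 1, 13, 3, 2, 0, -3, 0, 1, -1, -3, 2, -1, -2],
    [-1, 19, 31, -27, 44, -26, 37, -27, -9, 0, -1, 1, -14, -3, -1, 1, 3, 1, -1, 1, 3, -1, 2, 2],
    [-3, 42, 71, -63, 101, -61, 82, -58, -21, 2, -2, 0, -27, -6, -3, 2, 6, 1, -2, 2, 6, -2, 2, 4]]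

/-- The matrix of letter 16. -/
def mat16 : List (List ℤ) := [
    [1, 0, 0, 0, 0, 0, 0, 0, 0, 0, 0, 0, 0, 0, 0, 0, 0, 0, 0, 0, 0, 0, 0, 0],
    [-6, -8, -7, -7, 3, -7, 8, -5, 0, -7, 3, -7, 59, 50, 35, -1, 23, 56, 42, 12, 55, 33, 64, 49],
    [-8, -14, -14, -13, 4, -13, 11, -6, 0, -14, 6, -15, 76, 69, 44, 5, 36, 77, 58, 20, 65, 53, 87, 63],
    [10, 11, 10, 10, -5, 11, -11, 6, 0, 11, -5, 11, -86, -74, -51, 0, -34, -84, -62, -16, -81, -49, -95, -68],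
    [-11, -20, -18, -19, 5, -19, 16, -10, -2, -20, 8, -20, 121, 107, 71, 4, 53, 120, 90, 27, 109, 76, 136, 96],
    [6, 12, 12, 12, -2, 11, -9, 6, 1, 12, -5, 13, -61, -57, -35, -5, -30, -63, -48, -17, -52, -45, -71, -46],
    [-8, -16, -16, -16, 3, -16, 13, -10, -2, -16, 7, -17, 97, 87, 56, 4, 44, 96, 73, 24, 86, 64, 109, 75],
    [6, 11, 11, 11, -2, 11, -11, 7, 1, 11, -5, 12, -75, -66, -43, -2, -33, -72, -55, -18, -67, -47, -82, -62],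
    [1, 5, 4, 4, -1, 4, -2, 2, 1, 5, -1, 4, -18, -16, -11, -1, -9, -18, -14, -5, -15, -12, -21, -14],
    [0, 0, 0, 0, 0, 0, -1, 1, 0, -1, 0, 0, -7, -5, -4, 1, -2, -5, -4, -1, -7, -2, -6, -8],
    [-1, 1, 1, 1, 0, 1, 1, 0, 1, 1, 0, 0, 3, 2, 1, 0, 1, 2, 1, 0, 3, 1, 2, 4],
    [2, -1, -1, -1, 0, -1, 0, -1, -1, -1, -1, -1, 4, 3, 3, -1, 1, 3, 3, 1, 4, 1, 4, 4],
    [0, 6, 7, 7, 0, 7, -6, 6, 0, 6, 0, 6, -44, -38, -25, 0, -18, -39, -32, -12, -38, -26, -45, -43],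
    [1, 1, 1, 1, -1, 1, -2, 1, 0, 1, -1, 1, -15, -13, -9, 1, -5, -14, -10, -2, -15, -7, -16, -11],
    [-1, 1, 1, 1, 1, 1, 0, 1, 1, 1, 0, 1, 1, 0, 0, -1, -1, 1, 0, -1, 2, -1, 1, 1],
    [-1, 0, 1, 0, 1, 0, 1, 0, 0, 0, 1, 0, 12, 9, 7, -2, 3, 11, 7, -1, 14, 3, 12, 8],
    [1, -2, -2, -2, 0, -2, 1, -2, -1, -2, -1, -1, 11, 9, 7, -1, 3, 9, 8, 3, 10, 5, 11, 12],
    [1, -1, -1, -1, 0, -1, 1, -1, 0, -1, 0, -1, 7, 6, 4, 0, 3, 5, 5, 2, 6, 4, 7, 8],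
    [1, 0, 0, 0, -1, 0, -1, 0, 0, 0, -1, 0, -8, -6, -5, 1, -2, -8, -6, 0, -9, -3, -9, -3],
    [-1, 0, 0, 0, 1, 0, 1, 0, 1, 0, 0, 0, 8, 6, 5, -1, 2, 7, 5, 0, 8, 3, 8, 9],
    [0, -1, -1, -2, 0, -2, 2, -2, 0, -1, 0, -1, 19, 16, 11, -1, 6, 17, 13, 2, 19, 8, 19, 16],
    [1, 0, 0, 0, 0, 0, -1, 1, 0, 0, 0, 0, -7, -5, -4, 1, -2, -5, -4, -1, -7, -3, -6, -8],
    [0, 0, -1, 0, 0, 0, 1, -1, 0, 0, 0, 0, 3, 2, 2, -1, 1, 2, 2, 2, 2, 2, 2, 3],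
    [0, -1, -1, -1, 0, -1, 1, -1, 0, -1, 0, -1, 7, 6, 4, 0, 3, 6, 5, 2, 6, 4, 7, 7]]

/-- Its product with the Gram matrix. -/
def matG16 : List (List ℤ) := [
    [4, -33, -57, 52, -81, 50, -67, 47, 16, 0, 1, 1, 20, 5, 2, -1, -4, -1, 2, -1, -4, 2, -1, -3],
    [-33, 0, 30, -43, 59, -67, 84, -63, 5, -19, 8, -19, -2, -10, -9, -11, -11, 9, -11, -11, -1, -6, 1, 0],
    [-57, 30, 98, -120, 170, -153, 195, -140, -6, -30, 13, -34, -16, -20, -15, -17, -14, 14, -20, -19, 0, -11, 0, 2],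
    [52, -43, -120, 126, -192, 163, -208, 152, 16, 27, -8, 27, 30, 21, 16, 13, 10, -15, 17, 15, -3, 10, -3, -4],
    [-81, 59, 170, -192, 280, -242, 310, -224, -18, -43, 17, -46, -38, -32, -23, -23, -17, 22, -28, -25, 4, -16, 2, 5],
    [50, -67, -153, 163, -242, 188, -246, 176, 26, 25, -9, 27, 43, 23, 15, 12, 5, -14, 19, 14, -7, 11, -2, -6],
    [-67, 84, 195, -208, 310, -246, 320, -231, -32, -34, 13, -36, -56, -32, -22, -17, -7, 20, -25, -18, 10, -15, 4, 8],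
    [47, -63, -140, 152, -224, 176, -231, 166, 23, 24, -10, 26, 41, 23, 16, 12, 4, -14, 18, 12, -8, 12, -3, -6],
    [16, 5, -6, 16, -18, 26, -32, 23, -6, 10, -5, 11, -5, 4, 3, 6, 7, -3, 5, 7, 2, 3, 1, 1],
    [0, -19, -30, 27, -43, 25, -34, 24, 10, -2, 1, -1, 12, 3, 2, -1, -4, -1, 1, -2, -3, 1, -1, -2],
    [1, 8, 13, -8, 17, -9, 13, -10, -5, 1, -2, 2, -6, -1, -1, 2, 2, 1, 0, 1, 1, 0, 1, 1],
    [1, -19, -34, 27, -46, 27, -36, 26, 11, -1, 2, -2, 13, 2, 1, -2, -3, -1, 1, -1, -2, 0, -1, -2],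
    [20, -2, -16, 30, -38, 43, -56, 41, -5, 12, -6, 13, 0, 7, 7, 7, 6, -6, 7, 7, 0, 6, 0, 0],
    [5, -10, -20, 21, -32, 23, -32, 23, 4, 3, -1, 2, 7, 2, 2, 1, 0, -2, 3, 1, -1, 2, -1, -1],
    [2, -9, -15, 16, -23, 15, -22, 16, 3, 2, -1, 1, 7, 2, 0, 0, -1, -1, 1, 1, -2, 1, 0, -1],
    [-1, -11, -17, 13, -23, 12, -17, 12, 6, -1, 2, -2, 7, 1, 0, -2, -2, 0, 0, -1, -1, 0, -1, -1],
    [-4, -11, -14, 10, -17, 5, -7, 4, 7, -4, 2, -3, 6, 0, -1, -2, -4, 1, -1, -2, -1, -1, 0, -1],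
    [-1, 9, 14, -15, 22, -14, 20, -14, -3, -1, 1, -1, -6, -2, -1, 0, 1, 0, -1, 0, 2, -1, 1, 1],
    [2, -11, -20, 17, -28, 19, -25, 18, 5, 1, 0, 1, 7, 3, 1, 0, -1, -1, 0, 0, -1, 1, -1, -1],
    [-1, -11, -19, 15, -25, 14, -18, 12, 7, -2, 1, -1, 7, 1, 1, -1, -2, 0, 0, -2, -2, 0, 0, -1],
    [-4, -1, 0, -3, 4, -7, 10, -8, 2, -3, 1, -2, 0, -1, -2, -1, -1, 2, -1, -2, 0, -2, 0, 0],
    [2, -6, -11, 10, -16, 11, -15, 12, 3, 1, 0, 0, 6, 2, 1, 0, -1, -1, 1, 0, -2, 0, -1, -1],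
    [-1, 1, 0, -3, 2, -2, 4, -3, 1, -1, 1, -1, 0, -1, 0, -1, 0, 1, -1, 0, 0, -1, 0, 0],
    [-3, 0, 2, -4, 5, -6, 8, -6, 1, -2, 1, -2, 0, -1, -1, -1, -1, 1, -1, -1, 0, -1, 0, 0]]

/-- The matrices with their products with the Gram matrix. -/
def mats : List (List (List ℤ) × List (List ℤ)) := [(mat0, matG0), (mat1, matG1), (mat2, matG2), (mat3, matG3), (mat4, matG4), (mat5, matG5), (mat6, matG6), (mat7, matG7), (mat8, matG8), (mat9, matG9), (mat10, matG10), (mat11, matG11), (mat12, matG12), (mat13, matG13), (mat14, matG14), (mat15, matG15), (mat16, matG16)]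

end CfsgLib.CoTwoRec
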