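import Cfsg.Agent.Lib.Rigid.Co2Out
import Cfsg.Agent.Lib.CoTwoRec.Data

/-!
# The involution centraliser inside the model of Co2

The model is the stabiliser of a minimal vector, an element being known by its code on twenty three bits.
Words are products, read from the left.
-/

set_option autoImplicit false
set_option maxRecDepth 100000

namespace CfsgLib.CoTwoRec

open Cfsg CfsgLib.Rigid

/-- The model. -/
abbrev CoG : Type := ↥Co2.grp

/-- The codes of the model. -/
noncomputable def cod : Cod CoG := Co2.basis.cod Co2.grp Co2.grp_fix

/-- The code of an element. -/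
noncomputable def code (g : CoG) : List ℕ := cod.C g

/-- The value of a word under an assignment of the letters. -/
def ev {M : Type*} [Monoid M] (f : ℕ → M) (w : List ℕ) : M := (w.map f).prod

/-- The code of a word. -/
noncomputable def cEv (w : List ℕ) : List ℕ := w.foldr (fun l a => mulF (codes.getD l []) a) Co2.data.one

/-- The element of a letter. -/
noncomputable def letter (l : ℕ) : CoG :=
  open scoped Classical in if h : ∃ g, code g = codes.getD l [] then h.choose else 1

theorem code_one : code 1 = Co2.data.one := by
  show Co2.basis.cols ((1 : CoG) : Co0) = _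
  rw [show ((1 : CoG) : Co0) = 1 from rfl, Co2.basis.cols_one]
  exact (eqL_iff _ _).1 Co2.code_ok.2.2.2

theorem code_mul (g h : CoG) : code (g * h) = mulF (code g) (code h) := cod.mul g h

theorem code_injective : Function.Injective code := by
  have := finite_co0
  obtain ⟨U, hU⟩ := Co2.exists_gen Co2.autU_ok fun k => (Co2.ent_row k).1
  obtain ⟨V, hV⟩ := Co2.exists_gen Co2.autV_ok fun k => (Co2.ent_row k).2.1
  obtain ⟨W, hW⟩ := Co2.exists_gen Co2.autW_ok fun k => (Co2.ent_row k).2.2
  obtain ⟨cu, cv, cw, -⟩ := Co2.code_ok
  simp only [eqL_iff] at cu cv cw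
  set K : Subgroup CoG := Subgroup.closure {x | x ∈ [U, V, W]}
  have hbase : ∀ M ∈ [Co2.data.u, Co2.data.v, Co2.data.w], cod.Mem K M := by
    intro M hM
    simp only [List.mem_cons, List.not_mem_nil, or_false] at hM
    rcases hM with rfl | rfl | rfl
    · exact ⟨U, Subgroup.subset_closure (by simp), hU.trans cu⟩
    · exact ⟨V, Subgroup.subset_closure (by simp), hV.trans cv⟩
    · exact ⟨W, Subgroup.subset_closure (by simp), hW.trans cw⟩
  have hknown := cod.slp_sound code_one Co2.data.ops _ hbase Co2.ops_ok
  have hlev : cod.Levels Co2.data.one Co2.data.known [] Co2.data.levels := by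
    refine levels_of_checks Co2.basis Co2.grp Co2.grp_fix _ _ _ Co2.baseCoef [] Co2.base_ok ?_
    intro i hi
    have hi' : i < 6 := hi
    interval_cases i
    exacts [Co2.level0_ok, Co2.level1_ok, Co2.level2_ok, Co2.level3_ok, Co2.level4_ok, Co2.level5_ok]
  have hchain := cod.chain_of_levels code_one hknown _ [] hlev
  exact cod.injective_of_full hchain (cod.full_of_card hchain (by rw [Co2.prod_ok, Co2.card_grp])).1

/-- The checks of the matrices of the letters. -/
noncomputable def lettersB : Bool :=
  decide (mats.length = 17) && (List.range 17).all fun l =>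
    Basis.autTest Co2.gram (mats.getD l ([], [])).1 (mats.getD l ([], [])).1 (mats.getD l ([], [])).2 &&
      decide ((mats.getD l ([], [])).1.head? = some (Basis.idMat.headD [])) &&
      eqL (Basis.matCode (mats.getD l ([], [])).1) (codes.getD l []) &&
      eqL (mulF (codes.getD l []) (codes.getD l [])) Co2.data.one

theorem letters_ok : lettersB = true := by decide +kernel

theorem code_letter {l : ℕ} (hl : l < 17) : code (letter l) = codes.getD l [] := by
  have h := letters_ok
  simp only [lettersB, Bool.and_eq_true, List.all_eq_true, List.mem_range, decide_eq_true_eq] at h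
  obtain ⟨⟨⟨ha, hr⟩, hc⟩, -⟩ := h.2 l hl
  have hex : ∃ g : CoG, code g = codes.getD l [] := by
    obtain ⟨g, hg⟩ := Co2.exists_gen ha fun k => by
      have e : ∀ k : Fin 24, (Basis.idMat.headD []).getD k.val 0 = if 0 = k then (1 : ℤ) else 0 := by
        decide +kernel
      rw [← e k, Basis.ent]
      cases hN : (mats.getD l ([], [])).1 with
      | nil => rw [hN] at hr; simp at hr
      | cons r N =>
        rw [hN] at hr
        simp only [List.head?_cons, Option.some.injEq] at hr
        subst hr
        rfl
    exact ⟨g, hg.trans ((eqL_iff _ _).1 hc)⟩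
  simp only [letter, dif_pos hex]
  exact hex.choose_spec

theorem code_ev : ∀ {w : List ℕ}, (∀ l ∈ w, l < 17) → code (ev letter w) = cEv w
  | [], _ => code_one
  | l :: w, h => by
    rw [show ev letter (l :: w) = letter l * ev letter w by simp [ev], code_mul,
      code_letter (h l List.mem_cons_self), code_ev fun k hk => h k (List.mem_cons_of_mem _ hk)]
    rfl

/-- Words with equal codes. -/
noncomputable def sameC (u w : List ℕ) : Bool :=
  u.all (fun l => Nat.blt l 17) && w.all (fun l => Nat.blt l 17) && eqL (cEv u) (cEv w)

theorem ev_eq_of_sameC {u w : List ℕ} (h : sameC u w = true) : ev letter u = ev letter w := by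
  simp only [sameC, Bool.and_eq_true, List.all_eq_true, Nat.blt_eq, eqL_iff] at h
  exact code_injective (by rw [code_ev h.1.1, code_ev h.1.2, h.2])

theorem letter_mul_self {l : ℕ} (hl : l < 17) : letter l * letter l = 1 := by
  have h := letters_ok
  simp only [lettersB, Bool.and_eq_true, List.all_eq_true, List.mem_range, eqL_iff] at h
  exact code_injective (by rw [code_mul, code_letter hl, (h.2 l hl).2, code_one])

/-- The centraliser in the model. -/
noncomputable def Cm : Subgroup CoG := Subgroup.closure (Set.range fun l : Fin 16 => letter l)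

/-- A letter of the centraliser, in the centraliser. -/
noncomputable def xm (l : ℕ) : Cm :=
  if h : l < 16 then ⟨letter l, Subgroup.subset_closure ⟨⟨l, h⟩, rfl⟩⟩ else 1

theorem coe_xm {l : ℕ} (hl : l < 16) : (xm l : CoG) = letter l := by rw [xm, dif_pos hl]

theorem coe_ev_xm : ∀ {w : List ℕ}, (∀ l ∈ w, l < 16) → ((ev xm w : Cm) : CoG) = ev letter w
  | [], _ => rfl
  | l :: w, h => by
    rw [show ev xm (l :: w) = xm l * ev xm w by simp [ev],
      show ev letter (l :: w) = letter l * ev letter w by simp [ev], Subgroup.coe_mul,
      coe_xm (h l List.mem_cons_self), coe_ev_xm fun k hk => h k (List.mem_cons_of_mem _ hk)]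

theorem ev_xm_eq {u w : List ℕ} (hu : ∀ l ∈ u, l < 16) (hw : ∀ l ∈ w, l < 16) (h : sameC u w = true) :
    ev xm u = ev xm w :=
  Subtype.ext (by rw [coe_ev_xm hu, coe_ev_xm hw]; exact ev_eq_of_sameC h)

/-- The central involution. -/
noncomputable def tm : Cm := ev xm tWord

/-- The neighbour. -/
noncomputable def nbr : Cm := ev xm xWord

/-- The involution over a transvection. -/
noncomputable def sec : Cm := ev xm yWord

/-- The value of a letter, given the centraliser and a further element. -/
noncomputable def gl {M : Type*} [Group M] (ι : Cm →* M) (n : M) (l : ℕ) : M :=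
  if l < 16 then ι (xm l) else n

/-- The centraliser of the involution `t` is a copy of that of the model. -/
structure Coord {G : Type*} [Group G] (t : G) where
  /-- The identification. -/
  iota : Cm →* G
  inj : Function.Injective iota
  range_eq : iota.range = Subgroup.centralizer ({t} : Set G)
  map_t : iota tm = t

end CfsgLib.CoTwoRec
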