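import Cfsg.Agent.Lib.CoTwoRec.CertSys
import Cfsg.Agent.Lib.CoTwoRec.CertDataCover

/-!
# The chains of the centraliser and of the stabilisers
-/

set_option autoImplicit false
set_option maxRecDepth 100000
set_option Elab.async false

namespace CfsgLib.CoTwoRec

open CfsgLib.CoThreeRec (Sys Ident Step Hop runB movesB coverB hopB stabWord)

/-- The product of facts. -/
def factWord (k : ℕ) (is : List ℕ) : List ℕ := (stabWord certSts k is).getD []

/-- A chain of a stabiliser. -/
noncomputable def stabChainB (k N : ℕ) (L : List (ℕ × List (List ℕ))) : Bool :=
  chainB (fun is a => evalV (factWord k is) a) [] L && Nat.beq (chainCard L) N &&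
    decide (factWord k [] = []) &&
    L.all fun e => e.2.all fun is => (stabWord certSts k is).isSome

theorem certChain1_ok : stabChainB 1 589824 certChain1 = true := by decide +kernel

theorem certChain2_ok : stabChainB 2 51840 certChain2 = true := by decide +kernel

theorem certChain3_ok : stabChainB 3 18432 certChain3 = true := by decide +kernel

theorem certChain4_ok : stabChainB 4 737280 certChain4 = true := by decide +kernel

end CfsgLib.CoTwoRec
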