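import Cfsg.Agent.Lib.CoThreeRec.Count

/-!
# The checks of the tables with the tables in equal parts
-/

set_option autoImplicit false

namespace CfsgLib.CoTwoRec

open CfsgLib.CoThreeRec (Sys Ident Hop movesB coverB hopB)

/-- An entry of a table in parts of the given size. -/
def look {α : Type} (sz : ℕ) (C : List (List α)) (i : ℕ) (d : α) : α := (C.getD (i / sz) []).getD (i % sz) d

/-- All parts but the last have the given size. -/
def fullB {α : Type} (sz : ℕ) : List (List α) → Bool
  | [] => true
  | [c] => Nat.ble c.length sz
  | c :: C => Nat.beq c.length sz && fullB sz C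

theorem look_eq {α : Type} {sz : ℕ} (d : α) (hsz : 0 < sz) :
    ∀ {C : List (List α)}, fullB sz C = true → ∀ i, C.flatten.getD i d = look sz C i d
  | [], _, i => by simp [look]
  | [c], h, i => by
    simp only [fullB, Nat.ble_eq] at h
    simp only [List.flatten_cons, List.flatten_nil, List.append_nil, look]
    by_cases hi : i < sz
    · rw [Nat.div_eq_of_lt hi, Nat.mod_eq_of_lt hi, List.getD_cons_zero]
    · obtain ⟨q, hq⟩ : ∃ q, i / sz = q + 1 := ⟨i / sz - 1, by
        have := Nat.div_pos (Nat.le_of_not_lt hi) hsz; omega⟩
      rw [hq, List.getD_cons_succ, List.getD_nil, List.getD_nil, List.getD_eq_default _ _ (by omega)]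
  | c :: c' :: C, h, i => by
    simp only [fullB, Bool.and_eq_true, Nat.beq_eq] at h
    rw [List.flatten_cons]
    by_cases hi : i < sz
    · rw [List.getD_append _ _ _ _ (by omega), look, Nat.div_eq_of_lt hi, Nat.mod_eq_of_lt hi,
        List.getD_cons_zero]
    · have hi' := Nat.le_of_not_lt hi
      rw [List.getD_append_right _ _ _ _ (by omega), h.1, look_eq d hsz h.2, look, look,
        show i / sz = (i - sz) / sz + 1 by rw [Nat.div_eq_sub_div hsz hi'],
        show i % sz = (i - sz) % sz by rw [Nat.mod_eq_sub_mod hi'], List.getD_cons_succ]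

variable (eqb : List ℕ → List ℕ → Bool) (Y : Sys)

/-- The closure of the representatives under a letter, on tables in parts. -/
def movesC (sz : ℕ) (reps : List (List (List ℕ))) (moves : List (List (ℕ × List ℕ))) (N l : ℕ) : Bool :=
  fullB sz reps && fullB sz moves && Nat.beq reps.flatten.length N &&
  (List.range N).all fun r =>
    let m := look sz moves r (N, [])
    Nat.blt m.1 N && m.2.all (fun u => Nat.blt u Y.pairs.length) &&
      eqb (l :: look sz reps r []) (look sz reps m.1 [] ++ Y.dx m.2)

/-- The identities at the representatives, on tables in parts. -/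
def coverC (ids : List Ident) (sts : List (ℕ × List ℕ)) (sz : ℕ) (reps : List (List (List ℕ)))
    (hops : List (List Hop)) (N I k : ℕ) : Bool :=
  fullB sz reps && fullB sz hops && Nat.beq reps.flatten.length N && Nat.beq ids.length I &&
  (List.range N).all fun r =>
    match hopB eqb Y ids sts (look sz hops r ⟨I, [], []⟩) (k, look sz reps r []) with
    | some Q => Nat.blt Q.1 Y.base.length
    | none => false

variable {eqb Y}

theorem movesB_of_parts {sz N l : ℕ} {reps : List (List (List ℕ))} {moves : List (List (ℕ × List ℕ))}
    (hsz : 0 < sz) (h : movesC eqb Y sz reps moves N l = true) :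
    movesB eqb Y reps.flatten moves.flatten l = true := by
  simp only [movesC, Bool.and_eq_true, Nat.beq_eq] at h
  obtain ⟨⟨⟨hr, hm⟩, hN⟩, hall⟩ := h
  simp only [movesB, hN, look_eq _ hsz hr, look_eq _ hsz hm]
  simpa only [Bool.and_eq_true] using hall

theorem coverB_of_parts {ids : List Ident} {sts : List (ℕ × List ℕ)} {sz N I k : ℕ}
    {reps : List (List (List ℕ))} {hops : List (List Hop)}
    (hsz : 0 < sz) (h : coverC eqb Y ids sts sz reps hops N I k = true) :
    coverB eqb Y ids sts reps.flatten hops.flatten k = true := by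
  simp only [coverC, Bool.and_eq_true, Nat.beq_eq] at h
  obtain ⟨⟨⟨⟨hr, hm⟩, hN⟩, hI⟩, hall⟩ := h
  simp only [coverB, hN, hI, look_eq _ hsz hr, look_eq _ hsz hm]
  exact hall

end CfsgLib.CoTwoRec
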