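import Cfsg.Agent.Lib.CoTwoRec.CertSys
import Cfsg.Agent.Lib.CoTwoRec.CertLook
import Cfsg.Agent.Lib.CoTwoRec.CertDataCover

/-!
# The identities at the representatives, part C
-/

set_option autoImplicit false
set_option maxRecDepth 100000
set_option Elab.async false

namespace CfsgLib.CoTwoRec

open CfsgLib.CoThreeRec (Sys Ident Step Hop runB movesB coverB hopB stabWord)

theorem certCover4_ok : coverB certEqB certSys certIdents certSts certReps certCover4 4 = true :=
  coverB_of_parts (sz := 36) (N := 1260) (I := 64) (by decide)
    (show coverC certEqB certSys certIdents certSts 36 certRepsC certCover4C 1260 64 4 = true by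
      decide +kernel)

end CfsgLib.CoTwoRec
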