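import Cfsg.Agent.Lib.CoTwoRec.CertSys
import Cfsg.Agent.Lib.CoTwoRec.CertLook

/-!
# The moves of the representatives, part A
-/

set_option autoImplicit false
set_option maxRecDepth 100000
set_option Elab.async false

namespace CfsgLib.CoTwoRec

open CfsgLib.CoThreeRec (Sys Ident Step Hop runB movesB coverB hopB stabWord)

theorem certMoves0_ok : movesB certEqB certSys certReps certMoves0 0 = true :=
  movesB_of_parts (sz := 36) (N := 1260) (by decide)
    (show movesC certEqB certSys 36 certRepsC certMoves0C 1260 0 = true by decide +kernel)

theorem certMoves1_ok : movesB certEqB certSys certReps certMoves1 1 = true :=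
  movesB_of_parts (sz := 36) (N := 1260) (by decide)
    (show movesC certEqB certSys 36 certRepsC certMoves1C 1260 1 = true by decide +kernel)

theorem certMoves2_ok : movesB certEqB certSys certReps certMoves2 2 = true :=
  movesB_of_parts (sz := 36) (N := 1260) (by decide)
    (show movesC certEqB certSys 36 certRepsC certMoves2C 1260 2 = true by decide +kernel)

theorem certMoves3_ok : movesB certEqB certSys certReps certMoves3 3 = true :=
  movesB_of_parts (sz := 36) (N := 1260) (by decide)
    (show movesC certEqB certSys 36 certRepsC certMoves3C 1260 3 = true by decide +kernel)

theorem certMoves4_ok : movesB certEqB certSys certReps certMoves4 4 = true :=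
  movesB_of_parts (sz := 36) (N := 1260) (by decide)
    (show movesC certEqB certSys 36 certRepsC certMoves4C 1260 4 = true by decide +kernel)

theorem certMoves5_ok : movesB certEqB certSys certReps certMoves5 5 = true :=
  movesB_of_parts (sz := 36) (N := 1260) (by decide)
    (show movesC certEqB certSys 36 certRepsC certMoves5C 1260 5 = true by decide +kernel)

theorem certMoves6_ok : movesB certEqB certSys certReps certMoves6 6 = true :=
  movesB_of_parts (sz := 36) (N := 1260) (by decide)
    (show movesC certEqB certSys 36 certRepsC certMoves6C 1260 6 = true by decide +kernel)

theorem certMoves7_ok : movesB certEqB certSys certReps certMoves7 7 = true :=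
  movesB_of_parts (sz := 36) (N := 1260) (by decide)
    (show movesC certEqB certSys 36 certRepsC certMoves7C 1260 7 = true by decide +kernel)

end CfsgLib.CoTwoRec
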