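import Cfsg.Agent.Lib.CoTwoRec.CertSys
import Cfsg.Agent.Lib.CoTwoRec.CertLook

/-!
# The moves of the representatives, part B
-/

set_option autoImplicit false
set_option maxRecDepth 100000
set_option Elab.async false

namespace CfsgLib.CoTwoRec

open CfsgLib.CoThreeRec (Sys Ident Step Hop runB movesB coverB hopB stabWord)

theorem certMoves8_ok : movesB certEqB certSys certReps certMoves8 8 = true :=
  movesB_of_parts (sz := 36) (N := 1260) (by decide)
    (show movesC certEqB certSys 36 certRepsC certMoves8C 1260 8 = true by decide +kernel)

theorem certMoves9_ok : movesB certEqB certSys certReps certMoves9 9 = true :=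
  movesB_of_parts (sz := 36) (N := 1260) (by decide)
    (show movesC certEqB certSys 36 certRepsC certMoves9C 1260 9 = true by decide +kernel)

theorem certMoves10_ok : movesB certEqB certSys certReps certMoves10 10 = true :=
  movesB_of_parts (sz := 36) (N := 1260) (by decide)
    (show movesC certEqB certSys 36 certRepsC certMoves10C 1260 10 = true by decide +kernel)

theorem certMoves11_ok : movesB certEqB certSys certReps certMoves11 11 = true :=
  movesB_of_parts (sz := 36) (N := 1260) (by decide)
    (show movesC certEqB certSys 36 certRepsC certMoves11C 1260 11 = true by decide +kernel)

theorem certMoves12_ok : movesB certEqB certSys certReps certMoves12 12 = true :=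
  movesB_of_parts (sz := 36) (N := 1260) (by decide)
    (show movesC certEqB certSys 36 certRepsC certMoves12C 1260 12 = true by decide +kernel)

theorem certMoves13_ok : movesB certEqB certSys certReps certMoves13 13 = true :=
  movesB_of_parts (sz := 36) (N := 1260) (by decide)
    (show movesC certEqB certSys 36 certRepsC certMoves13C 1260 13 = true by decide +kernel)

theorem certMoves14_ok : movesB certEqB certSys certReps certMoves14 14 = true :=
  movesB_of_parts (sz := 36) (N := 1260) (by decide)
    (show movesC certEqB certSys 36 certRepsC certMoves14C 1260 14 = true by decide +kernel)

theorem certMoves15_ok : movesB certEqB certSys certReps certMoves15 15 = true :=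
  movesB_of_parts (sz := 36) (N := 1260) (by decide)
    (show movesC certEqB certSys 36 certRepsC certMoves15C 1260 15 = true by decide +kernel)

end CfsgLib.CoTwoRec
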