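import Cfsg.Agent.Lib.CoTwoRec.RelsData
import Cfsg.Agent.Lib.CoTwoRec.CertCheckMovesA
import Cfsg.Agent.Lib.CoTwoRec.CertCheckMovesB
import Cfsg.Agent.Lib.CoTwoRec.CertCheckCoverA
import Cfsg.Agent.Lib.CoTwoRec.CertCheckCoverB
import Cfsg.Agent.Lib.CoTwoRec.CertCheckCoverC
import Cfsg.Agent.Lib.CoTwoRec.CertCheckChain

/-!
# The group generated by the involution centraliser and the further element is not larger than Co2
-/

set_option autoImplicit false
set_option maxRecDepth 100000
set_option Elab.async false

namespace CfsgLib.CoTwoRec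

open CfsgLib.CoThreeRec (Sys Holds Valid Complete cv relVal baseStab SameCoset dbl valid_nil card_dbl_le)

/-- The relators, cut at the further element. -/
def cutRels : List (List (List ℕ)) :=
  ((List.range 6).map fun l => [dWords.getD l [], (dImgs.getD l []).reverse]) ++
    [[[], []], [triSeg.1, triSeg.2.1, triSeg.2.2]]

/-- Segmentwise equality. -/
noncomputable def segsEqB : List (List ℕ) → List (List ℕ) → Bool
  | [], [] => true
  | a :: r, b :: q => certEqB a b && segsEqB r q
  | _, _ => false

/-- The certificate is about these relators. -/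
noncomputable def certInputB : Bool :=
  decide (rels = cutRels.map fun r => (r.map fun a => 16 :: a).flatten) &&
    (cutRels.all fun r => r.all fun a => a.all fun l => Nat.blt l 16) &&
    Nat.beq cutRels.length certRels.length && Nat.beq certPairs0.length 6 &&
    ((List.range certRels.length).all fun l => segsEqB (certRels.getD l []) (cutRels.getD l [])) &&
    ((List.range 6).all fun l => certEqB (certPairs0.getD l ([], [])).1 (dWords.getD l []) &&
      certEqB (certPairs0.getD l ([], [])).2 (dImgs.getD l []))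

theorem certInput_ok : certInputB = true := by decide +kernel

theorem dImgs_lt : ∀ l < 6, ∀ a ∈ dImgs.getD l [], a < 16 := by
  have h : (List.range 6).all (fun l => (dImgs.getD l []).all fun a => Nat.blt a 16) = true := by decide +kernel
  simp only [List.all_eq_true, List.mem_range, Nat.blt_eq] at h
  exact h

theorem xm_mul_self {l : ℕ} (hl : l < 16) : xm l * xm l = 1 :=
  Subtype.ext (by rw [Subgroup.coe_mul, coe_xm hl, letter_mul_self (by omega), OneMemClass.coe_one])

theorem xm_prod_reverse : ∀ {w : List ℕ}, (∀ l ∈ w, l < 16) →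
    (w.reverse.map xm).prod = ((w.map xm).prod)⁻¹
  | [], _ => by simp
  | l :: w, h => by
    rw [List.reverse_cons, List.map_append, List.prod_append, List.map_singleton, List.prod_singleton,
      xm_prod_reverse fun a ha => h a (List.mem_cons_of_mem _ ha), List.map_cons, List.prod_cons, mul_inv_rev,
      inv_eq_of_mul_eq_one_right (xm_mul_self (h l List.mem_cons_self))]

theorem map_cx_eq {w : List ℕ} (h : ∀ l ∈ w, l < 16) : w.map cx = w.map xm :=
  List.map_congr_left fun l hl => cx_spec.2.2 l (h l hl)

variable {M : Type*} [Group M] (ι : Cm →* M) (n : M)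

theorem ev_gl_low {w : List ℕ} (h : ∀ l ∈ w, l < 16) : ev (gl ι n) w = ι ((w.map xm).prod) := by
  induction w with
  | nil => simp [ev]
  | cons l w ih =>
    have ih' := ih fun a ha => h a (List.mem_cons_of_mem _ ha)
    simp only [ev] at ih' ⊢
    simp [ih', gl, h l List.mem_cons_self]

theorem ev_gl_append (u w : List ℕ) : ev (gl ι n) (u ++ w) = ev (gl ι n) u * ev (gl ι n) w := by simp [ev]

theorem ev_gl_cut : ∀ {r : List (List ℕ)}, (∀ a ∈ r, ∀ l ∈ a, l < 16) →
    ev (gl ι n) ((r.map fun a => 16 :: a).flatten) = relVal cx ι n r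
  | [], _ => by simp [ev, relVal]
  | a :: r, h => by
    rw [List.map_cons, List.flatten_cons, ev_gl_append,
      ev_gl_cut fun b hb => h b (List.mem_cons_of_mem _ hb)]
    have e : ev (gl ι n) (16 :: a) = n * cv cx ι a := by
      rw [cv, map_cx_eq (h a List.mem_cons_self), ← ev_gl_low ι n (h a List.mem_cons_self)]
      simp [ev, gl]
    rw [e]
    simp [relVal]

theorem segsEqB_spec : ∀ {r q : List (List ℕ)}, segsEqB r q = true → relVal cx ι n r = relVal cx ι n q
  | [], [], _ => rfl
  | [], _ :: _, h => by simp [segsEqB] at h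
  | _ :: _, [], h => by simp [segsEqB] at h
  | a :: r, b :: q, h => by
    simp only [segsEqB, Bool.and_eq_true] at h
    have ih := segsEqB_spec h.2
    simp only [relVal, List.map_cons, List.prod_cons] at ih ⊢
    rw [ih, cv, cv, certEqB_spec h.1]

variable {ι n}

theorem Amal.relVal_eq (h : Amal ι n) {l : ℕ} (hl : l < cutRels.length) :
    relVal cx ι n (cutRels.getD l []) = 1 := by
  have h1 := certInput_ok
  simp only [certInputB, Bool.and_eq_true, List.all_eq_true, Nat.blt_eq, decide_eq_true_eq] at h1
  obtain ⟨⟨⟨⟨⟨hr, hlt⟩, -⟩, -⟩, -⟩, -⟩ := h1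
  have hm : cutRels.getD l [] ∈ cutRels := by rw [List.getD_eq_getElem _ _ hl]; exact List.getElem_mem hl
  rw [← ev_gl_cut ι n (hlt _ hm)]
  exact h _ (by rw [hr]; exact List.mem_map.2 ⟨_, hm, rfl⟩)

theorem Amal.mul_self (h : Amal ι n) : n * n = 1 := by
  have h2 := h.relVal_eq (l := 6) (by decide +kernel)
  rw [show cutRels.getD 6 [] = [[], []] by decide +kernel] at h2
  simpa [relVal, cv] using h2

theorem Amal.cut_pair (h : Amal ι n) {l : ℕ} (hl : l < 6) :
    n⁻¹ * ι (((dWords.getD l []).map xm).prod) * n = ι (((dImgs.getD l []).map xm).prod) := by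
  have h2 := h.relVal_eq (l := l) (by
    rw [show cutRels.length = 8 by decide +kernel]; omega)
  have e : cutRels.getD l [] = [dWords.getD l [], (dImgs.getD l []).reverse] := by
    have h' : (List.range 6).all (fun l => decide (cutRels.getD l [] =
        [dWords.getD l [], (dImgs.getD l []).reverse])) = true := by decide +kernel
    simp only [List.all_eq_true, List.mem_range, decide_eq_true_eq] at h'
    exact h' l hl
  have h1 := certInput_ok
  simp only [certInputB, Bool.and_eq_true, List.all_eq_true, Nat.blt_eq, decide_eq_true_eq] at h1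
  obtain ⟨⟨⟨⟨⟨-, hlt⟩, -⟩, -⟩, -⟩, -⟩ := h1
  have hm : cutRels.getD l [] ∈ cutRels := by
    rw [List.getD_eq_getElem _ _ (by rw [show cutRels.length = 8 by decide +kernel]; omega)]
    exact List.getElem_mem _
  have hd : ∀ a ∈ dWords.getD l [], a < 16 := hlt _ hm _ (by rw [e]; simp)
  rw [e] at h2
  simp only [relVal, cv, List.map_cons, List.map_nil, List.prod_cons, List.prod_nil, mul_one, map_cx_eq hd,
    map_cx_eq (w := (dImgs.getD l []).reverse) (fun a ha => dImgs_lt l hl a (List.mem_reverse.1 ha)),
    xm_prod_reverse (dImgs_lt l hl), map_inv] at h2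
  rw [inv_eq_of_mul_eq_one_right h.mul_self]
  rw [← mul_inv_eq_one]
  simpa only [mul_assoc] using h2

theorem Amal.holds (h : Amal ι n) : Holds certEqB certSys cx ι n := by
  have h1 := certInput_ok
  simp only [certInputB, Bool.and_eq_true, List.all_eq_true, List.mem_range, Nat.beq_eq] at h1
  obtain ⟨⟨⟨⟨-, hrlen⟩, hplen⟩, hsegs⟩, hpairs⟩ := h1
  have hp0 : ∀ p ∈ certPairs0, n⁻¹ * cv cx ι p.1 * n = cv cx ι p.2 := by
    intro p hp
    obtain ⟨l, hl, rfl⟩ := List.mem_iff_getElem.1 hp
    rw [hplen] at hl
    obtain ⟨hx, hy⟩ := hpairs l hl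
    rw [List.getD_eq_getElem _ _ (by omega)] at hx hy
    have hd : ∀ a ∈ dWords.getD l [], a < 16 := by
      have h' : (List.range 6).all (fun l => (dWords.getD l []).all fun a => Nat.blt a 16) = true := by
        decide +kernel
      simp only [List.all_eq_true, List.mem_range, Nat.blt_eq] at h'
      exact h' l hl
    rw [cv, cv, certEqB_spec hx, certEqB_spec hy, map_cx_eq hd, map_cx_eq (dImgs_lt l hl)]
    exact h.cut_pair hl
  refine ⟨fun _ _ e => certEqB_spec e, fun r hr => ?_, fun p hp => ?_, certBase_ok.2⟩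
  · obtain ⟨l, hl, rfl⟩ := List.mem_iff_getElem.1 (show r ∈ certRels from hr)
    rw [← List.getD_eq_getElem _ [] hl, segsEqB_spec ι n (hsegs l hl)]
    exact h.relVal_eq (by omega)
  · exact derivB_spec (fun _ _ e => certEqB_spec e) hp0 deriv_ok p hp

theorem cx_gen : Subgroup.closure {x | ∃ l < 16, cx l = x} = ⊤ := by
  have h := Subgroup.closure_closure_coe_preimage (k := Set.range fun l : Fin 16 => letter l)
  refine top_le_iff.1 (h.symm.le.trans (Subgroup.closure_mono ?_))
  rintro x ⟨l, hl⟩
  refine ⟨l, l.isLt, Subtype.ext ?_⟩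
  rw [cx_spec.2.2 l l.isLt, coe_xm l.isLt]
  exact hl

theorem certComplete : Complete certEqB certSys cx 16 certReps certIdents certSts where
  gen := cx_gen
  first := reps_ok.1
  nonempty := by rw [reps_ok.2]; norm_num
  moves l hl := by
    interval_cases l
    · exact ⟨_, certMoves0_ok⟩
    · exact ⟨_, certMoves1_ok⟩
    · exact ⟨_, certMoves2_ok⟩
    · exact ⟨_, certMoves3_ok⟩
    · exact ⟨_, certMoves4_ok⟩
    · exact ⟨_, certMoves5_ok⟩
    · exact ⟨_, certMoves6_ok⟩
    · exact ⟨_, certMoves7_ok⟩
    · exact ⟨_, certMoves8_ok⟩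
    · exact ⟨_, certMoves9_ok⟩
    · exact ⟨_, certMoves10_ok⟩
    · exact ⟨_, certMoves11_ok⟩
    · exact ⟨_, certMoves12_ok⟩
    · exact ⟨_, certMoves13_ok⟩
    · exact ⟨_, certMoves14_ok⟩
    · exact ⟨_, certMoves15_ok⟩
  cover k hk := by
    have hk' : k < 5 := by rw [← certBase_ok.1]; exact hk
    interval_cases k
    · exact ⟨_, certCover0_ok⟩
    · exact ⟨_, certCover1_ok⟩
    · exact ⟨_, certCover2_ok⟩
    · exact ⟨_, certCover3_ok⟩
    · exact ⟨_, certCover4_ok⟩

theorem stab_ge_of_chain [Finite Cm] (H : Holds certEqB certSys cx ι n)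
    (hv : Valid certSys cx ι n certIdents certSts) {k N : ℕ} {L : List (ℕ × List (List ℕ))}
    (hL : stabChainB k N L = true) : N ≤ Nat.card (baseStab certSys cx ι n k) := by
  simp only [stabChainB, Bool.and_eq_true, Nat.beq_eq, List.all_eq_true, decide_eq_true_eq] at hL
  obtain ⟨⟨⟨hc, hN⟩, hnil⟩, hmem⟩ := hL
  rw [← hN]
  refine chainCard_le actV_mul (fun is => ((factWord k is).map cx).prod) (fun is a => evalV (factWord k is) a)
    (fun is a => evalV_spec _ a) (by simp [hnil]) _ hc fun e he is his => ?_
  obtain ⟨S, hS⟩ := Option.isSome_iff_exists.1 (hmem e he is his)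
  have h1 := H.stabWord_spec hv hS
  simp only [CfsgLib.CoThreeRec.Sys.pt, CfsgLib.CoThreeRec.cv_nil, mul_one] at h1
  rw [show factWord k is = S by rw [factWord, hS, Option.getD_some]]
  exact h1

/-- The order bound, given the order of the centraliser in the model. -/
theorem card_closure_le_of [Finite M] (hcard : Nat.card Cm = 743178240) (h : Amal ι n) :
    Nat.card (Subgroup.closure (Set.range ι ∪ {n})) ≤ 42305421312000 := by
  classical
  have : Finite Cm := Nat.finite_of_card_ne_zero (by rw [hcard]; norm_num)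
  have H := h.holds
  have hv : Valid certSys cx ι n certIdents certSts := H.run_spec valid_nil certRun
  have hlen : certSys.base.length = 5 := certBase_ok.1
  have hsub := H.closure_le hv certComplete (by rw [hlen]; norm_num)
  have h1 : Nat.card (Subgroup.closure (Set.range ι ∪ {n})) ≤
      ∑ k ∈ Finset.range certSys.base.length, (dbl certSys cx ι n k).ncard :=
    (le_of_eq (Nat.card_coe_set_eq _)).trans
      ((Set.ncard_le_ncard hsub (Set.toFinite _)).trans (Finset.set_ncard_biUnion_le _ _))
  have h0 : Nat.card Cm ≤ Nat.card (baseStab certSys cx ι n 0) := by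
    refine Nat.card_le_card_of_injective (fun c : Cm => (⟨c, ?_⟩ : baseStab certSys cx ι n 0)) ?_
    · show SameCoset ι _ _
      rw [H.base]
      exact ⟨c, by simp [CfsgLib.CoThreeRec.baseVal]⟩
    · intro a b e
      exact congrArg Subtype.val e
  have hb : ∀ k N, 0 < N → N ≤ Nat.card (baseStab certSys cx ι n k) →
      (dbl certSys cx ι n k).ncard ≤ 743178240 * (743178240 / N) := fun k N hN hle => by
    have := card_dbl_le (Y := certSys) (xm := cx) (ι := ι) (n := n) k N hN hle
    rwa [hcard, Nat.card_coe_set_eq] at this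
  have b0 := hb 0 743178240 (by norm_num) (hcard ▸ h0)
  have b1 := hb 1 589824 (by norm_num) (stab_ge_of_chain H hv certChain1_ok)
  have b2 := hb 2 51840 (by norm_num) (stab_ge_of_chain H hv certChain2_ok)
  have b3 := hb 3 18432 (by norm_num) (stab_ge_of_chain H hv certChain3_ok)
  have b4 := hb 4 737280 (by norm_num) (stab_ge_of_chain H hv certChain4_ok)
  rw [hlen] at h1
  simp only [Finset.sum_range_succ, Finset.sum_range_zero, zero_add] at h1
  omega

end CfsgLib.CoTwoRec
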