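import Cfsg.Agent.Lib.CoThreeRec.Count

/-!
# A lower bound for the order of a subgroup from elements along a base, and derived conjugation pairs

Elements fixing the earlier points with distinct images of the next point multiply to distinct elements.
-/

set_option autoImplicit false

namespace CfsgLib.CoTwoRec

open CfsgLib.CoThreeRec (Sys Holds cv)


section Chain

/-- The product of the lengths. -/
def chainCard (L : List (ℕ × List (List ℕ))) : ℕ := (L.map fun e => e.2.length).prod

/-- The words fix the earlier points and separate the next one. -/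
def chainB (eval : List ℕ → ℕ → ℕ) : List ℕ → List (ℕ × List (List ℕ)) → Bool
  | _, [] => true
  | prev, (b, ws) :: L =>
    Nat.beq (eval [] b) b && (ws.all fun w => prev.all fun a => Nat.beq (eval w a) a) &&
      decide (ws.map fun w => eval w b).Nodup && chainB eval (prev ++ [b]) L

variable {C : Type*} [Group C] (act : C → ℕ → ℕ) (hmul : ∀ g h a, act (g * h) a = act g (act h a))

include hmul in
theorem act_inv {g : C} {p : ℕ} (h : act 1 p = p) (hg : act g p = p) : act g⁻¹ p = p := by
  conv_lhs => rw [← hg]
  rw [← hmul, inv_mul_cancel, h]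

/-- The elements of a subgroup fixing some points. -/
def fixer (H : Subgroup C) (pts : List ℕ) : Subgroup C where
  carrier := {c | c ∈ H ∧ ∀ p ∈ pts, act 1 p = p → act c p = p}
  one_mem' := ⟨one_mem H, fun p _ h => h⟩
  mul_mem' := fun {a b} ha hb => ⟨mul_mem ha.1 hb.1, fun p hp h => by rw [hmul, hb.2 p hp h, ha.2 p hp h]⟩
  inv_mem' := fun {a} ha => ⟨inv_mem ha.1, fun p hp h => act_inv act hmul h (ha.2 p hp h)⟩

variable {act} (val : List ℕ → C) (eval : List ℕ → ℕ → ℕ)
  (hev : ∀ (w : List ℕ) (a : ℕ), act (val w) a = eval w a) (hnil : val [] = 1)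

include hev hnil in
theorem chain_le [Finite C] (H : Subgroup C) : ∀ {prev : List ℕ} {L : List (ℕ × List (List ℕ))},
    chainB eval prev L = true → (∀ e ∈ L, ∀ w ∈ e.2, val w ∈ H) →
    chainCard L * Nat.card (fixer act hmul H (prev ++ L.map Prod.fst)) ≤ Nat.card (fixer act hmul H prev)
  | prev, [], _, _ => by simp [chainCard]
  | prev, (b, ws) :: L, h, hH => by
    simp only [chainB, Bool.and_eq_true, List.all_eq_true, Nat.beq_eq, decide_eq_true_eq] at h
    obtain ⟨⟨⟨hb, hfix⟩, hnd⟩, hrec⟩ := h
    have ih := chain_le H hrec fun e he => hH e (List.mem_cons_of_mem _ he)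
    have e1 : prev ++ ((b, ws) :: L).map Prod.fst = prev ++ [b] ++ L.map Prod.fst := by simp
    have e2 : chainCard ((b, ws) :: L) = ws.length * chainCard L := by simp [chainCard]
    rw [e1, e2, mul_assoc]
    refine (Nat.mul_le_mul_left _ ih).trans ?_
    have hmem : ∀ i : Fin ws.length, val (ws.get i) ∈ fixer act hmul H prev := fun i =>
      ⟨hH _ List.mem_cons_self _ (List.get_mem _ _), fun p hp _ => by
        rw [hev]; exact hfix _ (List.get_mem _ _) _ hp⟩
    have hb1 : act 1 b = b := by rw [← hnil, hev]; exact hb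
    have hle : fixer act hmul H (prev ++ [b]) ≤ fixer act hmul H prev := fun c hc =>
      ⟨hc.1, fun p hp => hc.2 p (List.mem_append_left _ hp)⟩
    refine le_trans (le_of_eq ?_) (Nat.card_le_card_of_injective
      (fun q : Fin ws.length × fixer act hmul H (prev ++ [b]) =>
        (⟨val (ws.get q.1) * q.2, mul_mem (hmem q.1) (hle q.2.2)⟩ : fixer act hmul H prev)) ?_)
    · rw [Nat.card_prod, Nat.card_fin]
    · rintro ⟨i, c⟩ ⟨j, d⟩ e
      have e' : val (ws.get i) * (c : C) = val (ws.get j) * (d : C) := congrArg Subtype.val e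
      have hpt : ∀ (k : Fin ws.length) (u : fixer act hmul H (prev ++ [b])),
          act (val (ws.get k) * u) b = eval (ws.get k) b := fun k u => by
        rw [hmul, u.2.2 b (by simp) hb1, hev]
      have hij : i = j := by
        have := hpt i c
        rw [e', hpt j d] at this
        exact Fin.ext ((hnd.getElem_inj_iff (hi := by simp) (hj := by simp)).1 (by simpa using this.symm))
      subst hij
      rw [mul_right_inj] at e'
      rw [Subtype.ext e']

include hev hnil hmul in
/-- The product of the lengths bounds the order from below. -/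
theorem chainCard_le [Finite C] (H : Subgroup C) {L : List (ℕ × List (List ℕ))}
    (h : chainB eval [] L = true) (hH : ∀ e ∈ L, ∀ w ∈ e.2, val w ∈ H) : chainCard L ≤ Nat.card H := by
  refine le_trans ?_ ((chain_le hmul val eval hev hnil H h hH).trans (Nat.card_le_card_of_injective
    (fun c : fixer act hmul H [] => (⟨c.1, c.2.1⟩ : H))
    fun a b e => Subtype.ext (congrArg (fun u : H => (u : C)) e)))
  exact Nat.le_mul_of_pos_right _ Nat.card_pos

end Chain

section Deriv

/-- Each derived pair is a product of earlier pairs. -/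
def derivB (eqb : List ℕ → List ℕ → Bool) :
    List (List ℕ × List ℕ) → List (List ℕ × List ℕ × List ℕ) → Bool
  | _, [] => true
  | acc, e :: es =>
    e.1.all (fun i => Nat.blt i acc.length) && eqb e.2.1 (Sys.dx ⟨[], [], acc⟩ e.1) &&
      eqb e.2.2 (Sys.dy ⟨[], [], acc⟩ e.1) && derivB eqb (acc ++ [(e.2.1, e.2.2)]) es

variable {C M : Type*} [Group C] [Group M] {xm : ℕ → C} {ι : C →* M} {n : M} {eqb : List ℕ → List ℕ → Bool}

theorem derivB_spec (heq : ∀ u v, eqb u v = true → (u.map xm).prod = (v.map xm).prod) :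
    ∀ {acc : List (List ℕ × List ℕ)} {es : List (List ℕ × List ℕ × List ℕ)},
    (∀ p ∈ acc, n⁻¹ * cv xm ι p.1 * n = cv xm ι p.2) → derivB eqb acc es = true →
    ∀ p ∈ acc ++ es.map (fun e => (e.2.1, e.2.2)), n⁻¹ * cv xm ι p.1 * n = cv xm ι p.2
  | acc, [], hacc, _ => by simpa using hacc
  | acc, e :: es, hacc, h => by
    simp only [derivB, Bool.and_eq_true, List.all_eq_true, Nat.blt_eq] at h
    obtain ⟨⟨⟨hd, hx⟩, hy⟩, hrec⟩ := h
    have H : Holds eqb ⟨[], [], acc⟩ xm ι n :=
      ⟨heq, fun r hr => absurd hr List.not_mem_nil, hacc, rfl⟩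
    have hnew : n⁻¹ * cv xm ι e.2.1 * n = cv xm ι e.2.2 := by
      rw [H.cv_eq hx, H.cv_eq hy]; exact H.dxy hd
    have ih := derivB_spec heq (acc := acc ++ [(e.2.1, e.2.2)]) (fun p hp => by
      rcases List.mem_append.1 hp with hp | hp
      · exact hacc p hp
      · rw [List.mem_singleton.1 hp]; exact hnew) hrec
    intro p hp
    refine ih p ?_
    simpa [List.map_cons, List.append_assoc] using hp

end Deriv

end CfsgLib.CoTwoRec
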