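import Mathlib.Data.Nat.Notation

/-!
# Certificate data: representatives and moves (generated)
-/

set_option autoImplicit false
set_option maxRecDepth 100000

namespace CfsgLib.CoTwoRec

/-- Representatives, a part. -/
def certRepsPart0 : List (List ℕ) := [
  [],
  [2],
  [3],
  [4],
  [8],
  [2, 3],
  [4, 2],
  [5, 2],
  [17],
  [4, 3],
  [3, 8],
  [18],
  [4, 134, 180, 214, 0, 283, 12, 87],
  [4, 8],
  [2, 17],
  [4, 2, 3],
  [5, 2, 3],
  [18, 2],
  [19, 2],
  [4, 135, 180, 214, 0, 283, 12, 87],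
  [4, 17],
  [17, 41],
  [18, 3],
  [4, 114, 3],
  [4, 134, 180, 216, 283, 76],
  [4, 3, 8],
  [18, 134, 180, 214, 0, 283, 12, 87],
  [18, 42],
  [19, 134, 180, 214, 0, 283, 12, 87],
  [4, 134, 180, 214, 0, 283, 12, 85],
  [4, 134, 180, 214, 0, 283, 74],
  [4, 2, 17],
  [5, 2, 17],
  [18, 2, 3],
  [19, 2, 3],
  [4, 2, 114, 3]]

/-- Representatives, a part. -/
def certRepsPart1 : List (List ℕ) := [
  [4, 135, 180, 216, 283, 76],
  [20, 2],
  [18, 135, 180, 214, 0, 283, 12, 87],
  [19, 135, 180, 214, 0, 283, 12, 87],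
  [18, 17],
  [4, 114, 17],
  [4, 134, 180, 276, 283, 294, 42, 71],
  [4, 17, 41],
  [18, 114, 3],
  [18, 134, 180, 216, 283, 76],
  [18, 3, 42],
  [4, 134, 179, 216, 283, 47, 89],
  [4, 114, 3, 44],
  [19, 134, 180, 216, 283, 76],
  [4, 134, 180, 216, 283, 74],
  [4, 134, 180, 216, 283, 12, 85],
  [18, 134, 181, 214, 0, 283, 52, 74],
  [20, 134, 180, 214, 0, 283, 12, 87],
  [18, 134, 180, 214, 0, 283, 10, 85],
  [18, 134, 180, 214, 0, 283, 12, 85],
  [22, 134, 180, 214, 0, 283, 12, 87],
  [19, 134, 180, 214, 0, 283, 12, 85],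
  [19, 134, 180, 214, 0, 283, 56, 87],
  [18, 2, 17],
  [19, 2, 17],
  [4, 2, 114, 17],
  [4, 135, 180, 276, 283, 294, 42, 71],
  [20, 2, 3],
  [18, 2, 114, 3],
  [18, 135, 180, 216, 283, 76],
  [19, 2, 114, 3],
  [4, 135, 179, 216, 283, 47, 89],
  [19, 135, 180, 216, 283, 76],
  [18, 135, 181, 214, 0, 283, 52, 74],
  [20, 135, 180, 214, 0, 283, 12, 87],
  [22, 135, 180, 214, 0, 283, 12, 87]]

/-- Representatives, a part. -/
def certRepsPart2 : List (List ℕ) := [
  [18, 114, 17],
  [18, 134, 180, 276, 283, 294, 42, 71],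
  [18, 17, 65, 91],
  [4, 136, 17],
  [4, 134, 179, 276, 283, 294, 47, 68],
  [4, 114, 17, 61, 91],
  [19, 134, 180, 276, 283, 294, 42, 71],
  [4, 134, 180, 276, 283, 294, 86],
  [4, 134, 180, 276, 283, 294, 58, 89],
  [18, 134, 179, 216, 283, 47, 89],
  [18, 114, 3, 49],
  [18, 134, 181, 216, 283, 8, 85],
  [20, 134, 180, 216, 283, 76],
  [18, 134, 180, 216, 283, 55, 74],
  [18, 134, 180, 216, 283, 74],
  [134, 179, 216, 283, 47, 89],
  [19, 134, 179, 216, 283, 47, 89],
  [4, 134, 179, 216, 283, 52, 90],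
  [4, 134, 179, 216, 283, 74],
  [22, 134, 180, 216, 283, 76],
  [19, 134, 180, 216, 283, 74],
  [19, 134, 180, 216, 283, 42, 76],
  [20, 134, 181, 214, 0, 283, 52, 74],
  [18, 134, 181, 214, 0, 283, 42, 76],
  [23, 134, 180, 214, 0, 283, 12, 87],
  [20, 134, 180, 214, 0, 283, 10, 85],
  [20, 134, 180, 214, 0, 283, 12, 85],
  [18, 134, 181, 214, 0, 283, 52, 76],
  [22, 134, 180, 214, 0, 283, 56, 87],
  [22, 134, 180, 214, 0, 283, 12, 85],
  [20, 2, 17],
  [18, 2, 114, 17],
  [18, 135, 180, 276, 283, 294, 42, 71],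
  [19, 2, 114, 17],
  [4, 2, 136, 17],
  [4, 135, 179, 276, 283, 294, 47, 68]]

/-- Representatives, a part. -/
def certRepsPart3 : List (List ℕ) := [
  [19, 135, 180, 276, 283, 294, 42, 71],
  [20, 2, 114, 3],
  [18, 135, 179, 216, 283, 47, 89],
  [18, 135, 181, 216, 283, 8, 85],
  [20, 135, 180, 216, 283, 76],
  [135, 179, 216, 283, 47, 89],
  [19, 135, 179, 216, 283, 47, 89],
  [22, 135, 180, 216, 283, 76],
  [20, 135, 181, 214, 0, 283, 52, 74],
  [23, 135, 180, 214, 0, 283, 12, 87],
  [18, 136, 17],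
  [18, 134, 179, 276, 283, 294, 47, 68],
  [18, 114, 17, 41],
  [18, 134, 181, 276, 283, 294, 43, 88],
  [20, 134, 180, 276, 283, 294, 42, 71],
  [18, 134, 180, 276, 283, 294, 66, 74],
  [18, 134, 180, 276, 283, 294, 86],
  [4, 134, 178, 276, 283, 294, 42, 74],
  [4, 136, 17, 61, 91],
  [134, 179, 276, 283, 294, 47, 68],
  [19, 134, 179, 276, 283, 294, 47, 68],
  [4, 134, 179, 276, 283, 294, 84],
  [4, 134, 179, 276, 283, 294, 47, 72],
  [22, 134, 180, 276, 283, 294, 42, 71],
  [19, 134, 180, 276, 283, 294, 86],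
  [19, 134, 180, 276, 283, 294, 46, 71],
  [18, 134, 179, 216, 0, 283, 47, 86],
  [20, 134, 179, 216, 283, 47, 89],
  [18, 134, 179, 216, 283, 55, 74],
  [18, 134, 179, 216, 283, 43, 89],
  [20, 134, 181, 216, 283, 8, 85],
  [18, 134, 181, 216, 0, 283, 59, 87],
  [18, 134, 181, 216, 283, 56, 87],
  [23, 134, 180, 216, 283, 76],
  [20, 134, 180, 216, 283, 55, 74],
  [20, 134, 180, 216, 283, 74]]

/-- Representatives, a part. -/
def certRepsPart4 : List (List ℕ) := [
  [18, 134, 181, 216, 283, 8, 87],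
  [134, 179, 216, 0, 283, 47, 86],
  [5, 134, 179, 216, 283, 47, 89],
  [134, 179, 216, 283, 52, 90],
  [134, 179, 216, 283, 74],
  [22, 134, 179, 216, 283, 47, 89],
  [19, 134, 179, 216, 283, 52, 90],
  [19, 134, 179, 216, 283, 74],
  [22, 134, 180, 216, 283, 42, 76],
  [22, 134, 180, 216, 283, 74],
  [23, 134, 181, 214, 0, 283, 52, 74],
  [22, 2, 199, 276, 213, 275, 47, 74],
  [20, 134, 181, 214, 0, 283, 42, 76],
  [20, 134, 181, 214, 0, 283, 10, 85],
  [23, 134, 180, 214, 0, 283, 42, 76],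
  [23, 134, 180, 214, 0, 283, 56, 87],
  [20, 2, 114, 17],
  [18, 2, 136, 17],
  [18, 135, 179, 276, 283, 294, 47, 68],
  [18, 135, 181, 276, 283, 294, 43, 88],
  [20, 135, 180, 276, 283, 294, 42, 71],
  [19, 2, 136, 17],
  [4, 135, 178, 276, 283, 294, 42, 74],
  [135, 179, 276, 283, 294, 47, 68],
  [19, 135, 179, 276, 283, 294, 47, 68],
  [22, 135, 180, 276, 283, 294, 42, 71],
  [18, 135, 179, 216, 0, 283, 47, 86],
  [20, 135, 179, 216, 283, 47, 89],
  [20, 135, 181, 216, 283, 8, 85],
  [18, 135, 181, 216, 0, 283, 59, 87],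
  [23, 135, 180, 216, 283, 76],
  [135, 179, 216, 0, 283, 47, 86],
  [5, 135, 179, 216, 283, 47, 89],
  [22, 135, 179, 216, 283, 47, 89],
  [23, 135, 181, 214, 0, 283, 52, 74],
  [22, 135, 181, 17, 294, 49, 87]]

/-- Representatives, a part. -/
def certRepsPart5 : List (List ℕ) := [
  [18, 134, 178, 276, 283, 294, 42, 74],
  [18, 136, 17, 49],
  [18, 134, 179, 276, 213, 275, 294, 11],
  [20, 134, 179, 276, 283, 294, 47, 68],
  [18, 134, 179, 276, 283, 294, 47, 76],
  [18, 134, 179, 276, 283, 294, 47, 72],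
  [20, 134, 181, 276, 283, 294, 43, 88],
  [18, 134, 181, 276, 213, 275, 294, 61],
  [18, 134, 181, 276, 283, 294, 63, 86],
  [23, 134, 180, 276, 283, 294, 42, 71],
  [20, 134, 180, 276, 283, 294, 66, 74],
  [20, 134, 180, 276, 283, 294, 86],
  [18, 134, 181, 276, 283, 294, 53, 87],
  [134, 178, 276, 283, 294, 42, 74],
  [19, 134, 178, 276, 283, 294, 42, 74],
  [4, 134, 178, 276, 283, 294, 66, 77],
  [4, 134, 178, 276, 283, 294, 50, 74],
  [134, 179, 276, 213, 275, 294, 11],
  [5, 134, 179, 276, 283, 294, 47, 68],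
  [134, 179, 276, 283, 294, 84],
  [22, 134, 179, 276, 283, 294, 47, 68],
  [19, 134, 179, 276, 283, 294, 84],
  [19, 134, 179, 276, 283, 294, 47, 72],
  [134, 179, 276, 283, 294, 47, 72],
  [22, 134, 180, 276, 283, 294, 46, 71],
  [22, 134, 180, 276, 283, 294, 86],
  [4, 134, 179, 216, 0, 283, 47, 86],
  [20, 134, 179, 216, 0, 283, 47, 86],
  [18, 134, 180, 216, 0, 283, 50, 77],
  [18, 134, 179, 216, 0, 283, 55, 72],
  [18, 134, 179, 216, 0, 283, 72],
  [23, 134, 179, 216, 283, 47, 89],
  [20, 134, 179, 216, 283, 55, 74],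
  [20, 134, 179, 216, 283, 41, 77],
  [23, 134, 181, 216, 283, 8, 85],
  [20, 134, 181, 216, 0, 283, 59, 87]]

/-- Representatives, a part. -/
def certRepsPart6 : List (List ℕ) := [
  [22, 2, 199, 215, 213, 275, 49, 91],
  [20, 134, 181, 216, 283, 56, 87],
  [20, 134, 181, 216, 283, 55, 74],
  [18, 134, 181, 216, 0, 283, 48, 88],
  [18, 134, 181, 216, 0, 283, 48, 85],
  [23, 134, 180, 216, 283, 56, 87],
  [23, 134, 180, 216, 283, 42, 76],
  [5, 134, 179, 216, 0, 283, 47, 86],
  [134, 179, 216, 0, 283, 50, 71],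
  [21, 134, 179, 216, 283, 47, 89],
  [5, 133, 179, 216, 283, 56, 75],
  [5, 134, 179, 216, 283, 52, 90],
  [5, 134, 179, 216, 283, 74],
  [134, 179, 216, 0, 283, 72],
  [22, 134, 179, 216, 283, 59, 84],
  [22, 134, 179, 216, 283, 9, 75],
  [19, 2, 199, 276, 213, 275, 47, 74],
  [23, 134, 181, 214, 0, 283, 10, 85],
  [22, 2, 199, 276, 213, 275, 50, 74],
  [23, 134, 181, 214, 0, 283, 42, 76],
  [22, 2, 199, 276, 213, 275, 65, 85],
  [20, 2, 136, 17],
  [18, 135, 178, 276, 283, 294, 42, 74],
  [18, 135, 179, 276, 213, 275, 294, 11],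
  [20, 135, 179, 276, 283, 294, 47, 68],
  [20, 135, 181, 276, 283, 294, 43, 88],
  [18, 135, 181, 276, 213, 275, 294, 61],
  [23, 135, 180, 276, 283, 294, 42, 71],
  [135, 178, 276, 283, 294, 42, 74],
  [19, 135, 178, 276, 283, 294, 42, 74],
  [135, 179, 276, 213, 275, 294, 11],
  [5, 135, 179, 276, 283, 294, 47, 68],
  [22, 135, 179, 276, 283, 294, 47, 68],
  [4, 135, 179, 216, 0, 283, 47, 86],
  [20, 135, 179, 216, 0, 283, 47, 86],
  [18, 135, 180, 216, 0, 283, 50, 77]]

/-- Representatives, a part. -/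
def certRepsPart7 : List (List ℕ) := [
  [23, 135, 179, 216, 283, 47, 89],
  [23, 135, 181, 216, 283, 8, 85],
  [20, 135, 181, 216, 0, 283, 59, 87],
  [22, 135, 181, 0, 294, 64, 76],
  [5, 135, 179, 216, 0, 283, 47, 86],
  [21, 135, 179, 216, 283, 47, 89],
  [5, 135, 179, 277, 217, 46, 85],
  [19, 135, 181, 17, 294, 49, 87],
  [18, 134, 178, 276, 213, 275, 294, 43, 75],
  [20, 134, 178, 276, 283, 294, 42, 74],
  [18, 134, 178, 276, 283, 294, 42, 72],
  [18, 134, 178, 276, 283, 294, 47, 71],
  [4, 134, 179, 276, 213, 275, 294, 11],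
  [20, 134, 179, 276, 213, 275, 294, 11],
  [18, 134, 180, 276, 213, 275, 294, 43, 74],
  [18, 134, 179, 276, 213, 275, 294, 11, 77],
  [23, 134, 179, 276, 283, 294, 47, 68],
  [20, 134, 179, 276, 283, 294, 47, 76],
  [20, 134, 179, 276, 283, 294, 47, 72],
  [18, 134, 179, 276, 213, 275, 294, 11, 71],
  [23, 134, 181, 276, 283, 294, 43, 88],
  [20, 134, 181, 276, 213, 275, 294, 61],
  [22, 2, 199, 214, 213, 275, 55, 85],
  [20, 134, 181, 276, 283, 294, 63, 86],
  [20, 134, 181, 276, 283, 294, 65, 87],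
  [18, 134, 181, 276, 213, 275, 53, 76],
  [18, 134, 181, 276, 213, 275, 294, 42, 88],
  [18, 134, 181, 276, 213, 275, 294, 66, 84],
  [23, 134, 180, 276, 283, 294, 64, 75],
  [23, 134, 180, 276, 283, 294, 46, 71],
  [134, 178, 276, 213, 275, 294, 43, 75],
  [5, 134, 178, 276, 283, 294, 42, 74],
  [6, 134, 178, 276, 283, 294, 42, 74],
  [134, 178, 276, 283, 294, 66, 77],
  [134, 178, 276, 283, 294, 55, 88],
  [22, 134, 178, 276, 283, 294, 42, 74]]

/-- Representatives, a part. -/
def certRepsPart8 : List (List ℕ) := [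
  [19, 134, 178, 276, 283, 294, 66, 77],
  [19, 134, 178, 276, 283, 294, 44, 90],
  [5, 134, 179, 276, 213, 275, 294, 11],
  [134, 179, 276, 213, 275, 294, 60, 89],
  [134, 179, 276, 213, 275, 294, 60, 84],
  [21, 134, 179, 276, 283, 294, 47, 68],
  [5, 133, 179, 276, 283, 294, 46, 77],
  [5, 134, 179, 276, 283, 294, 84],
  [5, 134, 179, 276, 283, 294, 54, 76],
  [22, 134, 179, 276, 283, 294, 54, 76],
  [22, 134, 179, 276, 283, 294, 50, 68],
  [19, 134, 179, 216, 0, 283, 47, 86],
  [4, 134, 180, 216, 0, 283, 50, 77],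
  [4, 134, 179, 216, 0, 283, 50, 71],
  [4, 134, 179, 216, 0, 283, 72],
  [23, 134, 179, 216, 0, 283, 47, 86],
  [20, 134, 180, 216, 0, 283, 50, 77],
  [22, 2, 179, 214, 213, 275, 65, 85],
  [20, 134, 179, 216, 0, 283, 55, 72],
  [20, 134, 179, 216, 0, 283, 72],
  [18, 134, 180, 216, 0, 283, 47, 91],
  [18, 134, 180, 216, 0, 283, 55, 68],
  [23, 134, 179, 216, 283, 41, 77],
  [23, 134, 179, 216, 283, 55, 74],
  [23, 134, 181, 216, 0, 283, 59, 87],
  [19, 2, 199, 215, 213, 275, 49, 91],
  [23, 134, 181, 216, 283, 55, 74],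
  [22, 2, 199, 215, 0, 283, 294, 54, 75],
  [20, 134, 181, 216, 0, 283, 48, 88],
  [20, 134, 181, 216, 0, 283, 58, 87],
  [22, 2, 199, 215, 213, 275, 60],
  [23, 134, 181, 216, 283, 56, 87],
  [22, 2, 199, 215, 213, 275, 59, 71],
  [21, 134, 179, 216, 0, 283, 47, 86],
  [5, 133, 179, 216, 0, 283, 9, 75],
  [5, 134, 179, 216, 0, 283, 50, 71]]

/-- Representatives, a part. -/
def certRepsPart9 : List (List ℕ) := [
  [5, 134, 179, 216, 0, 283, 56, 75],
  [21, 133, 179, 216, 283, 56, 75],
  [21, 134, 179, 216, 283, 59, 84],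
  [21, 134, 179, 216, 283, 9, 75],
  [5, 133, 179, 216, 283, 53, 75],
  [5, 133, 179, 216, 283, 51, 76],
  [4, 2, 199, 276, 213, 275, 47, 74],
  [19, 2, 199, 276, 213, 275, 62, 87],
  [19, 2, 199, 276, 213, 275, 65, 85],
  [18, 135, 178, 276, 213, 275, 294, 43, 75],
  [20, 135, 178, 276, 283, 294, 42, 74],
  [4, 135, 179, 276, 213, 275, 294, 11],
  [20, 135, 179, 276, 213, 275, 294, 11],
  [18, 135, 180, 276, 213, 275, 294, 43, 74],
  [23, 135, 179, 276, 283, 294, 47, 68],
  [23, 135, 181, 276, 283, 294, 43, 88],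
  [20, 135, 181, 276, 213, 275, 294, 61],
  [22, 135, 181, 277, 0, 50, 87],
  [18, 135, 181, 276, 213, 275, 53, 76],
  [135, 178, 276, 213, 275, 294, 43, 75],
  [5, 135, 178, 276, 283, 294, 42, 74],
  [6, 135, 178, 276, 283, 294, 42, 74],
  [22, 135, 178, 276, 283, 294, 42, 74],
  [5, 135, 179, 276, 213, 275, 294, 11],
  [21, 135, 179, 276, 283, 294, 47, 68],
  [5, 135, 179, 283, 66, 85],
  [19, 135, 179, 216, 0, 283, 47, 86],
  [4, 135, 180, 216, 0, 283, 50, 77],
  [23, 135, 179, 216, 0, 283, 47, 86],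
  [20, 135, 180, 216, 0, 283, 50, 77],
  [22, 135, 114, 215, 275, 58, 90],
  [23, 135, 181, 216, 0, 283, 59, 87],
  [19, 135, 181, 0, 294, 64, 76],
  [22, 135, 181, 294, 62, 86],
  [21, 135, 179, 216, 0, 283, 47, 86],
  [5, 135, 179, 277, 0, 275, 54, 75]]

/-- Representatives, a part. -/
def certRepsPart10 : List (List ℕ) := [
  [21, 135, 179, 277, 217, 46, 85],
  [4, 135, 181, 17, 294, 49, 87],
  [4, 134, 178, 276, 213, 275, 294, 43, 75],
  [20, 134, 178, 276, 213, 275, 294, 43, 75],
  [18, 134, 178, 276, 213, 275, 49, 87],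
  [18, 134, 178, 276, 213, 275, 294, 43, 71],
  [18, 134, 178, 276, 213, 275, 294, 11, 72],
  [23, 134, 178, 276, 283, 294, 42, 74],
  [20, 134, 178, 276, 283, 294, 42, 72],
  [20, 134, 178, 276, 283, 294, 47, 71],
  [19, 134, 179, 276, 213, 275, 294, 11],
  [4, 134, 180, 276, 213, 275, 294, 43, 74],
  [4, 134, 179, 276, 213, 275, 294, 60, 89],
  [4, 134, 179, 276, 213, 275, 294, 53, 76],
  [23, 134, 179, 276, 213, 275, 294, 11],
  [20, 134, 180, 276, 213, 275, 294, 43, 74],
  [22, 2, 179, 215, 213, 275, 60],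
  [20, 134, 179, 276, 213, 275, 294, 11, 77],
  [20, 134, 179, 276, 213, 275, 294, 43, 71],
  [18, 134, 180, 276, 213, 275, 50, 71],
  [18, 134, 180, 276, 213, 275, 294, 11, 77],
  [18, 134, 180, 276, 213, 275, 294, 53, 72],
  [23, 134, 179, 276, 283, 294, 42, 72],
  [23, 134, 179, 276, 283, 294, 50, 68],
  [23, 134, 181, 276, 213, 275, 294, 61],
  [19, 2, 199, 214, 213, 275, 55, 85],
  [23, 134, 181, 276, 283, 294, 65, 87],
  [20, 134, 181, 276, 213, 275, 53, 76],
  [22, 2, 199, 214, 0, 283, 294, 62, 88],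
  [20, 134, 181, 276, 213, 275, 294, 42, 88],
  [20, 134, 181, 276, 213, 275, 294, 66, 84],
  [22, 2, 199, 214, 213, 275, 62, 85],
  [23, 134, 181, 276, 283, 294, 63, 86],
  [22, 2, 199, 214, 213, 275, 64, 68],
  [18, 134, 181, 276, 213, 275, 49, 86],
  [18, 134, 181, 276, 213, 275, 43, 68]]

/-- Representatives, a part. -/
def certRepsPart11 : List (List ℕ) := [
  [5, 134, 178, 276, 213, 275, 294, 43, 75],
  [6, 134, 178, 276, 213, 275, 294, 43, 75],
  [134, 178, 276, 213, 275, 294, 58, 84],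
  [134, 178, 276, 213, 275, 294, 58, 89],
  [21, 134, 178, 276, 283, 294, 42, 74],
  [24, 134, 178, 276, 283, 294, 42, 74],
  [5, 133, 178, 276, 283, 294, 12, 86],
  [5, 134, 178, 276, 283, 294, 66, 77],
  [5, 134, 178, 276, 283, 294, 55, 88],
  [6, 134, 178, 276, 283, 294, 47, 71],
  [6, 134, 178, 276, 283, 294, 55, 88],
  [22, 134, 178, 276, 283, 294, 44, 90],
  [22, 134, 178, 276, 283, 294, 66, 77],
  [21, 134, 179, 276, 213, 275, 294, 11],
  [5, 133, 179, 276, 213, 275, 294, 51, 90],
  [5, 134, 179, 276, 213, 275, 294, 60, 89],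
  [5, 134, 179, 276, 213, 275, 294, 60, 84],
  [21, 133, 179, 276, 283, 294, 46, 77],
  [21, 134, 179, 276, 283, 294, 54, 76],
  [5, 133, 179, 276, 283, 294, 12, 84],
  [5, 133, 179, 276, 283, 294, 10, 75],
  [21, 134, 179, 276, 283, 294, 84],
  [22, 134, 179, 216, 0, 283, 47, 86],
  [19, 134, 180, 216, 0, 283, 50, 77],
  [23, 2, 179, 214, 213, 275, 65, 85],
  [19, 134, 179, 216, 0, 283, 50, 71],
  [19, 134, 179, 216, 0, 283, 72],
  [4, 134, 180, 216, 0, 283, 55, 68],
  [4, 134, 180, 216, 0, 283, 47, 91],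
  [23, 134, 180, 216, 0, 283, 50, 77],
  [19, 2, 179, 214, 213, 275, 65, 85],
  [23, 134, 179, 216, 0, 283, 41],
  [23, 134, 179, 216, 0, 283, 9, 71],
  [22, 2, 178, 214, 213, 275, 65, 85],
  [20, 134, 180, 216, 0, 283, 47, 91],
  [20, 134, 180, 216, 0, 283, 55, 68]]

/-- Representatives, a part. -/
def certRepsPart12 : List (List ℕ) := [
  [22, 2, 179, 214, 213, 275, 54, 85],
  [22, 2, 179, 214, 213, 275, 43, 90],
  [19, 2, 199, 215, 0, 283, 294, 54, 75],
  [23, 134, 181, 216, 0, 283, 58, 87],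
  [4, 2, 199, 215, 213, 275, 49, 91],
  [19, 2, 199, 215, 213, 275, 48, 91],
  [23, 134, 181, 216, 0, 283, 49, 76],
  [19, 2, 199, 215, 213, 275, 59, 71],
  [21, 2, 199, 215, 0, 283, 294, 54, 75],
  [22, 2, 199, 215, 0, 283, 294, 47, 71],
  [22, 2, 199, 215, 0, 283, 294, 49, 86],
  [21, 133, 179, 216, 0, 283, 9, 75],
  [21, 134, 179, 216, 0, 283, 56, 75],
  [19, 133, 179, 216, 0, 283, 9, 75],
  [5, 133, 179, 216, 0, 283, 41, 85],
  [5, 133, 179, 216, 0, 283, 91],
  [21, 134, 179, 216, 0, 283, 50, 71],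
  [21, 133, 179, 277, 217, 43, 90],
  [21, 133, 179, 216, 283, 59, 75],
  [21, 133, 179, 216, 283, 62, 72],
  [4, 2, 199, 276, 213, 275, 62, 87],
  [4, 2, 199, 276, 213, 275, 65, 85],
  [4, 135, 178, 276, 213, 275, 294, 43, 75],
  [20, 135, 178, 276, 213, 275, 294, 43, 75],
  [18, 135, 178, 276, 213, 275, 49, 87],
  [23, 135, 178, 276, 283, 294, 42, 74],
  [19, 135, 179, 276, 213, 275, 294, 11],
  [4, 135, 180, 276, 213, 275, 294, 43, 74],
  [23, 135, 179, 276, 213, 275, 294, 11],
  [20, 135, 180, 276, 213, 275, 294, 43, 74],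
  [22, 135, 114, 17, 213, 275, 50, 84],
  [18, 135, 180, 276, 213, 275, 50, 71],
  [23, 135, 181, 276, 213, 275, 294, 61],
  [19, 135, 181, 277, 0, 50, 87],
  [20, 135, 181, 276, 213, 275, 53, 76],
  [22, 135, 181, 277, 217, 275, 63, 89]]

/-- Representatives, a part. -/
def certRepsPart13 : List (List ℕ) := [
  [5, 135, 178, 276, 213, 275, 294, 43, 75],
  [6, 135, 178, 276, 213, 275, 294, 43, 75],
  [21, 135, 178, 276, 283, 294, 42, 74],
  [24, 135, 178, 276, 283, 294, 42, 74],
  [5, 135, 178, 283, 52, 87],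
  [21, 135, 179, 276, 213, 275, 294, 11],
  [5, 135, 179, 0, 283, 52, 91],
  [21, 135, 179, 283, 66, 85],
  [22, 135, 179, 216, 0, 283, 47, 86],
  [19, 135, 180, 216, 0, 283, 50, 77],
  [23, 135, 114, 215, 275, 58, 90],
  [23, 135, 180, 216, 0, 283, 50, 77],
  [19, 135, 114, 215, 275, 58, 90],
  [22, 135, 136, 215, 275, 41, 88],
  [19, 135, 181, 294, 62, 86],
  [4, 135, 181, 0, 294, 64, 76],
  [21, 135, 181, 294, 62, 86],
  [21, 135, 179, 277, 0, 275, 54, 75],
  [19, 135, 179, 277, 0, 275, 54, 75],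
  [21, 134, 179, 277, 217, 46, 85],
  [19, 134, 178, 276, 213, 275, 294, 43, 75],
  [4, 134, 178, 276, 213, 275, 49, 87],
  [4, 134, 178, 276, 213, 275, 294, 58, 84],
  [23, 134, 178, 276, 213, 275, 294, 43, 75],
  [20, 134, 178, 276, 213, 275, 49, 87],
  [22, 2, 180, 215, 213, 275, 60],
  [20, 134, 178, 276, 213, 275, 294, 43, 71],
  [20, 134, 178, 276, 213, 275, 294, 11, 72],
  [18, 134, 179, 276, 213, 275, 50, 75],
  [18, 134, 178, 276, 213, 275, 43, 71],
  [18, 134, 178, 276, 213, 275, 43, 77],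
  [4, 134, 178, 276, 213, 275, 294, 43, 71],
  [23, 134, 178, 276, 283, 294, 47, 76],
  [23, 134, 178, 276, 283, 294, 49, 90],
  [22, 134, 179, 276, 213, 275, 294, 11],
  [19, 134, 180, 276, 213, 275, 294, 43, 74]]

/-- Representatives, a part. -/
def certRepsPart14 : List (List ℕ) := [
  [23, 2, 179, 215, 213, 275, 60],
  [19, 134, 179, 276, 213, 275, 294, 60, 89],
  [19, 134, 179, 276, 213, 275, 294, 53, 76],
  [4, 134, 180, 276, 213, 275, 50, 71],
  [4, 134, 180, 276, 213, 275, 294, 49, 84],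
  [4, 134, 180, 276, 213, 275, 294, 49, 89],
  [23, 134, 180, 276, 213, 275, 294, 43, 74],
  [19, 2, 179, 215, 213, 275, 60],
  [23, 134, 179, 276, 213, 275, 294, 43, 71],
  [20, 134, 180, 276, 213, 275, 50, 71],
  [22, 2, 178, 215, 213, 275, 60],
  [20, 134, 180, 276, 213, 275, 294, 11, 77],
  [20, 134, 180, 276, 213, 275, 294, 53, 72],
  [22, 2, 179, 215, 213, 275, 61],
  [22, 2, 179, 215, 213, 275, 12, 84],
  [23, 134, 179, 276, 213, 275, 294, 11, 77],
  [18, 134, 180, 276, 213, 275, 68],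
  [18, 134, 180, 276, 213, 275, 55, 68],
  [23, 134, 181, 276, 213, 275, 53, 76],
  [19, 2, 199, 214, 0, 283, 294, 62, 88],
  [23, 134, 181, 276, 213, 275, 294, 11, 77],
  [23, 134, 181, 276, 213, 275, 294, 56],
  [4, 2, 199, 214, 213, 275, 55, 85],
  [19, 2, 199, 214, 213, 275, 58, 85],
  [19, 2, 199, 214, 213, 275, 64, 68],
  [22, 2, 199, 214, 0, 283, 91],
  [20, 134, 181, 276, 213, 275, 49, 86],
  [20, 134, 181, 276, 213, 275, 68],
  [21, 2, 199, 214, 0, 283, 294, 62, 88],
  [22, 2, 199, 214, 0, 283, 294, 11, 85],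
  [22, 2, 199, 214, 0, 283, 294, 53, 74],
  [21, 134, 178, 276, 213, 275, 294, 43, 75],
  [24, 134, 178, 276, 213, 275, 294, 43, 75],
  [5, 133, 178, 276, 213, 275, 294, 46, 90],
  [5, 134, 178, 276, 213, 275, 294, 58, 84],
  [5, 134, 178, 276, 213, 275, 294, 58, 89]]

/-- Representatives, a part. -/
def certRepsPart15 : List (List ℕ) := [
  [6, 134, 178, 276, 213, 275, 49, 87],
  [6, 134, 178, 276, 213, 275, 294, 49, 85],
  [6, 134, 178, 276, 213, 275, 294, 58, 89],
  [25, 134, 178, 276, 283, 294, 42, 74],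
  [21, 133, 178, 276, 283, 294, 12, 86],
  [21, 134, 178, 276, 283, 294, 44, 90],
  [21, 134, 178, 276, 283, 294, 47, 76],
  [24, 133, 178, 276, 283, 294, 12, 86],
  [24, 134, 178, 276, 283, 294, 47, 71],
  [24, 134, 178, 276, 283, 294, 63, 68],
  [5, 133, 178, 276, 283, 294, 46, 75],
  [5, 133, 178, 276, 283, 294, 65, 84],
  [21, 133, 179, 276, 213, 275, 294, 51, 90],
  [21, 134, 179, 276, 213, 275, 294, 63, 91],
  [21, 134, 179, 276, 213, 275, 294, 43, 71],
  [19, 133, 179, 276, 213, 275, 294, 51, 90],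
  [5, 133, 179, 276, 213, 275, 294, 46, 87],
  [5, 133, 179, 276, 213, 275, 294, 65, 76],
  [21, 133, 179, 283, 48],
  [21, 133, 179, 276, 283, 294, 45, 77],
  [21, 133, 179, 276, 283, 294, 10, 75],
  [22, 134, 180, 216, 0, 283, 50, 77],
  [20, 2, 179, 214, 213, 275, 65, 85],
  [22, 134, 179, 216, 0, 283, 56, 75],
  [22, 134, 179, 216, 0, 283, 9, 71],
  [23, 2, 178, 214, 213, 275, 65, 85],
  [19, 134, 180, 216, 0, 283, 55, 68],
  [19, 134, 180, 216, 0, 283, 44, 91],
  [23, 16, 179, 214, 213, 275, 65, 85],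
  [23, 2, 179, 214, 213, 275, 47],
  [23, 2, 179, 214, 213, 275, 44, 88],
  [19, 2, 178, 214, 213, 275, 65, 85],
  [23, 134, 180, 216, 0, 283, 8, 77],
  [23, 134, 180, 216, 0, 283, 44, 91],
  [4, 2, 179, 214, 213, 275, 65, 85],
  [19, 2, 179, 214, 213, 275, 60, 85]]

/-- Representatives, a part. -/
def certRepsPart16 : List (List ℕ) := [
  [19, 2, 179, 214, 213, 275, 56, 75],
  [21, 2, 178, 214, 213, 275, 65, 85],
  [22, 2, 178, 214, 213, 275, 50, 77],
  [22, 2, 178, 214, 213, 275, 56],
  [5, 2, 199, 215, 0, 283, 294, 54, 75],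
  [4, 2, 199, 215, 0, 283, 294, 54, 75],
  [19, 2, 199, 215, 0, 283, 294, 65, 74],
  [19, 2, 199, 215, 0, 283, 294, 49, 86],
  [4, 2, 199, 215, 213, 275, 48, 91],
  [4, 2, 199, 215, 213, 275, 59, 71],
  [21, 16, 199, 215, 0, 283, 294, 54, 75],
  [21, 2, 199, 215, 0, 283, 294, 47, 71],
  [21, 2, 199, 215, 0, 283, 294, 63, 75],
  [22, 133, 179, 216, 0, 283, 9, 75],
  [21, 133, 179, 277, 0, 275, 43, 74],
  [21, 133, 179, 216, 0, 283, 65, 87],
  [21, 133, 179, 216, 0, 283, 91],
  [19, 132, 179, 216, 0, 283, 9, 75],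
  [19, 133, 179, 216, 0, 283, 41, 85],
  [19, 133, 179, 216, 0, 283, 55, 86],
  [21, 133, 179, 277, 217, 61, 68],
  [21, 133, 179, 277, 217, 11, 84],
  [19, 135, 178, 276, 213, 275, 294, 43, 75],
  [4, 135, 178, 276, 213, 275, 49, 87],
  [23, 135, 178, 276, 213, 275, 294, 43, 75],
  [20, 135, 178, 276, 213, 275, 49, 87],
  [22, 135, 17, 213, 275, 52, 77],
  [18, 135, 179, 276, 213, 275, 50, 75],
  [22, 135, 179, 276, 213, 275, 294, 11],
  [19, 135, 180, 276, 213, 275, 294, 43, 74],
  [23, 135, 114, 17, 213, 275, 50, 84],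
  [4, 135, 180, 276, 213, 275, 50, 71],
  [23, 135, 180, 276, 213, 275, 294, 43, 74],
  [19, 135, 114, 17, 213, 275, 50, 84],
  [20, 135, 180, 276, 213, 275, 50, 71],
  [22, 135, 136, 17, 213, 275, 52, 72]]

/-- Representatives, a part. -/
def certRepsPart17 : List (List ℕ) := [
  [23, 135, 181, 276, 213, 275, 53, 76],
  [19, 135, 181, 277, 217, 275, 63, 89],
  [4, 135, 181, 277, 0, 50, 87],
  [22, 135, 181, 277, 217, 275, 294, 62, 86],
  [21, 135, 181, 277, 217, 275, 63, 89],
  [21, 135, 178, 276, 213, 275, 294, 43, 75],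
  [24, 135, 178, 276, 213, 275, 294, 43, 75],
  [5, 135, 178, 0, 283, 66, 89],
  [6, 135, 178, 276, 213, 275, 49, 87],
  [25, 135, 178, 276, 283, 294, 42, 74],
  [21, 135, 178, 283, 52, 87],
  [24, 135, 178, 283, 52, 87],
  [21, 135, 179, 0, 283, 52, 91],
  [19, 135, 179, 0, 283, 52, 91],
  [21, 134, 179, 283, 66, 85],
  [22, 135, 180, 216, 0, 283, 50, 77],
  [20, 135, 114, 215, 275, 58, 90],
  [23, 135, 136, 215, 275, 41, 88],
  [23, 135, 114, 214, 275, 61, 90],
  [19, 135, 136, 215, 275, 41, 88],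
  [4, 135, 114, 215, 275, 58, 90],
  [21, 135, 136, 215, 275, 41, 88],
  [5, 135, 181, 294, 62, 86],
  [4, 135, 181, 294, 62, 86],
  [21, 135, 180, 294, 58, 77],
  [22, 135, 179, 277, 0, 275, 54, 75],
  [21, 134, 179, 277, 0, 275, 54, 75],
  [19, 135, 180, 277, 0, 275, 59, 90],
  [22, 134, 178, 276, 213, 275, 294, 43, 75],
  [19, 134, 178, 276, 213, 275, 49, 87],
  [23, 2, 180, 215, 213, 275, 60],
  [19, 134, 178, 276, 213, 275, 294, 58, 84],
  [19, 134, 178, 276, 213, 275, 294, 53, 86],
  [4, 134, 179, 276, 213, 275, 50, 75],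
  [134, 178, 276, 213, 275, 49, 87],
  [4, 134, 178, 276, 213, 275, 60, 85]]

/-- Representatives, a part. -/
def certRepsPart18 : List (List ℕ) := [
  [4, 134, 178, 276, 213, 275, 53, 71],
  [23, 134, 178, 276, 213, 275, 49, 87],
  [19, 2, 180, 215, 213, 275, 60],
  [23, 134, 178, 276, 213, 275, 294, 11, 77],
  [23, 134, 178, 276, 213, 275, 294, 66],
  [20, 134, 179, 276, 213, 275, 50, 75],
  [22, 2, 180, 215, 213, 275, 294, 46, 77],
  [20, 134, 178, 276, 213, 275, 43, 71],
  [20, 134, 178, 276, 213, 275, 43, 77],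
  [22, 2, 180, 215, 213, 275, 42, 91],
  [22, 2, 180, 215, 213, 275, 43, 85],
  [18, 134, 179, 276, 213, 275, 42, 88],
  [18, 134, 179, 276, 213, 275, 42, 85],
  [22, 134, 180, 276, 213, 275, 294, 43, 74],
  [20, 2, 179, 215, 213, 275, 60],
  [22, 134, 179, 276, 213, 275, 294, 63, 91],
  [22, 134, 179, 276, 213, 275, 294, 12, 77],
  [19, 134, 180, 276, 213, 275, 50, 71],
  [23, 2, 178, 215, 213, 275, 60],
  [19, 134, 180, 276, 213, 275, 294, 49, 84],
  [19, 134, 180, 276, 213, 275, 294, 49, 89],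
  [23, 16, 179, 215, 213, 275, 60],
  [23, 2, 179, 215, 213, 275, 59, 68],
  [23, 2, 179, 215, 213, 275, 53, 85],
  [4, 134, 180, 276, 213, 275, 55, 68],
  [4, 134, 180, 276, 213, 275, 55, 74],
  [23, 134, 180, 276, 213, 275, 50, 71],
  [19, 2, 178, 215, 213, 275, 60],
  [23, 134, 180, 276, 213, 275, 294, 42, 88],
  [23, 134, 180, 276, 213, 275, 294, 45, 74],
  [4, 2, 179, 215, 213, 275, 60],
  [19, 2, 179, 215, 213, 275, 53],
  [19, 2, 179, 215, 213, 275, 12, 84],
  [22, 2, 178, 215, 213, 275, 294, 46, 77],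
  [20, 134, 180, 276, 213, 275, 68],
  [20, 134, 180, 276, 213, 275, 55, 68]]

/-- Representatives, a part. -/
def certRepsPart19 : List (List ℕ) := [
  [21, 2, 178, 215, 213, 275, 60],
  [22, 2, 178, 215, 213, 275, 50, 84],
  [22, 2, 178, 215, 213, 275, 59, 68],
  [19, 2, 199, 214, 0, 283, 91],
  [23, 134, 181, 276, 213, 275, 68],
  [5, 2, 199, 214, 0, 283, 294, 62, 88],
  [4, 2, 199, 214, 0, 283, 294, 62, 88],
  [19, 2, 199, 214, 0, 283, 294, 52, 71],
  [19, 2, 199, 214, 0, 283, 294, 44, 71],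
  [23, 134, 181, 276, 213, 275, 48, 85],
  [4, 2, 199, 214, 213, 275, 58, 85],
  [4, 2, 199, 214, 213, 275, 64, 68],
  [21, 2, 199, 214, 0, 283, 91],
  [22, 2, 199, 214, 0, 283, 9, 75],
  [22, 2, 199, 214, 0, 283, 53, 84],
  [21, 16, 199, 214, 0, 283, 294, 62, 88],
  [21, 2, 199, 214, 0, 283, 294, 11, 85],
  [21, 2, 199, 214, 0, 283, 294, 53, 74],
  [25, 134, 178, 276, 213, 275, 294, 43, 75],
  [21, 133, 178, 276, 213, 275, 294, 46, 90],
  [21, 134, 178, 276, 213, 275, 294, 53, 86],
  [21, 134, 178, 276, 213, 275, 294, 11, 77],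
  [24, 134, 178, 276, 213, 275, 49, 87],
  [24, 133, 178, 276, 213, 275, 294, 46, 90],
  [24, 134, 178, 276, 213, 275, 294, 49, 85],
  [24, 134, 178, 276, 213, 275, 294, 10, 91],
  [19, 133, 178, 276, 213, 275, 294, 46, 90],
  [5, 133, 178, 276, 213, 275, 294, 51, 87],
  [5, 133, 178, 276, 213, 275, 294, 11, 74],
  [6, 134, 178, 276, 213, 275, 43, 77],
  [6, 134, 178, 276, 213, 275, 63, 72],
  [25, 133, 178, 276, 283, 294, 12, 86],
  [25, 134, 178, 276, 283, 294, 63, 68],
  [21, 133, 178, 283, 59, 86],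
  [21, 133, 178, 276, 283, 294, 48, 75],
  [21, 133, 178, 276, 283, 294, 65, 88]]

/-- Representatives, a part. -/
def certRepsPart20 : List (List ℕ) := [
  [25, 134, 178, 276, 283, 294, 47, 76],
  [24, 132, 178, 276, 283, 294, 12, 86],
  [24, 133, 178, 276, 283, 294, 52, 76],
  [24, 133, 178, 276, 283, 294, 53],
  [22, 133, 179, 276, 213, 275, 294, 51, 90],
  [21, 133, 179, 0, 283, 46, 91],
  [21, 133, 179, 276, 213, 275, 294, 12, 76],
  [21, 133, 179, 276, 213, 275, 294, 54],
  [19, 132, 179, 276, 213, 275, 294, 51, 90],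
  [19, 133, 179, 276, 213, 275, 294, 46, 87],
  [19, 133, 179, 276, 213, 275, 294, 10, 90],
  [21, 133, 179, 283, 51],
  [21, 133, 179, 283, 9, 71],
  [20, 2, 178, 214, 213, 275, 65, 85],
  [22, 134, 180, 216, 0, 283, 44, 91],
  [20, 16, 179, 214, 213, 275, 65, 85],
  [18, 2, 179, 214, 213, 275, 65, 85],
  [20, 2, 179, 214, 213, 275, 60],
  [20, 2, 179, 214, 213, 275, 56, 75],
  [22, 134, 180, 216, 0, 283, 8, 77],
  [23, 16, 178, 214, 213, 275, 65, 85],
  [23, 2, 178, 214, 213, 275, 64, 85],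
  [23, 2, 178, 214, 213, 275, 43, 90],
  [23, 116, 179, 214, 213, 275, 65, 85],
  [23, 16, 179, 214, 213, 275, 47],
  [23, 16, 179, 214, 213, 275, 9, 76],
  [5, 2, 178, 214, 213, 275, 65, 85],
  [4, 2, 178, 214, 213, 275, 65, 85],
  [19, 2, 178, 214, 213, 275, 60],
  [19, 2, 178, 214, 213, 275, 43, 90],
  [4, 2, 179, 214, 213, 275, 60, 85],
  [4, 2, 179, 214, 213, 275, 56, 75],
  [21, 16, 178, 214, 213, 275, 65, 85],
  [21, 2, 178, 214, 213, 275, 50, 77],
  [21, 2, 178, 214, 213, 275, 64, 85],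
  [5, 16, 199, 215, 0, 283, 294, 54, 75]]

/-- Representatives, a part. -/
def certRepsPart21 : List (List ℕ) := [
  [2, 199, 215, 0, 283, 294, 54, 75],
  [5, 2, 199, 215, 0, 283, 294, 65, 74],
  [5, 2, 199, 215, 0, 283, 294, 8, 86],
  [4, 2, 199, 215, 0, 283, 294, 65, 74],
  [4, 2, 199, 215, 0, 283, 294, 49, 86],
  [21, 16, 199, 215, 0, 283, 294, 63, 75],
  [21, 16, 199, 215, 0, 283, 294, 47, 71],
  [22, 133, 179, 277, 0, 275, 43, 74],
  [22, 132, 179, 216, 0, 283, 9, 75],
  [22, 133, 179, 216, 0, 283, 65, 87],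
  [22, 133, 179, 216, 0, 283, 51, 75],
  [21, 133, 179, 277, 0, 275, 61, 86],
  [21, 133, 179, 277, 0, 275, 10, 90],
  [19, 130, 179, 216, 0, 283, 9, 75],
  [19, 132, 179, 216, 0, 283, 45, 75],
  [19, 132, 179, 216, 0, 283, 41, 85],
  [22, 135, 178, 276, 213, 275, 294, 43, 75],
  [19, 135, 178, 276, 213, 275, 49, 87],
  [23, 135, 17, 213, 275, 52, 77],
  [4, 135, 179, 276, 213, 275, 50, 75],
  [135, 178, 276, 213, 275, 49, 87],
  [23, 135, 178, 276, 213, 275, 49, 87],
  [19, 135, 17, 213, 275, 52, 77],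
  [20, 135, 179, 276, 213, 275, 50, 75],
  [22, 135, 17, 213, 275, 294, 10, 77],
  [22, 135, 180, 276, 213, 275, 294, 43, 74],
  [20, 135, 114, 17, 213, 275, 50, 84],
  [19, 135, 180, 276, 213, 275, 50, 71],
  [23, 135, 136, 17, 213, 275, 52, 72],
  [23, 135, 114, 3, 213, 275, 52, 77],
  [23, 135, 180, 276, 213, 275, 50, 71],
  [19, 135, 136, 17, 213, 275, 52, 72],
  [4, 135, 114, 17, 213, 275, 50, 84],
  [22, 135, 136, 17, 213, 275, 294, 64, 84],
  [21, 135, 136, 17, 213, 275, 52, 72],
  [19, 135, 181, 277, 217, 275, 294, 62, 86]]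

/-- Representatives, a part. -/
def certRepsPart22 : List (List ℕ) := [
  [5, 135, 181, 277, 217, 275, 63, 89],
  [4, 135, 181, 277, 217, 275, 63, 89],
  [21, 135, 181, 277, 217, 275, 294, 62, 86],
  [21, 135, 180, 277, 217, 275, 55, 85],
  [25, 135, 178, 276, 213, 275, 294, 43, 75],
  [21, 135, 178, 0, 283, 66, 89],
  [24, 135, 178, 276, 213, 275, 49, 87],
  [24, 135, 178, 0, 283, 66, 89],
  [19, 135, 178, 0, 283, 66, 89],
  [25, 135, 178, 283, 52, 87],
  [21, 134, 178, 283, 52, 87],
  [24, 135, 178, 17, 0, 283, 44, 74],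
  [22, 135, 179, 0, 283, 52, 91],
  [21, 134, 179, 0, 283, 52, 91],
  [19, 135, 180, 0, 283, 66, 88],
  [20, 135, 136, 215, 275, 41, 88],
  [20, 135, 114, 214, 275, 61, 90],
  [18, 135, 114, 215, 275, 58, 90],
  [23, 135, 137, 215, 275, 10, 86],
  [23, 135, 136, 214, 275, 52, 75],
  [5, 135, 136, 215, 275, 41, 88],
  [4, 135, 136, 215, 275, 41, 88],
  [21, 135, 137, 215, 275, 10, 86],
  [5, 135, 180, 294, 58, 77],
  [135, 181, 294, 62, 86],
  [22, 134, 179, 277, 0, 275, 54, 75],
  [22, 135, 180, 277, 0, 275, 59, 90],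
  [19, 135, 180, 277, 275, 64, 87],
  [22, 134, 178, 276, 213, 275, 49, 87],
  [20, 2, 180, 215, 213, 275, 60],
  [22, 134, 178, 276, 213, 275, 294, 53, 86],
  [19, 134, 179, 276, 213, 275, 50, 75],
  [5, 134, 178, 276, 213, 275, 49, 87],
  [23, 2, 180, 215, 213, 275, 294, 46, 77],
  [19, 134, 178, 276, 213, 275, 60, 85],
  [19, 134, 178, 276, 213, 275, 53, 71]]

/-- Representatives, a part. -/
def certRepsPart23 : List (List ℕ) := [
  [23, 16, 180, 215, 213, 275, 60],
  [23, 2, 180, 215, 213, 275, 48, 85],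
  [23, 2, 180, 215, 213, 275, 75],
  [22, 134, 178, 276, 213, 275, 294, 58, 84],
  [134, 179, 276, 213, 275, 50, 75],
  [4, 134, 179, 276, 213, 275, 47, 84],
  [134, 178, 276, 213, 275, 60, 85],
  [134, 178, 276, 213, 275, 53, 71],
  [4, 134, 179, 276, 213, 275, 72],
  [23, 134, 179, 276, 213, 275, 50, 75],
  [19, 2, 180, 215, 213, 275, 294, 46, 77],
  [23, 134, 178, 276, 213, 275, 10, 72],
  [23, 134, 178, 276, 213, 275, 65, 90],
  [4, 2, 180, 215, 213, 275, 60],
  [19, 2, 180, 215, 213, 275, 53],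
  [19, 2, 180, 215, 213, 275, 41, 72],
  [22, 2, 179, 215, 213, 275, 294, 46, 77],
  [20, 134, 179, 276, 213, 275, 42, 88],
  [20, 134, 179, 276, 213, 275, 44, 89],
  [21, 2, 180, 215, 213, 275, 294, 46, 77],
  [22, 2, 180, 215, 213, 275, 294, 54, 91],
  [22, 2, 180, 215, 213, 275, 294, 50, 68],
  [22, 134, 180, 276, 213, 275, 50, 71],
  [20, 2, 178, 215, 213, 275, 60],
  [22, 134, 180, 276, 213, 275, 294, 10, 90],
  [22, 134, 180, 276, 213, 275, 294, 51, 88],
  [20, 16, 179, 215, 213, 275, 60],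
  [18, 2, 179, 215, 213, 275, 60],
  [20, 2, 179, 215, 213, 275, 41, 86],
  [20, 2, 179, 215, 213, 275, 65, 85],
  [23, 2, 178, 215, 213, 275, 294, 46, 77],
  [19, 134, 180, 276, 213, 275, 55, 68],
  [19, 134, 180, 276, 213, 275, 64, 77],
  [23, 16, 178, 215, 213, 275, 60],
  [23, 2, 178, 215, 213, 275, 57, 68],
  [23, 2, 178, 215, 213, 275, 61]]

/-- Representatives, a part. -/
def certRepsPart24 : List (List ℕ) := [
  [23, 116, 179, 215, 213, 275, 60],
  [23, 16, 179, 215, 213, 275, 59, 68],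
  [23, 16, 179, 215, 213, 275, 61],
  [19, 2, 178, 215, 213, 275, 294, 46, 77],
  [23, 134, 180, 276, 213, 275, 49, 86],
  [23, 134, 180, 276, 213, 275, 64, 77],
  [5, 2, 178, 215, 213, 275, 60],
  [4, 2, 178, 215, 213, 275, 60],
  [19, 2, 178, 215, 213, 275, 65, 75],
  [19, 2, 178, 215, 213, 275, 65, 85],
  [4, 2, 179, 215, 213, 275, 53],
  [4, 2, 179, 215, 213, 275, 12, 84],
  [21, 2, 178, 215, 213, 275, 294, 46, 77],
  [22, 2, 178, 215, 213, 275, 294, 64, 91],
  [22, 2, 178, 215, 213, 275, 294, 12, 74],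
  [21, 16, 178, 215, 213, 275, 60],
  [21, 2, 178, 215, 213, 275, 50, 84],
  [21, 2, 178, 215, 213, 275, 59, 68],
  [5, 2, 199, 214, 0, 283, 91],
  [4, 2, 199, 214, 0, 283, 91],
  [19, 2, 199, 214, 0, 283, 46, 68],
  [19, 2, 199, 214, 0, 283, 53, 84],
  [5, 16, 199, 214, 0, 283, 294, 62, 88],
  [2, 199, 214, 0, 283, 294, 62, 88],
  [5, 2, 199, 214, 0, 283, 294, 52, 71],
  [5, 2, 199, 214, 0, 283, 294, 44, 71],
  [4, 2, 199, 214, 0, 283, 294, 52, 71],
  [4, 2, 199, 214, 0, 283, 294, 44, 71],
  [21, 16, 199, 214, 0, 283, 91],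
  [25, 2, 199, 214, 0, 283, 91],
  [21, 2, 199, 214, 0, 283, 9, 75],
  [21, 2, 199, 214, 0, 283, 53, 84],
  [21, 16, 199, 214, 0, 283, 294, 59, 74],
  [21, 16, 199, 214, 0, 283, 294, 55, 88],
  [25, 134, 178, 276, 213, 275, 49, 87],
  [25, 133, 178, 276, 213, 275, 294, 46, 90]]

/-- Representatives, a part. -/
def certRepsPart25 : List (List ℕ) := [
  [25, 134, 178, 276, 213, 275, 294, 10, 91],
  [22, 133, 178, 276, 213, 275, 294, 46, 90],
  [21, 133, 178, 0, 283, 8, 91],
  [21, 133, 178, 276, 213, 275, 294, 56, 76],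
  [21, 133, 178, 276, 213, 275, 294, 56, 77],
  [25, 134, 178, 276, 213, 275, 294, 11, 77],
  [24, 134, 178, 276, 213, 275, 43, 77],
  [24, 134, 178, 276, 213, 275, 51, 68],
  [24, 133, 178, 276, 213, 275, 294, 63, 68],
  [24, 133, 178, 276, 213, 275, 294, 8, 71],
  [19, 133, 178, 276, 213, 275, 294, 51, 87],
  [19, 133, 178, 276, 213, 275, 294, 8, 90],
  [25, 132, 178, 276, 283, 294, 12, 86],
  [25, 133, 178, 283, 59, 86],
  [25, 133, 178, 276, 283, 294, 65, 88],
  [25, 133, 178, 276, 283, 294, 53],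
  [21, 133, 178, 283, 10, 75],
  [21, 133, 178, 283, 57, 88],
  [24, 132, 178, 276, 283, 294, 52, 76],
  [24, 132, 178, 276, 283, 294, 58, 86],
  [22, 133, 179, 0, 283, 46, 91],
  [22, 132, 179, 276, 213, 275, 294, 51, 90],
  [22, 133, 179, 276, 213, 275, 294, 12, 76],
  [22, 133, 179, 276, 213, 275, 294, 54],
  [21, 133, 179, 0, 283, 56, 77],
  [21, 133, 179, 0, 283, 57, 68],
  [19, 132, 179, 276, 213, 275, 294, 11, 90],
  [19, 132, 179, 276, 213, 275, 294, 46, 87],
  [20, 16, 178, 214, 213, 275, 65, 85],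
  [20, 2, 178, 214, 213, 275, 56],
  [20, 2, 178, 214, 213, 275, 43, 90],
  [18, 16, 179, 214, 213, 275, 65, 85],
  [20, 16, 179, 214, 213, 275, 60],
  [18, 2, 179, 214, 213, 275, 60],
  [18, 2, 179, 214, 213, 275, 56, 75],
  [20, 16, 179, 214, 213, 275, 56, 75]]

/-- Representatives, a part. -/
def certRepsPart26 : List (List ℕ) := [
  [23, 16, 178, 214, 213, 275, 64, 85],
  [23, 16, 178, 214, 213, 275, 50, 77],
  [23, 116, 179, 214, 213, 275, 57, 90],
  [23, 116, 179, 214, 213, 275, 47, 74],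
  [5, 16, 178, 214, 213, 275, 65, 85],
  [5, 2, 178, 214, 213, 275, 60],
  [4, 2, 178, 214, 213, 275, 60],
  [4, 2, 178, 214, 213, 275, 50, 77],
  [5, 2, 178, 214, 213, 275, 43, 90],
  [21, 16, 178, 214, 213, 275, 64, 85],
  [21, 16, 178, 214, 213, 275, 58, 68],
  [16, 199, 215, 0, 283, 294, 54, 75],
  [5, 16, 199, 215, 0, 283, 294, 8, 86],
  [2, 199, 215, 0, 283, 294, 65, 74],
  [2, 199, 215, 0, 283, 294, 8, 86],
  [5, 16, 199, 215, 0, 283, 294, 65, 74],
  [22, 132, 179, 277, 0, 275, 43, 74],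
  [22, 133, 179, 277, 0, 275, 61, 86],
  [22, 133, 179, 277, 0, 275, 47, 74],
  [22, 132, 179, 216, 0, 283, 12, 86],
  [22, 132, 179, 216, 0, 283, 65, 87],
  [19, 130, 179, 216, 0, 283, 45, 75],
  [19, 130, 179, 216, 0, 283, 41, 85],
  [22, 135, 178, 276, 213, 275, 49, 87],
  [20, 135, 17, 213, 275, 52, 77],
  [19, 135, 179, 276, 213, 275, 50, 75],
  [5, 135, 178, 276, 213, 275, 49, 87],
  [23, 135, 17, 213, 275, 294, 10, 77],
  [23, 135, 3, 213, 275, 50, 84],
  [135, 179, 276, 213, 275, 50, 75],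
  [23, 135, 179, 276, 213, 275, 50, 75],
  [19, 135, 17, 213, 275, 294, 10, 77],
  [4, 135, 17, 213, 275, 52, 77],
  [22, 135, 114, 17, 213, 275, 294, 64, 91],
  [21, 135, 17, 213, 275, 294, 10, 77],
  [22, 135, 180, 276, 213, 275, 50, 71]]

/-- Representatives, a part. -/
def certRepsPart27 : List (List ℕ) := [
  [20, 135, 136, 17, 213, 275, 52, 72],
  [20, 135, 114, 3, 213, 275, 52, 77],
  [18, 135, 114, 17, 213, 275, 50, 84],
  [23, 135, 136, 17, 213, 275, 294, 64, 84],
  [23, 135, 137, 17, 213, 275, 43, 87],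
  [23, 135, 136, 3, 213, 275, 50, 87],
  [19, 135, 136, 17, 213, 275, 294, 64, 84],
  [5, 135, 136, 17, 213, 275, 52, 72],
  [4, 135, 136, 17, 213, 275, 52, 72],
  [21, 135, 136, 17, 213, 275, 294, 64, 84],
  [21, 135, 137, 17, 213, 275, 43, 87],
  [5, 135, 181, 277, 217, 275, 294, 62, 86],
  [4, 135, 181, 277, 217, 275, 294, 62, 86],
  [5, 135, 180, 277, 217, 275, 55, 85],
  [135, 181, 277, 217, 275, 63, 89],
  [21, 135, 180, 277, 217, 275, 294, 54, 90],
  [25, 135, 181, 277, 217, 275, 294, 62, 86],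
  [25, 135, 178, 276, 213, 275, 49, 87],
  [25, 135, 178, 0, 283, 66, 89],
  [22, 135, 178, 0, 283, 66, 89],
  [21, 134, 178, 0, 283, 66, 89],
  [25, 135, 178, 17, 0, 283, 44, 74],
  [25, 134, 178, 283, 52, 87],
  [22, 134, 179, 0, 283, 52, 91],
  [22, 135, 180, 0, 283, 66, 88],
  [20, 135, 137, 215, 275, 10, 86],
  [18, 135, 114, 214, 275, 61, 90],
  [5, 135, 137, 215, 275, 10, 86],
  [135, 180, 294, 58, 77],
  [22, 134, 180, 277, 0, 275, 59, 90],
  [22, 134, 179, 276, 213, 275, 50, 75],
  [21, 134, 178, 276, 213, 275, 49, 87],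
  [20, 2, 180, 215, 213, 275, 294, 46, 77],
  [22, 134, 178, 276, 213, 275, 59, 76],
  [22, 134, 178, 276, 213, 275, 55, 90],
  [20, 16, 180, 215, 213, 275, 60]]

/-- Representatives, a part. -/
def certRepsPart28 : List (List ℕ) := [
  [18, 2, 180, 215, 213, 275, 60],
  [20, 2, 180, 215, 213, 275, 41, 86],
  [20, 2, 180, 215, 213, 275, 75],
  [5, 134, 179, 276, 213, 275, 50, 75],
  [23, 2, 179, 215, 213, 275, 294, 46, 77],
  [19, 134, 179, 276, 213, 275, 47, 84],
  [19, 134, 179, 276, 213, 275, 46, 77],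
  [5, 134, 178, 276, 213, 275, 60, 85],
  [5, 134, 178, 276, 213, 275, 53, 71],
  [23, 2, 180, 215, 213, 275, 294, 52, 90],
  [23, 2, 180, 215, 213, 275, 294, 44, 77],
  [23, 16, 180, 215, 213, 275, 48, 85],
  [23, 16, 180, 215, 213, 275, 42, 91],
  [134, 179, 276, 213, 275, 47, 84],
  [134, 179, 276, 213, 275, 72],
  [19, 2, 179, 215, 213, 275, 294, 46, 77],
  [23, 134, 179, 276, 213, 275, 44, 89],
  [5, 2, 180, 215, 213, 275, 294, 46, 77],
  [4, 2, 180, 215, 213, 275, 294, 46, 77],
  [19, 2, 180, 215, 213, 275, 294, 8, 90],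
  [19, 2, 180, 215, 213, 275, 294, 8, 87],
  [23, 134, 179, 276, 213, 275, 64],
  [4, 2, 180, 215, 213, 275, 53],
  [4, 2, 180, 215, 213, 275, 41, 72],
  [21, 2, 179, 215, 213, 275, 294, 46, 77],
  [22, 2, 179, 215, 213, 275, 294, 54, 91],
  [22, 2, 179, 215, 213, 275, 294, 50, 75],
  [21, 2, 180, 215, 213, 275, 294, 54, 91],
  [21, 2, 180, 215, 213, 275, 294, 50, 68],
  [20, 2, 178, 215, 213, 275, 294, 46, 77],
  [22, 134, 180, 276, 213, 275, 64, 77],
  [20, 16, 178, 215, 213, 275, 60],
  [20, 2, 178, 215, 213, 275, 53, 88],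
  [20, 2, 178, 215, 213, 275, 53, 85],
  [22, 134, 180, 276, 213, 275, 44, 86],
  [18, 16, 179, 215, 213, 275, 60]]

/-- Representatives, a part. -/
def certRepsPart29 : List (List ℕ) := [
  [20, 16, 179, 215, 213, 275, 41, 86],
  [20, 16, 179, 215, 213, 275, 65, 85],
  [18, 2, 179, 215, 213, 275, 41, 86],
  [18, 2, 179, 215, 213, 275, 65, 85],
  [23, 16, 178, 215, 213, 275, 294, 46, 77],
  [23, 2, 178, 215, 213, 275, 294, 42, 76],
  [23, 2, 178, 215, 213, 275, 294, 60, 71],
  [23, 16, 178, 215, 213, 275, 57, 68],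
  [23, 16, 178, 215, 213, 275, 61],
  [23, 116, 179, 215, 213, 275, 9, 85],
  [23, 116, 179, 215, 213, 275, 55],
  [5, 2, 178, 215, 213, 275, 294, 46, 77],
  [4, 2, 178, 215, 213, 275, 294, 46, 77],
  [19, 2, 178, 215, 213, 275, 294, 63, 89],
  [19, 2, 178, 215, 213, 275, 294, 60, 71],
  [5, 16, 178, 215, 213, 275, 60],
  [5, 2, 178, 215, 213, 275, 65, 75],
  [5, 2, 178, 215, 213, 275, 65, 85],
  [4, 2, 178, 215, 213, 275, 65, 75],
  [4, 2, 178, 215, 213, 275, 65, 85],
  [21, 16, 178, 215, 213, 275, 294, 46, 77],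
  [25, 2, 178, 215, 213, 275, 294, 46, 77],
  [21, 2, 178, 215, 213, 275, 294, 64, 91],
  [21, 2, 178, 215, 213, 275, 294, 55, 85],
  [21, 16, 178, 215, 213, 275, 44, 90],
  [21, 16, 178, 215, 213, 275, 61],
  [5, 16, 199, 214, 0, 283, 91],
  [2, 199, 214, 0, 283, 91],
  [24, 2, 199, 214, 0, 283, 91],
  [5, 2, 199, 214, 0, 283, 46, 68],
  [5, 2, 199, 214, 0, 283, 65, 68],
  [4, 2, 199, 214, 0, 283, 46, 68],
  [4, 2, 199, 214, 0, 283, 53, 84],
  [16, 199, 214, 0, 283, 294, 62, 88],
  [5, 16, 199, 214, 0, 283, 294, 55, 89],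
  [5, 16, 199, 214, 0, 283, 294, 45, 72]]

/-- Representatives, a part. -/
def certRepsPart30 : List (List ℕ) := [
  [2, 199, 214, 0, 283, 294, 52, 71],
  [2, 199, 214, 0, 283, 294, 44, 71],
  [25, 16, 199, 214, 0, 283, 91],
  [21, 16, 199, 214, 0, 283, 53, 84],
  [25, 2, 199, 214, 0, 283, 51, 91],
  [21, 16, 199, 214, 0, 283, 9, 75],
  [25, 2, 199, 214, 0, 283, 53, 84],
  [25, 134, 178, 276, 213, 275, 51, 68],
  [25, 133, 178, 276, 213, 275, 294, 57, 68],
  [25, 133, 178, 276, 213, 275, 294, 56, 77],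
  [22, 133, 178, 276, 213, 275, 294, 56, 76],
  [21, 133, 178, 0, 283, 65, 77],
  [21, 133, 178, 0, 283, 65, 76],
  [22, 133, 178, 276, 213, 275, 294, 56, 77],
  [25, 134, 178, 276, 213, 275, 53, 76],
  [25, 132, 178, 276, 283, 294, 48, 75],
  [25, 133, 178, 283, 57, 88],
  [25, 132, 178, 276, 283, 294, 65, 88],
  [25, 133, 178, 283, 61],
  [22, 133, 179, 0, 283, 56, 77],
  [22, 133, 179, 0, 283, 57, 68],
  [22, 132, 179, 276, 213, 275, 294, 9, 90],
  [22, 132, 179, 276, 213, 275, 294, 54],
  [20, 16, 178, 214, 213, 275, 60],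
  [20, 16, 178, 214, 213, 275, 43, 90],
  [18, 16, 179, 214, 213, 275, 60],
  [18, 16, 179, 214, 213, 275, 47],
  [5, 16, 178, 214, 213, 275, 56],
  [5, 16, 178, 214, 213, 275, 58, 68],
  [16, 199, 215, 0, 283, 294, 8, 86],
  [16, 199, 215, 0, 283, 294, 65, 74],
  [22, 132, 179, 277, 0, 275, 55, 87],
  [22, 132, 179, 277, 0, 275, 61, 86],
  [22, 135, 179, 276, 213, 275, 50, 75],
  [21, 135, 178, 276, 213, 275, 49, 87],
  [20, 135, 17, 213, 275, 294, 10, 77]]

/-- Representatives, a part. -/
def certRepsPart31 : List (List ℕ) := [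
  [20, 135, 3, 213, 275, 50, 84],
  [18, 135, 17, 213, 275, 52, 77],
  [5, 135, 179, 276, 213, 275, 50, 75],
  [23, 135, 114, 17, 213, 275, 294, 64, 91],
  [19, 135, 114, 17, 213, 275, 294, 64, 91],
  [5, 135, 17, 213, 275, 294, 10, 77],
  [4, 135, 17, 213, 275, 294, 10, 77],
  [21, 135, 114, 17, 213, 275, 294, 64, 91],
  [20, 135, 136, 17, 213, 275, 294, 64, 84],
  [20, 135, 137, 17, 213, 275, 43, 87],
  [18, 135, 114, 3, 213, 275, 52, 77],
  [23, 135, 137, 17, 213, 275, 294, 46],
  [5, 135, 136, 17, 213, 275, 294, 64, 84],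
  [4, 135, 136, 17, 213, 275, 294, 64, 84],
  [5, 135, 137, 17, 213, 275, 43, 87],
  [21, 135, 137, 17, 213, 275, 294, 46],
  [25, 135, 136, 17, 213, 275, 294, 64, 84],
  [5, 135, 180, 277, 217, 275, 294, 54, 90],
  [135, 181, 277, 217, 275, 294, 62, 86],
  [24, 135, 181, 277, 217, 275, 294, 62, 86],
  [135, 180, 277, 217, 275, 55, 85],
  [25, 135, 180, 277, 217, 275, 294, 54, 90],
  [21, 134, 179, 276, 213, 275, 50, 75],
  [20, 2, 179, 215, 213, 275, 294, 46, 77],
  [22, 134, 179, 276, 213, 275, 46, 77],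
  [21, 134, 178, 276, 213, 275, 59, 76],
  [21, 134, 178, 276, 213, 275, 55, 90],
  [20, 2, 180, 215, 213, 275, 294, 63, 74],
  [20, 2, 180, 215, 213, 275, 294, 63, 84],
  [22, 134, 179, 276, 213, 275, 58],
  [20, 16, 180, 215, 213, 275, 41, 86],
  [20, 16, 180, 215, 213, 275, 41, 91],
  [18, 2, 180, 215, 213, 275, 41, 86],
  [18, 2, 180, 215, 213, 275, 75],
  [5, 134, 179, 276, 213, 275, 47, 84],
  [5, 134, 179, 276, 213, 275, 46, 77]]

/-- Representatives, a part. -/
def certRepsPart32 : List (List ℕ) := [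
  [23, 2, 179, 215, 213, 275, 294, 52, 90],
  [23, 2, 179, 215, 213, 275, 294, 51, 86],
  [5, 2, 179, 215, 213, 275, 294, 46, 77],
  [4, 2, 179, 215, 213, 275, 294, 46, 77],
  [19, 2, 179, 215, 213, 275, 294, 8, 90],
  [19, 2, 179, 215, 213, 275, 294, 50, 75],
  [5, 2, 180, 215, 213, 275, 294, 49, 87],
  [5, 2, 180, 215, 213, 275, 294, 63, 84],
  [4, 2, 180, 215, 213, 275, 294, 8, 90],
  [4, 2, 180, 215, 213, 275, 294, 8, 87],
  [25, 2, 179, 215, 213, 275, 294, 46, 77],
  [21, 2, 179, 215, 213, 275, 294, 54, 91],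
  [21, 2, 179, 215, 213, 275, 294, 68],
  [20, 16, 178, 215, 213, 275, 294, 46, 77],
  [20, 2, 178, 215, 213, 275, 294, 12, 74],
  [20, 2, 178, 215, 213, 275, 294, 60, 71],
  [20, 16, 178, 215, 213, 275, 51, 86],
  [20, 16, 178, 215, 213, 275, 65, 85],
  [18, 16, 179, 215, 213, 275, 41, 86],
  [18, 16, 179, 215, 213, 275, 65, 85],
  [23, 16, 178, 215, 213, 275, 294, 42, 76],
  [23, 16, 178, 215, 213, 275, 294, 48],
  [5, 16, 178, 215, 213, 275, 294, 46, 77],
  [24, 2, 178, 215, 213, 275, 294, 46, 77],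
  [5, 2, 178, 215, 213, 275, 294, 63, 89],
  [4, 2, 178, 215, 213, 275, 294, 63, 89],
  [4, 2, 178, 215, 213, 275, 294, 64, 91],
  [5, 2, 178, 215, 213, 275, 294, 60, 71],
  [5, 16, 178, 215, 213, 275, 41, 72],
  [5, 16, 178, 215, 213, 275, 53, 85],
  [25, 16, 178, 215, 213, 275, 294, 46, 77],
  [21, 16, 178, 215, 213, 275, 294, 55, 85],
  [21, 16, 178, 215, 213, 275, 294, 60, 71],
  [25, 2, 178, 215, 213, 275, 294, 59, 84],
  [25, 2, 178, 215, 213, 275, 294, 55, 85],
  [16, 199, 214, 0, 283, 91]]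

/-- Representatives, a part. -/
def certRepsPart33 : List (List ℕ) := [
  [24, 16, 199, 214, 0, 283, 91],
  [5, 16, 199, 214, 0, 283, 65, 68],
  [6, 2, 199, 214, 0, 283, 91],
  [2, 199, 214, 0, 283, 46, 68],
  [2, 199, 214, 0, 283, 65, 68],
  [24, 2, 199, 214, 0, 283, 53],
  [5, 16, 199, 214, 0, 283, 46, 68],
  [24, 2, 199, 214, 0, 283, 65, 68],
  [16, 199, 214, 0, 283, 294, 55, 89],
  [16, 199, 214, 0, 283, 294, 45, 72],
  [25, 116, 199, 214, 0, 283, 91],
  [25, 16, 199, 214, 0, 283, 55],
  [25, 16, 199, 214, 0, 283, 53, 84],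
  [21, 135, 179, 276, 213, 275, 50, 75],
  [20, 135, 114, 17, 213, 275, 294, 64, 91],
  [5, 135, 114, 17, 213, 275, 294, 64, 91],
  [4, 135, 114, 17, 213, 275, 294, 64, 91],
  [25, 135, 114, 17, 213, 275, 294, 64, 91],
  [20, 135, 137, 17, 213, 275, 294, 46],
  [5, 135, 137, 17, 213, 275, 294, 46],
  [24, 135, 136, 17, 213, 275, 294, 64, 84],
  [25, 135, 137, 17, 213, 275, 294, 46],
  [135, 180, 277, 217, 275, 294, 54, 90],
  [24, 135, 180, 277, 217, 275, 294, 54, 90],
  [6, 135, 181, 277, 217, 275, 294, 62, 86],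
  [25, 135, 179, 277, 217, 275, 294, 54, 85],
  [21, 134, 179, 276, 213, 275, 46, 77],
  [20, 2, 179, 215, 213, 275, 294, 63, 74],
  [20, 2, 179, 215, 213, 275, 294, 8, 90],
  [21, 134, 179, 276, 213, 275, 58],
  [24, 2, 179, 215, 213, 275, 294, 46, 77],
  [5, 2, 179, 215, 213, 275, 294, 49, 87],
  [4, 2, 179, 215, 213, 275, 294, 8, 90],
  [5, 2, 179, 215, 213, 275, 294, 8, 90],
  [4, 2, 179, 215, 213, 275, 294, 50, 75],
  [25, 2, 179, 215, 213, 275, 294, 57, 84]]

/-- Representatives, a part. -/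
def certRepsPart34 : List (List ℕ) := [
  [25, 2, 179, 215, 213, 275, 294, 68],
  [20, 16, 178, 215, 213, 275, 294, 49, 71],
  [20, 16, 178, 215, 213, 275, 294, 60, 71],
  [24, 16, 178, 215, 213, 275, 294, 46, 77],
  [5, 16, 178, 215, 213, 275, 294, 8, 87],
  [5, 16, 178, 215, 213, 275, 294, 60, 71],
  [24, 2, 178, 215, 213, 275, 294, 12, 84],
  [24, 2, 178, 215, 213, 275, 294, 63, 89],
  [25, 16, 178, 215, 213, 275, 294, 44, 77],
  [25, 16, 178, 215, 213, 275, 294, 55, 85],
  [6, 16, 199, 214, 0, 283, 91],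
  [16, 199, 214, 0, 283, 65, 68],
  [24, 116, 199, 214, 0, 283, 91],
  [24, 16, 199, 214, 0, 283, 8, 91],
  [24, 16, 199, 214, 0, 283, 65, 68],
  [6, 2, 199, 214, 0, 283, 53],
  [16, 199, 214, 0, 283, 46, 68],
  [6, 2, 199, 214, 0, 283, 65, 68],
  [25, 116, 199, 214, 0, 283, 55],
  [25, 116, 199, 214, 0, 283, 53, 84],
  [24, 135, 114, 17, 213, 275, 294, 64, 91],
  [24, 135, 137, 17, 213, 275, 294, 46],
  [6, 135, 180, 277, 217, 275, 294, 54, 90],
  [24, 135, 179, 277, 217, 275, 294, 54, 85],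
  [24, 2, 179, 215, 213, 275, 294, 12, 84],
  [24, 2, 179, 215, 213, 275, 294, 49, 87],
  [24, 16, 178, 215, 213, 275, 294, 63, 84],
  [24, 16, 178, 215, 213, 275, 294, 8, 87],
  [6, 116, 199, 214, 0, 283, 91],
  [6, 16, 199, 214, 0, 283, 8, 91],
  [6, 16, 199, 214, 0, 283, 65, 68],
  [24, 116, 199, 214, 0, 283, 8, 91],
  [24, 116, 199, 214, 0, 283, 65, 68],
  [6, 135, 179, 277, 217, 275, 294, 54, 85],
  [6, 116, 199, 214, 0, 283, 8, 91],
  [6, 116, 199, 214, 0, 283, 65, 68]]

/-- Representatives, in equal parts. -/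
def certRepsC : List (List (List ℕ)) := [certRepsPart0, certRepsPart1, certRepsPart2, certRepsPart3, certRepsPart4, certRepsPart5, certRepsPart6, certRepsPart7, certRepsPart8, certRepsPart9, certRepsPart10, certRepsPart11, certRepsPart12, certRepsPart13, certRepsPart14, certRepsPart15, certRepsPart16, certRepsPart17, certRepsPart18, certRepsPart19, certRepsPart20, certRepsPart21, certRepsPart22, certRepsPart23, certRepsPart24, certRepsPart25, certRepsPart26, certRepsPart27, certRepsPart28, certRepsPart29, certRepsPart30, certRepsPart31, certRepsPart32, certRepsPart33, certRepsPart34]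

/-- Representatives. -/
def certReps : List (List ℕ) := certRepsC.flatten

/-- The moves by letter 0, a part. -/
def certMoves0Part0 : List (ℕ × List ℕ) := [
  (0, [114, 104, 130]),
  (1, [114, 104, 130]),
  (8, []),
  (3, [114, 104, 130]),
  (4, [114, 77, 134]),
  (14, []),
  (6, [114, 104, 130]),
  (7, [114, 104, 130]),
  (2, []),
  (20, []),
  (21, [111, 135]),
  (11, [114, 104, 130]),
  (12, [114, 104, 130]),
  (13, [114, 77, 134]),
  (5, []),
  (31, []),
  (32, []),
  (17, [114, 104, 130]),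
  (18, [114, 104, 130]),
  (19, [114, 104, 130]),
  (9, []),
  (10, [111, 135]),
  (40, []),
  (41, []),
  (42, []),
  (43, [111, 135]),
  (26, [114, 104, 130]),
  (27, [114, 85, 135]),
  (28, [114, 104, 130]),
  (29, [114, 91, 134]),
  (30, [114, 77, 134]),
  (15, []),
  (16, []),
  (59, []),
  (60, []),
  (61, [])]

/-- The moves by letter 0, a part. -/
def certMoves0Part1 : List (ℕ × List ℕ) := [
  (62, []),
  (37, [114, 104, 130]),
  (38, [114, 104, 130]),
  (39, [114, 104, 130]),
  (22, []),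
  (23, []),
  (24, []),
  (25, [111, 135]),
  (72, []),
  (73, []),
  (74, [99, 134]),
  (76, []),
  (77, [91, 130]),
  (78, []),
  (79, [103, 135]),
  (80, [111, 135]),
  (52, [114, 104, 130]),
  (53, [114, 104, 130]),
  (54, [114, 78, 134]),
  (55, [114, 91, 134]),
  (56, [114, 104, 130]),
  (57, [114, 91, 134]),
  (58, [114, 85, 135]),
  (33, []),
  (34, []),
  (35, []),
  (36, []),
  (102, []),
  (103, []),
  (104, []),
  (105, []),
  (107, []),
  (108, []),
  (69, [114, 104, 130]),
  (70, [114, 104, 130]),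
  (71, [114, 104, 130])]

/-- The moves by letter 0, a part. -/
def certMoves0Part2 : List (ℕ × List ℕ) := [
  (44, []),
  (45, []),
  (46, [99, 134]),
  (118, [5]),
  (47, []),
  (48, [91, 130]),
  (49, []),
  (50, [103, 135]),
  (51, [111, 135]),
  (119, []),
  (120, [109, 134]),
  (121, []),
  (122, []),
  (123, [109, 135]),
  (124, [103, 135]),
  (127, []),
  (128, []),
  (130, [77]),
  (129, []),
  (131, []),
  (132, [103, 135]),
  (133, [99, 134]),
  (94, [114, 104, 130]),
  (95, [114, 78, 134]),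
  (96, [114, 104, 130]),
  (97, [114, 78, 134]),
  (98, [114, 91, 134]),
  (99, [114, 91, 134]),
  (100, [114, 85, 135]),
  (101, [114, 91, 134]),
  (63, []),
  (64, []),
  (65, []),
  (66, []),
  (161, [5]),
  (67, [])]

/-- The moves by letter 0, a part. -/
def certMoves0Part3 : List (ℕ × List ℕ) := [
  (68, []),
  (160, []),
  (162, []),
  (163, []),
  (164, []),
  (167, []),
  (168, []),
  (169, []),
  (116, [114, 104, 130]),
  (117, [114, 104, 130]),
  (75, [5]),
  (81, []),
  (82, [109, 134]),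
  (83, []),
  (84, []),
  (85, [109, 135]),
  (86, [103, 135]),
  (180, [5]),
  (181, [5, 91, 130]),
  (87, []),
  (88, []),
  (90, []),
  (89, [77]),
  (91, []),
  (92, [103, 135]),
  (93, [99, 134]),
  (182, []),
  (183, []),
  (185, [109, 135]),
  (184, [108]),
  (186, []),
  (187, []),
  (188, [109, 135]),
  (189, []),
  (190, [109, 135]),
  (191, [103, 135])]

/-- The moves by letter 0, a part. -/
def certMoves0Part4 : List (ℕ × List ℕ) := [
  (192, [103, 135]),
  (197, []),
  (198, []),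
  (203, [77]),
  (199, []),
  (200, []),
  (202, [77]),
  (201, []),
  (204, [99, 134]),
  (205, [103, 135]),
  (154, [114, 104, 130]),
  (155, [114, 104, 130]),
  (156, [114, 78, 134]),
  (157, [114, 88, 135]),
  (158, [114, 88, 135]),
  (159, [114, 85, 135]),
  (109, []),
  (106, [5]),
  (110, []),
  (111, []),
  (112, []),
  (237, [5]),
  (238, [5]),
  (113, []),
  (114, []),
  (115, []),
  (239, []),
  (240, []),
  (241, []),
  (242, []),
  (243, []),
  (246, []),
  (247, []),
  (248, []),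
  (178, [114, 104, 130]),
  (179, [114, 104, 130])]

/-- The moves by letter 0, a part. -/
def certMoves0Part5 : List (ℕ × List ℕ) := [
  (125, [5]),
  (126, [5, 109, 134]),
  (134, []),
  (135, []),
  (137, [108]),
  (136, [109, 135]),
  (138, []),
  (139, []),
  (140, [109, 135]),
  (141, []),
  (142, [109, 135]),
  (143, [103, 135]),
  (144, [103, 135]),
  (260, [5]),
  (261, [5]),
  (263, [5]),
  (262, [5, 135]),
  (145, []),
  (146, []),
  (148, []),
  (149, []),
  (151, []),
  (150, [77]),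
  (147, [77]),
  (152, [99, 134]),
  (153, [103, 135]),
  (264, []),
  (265, []),
  (266, []),
  (271, [109, 135]),
  (267, [93]),
  (268, []),
  (270, [109, 135]),
  (269, [90, 135]),
  (272, []),
  (273, [])]

/-- The moves by letter 0, a part. -/
def certMoves0Part6 : List (ℕ × List ℕ) := [
  (274, []),
  (275, [109, 135]),
  (276, [108, 134]),
  (279, []),
  (278, [93]),
  (280, [108, 134]),
  (281, [99, 134]),
  (290, []),
  (291, [105, 135]),
  (293, []),
  (294, []),
  (296, [102, 134]),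
  (295, []),
  (292, [77]),
  (298, [78]),
  (297, []),
  (232, [114, 104, 130]),
  (233, [114, 88, 135]),
  (234, [114, 85, 135]),
  (235, [114, 78, 134]),
  (236, [114, 88, 135]),
  (165, [5]),
  (166, [5]),
  (170, []),
  (171, []),
  (172, []),
  (173, []),
  (174, []),
  (333, [5]),
  (334, [5]),
  (175, []),
  (176, []),
  (177, []),
  (335, []),
  (336, []),
  (337, [])]

/-- The moves by letter 0, a part. -/
def certMoves0Part7 : List (ℕ × List ℕ) := [
  (338, []),
  (339, []),
  (340, []),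
  (341, []),
  (347, []),
  (348, []),
  (349, []),
  (259, [114, 104, 130]),
  (193, [5]),
  (194, [5]),
  (196, [5, 85, 134]),
  (195, [5]),
  (206, []),
  (207, []),
  (208, []),
  (210, [93]),
  (211, []),
  (213, [90, 135]),
  (212, [109, 135]),
  (209, [109, 135]),
  (214, []),
  (215, []),
  (216, []),
  (217, [109, 135]),
  (218, [108, 134]),
  (342, [3, 67, 103]),
  (220, [93]),
  (219, []),
  (221, [108, 134]),
  (222, [99, 134]),
  (362, [5]),
  (363, [5]),
  (364, [5]),
  (366, [5]),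
  (365, [5, 77]),
  (367, [5])]

/-- The moves by letter 0, a part. -/
def certMoves0Part8 : List (ℕ × List ℕ) := [
  (369, [5]),
  (368, [5, 107, 130]),
  (223, []),
  (224, [105, 135]),
  (229, [77]),
  (225, []),
  (226, []),
  (228, []),
  (227, [102, 134]),
  (231, []),
  (230, [78]),
  (370, []),
  (371, []),
  (372, [105, 135]),
  (373, []),
  (374, []),
  (375, []),
  (376, []),
  (378, [130]),
  (377, [93]),
  (381, []),
  (380, [103, 135]),
  (383, [98, 134]),
  (382, [130]),
  (384, []),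
  (385, []),
  (386, [108, 134]),
  (388, []),
  (390, []),
  (389, [106]),
  (391, [110, 134]),
  (392, [109, 135]),
  (393, [108, 134]),
  (409, []),
  (410, []),
  (411, [105, 135])]

/-- The moves by letter 0, a part. -/
def certMoves0Part9 : List (ℕ × List ℕ) := [
  (412, [84, 135]),
  (413, []),
  (417, [107, 130]),
  (414, []),
  (415, [91, 130]),
  (416, [103, 134]),
  (330, [114, 104, 130]),
  (331, [114, 77, 134]),
  (332, [114, 88, 135]),
  (244, [5]),
  (245, [5]),
  (249, []),
  (250, []),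
  (251, []),
  (252, []),
  (253, []),
  (254, []),
  (255, []),
  (277, [3, 67, 103]),
  (454, [5]),
  (455, [5]),
  (456, [5]),
  (457, [5]),
  (256, []),
  (257, []),
  (258, []),
  (458, []),
  (459, []),
  (460, []),
  (461, []),
  (462, []),
  (464, []),
  (465, []),
  (467, []),
  (473, []),
  (474, [])]

/-- The moves by letter 0, a part. -/
def certMoves0Part10 : List (ℕ × List ℕ) := [
  (475, []),
  (361, [114, 104, 130]),
  (282, [5]),
  (283, [5]),
  (284, [5]),
  (286, [5, 77]),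
  (285, [5]),
  (287, [5]),
  (289, [5, 90, 135]),
  (288, [5]),
  (299, []),
  (300, []),
  (301, [105, 135]),
  (302, []),
  (303, []),
  (304, []),
  (305, []),
  (307, [93]),
  (306, [130]),
  (463, [3, 67, 103]),
  (309, [103, 135]),
  (308, []),
  (311, [130]),
  (310, [98, 134]),
  (312, []),
  (313, []),
  (314, [108, 134]),
  (466, [3, 67, 103]),
  (315, []),
  (317, [106]),
  (316, []),
  (318, [110, 134]),
  (319, [109, 135]),
  (320, [108, 134]),
  (394, [67, 87]),
  (395, [67, 87])]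

/-- The moves by letter 0, a part. -/
def certMoves0Part11 : List (ℕ × List ℕ) := [
  (488, [5]),
  (489, [5]),
  (490, [5, 105, 135]),
  (499, [5, 77]),
  (491, [5]),
  (492, [5]),
  (493, [5]),
  (495, [5]),
  (494, [5, 77]),
  (498, [5]),
  (497, [5]),
  (501, [5]),
  (500, [5, 102, 134]),
  (321, []),
  (322, []),
  (323, [105, 135]),
  (324, [92, 135]),
  (325, []),
  (327, []),
  (328, [91, 130]),
  (329, [105, 134]),
  (326, [107, 130]),
  (502, []),
  (503, []),
  (504, []),
  (505, [105, 135]),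
  (506, []),
  (509, []),
  (508, [109, 135]),
  (510, []),
  (511, []),
  (519, [90, 135]),
  (512, [95]),
  (514, []),
  (516, []),
  (515, [103, 135])]

/-- The moves by letter 0, a part. -/
def certMoves0Part12 : List (ℕ × List ℕ) := [
  (517, [109, 134]),
  (518, []),
  (523, []),
  (525, []),
  (526, []),
  (527, [111, 135]),
  (524, [78]),
  (528, [108, 134]),
  (532, []),
  (534, []),
  (533, [98, 134]),
  (552, []),
  (553, [110, 134]),
  (555, []),
  (556, [86, 135]),
  (557, [111, 130]),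
  (554, [77, 130]),
  (558, []),
  (559, [109, 134]),
  (560, [89, 130]),
  (452, [114, 77, 134]),
  (453, [114, 88, 135]),
  (343, [5]),
  (344, [5]),
  (345, [5]),
  (346, [5]),
  (350, []),
  (351, []),
  (352, []),
  (353, []),
  (354, []),
  (379, [3, 67, 103]),
  (355, []),
  (356, []),
  (387, [3, 67, 103]),
  (357, [])]

/-- The moves by letter 0, a part. -/
def certMoves0Part13 : List (ℕ × List ℕ) := [
  (598, [5]),
  (599, [5]),
  (600, [5]),
  (601, [5]),
  (602, [5]),
  (358, []),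
  (359, []),
  (360, []),
  (604, []),
  (605, []),
  (606, []),
  (608, []),
  (609, []),
  (611, []),
  (613, []),
  (614, []),
  (616, []),
  (624, []),
  (625, []),
  (626, []),
  (396, [5]),
  (397, [5]),
  (398, [5, 105, 135]),
  (400, [5]),
  (401, [5]),
  (402, [5]),
  (404, [5, 77]),
  (403, [5]),
  (603, [3, 67, 103]),
  (406, [5]),
  (405, [5]),
  (399, [5, 77]),
  (408, [5, 130]),
  (407, [5]),
  (418, []),
  (419, [])]

/-- The moves by letter 0, a part. -/
def certMoves0Part14 : List (ℕ × List ℕ) := [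
  (420, []),
  (421, [105, 135]),
  (422, []),
  (607, [3, 67, 103]),
  (424, [109, 135]),
  (423, []),
  (425, []),
  (426, []),
  (428, [95]),
  (610, [3, 67, 103]),
  (429, []),
  (431, [103, 135]),
  (430, []),
  (432, [109, 134]),
  (433, []),
  (427, [90, 135]),
  (520, [67, 87]),
  (521, [67, 85]),
  (612, [3, 67, 103]),
  (434, []),
  (438, [78]),
  (435, []),
  (436, []),
  (437, [111, 135]),
  (439, [108, 134]),
  (615, [3, 67, 103]),
  (530, [67, 87]),
  (531, [67, 92, 135]),
  (440, []),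
  (442, [98, 134]),
  (441, []),
  (640, [5]),
  (641, [5]),
  (642, [5]),
  (643, [5, 105, 135]),
  (644, [5, 92, 135])]

/-- The moves by letter 0, a part. -/
def certMoves0Part15 : List (ℕ × List ℕ) := [
  (646, [5]),
  (648, [5]),
  (647, [5, 101, 135]),
  (649, [5]),
  (650, [5]),
  (652, [5]),
  (651, [5, 78]),
  (654, [5]),
  (656, [5]),
  (655, [5, 90, 135]),
  (657, [5, 91, 130]),
  (658, [5, 105, 134]),
  (443, []),
  (444, [110, 134]),
  (448, [93, 130]),
  (445, []),
  (446, [86, 135]),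
  (447, [102, 130]),
  (449, []),
  (450, [109, 134]),
  (451, [89, 130]),
  (661, []),
  (662, []),
  (663, [110, 134]),
  (664, []),
  (666, []),
  (668, []),
  (667, [102, 134]),
  (669, []),
  (670, [103, 130]),
  (671, [94, 135]),
  (675, []),
  (677, []),
  (676, [110, 134]),
  (678, []),
  (679, [91, 130])]

/-- The moves by letter 0, a part. -/
def certMoves0Part16 : List (ℕ × List ℕ) := [
  (680, [102, 134]),
  (684, []),
  (686, []),
  (685, [108, 135]),
  (689, []),
  (690, []),
  (692, []),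
  (691, [105, 134]),
  (694, [111, 135]),
  (695, [108, 134]),
  (699, []),
  (701, []),
  (700, [108, 134]),
  (724, []),
  (725, []),
  (727, []),
  (726, [91, 135]),
  (728, []),
  (729, [86, 135]),
  (730, [91, 130]),
  (731, [109, 134]),
  (732, [89, 130]),
  (468, [5]),
  (469, [5]),
  (470, [5]),
  (471, [5]),
  (472, [5]),
  (496, [3, 67, 103]),
  (476, []),
  (477, []),
  (478, []),
  (507, [3, 67, 103]),
  (479, []),
  (480, []),
  (513, [3, 67, 103]),
  (481, [])]

/-- The moves by letter 0, a part. -/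
def certMoves0Part17 : List (ℕ × List ℕ) := [
  (522, [3, 67, 103]),
  (482, []),
  (483, []),
  (529, [3, 67, 103]),
  (484, []),
  (772, [5]),
  (773, [5]),
  (774, [5]),
  (776, [5]),
  (777, [5]),
  (778, [5]),
  (780, [5]),
  (485, []),
  (486, []),
  (487, []),
  (781, []),
  (782, []),
  (784, []),
  (785, []),
  (787, []),
  (788, []),
  (790, []),
  (792, []),
  (793, []),
  (795, []),
  (804, []),
  (805, []),
  (806, []),
  (535, [5]),
  (536, [5]),
  (537, [5]),
  (538, [5, 105, 135]),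
  (539, [5, 109, 130]),
  (775, [3, 67, 103]),
  (540, [5]),
  (542, [5, 101, 135])]

/-- The moves by letter 0, a part. -/
def certMoves0Part18 : List (ℕ × List ℕ) := [
  (541, [5]),
  (543, [5]),
  (544, [5]),
  (546, [5, 78]),
  (545, [5]),
  (779, [3, 67, 103]),
  (547, [5]),
  (549, [5, 107, 130]),
  (548, [5]),
  (550, [5, 109, 134]),
  (551, [5, 78, 130]),
  (659, [67, 85]),
  (660, [67, 85]),
  (561, []),
  (562, []),
  (563, [110, 134]),
  (564, []),
  (783, [3, 67, 103]),
  (565, []),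
  (567, [102, 134]),
  (566, []),
  (568, []),
  (569, [103, 130]),
  (570, [85, 135]),
  (672, [67, 85]),
  (673, [67, 85]),
  (786, [3, 67, 103]),
  (571, []),
  (573, [110, 134]),
  (572, []),
  (574, []),
  (575, [91, 130]),
  (576, [102, 134]),
  (789, [3, 67, 103]),
  (682, [67, 87]),
  (683, [67, 85])]

/-- The moves by letter 0, a part. -/
def certMoves0Part19 : List (ℕ × List ℕ) := [
  (577, []),
  (579, [98, 135]),
  (578, []),
  (791, [3, 67, 103]),
  (688, [67, 92, 135]),
  (580, []),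
  (581, []),
  (583, [103, 134]),
  (582, []),
  (693, [67, 92, 135]),
  (584, [111, 135]),
  (585, [108, 134]),
  (794, [3, 67, 103]),
  (697, [67, 87, 135]),
  (698, [67, 92, 135]),
  (586, []),
  (588, [108, 134]),
  (587, []),
  (820, [5]),
  (821, [5]),
  (822, [5, 110, 134]),
  (831, [5, 93, 130]),
  (824, [5]),
  (825, [5]),
  (827, [5]),
  (826, [5, 91, 134]),
  (828, [5]),
  (829, [5, 86, 135]),
  (830, [5]),
  (835, [5]),
  (834, [5, 101, 135]),
  (838, [5]),
  (840, [5]),
  (841, [5]),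
  (842, [5, 109, 134]),
  (843, [5])]

/-- The moves by letter 0, a part. -/
def certMoves0Part20 : List (ℕ × List ℕ) := [
  (839, [5]),
  (847, [5]),
  (849, [5]),
  (848, [5, 106]),
  (589, []),
  (590, []),
  (592, [91, 135]),
  (591, []),
  (593, []),
  (594, [86, 135]),
  (595, [91, 130]),
  (596, [109, 134]),
  (597, [89, 130]),
  (851, []),
  (853, []),
  (854, []),
  (855, []),
  (857, []),
  (856, [89, 135]),
  (852, [98, 134]),
  (861, []),
  (863, []),
  (862, [100]),
  (864, []),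
  (865, [103, 130]),
  (866, [101, 134]),
  (870, []),
  (871, []),
  (873, []),
  (872, [101]),
  (874, [91, 130]),
  (875, [102, 134]),
  (879, []),
  (881, []),
  (880, [105, 130]),
  (886, [])]

/-- The moves by letter 0, a part. -/
def certMoves0Part21 : List (ℕ × List ℕ) := [
  (887, []),
  (889, []),
  (888, [104, 135]),
  (891, []),
  (890, [105, 134]),
  (897, []),
  (896, [99, 134]),
  (920, []),
  (921, []),
  (923, []),
  (922, [94, 134]),
  (925, []),
  (924, [91, 135]),
  (952, [4, 50, 100]),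
  (926, [91, 130]),
  (927, [86, 135]),
  (617, [5]),
  (618, [5]),
  (619, [5]),
  (645, [3, 67, 103]),
  (620, [5]),
  (621, [5]),
  (622, [5]),
  (653, [3, 67, 103]),
  (623, [5]),
  (627, []),
  (628, []),
  (665, [3, 67, 103]),
  (629, []),
  (630, []),
  (674, [3, 67, 103]),
  (631, []),
  (632, []),
  (681, [3, 67, 103]),
  (633, []),
  (687, [3, 67, 103])]

/-- The moves by letter 0, a part. -/
def certMoves0Part22 : List (ℕ × List ℕ) := [
  (634, []),
  (635, []),
  (696, [3, 67, 103]),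
  (636, []),
  (959, [5]),
  (960, [5]),
  (962, [5]),
  (963, [5]),
  (964, [5]),
  (967, [5]),
  (968, [5]),
  (970, [5]),
  (637, []),
  (638, []),
  (639, []),
  (972, []),
  (973, []),
  (974, []),
  (976, []),
  (977, []),
  (979, []),
  (980, []),
  (982, []),
  (985, []),
  (986, []),
  (995, []),
  (996, []),
  (1001, [4, 49, 67, 84]),
  (702, [5]),
  (703, [5]),
  (704, [5, 110, 134]),
  (961, [3, 67, 103]),
  (706, [5]),
  (707, [5]),
  (709, [5, 108]),
  (708, [5])]

/-- The moves by letter 0, a part. -/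
def certMoves0Part23 : List (ℕ × List ℕ) := [
  (710, [5]),
  (711, [5, 103, 130]),
  (712, [5]),
  (705, [5, 104, 134]),
  (965, [3, 67, 103]),
  (833, [67, 87]),
  (714, [5, 101, 135]),
  (713, [5]),
  (836, [67, 87]),
  (966, [3, 67, 103]),
  (715, [5]),
  (720, [5]),
  (716, [5]),
  (717, [5]),
  (718, [5, 91, 130]),
  (719, [5]),
  (969, [3, 67, 103]),
  (845, [67, 85]),
  (846, [67, 87, 135]),
  (721, [5]),
  (723, [5, 89, 134]),
  (722, [5]),
  (971, [3, 67, 103]),
  (733, []),
  (739, [98, 134]),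
  (734, []),
  (735, []),
  (736, []),
  (738, [89, 135]),
  (737, []),
  (975, [3, 67, 103]),
  (859, [67, 85]),
  (860, [67, 87, 135]),
  (740, []),
  (742, [112]),
  (741, [])]

/-- The moves by letter 0, a part. -/
def certMoves0Part24 : List (ℕ × List ℕ) := [
  (743, []),
  (744, [103, 130]),
  (745, [101, 134]),
  (978, [3, 67, 103]),
  (868, [67, 92, 135]),
  (869, [67, 87, 135]),
  (746, []),
  (747, []),
  (749, [109]),
  (748, []),
  (750, [91, 130]),
  (751, [102, 134]),
  (981, [3, 67, 103]),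
  (877, [67, 86, 135]),
  (878, [67, 85]),
  (752, []),
  (754, [105, 130]),
  (753, []),
  (983, [3, 67, 103]),
  (984, [3, 67, 103]),
  (884, [67, 86]),
  (885, [67, 92, 135]),
  (755, []),
  (756, []),
  (758, [104, 135]),
  (757, []),
  (760, [103, 134]),
  (759, []),
  (987, [3, 67, 103]),
  (988, [3, 67, 103]),
  (894, [67, 87, 135]),
  (895, [67, 92, 135]),
  (762, [99, 134]),
  (761, []),
  (1003, [5]),
  (1004, [5])]

/-- The moves by letter 0, a part. -/
def certMoves0Part25 : List (ℕ × List ℕ) := [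
  (1006, [5]),
  (1007, [5]),
  (1008, [5]),
  (1010, [5, 91, 135]),
  (1009, [5, 85, 134]),
  (1005, [5, 108, 134]),
  (1016, [5]),
  (1015, [5, 91, 134]),
  (1018, [5]),
  (1017, [5, 100, 135]),
  (1019, [5, 86, 135]),
  (1020, [5, 27, 130]),
  (1025, [5]),
  (1026, [5]),
  (1028, [5]),
  (1027, [5, 111, 130]),
  (1030, [5, 109, 134]),
  (1031, [5]),
  (1036, [5]),
  (1035, [5, 88, 135]),
  (763, []),
  (764, []),
  (766, [94, 134]),
  (765, []),
  (768, [91, 135]),
  (767, []),
  (770, [91, 130]),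
  (771, [86, 135]),
  (1039, []),
  (1041, []),
  (1040, [102, 134]),
  (1043, []),
  (1045, []),
  (1047, []),
  (1046, [89, 135]),
  (1044, [89, 135])]

/-- The moves by letter 0, a part. -/
def certMoves0Part26 : List (ℕ × List ℕ) := [
  (1052, []),
  (1051, [101, 134]),
  (1054, [103, 130]),
  (1053, [101, 135]),
  (1059, []),
  (1061, []),
  (1063, []),
  (1062, [100, 134]),
  (1060, [101]),
  (1069, []),
  (1068, [100]),
  (1077, []),
  (1079, []),
  (1081, []),
  (1080, [104, 135]),
  (1078, [111, 135]),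
  (769, [17, 33, 114, 104, 130]),
  (1100, []),
  (1099, [94, 134]),
  (1101, [101, 134]),
  (1102, []),
  (1111, [4, 50, 99, 130]),
  (1112, [4, 50, 99, 130]),
  (796, [5]),
  (797, [5]),
  (823, [3, 67, 103]),
  (798, [5]),
  (799, [5]),
  (800, [5]),
  (832, [3, 67, 103]),
  (837, [3, 67, 103]),
  (801, [5]),
  (802, [5]),
  (844, [3, 67, 103]),
  (803, [5]),
  (850, [3, 67, 103])]

/-- The moves by letter 0, a part. -/
def certMoves0Part27 : List (ℕ × List ℕ) := [
  (807, []),
  (808, []),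
  (809, []),
  (858, [3, 67, 103]),
  (810, []),
  (811, []),
  (867, [3, 67, 103]),
  (812, []),
  (813, []),
  (876, [3, 67, 103]),
  (814, []),
  (882, [3, 67, 103]),
  (883, [3, 67, 103]),
  (815, []),
  (816, []),
  (892, [3, 67, 103]),
  (893, [3, 67, 103]),
  (1114, [5]),
  (1115, [5]),
  (1116, [5]),
  (1117, [5]),
  (1121, [5]),
  (1122, [5]),
  (817, []),
  (818, []),
  (1125, []),
  (1126, []),
  (1130, []),
  (1136, []),
  (819, [21, 33, 114, 104, 130]),
  (1113, [3, 67, 103]),
  (898, [5]),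
  (899, [5]),
  (905, [5, 108, 134]),
  (900, [5]),
  (901, [5])]

/-- The moves by letter 0, a part. -/
def certMoves0Part28 : List (ℕ × List ℕ) := [
  (902, [5]),
  (904, [5, 135]),
  (903, [5, 92, 134]),
  (1118, [3, 67, 103]),
  (1119, [3, 67, 103]),
  (1013, [67, 87]),
  (1014, [67, 92, 135]),
  (907, [5, 108]),
  (906, [5]),
  (909, [5, 88]),
  (908, [5]),
  (910, [5, 103, 130]),
  (911, [5, 101, 134]),
  (1021, [67, 87]),
  (1022, [67, 87]),
  (1120, [3, 67, 103]),
  (1024, [67, 87, 135]),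
  (912, [5]),
  (913, [5]),
  (915, [5, 94, 135]),
  (914, [5]),
  (1029, [67, 87, 135]),
  (916, [5, 91, 130]),
  (917, [5]),
  (1123, [3, 67, 103]),
  (1033, [67, 84]),
  (1034, [67, 92, 135]),
  (919, [5, 105, 130]),
  (918, [5]),
  (1124, [3, 67, 103]),
  (1038, [67, 87, 135]),
  (928, []),
  (930, [102, 134]),
  (929, []),
  (1042, [67, 87, 135]),
  (931, [])]

/-- The moves by letter 0, a part. -/
def certMoves0Part29 : List (ℕ × List ℕ) := [
  (935, [89, 135]),
  (932, []),
  (934, [89, 135]),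
  (933, []),
  (1127, [3, 67, 103]),
  (1049, [67, 84]),
  (1050, [67, 87, 135]),
  (937, [101, 134]),
  (936, []),
  (939, [101, 135]),
  (938, [103, 130]),
  (1128, [3, 67, 103]),
  (1129, [3, 67, 103]),
  (1057, [67, 94, 135]),
  (1058, [67, 87, 135]),
  (940, []),
  (944, [109]),
  (941, []),
  (943, [100, 134]),
  (942, []),
  (1131, [3, 67, 103]),
  (1132, [3, 67, 103]),
  (1066, [67, 86, 135]),
  (1067, [67, 84]),
  (946, [112]),
  (945, []),
  (1133, [3, 67, 103]),
  (1134, [3, 67, 103]),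
  (1135, [3, 67, 103]),
  (1073, [67, 86]),
  (1074, [67, 84]),
  (1075, [67, 86]),
  (1076, [67, 92, 135]),
  (947, []),
  (951, [111, 135]),
  (948, [])]

/-- The moves by letter 0, a part. -/
def certMoves0Part30 : List (ℕ × List ℕ) := [
  (950, [104, 135]),
  (949, []),
  (1137, [3, 67, 103]),
  (1083, [67, 92, 135]),
  (1084, [67, 92, 135]),
  (1085, [67, 87, 135]),
  (1086, [67, 92, 135]),
  (1142, [5]),
  (1144, [5]),
  (1143, [5, 101, 134]),
  (1147, [5, 98]),
  (1149, [5, 91, 135]),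
  (1148, [5, 85, 134]),
  (1146, [5, 85, 134]),
  (1141, [5, 108, 134]),
  (1159, [5]),
  (1161, [5]),
  (1158, [5, 109, 134]),
  (1160, [5, 111, 130]),
  (954, [94, 134]),
  (953, []),
  (955, [101, 134]),
  (956, []),
  (1169, []),
  (1168, [109]),
  (1171, []),
  (1170, [92, 134]),
  (1181, []),
  (1180, [102, 134]),
  (1197, []),
  (1196, [111, 135]),
  (957, [17, 33, 114, 95, 135]),
  (958, [17, 33, 114, 95, 135]),
  (1002, [3, 67, 103]),
  (989, [5]),
  (990, [5])]

/-- The moves by letter 0, a part. -/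
def certMoves0Part31 : List (ℕ × List ℕ) := [
  (991, [5]),
  (992, [5]),
  (1011, [3, 67, 103]),
  (1012, [3, 67, 103]),
  (1023, [3, 67, 103]),
  (993, [5]),
  (994, [5]),
  (1032, [3, 67, 103]),
  (1037, [3, 67, 103]),
  (997, []),
  (998, []),
  (1048, [3, 67, 103]),
  (1055, [3, 67, 103]),
  (1056, [3, 67, 103]),
  (999, []),
  (1064, [3, 67, 103]),
  (1065, [3, 67, 103]),
  (1070, [3, 67, 103]),
  (1071, [3, 67, 103]),
  (1072, [3, 67, 103]),
  (1000, []),
  (1082, [3, 67, 103]),
  (1201, [3, 67, 103]),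
  (1202, [3, 67, 103]),
  (1140, [67, 92, 135]),
  (1094, [5, 108, 134]),
  (1087, [5]),
  (1089, [5, 27, 130]),
  (1088, [5]),
  (1145, [67, 92, 135]),
  (1093, [5, 135]),
  (1090, [5, 27, 134]),
  (1092, [5, 135]),
  (1091, [5, 92, 134]),
  (1150, [67, 87]),
  (1151, [67, 92, 135])]

/-- The moves by letter 0, a part. -/
def certMoves0Part32 : List (ℕ × List ℕ) := [
  (1152, [67, 86, 135]),
  (1153, [67, 87]),
  (1203, [3, 67, 103]),
  (1204, [3, 67, 103]),
  (1156, [67, 85]),
  (1157, [67, 92, 135]),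
  (1097, [5, 91, 130]),
  (1095, [5]),
  (1098, [5, 94, 135]),
  (1096, [5]),
  (1205, [3, 67, 103]),
  (1163, [67, 84]),
  (1164, [67, 86, 135]),
  (1206, [3, 67, 103]),
  (1166, [67, 85]),
  (1167, [67, 87, 135]),
  (1104, [101]),
  (1103, []),
  (1106, [92, 134]),
  (1105, []),
  (1172, [67, 84]),
  (1173, [67, 86, 135]),
  (1207, [3, 67, 103]),
  (1208, [3, 67, 103]),
  (1176, [67, 94, 135]),
  (1177, [67, 94, 135]),
  (1178, [67, 86, 135]),
  (1179, [67, 87, 135]),
  (1108, [102, 134]),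
  (1107, []),
  (1209, [3, 67, 103]),
  (1183, [67, 84]),
  (1184, [67, 87, 135]),
  (1185, [67, 84]),
  (1186, [67, 84]),
  (1210, [3, 67, 103])]

/-- The moves by letter 0, a part. -/
def certMoves0Part33 : List (ℕ × List ℕ) := [
  (1211, [3, 67, 103]),
  (1189, [67, 84]),
  (1212, [3, 67, 103]),
  (1191, [67, 86]),
  (1192, [67, 84]),
  (1193, [67, 84]),
  (1194, [67, 86]),
  (1195, [67, 84]),
  (1110, [111, 135]),
  (1109, []),
  (1213, [3, 67, 103]),
  (1199, [67, 87, 135]),
  (1200, [67, 92, 135]),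
  (1138, [3, 67, 103]),
  (1139, [3, 67, 103]),
  (1154, [3, 67, 103]),
  (1155, [3, 67, 103]),
  (1162, [3, 67, 103]),
  (1165, [3, 67, 103]),
  (1174, [3, 67, 103]),
  (1175, [3, 67, 103]),
  (1182, [3, 67, 103]),
  (1187, [3, 67, 103]),
  (1188, [3, 67, 103]),
  (1190, [3, 67, 103]),
  (1198, [3, 67, 103]),
  (1214, [67, 92, 135]),
  (1215, [67, 94, 135]),
  (1216, [67, 85]),
  (1217, [67, 92, 135]),
  (1244, [3, 67, 103]),
  (1219, [67, 94, 135]),
  (1220, [67, 85]),
  (1221, [67, 85]),
  (1222, [67, 92, 135]),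
  (1223, [67, 86, 135])]

/-- The moves by letter 0, a part. -/
def certMoves0Part34 : List (ℕ × List ℕ) := [
  (1224, [67, 86, 135]),
  (1225, [67, 94, 135]),
  (1226, [67, 87, 135]),
  (1245, [3, 67, 103]),
  (1228, [67, 85]),
  (1229, [67, 87, 135]),
  (1230, [67, 85]),
  (1231, [67, 94, 135]),
  (1232, [67, 86, 135]),
  (1233, [67, 84]),
  (1246, [3, 67, 103]),
  (1235, [67, 84]),
  (1247, [3, 67, 103]),
  (1237, [67, 86]),
  (1238, [67, 84]),
  (1239, [67, 84]),
  (1240, [67, 86]),
  (1241, [67, 84]),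
  (1242, [67, 87, 135]),
  (1243, [67, 92, 135]),
  (1218, [3, 67, 103]),
  (1227, [3, 67, 103]),
  (1234, [3, 67, 103]),
  (1236, [3, 67, 103]),
  (1248, [67, 85]),
  (1249, [67, 94, 135]),
  (1250, [67, 94, 135]),
  (1251, [67, 85]),
  (1257, [3, 67, 103]),
  (1253, [67, 86]),
  (1254, [67, 84]),
  (1255, [67, 86]),
  (1256, [67, 84]),
  (1252, [3, 67, 103]),
  (1258, [67, 86]),
  (1259, [67, 84])]

/-- The moves by letter 0, in equal parts. -/
def certMoves0C : List (List (ℕ × List ℕ)) := [certMoves0Part0, certMoves0Part1, certMoves0Part2, certMoves0Part3, certMoves0Part4, certMoves0Part5, certMoves0Part6, certMoves0Part7, certMoves0Part8, certMoves0Part9, certMoves0Part10, certMoves0Part11, certMoves0Part12, certMoves0Part13, certMoves0Part14, certMoves0Part15, certMoves0Part16, certMoves0Part17, certMoves0Part18, certMoves0Part19, certMoves0Part20, certMoves0Part21, certMoves0Part22, certMoves0Part23, certMoves0Part24, certMoves0Part25, certMoves0Part26, certMoves0Part27, certMoves0Part28,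 certMoves0Part29, certMoves0Part30, certMoves0Part31, certMoves0Part32, certMoves0Part33, certMoves0Part34]

/-- The moves by letter 0. -/
def certMoves0 : List (ℕ × List ℕ) := certMoves0C.flatten

/-- The moves by letter 1, a part. -/
def certMoves1Part0 : List (ℕ × List ℕ) := [
  (0, [53, 42, 114, 77, 135]),
  (1, [53, 42, 114, 77, 135]),
  (2, [53, 42, 114, 77, 135]),
  (11, []),
  (4, [53, 42, 114, 92, 135]),
  (5, [53, 42, 114, 77, 135]),
  (17, []),
  (7, [53, 42, 114, 77, 135]),
  (8, [53, 42, 114, 77, 135]),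
  (22, []),
  (10, [53, 42, 114, 92, 135]),
  (3, []),
  (26, []),
  (27, [88]),
  (14, [53, 42, 114, 77, 135]),
  (33, []),
  (16, [53, 42, 114, 77, 135]),
  (6, []),
  (37, []),
  (38, []),
  (40, []),
  (21, [53, 42, 114, 95, 134]),
  (9, []),
  (44, []),
  (45, []),
  (46, [88]),
  (12, []),
  (13, [88]),
  (53, []),
  (55, []),
  (54, [88, 134]),
  (59, []),
  (32, [53, 42, 114, 77, 135]),
  (15, []),
  (63, []),
  (64, [])]

/-- The moves by letter 1, a part. -/
def certMoves1Part1 : List (ℕ × List ℕ) := [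
  (65, []),
  (18, []),
  (19, []),
  (70, []),
  (20, []),
  (72, []),
  (73, []),
  (74, [91, 130]),
  (23, []),
  (24, []),
  (25, [88]),
  (81, []),
  (82, [110, 134]),
  (84, []),
  (86, []),
  (85, [88, 134]),
  (69, [2]),
  (28, []),
  (30, [88, 134]),
  (29, []),
  (96, []),
  (98, []),
  (97, [89, 134]),
  (31, []),
  (102, []),
  (103, []),
  (104, []),
  (34, []),
  (35, []),
  (36, []),
  (109, []),
  (110, []),
  (112, []),
  (52, [2]),
  (39, []),
  (117, [])]

/-- The moves by letter 1, a part. -/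
def certMoves1Part2 : List (ℕ × List ℕ) := [
  (41, []),
  (42, []),
  (43, [91, 130]),
  (118, []),
  (119, []),
  (120, [87, 130]),
  (122, []),
  (124, []),
  (123, [87, 134]),
  (47, []),
  (48, [110, 134]),
  (111, [2]),
  (49, []),
  (51, [88, 134]),
  (50, []),
  (145, []),
  (135, []),
  (136, [105, 135]),
  (137, [100]),
  (141, []),
  (143, []),
  (142, [89, 134]),
  (116, [2]),
  (95, [2, 3, 88]),
  (56, []),
  (58, [89, 134]),
  (57, []),
  (99, [2, 3, 88]),
  (159, []),
  (158, [86]),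
  (60, []),
  (61, []),
  (62, []),
  (160, []),
  (161, []),
  (162, [])]

/-- The moves by letter 1, a part. -/
def certMoves1Part3 : List (ℕ × List ℕ) := [
  (164, []),
  (66, []),
  (67, []),
  (83, [2]),
  (68, []),
  (175, []),
  (171, []),
  (174, []),
  (94, [2]),
  (71, []),
  (75, []),
  (76, []),
  (77, [87, 130]),
  (163, [2]),
  (78, []),
  (80, [87, 134]),
  (79, []),
  (180, []),
  (181, [100, 135]),
  (197, []),
  (183, []),
  (184, [93]),
  (185, []),
  (189, []),
  (191, []),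
  (190, [86, 135]),
  (206, []),
  (88, []),
  (89, [105, 135]),
  (90, [112]),
  (172, [2]),
  (173, [2]),
  (140, [2, 3, 88]),
  (91, []),
  (93, [89, 134]),
  (92, [])]

/-- The moves by letter 1, a part. -/
def certMoves1Part4 : List (ℕ × List ℕ) := [
  (144, [2, 3, 88]),
  (87, []),
  (223, []),
  (224, [101, 135]),
  (229, []),
  (211, []),
  (212, [105, 135]),
  (213, [85, 135]),
  (222, []),
  (221, [86]),
  (178, [2]),
  (179, [2]),
  (156, [2, 3, 88]),
  (157, [2, 3, 89, 134]),
  (101, [86]),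
  (100, []),
  (105, []),
  (106, []),
  (107, []),
  (121, [2]),
  (108, []),
  (237, []),
  (238, []),
  (246, []),
  (240, []),
  (243, []),
  (249, []),
  (114, []),
  (138, [2]),
  (139, [2]),
  (115, []),
  (113, []),
  (256, []),
  (252, []),
  (154, [2]),
  (155, [2])]

/-- The moves by letter 1, a part. -/
def certMoves1Part5 : List (ℕ × List ℕ) := [
  (125, []),
  (126, [100, 135]),
  (264, []),
  (128, []),
  (129, [93]),
  (130, []),
  (241, [2]),
  (242, [2]),
  (188, [2, 3, 92]),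
  (131, []),
  (133, [86, 135]),
  (132, []),
  (192, [2, 3, 92]),
  (282, []),
  (261, []),
  (263, [105, 135]),
  (262, [93, 135]),
  (127, []),
  (290, []),
  (292, [77]),
  (268, []),
  (269, [93]),
  (270, []),
  (291, [89]),
  (281, []),
  (280, [27, 130]),
  (134, []),
  (299, []),
  (300, []),
  (301, [93]),
  (302, []),
  (149, []),
  (150, [105, 135]),
  (151, [94, 135]),
  (253, [2]),
  (254, [2])]

/-- The moves by letter 1, a part. -/
def certMoves1Part6 : List (ℕ × List ℕ) := [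
  (255, [2]),
  (217, [2, 3, 88]),
  (218, [2, 3, 89, 134]),
  (219, [2, 3, 92]),
  (220, [2, 3, 88]),
  (153, [86]),
  (152, []),
  (146, []),
  (147, [101, 135]),
  (321, []),
  (322, []),
  (323, [101, 135]),
  (324, [88, 135]),
  (148, []),
  (310, [110, 134]),
  (311, [95, 130]),
  (259, [2]),
  (233, [2, 3, 89, 134]),
  (234, [2, 3, 89, 134]),
  (235, [2, 3, 88]),
  (236, [2, 3, 89, 134]),
  (165, []),
  (166, []),
  (335, []),
  (168, []),
  (186, [2]),
  (187, [2]),
  (169, []),
  (343, []),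
  (334, []),
  (167, []),
  (347, []),
  (338, []),
  (170, []),
  (350, []),
  (351, [])]

/-- The moves by letter 1, a part. -/
def certMoves1Part7 : List (ℕ × List ℕ) := [
  (177, []),
  (214, [2]),
  (215, [2]),
  (216, [2]),
  (176, []),
  (358, []),
  (359, []),
  (232, [2]),
  (362, []),
  (194, []),
  (196, [93, 135]),
  (195, [105, 135]),
  (182, []),
  (370, []),
  (371, []),
  (373, [93]),
  (200, []),
  (201, [93]),
  (202, []),
  (372, [89]),
  (339, [2]),
  (340, [2]),
  (341, [2]),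
  (275, [2, 3, 92]),
  (276, [2, 3, 95, 134]),
  (342, [2]),
  (278, [2, 3, 88]),
  (279, [2, 3, 92]),
  (205, [27, 130]),
  (204, []),
  (193, []),
  (396, []),
  (397, []),
  (398, [93]),
  (399, []),
  (367, [])]

/-- The moves by letter 1, a part. -/
def certMoves1Part8 : List (ℕ × List ℕ) := [
  (369, [105, 135]),
  (368, [102, 130]),
  (198, []),
  (203, [89]),
  (199, [77]),
  (409, []),
  (410, []),
  (412, [77]),
  (411, [107, 134]),
  (382, [78]),
  (383, []),
  (207, []),
  (208, []),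
  (209, [93]),
  (210, []),
  (418, []),
  (419, []),
  (420, []),
  (421, [93]),
  (422, []),
  (424, []),
  (423, []),
  (230, [110, 134]),
  (231, [78, 130]),
  (355, [2]),
  (356, [2]),
  (314, [2, 3, 89, 134]),
  (357, [2]),
  (316, [2, 3, 92]),
  (317, [2, 3, 95, 134]),
  (318, [2, 3, 89, 134]),
  (319, [2, 3, 88]),
  (320, [2, 3, 89, 134]),
  (225, []),
  (226, []),
  (227, [101, 135])]

/-- The moves by letter 1, a part. -/
def certMoves1Part9 : List (ℕ × List ℕ) := [
  (228, [88, 135]),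
  (443, []),
  (444, [98, 134]),
  (448, [27, 130]),
  (447, [103, 135]),
  (446, [99, 134]),
  (361, [2]),
  (331, [2, 3, 88]),
  (332, [2, 3, 89, 134]),
  (454, []),
  (245, []),
  (239, []),
  (458, []),
  (459, []),
  (248, []),
  (272, [2]),
  (273, [2]),
  (274, [2]),
  (277, [2]),
  (244, []),
  (468, []),
  (469, []),
  (457, []),
  (247, []),
  (473, []),
  (474, []),
  (250, []),
  (251, []),
  (476, []),
  (477, []),
  (478, []),
  (312, [2]),
  (313, [2]),
  (315, [2]),
  (257, []),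
  (258, [])]

/-- The moves by letter 1, a part. -/
def certMoves1Part10 : List (ℕ × List ℕ) := [
  (485, []),
  (330, [2]),
  (260, []),
  (488, []),
  (489, []),
  (499, []),
  (490, [101, 135]),
  (287, []),
  (289, [111, 130]),
  (288, [105, 135]),
  (265, []),
  (266, []),
  (271, [89]),
  (267, [93]),
  (502, []),
  (503, []),
  (504, []),
  (506, [93]),
  (505, [101, 134]),
  (507, []),
  (509, [103, 135]),
  (508, [109, 135]),
  (297, [78]),
  (298, []),
  (464, [2]),
  (465, [2]),
  (386, [2, 3, 95, 134]),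
  (466, [2]),
  (467, [2]),
  (389, [2, 3, 88]),
  (390, [2, 3, 92]),
  (391, [2, 3, 95, 134]),
  (392, [2, 3, 92]),
  (393, [2, 3, 95, 134]),
  (394, [2, 3, 88]),
  (395, [2, 3, 92])]

/-- The moves by letter 1, a part. -/
def certMoves1Part11 : List (ℕ × List ℕ) := [
  (283, []),
  (284, []),
  (285, [93]),
  (286, []),
  (535, []),
  (536, []),
  (537, []),
  (538, [93]),
  (539, []),
  (541, [105, 135]),
  (542, []),
  (501, [110, 134]),
  (500, [103, 134]),
  (293, []),
  (294, []),
  (296, [104, 134]),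
  (295, [77]),
  (552, []),
  (554, [78]),
  (557, [77, 135]),
  (556, [93, 135]),
  (553, [109, 130]),
  (303, []),
  (304, []),
  (305, []),
  (306, [93]),
  (307, []),
  (309, []),
  (308, []),
  (561, []),
  (562, []),
  (563, [78]),
  (564, []),
  (565, []),
  (567, [91, 130]),
  (566, [])]

/-- The moves by letter 1, a part. -/
def certMoves1Part12 : List (ℕ × List ℕ) := [
  (570, [103, 135]),
  (569, [108, 135]),
  (482, [2]),
  (435, [2, 3, 95, 134]),
  (483, [2]),
  (437, [2, 3, 88]),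
  (438, [2, 3, 89, 134]),
  (439, [2, 3, 89, 134]),
  (586, []),
  (441, [2, 3, 95, 134]),
  (442, [2, 3, 95, 134]),
  (325, []),
  (326, [98, 134]),
  (445, [0]),
  (329, [99, 134]),
  (328, [103, 135]),
  (327, [27, 130]),
  (590, []),
  (592, [92, 130]),
  (591, [94, 134]),
  (452, [2, 3, 88]),
  (453, [2, 3, 89, 134]),
  (333, []),
  (598, []),
  (599, []),
  (346, []),
  (336, []),
  (337, []),
  (604, []),
  (605, []),
  (606, []),
  (607, []),
  (384, [2]),
  (385, [2]),
  (387, [2]),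
  (388, [2])]

/-- The moves by letter 1, a part. -/
def certMoves1Part13 : List (ℕ × List ℕ) := [
  (344, []),
  (345, []),
  (617, []),
  (618, []),
  (619, []),
  (348, []),
  (349, []),
  (624, []),
  (352, []),
  (353, []),
  (354, []),
  (627, []),
  (628, []),
  (629, []),
  (434, [2]),
  (436, [2]),
  (636, []),
  (360, []),
  (594, [0, 3, 95, 135]),
  (638, []),
  (363, []),
  (364, []),
  (366, [101, 135]),
  (640, []),
  (641, []),
  (642, []),
  (644, [105, 130]),
  (643, [101, 135]),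
  (645, []),
  (647, [101, 135]),
  (648, [105, 135]),
  (365, []),
  (408, [105, 134]),
  (407, [110, 134]),
  (374, []),
  (375, [])]

/-- The moves by letter 1, a part. -/
def certMoves1Part14 : List (ℕ × List ℕ) := [
  (376, []),
  (378, [101, 134]),
  (377, [93]),
  (379, []),
  (381, [109, 135]),
  (380, [103, 135]),
  (661, []),
  (662, []),
  (664, [95]),
  (665, []),
  (666, []),
  (668, [103, 135]),
  (667, [109, 135]),
  (671, [87, 134]),
  (670, [90, 134]),
  (663, [105, 130]),
  (673, [103, 135]),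
  (672, []),
  (612, [2]),
  (613, [2]),
  (524, [2, 3, 89, 134]),
  (525, [2, 3, 95, 134]),
  (614, [2]),
  (527, [2, 3, 92]),
  (528, [2, 3, 95, 134]),
  (615, [2]),
  (530, [2, 3, 88]),
  (531, [2, 3, 89, 134]),
  (699, []),
  (533, [2, 3, 89, 134]),
  (534, [2, 3, 95, 134]),
  (400, []),
  (401, []),
  (402, []),
  (403, [93]),
  (404, [])]

/-- The moves by letter 1, a part. -/
def certMoves1Part15 : List (ℕ × List ℕ) := [
  (540, [114, 104, 130]),
  (405, [105, 135]),
  (406, []),
  (702, []),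
  (703, []),
  (704, [78]),
  (705, []),
  (707, []),
  (708, [105, 135]),
  (709, [99, 134]),
  (712, [107, 134]),
  (711, [93, 135]),
  (413, []),
  (417, [101, 130]),
  (414, [78]),
  (555, [0]),
  (416, [93, 135]),
  (415, [77, 135]),
  (725, []),
  (726, [108]),
  (727, [85, 135]),
  (425, []),
  (426, []),
  (427, [78]),
  (428, []),
  (429, []),
  (431, []),
  (430, [91, 130]),
  (568, [0]),
  (433, [98, 135]),
  (432, [103, 135]),
  (733, []),
  (739, []),
  (734, []),
  (736, []),
  (737, [135])]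

/-- The moves by letter 1, a part. -/
def certMoves1Part16 : List (ℕ × List ℕ) := [
  (738, []),
  (752, []),
  (742, [90, 134]),
  (741, [87, 134]),
  (755, []),
  (635, [2]),
  (582, [2, 3, 92]),
  (583, [2, 3, 95, 134]),
  (584, [2, 3, 88]),
  (585, [2, 3, 89, 134]),
  (440, []),
  (762, []),
  (761, []),
  (589, [0]),
  (449, []),
  (451, [94, 134]),
  (450, [92, 130]),
  (593, [0]),
  (486, [7, 31, 42, 67, 91, 130]),
  (595, [0]),
  (768, [92, 130]),
  (767, [94, 134]),
  (455, []),
  (456, []),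
  (772, []),
  (773, []),
  (774, []),
  (775, []),
  (460, []),
  (461, []),
  (462, []),
  (463, []),
  (781, []),
  (782, []),
  (783, []),
  (784, [])]

/-- The moves by letter 1, a part. -/
def certMoves1Part17 : List (ℕ × List ℕ) := [
  (522, [2]),
  (523, [2]),
  (526, [2]),
  (529, [2]),
  (795, []),
  (470, []),
  (471, []),
  (472, []),
  (620, [114, 104, 130]),
  (796, []),
  (797, []),
  (799, []),
  (475, []),
  (729, [0, 3, 92, 130]),
  (805, []),
  (479, []),
  (480, []),
  (481, []),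
  (744, [0, 3, 87, 134]),
  (807, []),
  (809, []),
  (814, []),
  (815, []),
  (581, [2]),
  (484, []),
  (765, [0, 3, 95, 134]),
  (487, []),
  (771, [0, 3, 95, 135]),
  (491, []),
  (492, []),
  (493, []),
  (495, [101, 135]),
  (494, [105, 130]),
  (496, []),
  (646, [114, 104, 130]),
  (497, [101, 135])]

/-- The moves by letter 1, a part. -/
def certMoves1Part18 : List (ℕ × List ℕ) := [
  (498, [105, 135]),
  (820, []),
  (821, []),
  (831, [101, 134]),
  (822, [98, 134]),
  (823, []),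
  (825, []),
  (826, [101, 135]),
  (827, [105, 135]),
  (830, [103, 135]),
  (829, [99, 134]),
  (833, [101, 135]),
  (836, [105, 135]),
  (510, []),
  (511, []),
  (519, [105, 130]),
  (512, [95]),
  (513, []),
  (514, []),
  (516, [109, 135]),
  (515, [103, 135]),
  (669, [0]),
  (518, [90, 134]),
  (517, [87, 134]),
  (521, []),
  (520, [103, 135]),
  (850, []),
  (851, []),
  (853, [110, 134]),
  (852, [98, 134]),
  (855, []),
  (857, [91, 134]),
  (856, [102, 130]),
  (858, []),
  (860, [91, 134]),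
  (859, [])]

/-- The moves by letter 1, a part. -/
def certMoves1Part19 : List (ℕ × List ℕ) := [
  (879, []),
  (863, [105, 130]),
  (862, [101, 134]),
  (791, [2]),
  (688, [2, 3, 89, 134]),
  (886, []),
  (793, [2]),
  (691, [2, 3, 88]),
  (692, [2, 3, 92]),
  (693, [2, 3, 95, 134]),
  (694, [2, 3, 92]),
  (695, [2, 3, 95, 134]),
  (892, []),
  (697, [2, 3, 89, 134]),
  (698, [2, 3, 89, 134]),
  (532, []),
  (897, [108, 134]),
  (896, [99, 134]),
  (543, []),
  (544, []),
  (545, [78]),
  (546, []),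
  (706, [114, 104, 130]),
  (547, []),
  (548, [105, 135]),
  (549, [99, 134]),
  (710, [0]),
  (551, [93, 135]),
  (550, [104, 134]),
  (713, [114, 91, 134]),
  (714, [114, 78, 134]),
  (899, []),
  (900, [99, 134]),
  (902, []),
  (903, [85, 134]),
  (904, [])]

/-- The moves by letter 1, a part. -/
def certMoves1Part20 : List (ℕ × List ℕ) := [
  (905, []),
  (912, [17, 37, 42, 67, 114, 98, 134]),
  (909, [99, 134]),
  (908, [103, 135]),
  (724, [0]),
  (558, []),
  (559, [108]),
  (560, [94, 135]),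
  (728, [0]),
  (625, [7, 31, 42, 67, 90, 134]),
  (730, [0]),
  (924, [108]),
  (925, [85, 135]),
  (571, []),
  (573, []),
  (735, [0]),
  (574, []),
  (575, [135]),
  (576, []),
  (572, []),
  (913, [0, 52, 114, 102]),
  (579, [87, 134]),
  (578, [90, 134]),
  (743, [0]),
  (630, [7, 31, 42, 67, 107, 134]),
  (745, [0]),
  (940, []),
  (928, [10, 53, 43, 67, 114, 84]),
  (929, [91, 130]),
  (930, []),
  (933, [135]),
  (934, []),
  (577, []),
  (946, [87, 134]),
  (945, []),
  (580, [])]

/-- The moves by letter 1, a part. -/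
def certMoves1Part21 : List (ℕ × List ℕ) := [
  (947, []),
  (951, []),
  (948, []),
  (759, [2, 3, 92]),
  (760, [2, 3, 95, 134]),
  (588, []),
  (587, []),
  (763, [0]),
  (764, [0]),
  (637, [7, 31, 42, 67, 134]),
  (766, [0]),
  (597, [94, 134]),
  (596, [92, 130]),
  (769, [0]),
  (770, [0]),
  (639, [7, 31, 42, 67, 91, 130]),
  (600, []),
  (601, []),
  (602, []),
  (603, []),
  (776, [114, 104, 130]),
  (959, []),
  (960, []),
  (961, []),
  (963, []),
  (608, []),
  (609, []),
  (610, []),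
  (611, []),
  (865, [0, 3, 94, 130]),
  (971, []),
  (972, []),
  (974, []),
  (975, []),
  (982, []),
  (687, [2])]

/-- The moves by letter 1, a part. -/
def certMoves1Part22 : List (ℕ × List ℕ) := [
  (985, []),
  (690, [2]),
  (987, []),
  (616, []),
  (621, []),
  (622, []),
  (798, [114, 104, 130]),
  (623, []),
  (910, [0, 3, 92, 130]),
  (990, []),
  (992, []),
  (993, [21, 3, 43, 114, 111]),
  (923, [0, 3, 95, 134]),
  (626, []),
  (927, [0, 3, 92, 130]),
  (631, []),
  (935, [0, 3, 111]),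
  (632, []),
  (994, [7, 49, 43, 114, 87, 130]),
  (939, [0, 3, 88]),
  (999, []),
  (997, [14, 53, 43, 67, 114, 84]),
  (633, []),
  (634, []),
  (1000, []),
  (953, [0, 3, 95, 134]),
  (956, [0, 3, 95, 134]),
  (958, [0, 3, 95, 135]),
  (649, []),
  (650, []),
  (652, [98, 134]),
  (653, []),
  (824, [114, 104, 130]),
  (654, []),
  (655, [101, 135]),
  (656, [105, 135])]

/-- The moves by letter 1, a part. -/
def certMoves1Part23 : List (ℕ × List ℕ) := [
  (828, [0]),
  (658, [99, 134]),
  (657, [103, 135]),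
  (651, [101, 134]),
  (832, [114, 104, 130]),
  (659, [101, 135]),
  (834, [114, 78, 134]),
  (835, [114, 91, 134]),
  (660, [105, 135]),
  (1002, []),
  (1004, []),
  (1005, [108, 134]),
  (1006, [99, 134]),
  (1008, []),
  (1010, [85]),
  (1009, [135]),
  (1012, []),
  (1013, [101, 135]),
  (1014, [108, 134]),
  (1025, [17, 37, 42, 67, 114, 98, 134]),
  (1018, [105, 130]),
  (1017, [101, 134]),
  (674, []),
  (675, []),
  (677, [98, 134]),
  (676, [110, 134]),
  (854, [0]),
  (678, []),
  (680, [111, 130]),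
  (679, [91, 134]),
  (681, []),
  (683, []),
  (682, [91, 134]),
  (1026, [17, 52, 114, 102]),
  (686, [101, 134]),
  (685, [105, 130])]

/-- The moves by letter 1, a part. -/
def certMoves1Part24 : List (ℕ × List ℕ) := [
  (864, [0]),
  (785, [7, 31, 42, 67, 27, 135]),
  (866, [0]),
  (1037, []),
  (1042, [110, 134]),
  (1038, []),
  (1059, []),
  (1039, [10, 53, 43, 67, 114, 84]),
  (1040, [91, 134]),
  (1041, [91, 130]),
  (1047, [91, 134]),
  (1046, [102, 130]),
  (1064, []),
  (1050, [88, 134]),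
  (1049, [86, 134]),
  (684, []),
  (1069, [105, 130]),
  (1068, [109, 134]),
  (1070, []),
  (984, [2]),
  (884, [2, 3, 88]),
  (885, [2, 3, 89, 134]),
  (689, []),
  (1077, []),
  (1079, [104, 135]),
  (1078, [111, 135]),
  (890, [2, 3, 88]),
  (891, [2, 3, 92]),
  (696, []),
  (1082, []),
  (1085, []),
  (1083, []),
  (701, [99, 134]),
  (700, [108, 134]),
  (898, [114, 104, 130]),
  (715, [])]

/-- The moves by letter 1, a part. -/
def certMoves1Part25 : List (ℕ × List ℕ) := [
  (716, [99, 134]),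
  (901, [0]),
  (717, []),
  (718, [85, 134]),
  (719, []),
  (720, []),
  (906, [114, 91, 134]),
  (907, [114, 85, 135]),
  (723, [103, 135]),
  (722, [99, 134]),
  (800, [7, 31, 42, 67, 90, 134]),
  (911, [0]),
  (721, [17, 37, 42, 67, 114, 98, 134]),
  (740, [0, 33, 114, 104, 130]),
  (1089, []),
  (1088, [92, 130]),
  (1091, [85, 134]),
  (1092, []),
  (1097, [17, 37, 42, 67, 114, 98, 134]),
  (1095, [17, 37, 42, 67, 114, 98, 134]),
  (920, [0]),
  (921, [0]),
  (922, [0, 109, 134]),
  (804, [7, 31, 42, 67, 134]),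
  (731, [108]),
  (732, [94, 135]),
  (926, [0]),
  (806, [7, 31, 42, 67, 90, 134]),
  (747, [10, 53, 43, 67, 114, 84]),
  (748, [91, 130]),
  (749, []),
  (931, [0]),
  (932, [0, 91, 130]),
  (750, [135]),
  (751, []),
  (808, [7, 31, 42, 67, 100, 135])]

/-- The moves by letter 1, a part. -/
def certMoves1Part26 : List (ℕ × List ℕ) := [
  (1098, [0, 52, 114, 110, 134]),
  (1096, [0, 52, 114, 102]),
  (938, [0, 109, 134]),
  (811, [7, 31, 42, 67, 107, 135]),
  (746, []),
  (1107, [91, 130]),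
  (1103, [10, 53, 43, 67, 114, 94, 130]),
  (1104, [10, 53, 43, 67, 114, 92]),
  (1108, [89]),
  (754, []),
  (753, [87, 134]),
  (756, []),
  (758, []),
  (1110, []),
  (1109, []),
  (757, []),
  (952, [0]),
  (817, [7, 31, 42, 67, 134]),
  (954, [0]),
  (955, [0]),
  (818, [7, 31, 42, 67, 134]),
  (957, [0]),
  (819, [7, 31, 42, 67, 91, 130]),
  (777, []),
  (778, []),
  (779, []),
  (962, [114, 104, 130]),
  (780, []),
  (1019, [0, 3, 87, 134]),
  (965, [114, 104, 130]),
  (1113, []),
  (1115, []),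
  (1117, []),
  (1119, []),
  (1121, [21, 3, 43, 114, 111]),
  (786, [])]

/-- The moves by letter 1, a part. -/
def certMoves1Part27 : List (ℕ × List ℕ) := [
  (787, []),
  (1044, [0, 3, 99]),
  (788, []),
  (789, []),
  (1122, [21, 49, 43, 114, 87, 130]),
  (1053, [0, 3, 98, 135]),
  (1124, []),
  (1130, []),
  (1125, [14, 53, 43, 67, 114, 84]),
  (1131, []),
  (790, []),
  (1133, []),
  (883, [2]),
  (792, []),
  (1136, []),
  (794, []),
  (1137, []),
  (989, [114, 104, 130]),
  (801, []),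
  (1093, [0, 3, 108, 130]),
  (802, []),
  (803, [21, 3, 43, 114, 111]),
  (810, [7, 33, 114, 104, 130]),
  (1100, [0, 3, 95, 134]),
  (1102, [0, 3, 95, 134]),
  (813, [14, 53, 43, 67, 114, 84]),
  (1106, [0, 3, 87, 134]),
  (812, []),
  (816, []),
  (1112, [0, 3, 95, 134]),
  (837, []),
  (1003, [114, 104, 130]),
  (838, []),
  (839, [108, 134]),
  (840, [99, 134]),
  (1007, [0])]

/-- The moves by letter 1, a part. -/
def certMoves1Part28 : List (ℕ × List ℕ) := [
  (841, []),
  (843, [135]),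
  (842, [94]),
  (1011, [114, 104, 130]),
  (844, []),
  (845, [101, 135]),
  (846, [108, 134]),
  (1015, [114, 78, 134]),
  (1016, [114, 91, 134]),
  (849, [101, 134]),
  (848, [105, 130]),
  (964, [7, 31, 42, 67, 107, 134]),
  (1020, [0]),
  (1021, [114, 78, 134]),
  (1022, [114, 91, 134]),
  (1139, []),
  (1140, [108, 134]),
  (847, [17, 37, 42, 67, 114, 98, 134]),
  (861, [10, 33, 114, 104, 130]),
  (1144, [27, 134]),
  (1143, [27, 130]),
  (1145, [99, 134]),
  (1149, [85]),
  (1148, [135]),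
  (1154, [17, 37, 42, 67, 114, 98, 134]),
  (1153, [98, 134]),
  (1152, [101, 135]),
  (1159, [17, 37, 42, 67, 114, 90, 135]),
  (1158, [17, 37, 42, 67, 114, 85]),
  (867, []),
  (869, []),
  (871, [10, 53, 43, 67, 114, 84]),
  (872, [91, 134]),
  (873, [91, 130]),
  (868, [110, 134]),
  (1043, [0])]

/-- The moves by letter 1, a part. -/
def certMoves1Part29 : List (ℕ × List ℕ) := [
  (973, [7, 31, 42, 67, 112]),
  (1045, [0, 91, 130]),
  (875, [111, 130]),
  (874, [91, 134]),
  (1155, [17, 52, 114, 102]),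
  (878, [86, 134]),
  (877, [88, 134]),
  (1161, [17, 52, 114, 91, 134]),
  (1160, [17, 52, 114, 95, 130]),
  (977, [7, 31, 42, 67, 95]),
  (1054, [0]),
  (1174, []),
  (1165, [10, 53, 43, 67, 114, 84]),
  (1166, [91, 134]),
  (1167, []),
  (870, []),
  (1180, [27, 134]),
  (1181, [91, 130]),
  (1168, [10, 53, 43, 67, 114, 94, 134]),
  (1169, [10, 53, 43, 67, 114, 94, 130]),
  (876, []),
  (1182, []),
  (1184, [88, 134]),
  (1183, []),
  (881, [109, 134]),
  (880, [105, 130]),
  (882, []),
  (1187, []),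
  (1188, []),
  (1194, []),
  (1189, []),
  (1075, [2, 3, 88]),
  (1076, [2, 3, 89, 134]),
  (887, []),
  (889, [111, 135]),
  (888, [104, 135])]

/-- The moves by letter 1, a part. -/
def certMoves1Part30 : List (ℕ × List ℕ) := [
  (1197, [104, 135]),
  (1196, [111, 135]),
  (893, []),
  (895, []),
  (1199, [110, 134]),
  (894, []),
  (1200, []),
  (1087, [114, 85, 135]),
  (915, [92, 130]),
  (914, []),
  (1090, [0, 109, 134]),
  (916, [85, 134]),
  (917, []),
  (991, [7, 31, 42, 67, 94]),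
  (1094, [114, 88, 135]),
  (919, [17, 37, 42, 67, 114, 98, 134]),
  (937, [0, 33, 114, 104, 130]),
  (918, [17, 37, 42, 67, 114, 98, 134]),
  (936, [0, 33, 114, 100]),
  (1099, [0, 109, 134]),
  (995, [7, 31, 42, 67, 134]),
  (1101, [0]),
  (996, [7, 31, 42, 67, 134]),
  (942, [10, 53, 43, 67, 114, 94, 130]),
  (943, [10, 53, 43, 67, 114, 92]),
  (1105, [0, 91, 130]),
  (998, [7, 31, 42, 67, 107, 134]),
  (941, [91, 130]),
  (944, [89]),
  (950, []),
  (949, []),
  (1111, [0]),
  (1001, [7, 31, 42, 67, 134]),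
  (966, []),
  (1114, [114, 104, 130]),
  (967, [])]

/-- The moves by letter 1, a part. -/
def certMoves1Part31 : List (ℕ × List ℕ) := [
  (1146, [0, 3, 99]),
  (968, []),
  (1118, [114, 104, 130]),
  (969, []),
  (1202, []),
  (970, [21, 3, 43, 114, 111]),
  (976, [14, 33, 114, 104, 130]),
  (1203, [21, 3, 43, 114, 111]),
  (978, []),
  (980, [14, 53, 43, 67, 114, 84]),
  (1170, [0, 3, 99]),
  (1204, [21, 49, 43, 114, 87, 130]),
  (1207, []),
  (1206, [14, 53, 43, 67, 114, 84]),
  (979, []),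
  (981, []),
  (1209, []),
  (983, []),
  (1210, []),
  (1211, []),
  (986, []),
  (988, []),
  (1138, [114, 104, 130]),
  (1023, []),
  (1024, [108, 134]),
  (1141, [114, 88, 135]),
  (1142, [114, 85, 135]),
  (1028, [27, 130]),
  (1027, [27, 134]),
  (1029, [99, 134]),
  (1116, [7, 31, 42, 67, 112]),
  (1147, [0]),
  (1031, [135]),
  (1030, [94]),
  (1150, [114, 78, 134]),
  (1151, [114, 88, 135])]

/-- The moves by letter 1, a part. -/
def certMoves1Part32 : List (ℕ × List ℕ) := [
  (1034, [101, 135]),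
  (1033, [98, 134]),
  (1032, [17, 37, 42, 67, 114, 98, 134]),
  (1048, [10, 33, 114, 104, 130]),
  (1216, []),
  (1215, [85, 130]),
  (1036, [17, 37, 42, 67, 114, 106, 135]),
  (1035, [17, 37, 42, 67, 114, 106]),
  (1052, [10, 33, 114, 103, 135]),
  (1051, [10, 33, 114, 103]),
  (1218, [17, 37, 42, 67, 114, 98, 134]),
  (1221, [17, 37, 42, 67, 114, 108, 134]),
  (1219, [17, 37, 42, 67, 114, 98, 134]),
  (1056, [10, 53, 43, 67, 114, 84]),
  (1057, [91, 134]),
  (1058, []),
  (1062, [10, 53, 43, 67, 114, 94, 134]),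
  (1063, [10, 53, 43, 67, 114, 94, 130]),
  (1126, [7, 31, 42, 67, 112]),
  (1171, [0, 91, 130]),
  (1222, [17, 52, 114, 100, 134]),
  (1220, [17, 52, 114, 102]),
  (1055, []),
  (1227, []),
  (1228, [27, 134]),
  (1225, [10, 53, 43, 67, 114, 94, 134]),
  (1226, [10, 53, 43, 67, 114, 84]),
  (1229, []),
  (1060, [27, 134]),
  (1061, [91, 130]),
  (1065, []),
  (1067, []),
  (1066, [88, 134]),
  (1232, [101, 134]),
  (1233, []),
  (1071, [])]

/-- The moves by letter 1, a part. -/
def certMoves1Part33 : List (ℕ × List ℕ) := [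
  (1072, []),
  (1074, []),
  (1234, []),
  (1240, []),
  (1235, []),
  (1237, [102, 135]),
  (1073, []),
  (1238, []),
  (1081, [111, 135]),
  (1080, [104, 135]),
  (1198, [114, 104, 130]),
  (1084, [110, 134]),
  (1086, []),
  (1201, [114, 104, 130]),
  (1120, []),
  (1123, [21, 3, 43, 114, 111]),
  (1127, [14, 33, 114, 104, 130]),
  (1244, [21, 3, 43, 114, 111]),
  (1129, [14, 53, 43, 67, 114, 84]),
  (1128, []),
  (1245, []),
  (1132, []),
  (1134, []),
  (1135, []),
  (1246, []),
  (1213, [114, 104, 130]),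
  (1214, [114, 88, 135]),
  (1157, [85, 130]),
  (1156, []),
  (1217, [114, 85, 135]),
  (1162, [17, 37, 42, 67, 114, 98, 134]),
  (1164, [17, 37, 42, 67, 114, 98, 134]),
  (1173, [10, 33, 114, 104, 130]),
  (1163, [17, 37, 42, 67, 114, 108, 134]),
  (1172, [10, 33, 114, 110]),
  (1248, [17, 37, 42, 67, 114, 94])]

/-- The moves by letter 1, a part. -/
def certMoves1Part34 : List (ℕ × List ℕ) := [
  (1249, [17, 37, 42, 67, 114, 98, 134]),
  (1177, [10, 53, 43, 67, 114, 94, 134]),
  (1178, [10, 53, 43, 67, 114, 84]),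
  (1175, []),
  (1176, [27, 134]),
  (1179, []),
  (1250, [91, 130]),
  (1251, [27, 134]),
  (1185, [101, 134]),
  (1186, []),
  (1190, []),
  (1192, []),
  (1236, [114, 104, 130]),
  (1193, [102, 135]),
  (1195, []),
  (1253, [102, 135]),
  (1191, []),
  (1254, []),
  (1242, [114, 85, 135]),
  (1243, [114, 88, 135]),
  (1205, [21, 3, 43, 114, 111]),
  (1208, []),
  (1212, []),
  (1247, [114, 104, 130]),
  (1223, [17, 37, 42, 67, 114, 97, 135]),
  (1224, [17, 37, 42, 67, 114, 98, 134]),
  (1230, [91, 130]),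
  (1231, [27, 134]),
  (1252, [114, 104, 130]),
  (1239, [102, 135]),
  (1241, []),
  (1255, [114, 77, 134]),
  (1256, [114, 89, 134]),
  (1257, [114, 104, 130]),
  (1258, [114, 77, 134]),
  (1259, [114, 89, 134])]

/-- The moves by letter 1, in equal parts. -/
def certMoves1C : List (List (ℕ × List ℕ)) := [certMoves1Part0, certMoves1Part1, certMoves1Part2, certMoves1Part3, certMoves1Part4, certMoves1Part5, certMoves1Part6, certMoves1Part7, certMoves1Part8, certMoves1Part9, certMoves1Part10, certMoves1Part11, certMoves1Part12, certMoves1Part13, certMoves1Part14, certMoves1Part15, certMoves1Part16, certMoves1Part17, certMoves1Part18, certMoves1Part19, certMoves1Part20, certMoves1Part21, certMoves1Part22, certMoves1Part23, certMoves1Part24, certMoves1Part25, certMoves1Part26, certMoves1Part27, certMoves1Part28, certMoves1Part29, certMoves1Part30, certMoves1Part31, certMoves1Part32, certMoves1Part33, certMoves1Part34]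

/-- The moves by letter 1. -/
def certMoves1 : List (ℕ × List ℕ) := certMoves1C.flatten

/-- The moves by letter 2, a part. -/
def certMoves2Part0 : List (ℕ × List ℕ) := [
  (1, []),
  (0, []),
  (5, []),
  (6, []),
  (4, [3]),
  (2, []),
  (3, []),
  (7, [0]),
  (14, []),
  (15, []),
  (10, [3]),
  (17, []),
  (19, []),
  (13, [3]),
  (8, []),
  (9, []),
  (16, [0]),
  (11, []),
  (18, [0]),
  (12, []),
  (31, []),
  (21, [3, 94, 130]),
  (33, []),
  (35, []),
  (36, []),
  (25, [3]),
  (38, []),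
  (27, [3, 86, 134]),
  (56, []),
  (29, [3, 86, 134]),
  (30, [3]),
  (20, []),
  (32, [0]),
  (22, []),
  (34, [0]),
  (23, [])]

/-- The moves by letter 2, a part. -/
def certMoves2Part1 : List (ℕ × List ℕ) := [
  (24, []),
  (37, [0]),
  (26, []),
  (71, []),
  (59, []),
  (61, []),
  (62, []),
  (43, [3, 94, 130]),
  (64, []),
  (65, []),
  (46, [3, 86, 134]),
  (67, []),
  (48, [3, 95, 135]),
  (91, []),
  (50, [3, 86, 134]),
  (51, [3]),
  (69, []),
  (96, []),
  (54, [3]),
  (55, [3, 86, 134]),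
  (28, []),
  (101, []),
  (100, []),
  (40, []),
  (60, [0]),
  (41, []),
  (42, []),
  (63, [0]),
  (44, []),
  (45, []),
  (66, [0]),
  (47, []),
  (115, []),
  (52, []),
  (117, []),
  (39, [])]

/-- The moves by letter 2, a part. -/
def certMoves2Part2 : List (ℕ × List ℕ) := [
  (103, []),
  (104, []),
  (74, [3, 93, 135]),
  (106, []),
  (107, []),
  (77, [3, 92, 130]),
  (131, []),
  (79, [3, 93, 135]),
  (80, [3, 94, 130]),
  (110, []),
  (82, [3, 87, 134]),
  (111, []),
  (141, []),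
  (85, [3]),
  (86, [3, 86, 134]),
  (113, []),
  (149, []),
  (89, [3, 87, 134]),
  (90, [3, 94, 130]),
  (49, []),
  (153, []),
  (152, []),
  (154, []),
  (95, [3]),
  (53, []),
  (159, [89, 134]),
  (158, [86]),
  (99, [3, 86, 134]),
  (58, []),
  (57, []),
  (102, [0]),
  (72, []),
  (73, []),
  (105, [0]),
  (75, []),
  (76, [])]

/-- The moves by letter 2, a part. -/
def certMoves2Part3 : List (ℕ × List ℕ) := [
  (169, []),
  (109, [0]),
  (81, []),
  (83, []),
  (174, []),
  (87, []),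
  (177, []),
  (68, []),
  (178, []),
  (70, []),
  (161, []),
  (162, []),
  (120, [3, 94, 130]),
  (163, []),
  (189, []),
  (123, [3, 94, 130]),
  (124, [3, 93, 135]),
  (166, []),
  (126, [3, 92, 130]),
  (167, []),
  (200, []),
  (129, [3, 94, 130]),
  (130, [3, 86, 134]),
  (78, []),
  (205, []),
  (204, []),
  (170, []),
  (211, []),
  (136, [3, 95, 135]),
  (137, [3, 87, 134]),
  (214, []),
  (173, []),
  (140, [3]),
  (84, []),
  (222, [89, 134]),
  (221, [86])]

/-- The moves by letter 2, a part. -/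
def certMoves2Part4 : List (ℕ × List ℕ) := [
  (144, [3, 86, 134]),
  (175, []),
  (225, []),
  (147, [3, 87, 134]),
  (148, [3, 94, 130]),
  (88, []),
  (231, [102, 134]),
  (230, [107, 130]),
  (93, []),
  (92, []),
  (94, []),
  (232, []),
  (235, []),
  (233, []),
  (98, [86]),
  (97, [89, 134]),
  (160, [0]),
  (118, []),
  (119, []),
  (121, []),
  (243, []),
  (165, [0]),
  (125, []),
  (127, []),
  (248, []),
  (108, []),
  (134, []),
  (252, []),
  (253, []),
  (139, []),
  (112, []),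
  (145, []),
  (257, []),
  (114, []),
  (116, []),
  (259, [])]

/-- The moves by letter 2, a part. -/
def certMoves2Part5 : List (ℕ × List ℕ) := [
  (238, []),
  (181, [3, 87, 134]),
  (239, []),
  (268, []),
  (184, [3, 92, 130]),
  (185, [3, 86, 134]),
  (272, []),
  (242, []),
  (188, [3, 94, 130]),
  (122, []),
  (281, [86, 135]),
  (280, [27, 130]),
  (192, [3, 93, 135]),
  (244, []),
  (287, []),
  (195, [3, 87, 134]),
  (196, [3, 92, 130]),
  (246, []),
  (293, []),
  (199, [3, 94, 130]),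
  (128, []),
  (298, [109, 130]),
  (297, [107, 134]),
  (203, [3, 86, 134]),
  (133, []),
  (132, []),
  (249, []),
  (303, []),
  (251, []),
  (209, [3, 95, 135]),
  (210, [3, 94, 130]),
  (135, []),
  (311, []),
  (310, []),
  (138, []),
  (312, [])]

/-- The moves by letter 2, a part. -/
def certMoves2Part6 : List (ℕ × List ℕ) := [
  (313, []),
  (319, []),
  (314, []),
  (219, [3, 93, 135]),
  (220, [3]),
  (143, [86]),
  (142, [89, 134]),
  (321, []),
  (224, [3, 93, 135]),
  (146, []),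
  (325, []),
  (327, [102, 134]),
  (326, [107, 130]),
  (229, [3, 94, 130]),
  (151, [107, 130]),
  (150, [102, 134]),
  (155, []),
  (157, []),
  (331, [86]),
  (156, []),
  (332, []),
  (237, [0]),
  (180, []),
  (182, []),
  (338, []),
  (339, []),
  (187, []),
  (164, []),
  (193, []),
  (346, []),
  (197, []),
  (348, []),
  (168, []),
  (206, []),
  (352, []),
  (208, [])]

/-- The moves by letter 2, a part. -/
def certMoves2Part7 : List (ℕ × List ℕ) := [
  (171, []),
  (172, []),
  (355, []),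
  (356, []),
  (358, []),
  (176, []),
  (360, []),
  (179, []),
  (333, []),
  (367, []),
  (262, [3, 92, 130]),
  (263, [3, 95, 135]),
  (335, []),
  (374, []),
  (337, []),
  (267, [3, 92, 130]),
  (183, []),
  (383, [105, 130]),
  (382, [109, 134]),
  (271, [3, 86, 134]),
  (186, []),
  (384, []),
  (385, []),
  (392, []),
  (386, []),
  (342, []),
  (278, [3, 27]),
  (279, [3, 93, 135]),
  (191, [27, 130]),
  (190, [86, 135]),
  (343, []),
  (400, []),
  (345, []),
  (285, [3, 87, 134]),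
  (286, [3, 92, 130]),
  (194, [])]

/-- The moves by letter 2, a part. -/
def certMoves2Part8 : List (ℕ × List ℕ) := [
  (408, []),
  (407, []),
  (409, []),
  (291, [3, 86, 134]),
  (292, [3, 92, 130]),
  (198, []),
  (413, []),
  (417, []),
  (414, []),
  (202, [104, 134]),
  (201, [101, 130]),
  (418, []),
  (351, []),
  (301, [3, 93, 135]),
  (302, [3, 94, 130]),
  (207, []),
  (425, []),
  (426, []),
  (428, [95, 130]),
  (427, [85, 135]),
  (308, [3, 93, 135]),
  (309, [3, 94, 130]),
  (213, []),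
  (212, []),
  (215, []),
  (216, []),
  (218, []),
  (434, []),
  (438, [106, 135]),
  (435, []),
  (437, [86]),
  (217, []),
  (439, []),
  (223, []),
  (443, []),
  (448, [])]

/-- The moves by letter 2, a part. -/
def certMoves2Part9 : List (ℕ × List ℕ) := [
  (444, []),
  (226, []),
  (228, [107, 130]),
  (227, [102, 134]),
  (450, [110, 134]),
  (451, [103, 135]),
  (330, [53, 42, 114, 77, 135]),
  (234, [86]),
  (236, []),
  (260, []),
  (457, []),
  (264, []),
  (460, []),
  (266, []),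
  (240, []),
  (241, []),
  (464, []),
  (465, []),
  (277, []),
  (282, []),
  (470, []),
  (284, []),
  (245, []),
  (473, []),
  (247, []),
  (475, []),
  (476, []),
  (300, []),
  (250, []),
  (479, []),
  (480, []),
  (254, []),
  (255, []),
  (482, []),
  (256, []),
  (485, [])]

/-- The moves by letter 2, a part. -/
def certMoves2Part10 : List (ℕ × List ℕ) := [
  (258, []),
  (361, [53, 42, 114, 77, 135]),
  (454, []),
  (491, []),
  (456, []),
  (365, [3, 92, 130]),
  (366, [3, 95, 135]),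
  (261, []),
  (501, [90, 135]),
  (500, [130]),
  (502, []),
  (459, []),
  (372, [3, 86, 134]),
  (373, [3, 94, 130]),
  (265, []),
  (510, []),
  (511, []),
  (519, []),
  (512, []),
  (463, []),
  (380, [3, 27]),
  (381, [3, 93, 135]),
  (270, [109, 134]),
  (269, [105, 130]),
  (273, []),
  (274, []),
  (276, []),
  (522, []),
  (523, []),
  (525, [106]),
  (524, [100, 135]),
  (527, [91, 130]),
  (275, []),
  (528, []),
  (394, [3, 27]),
  (395, [3, 93, 135])]

/-- The moves by letter 2, a part. -/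
def certMoves2Part11 : List (ℕ × List ℕ) := [
  (535, []),
  (469, []),
  (398, [3, 86, 134]),
  (399, [3, 92, 130]),
  (283, []),
  (543, []),
  (544, []),
  (546, [103, 134]),
  (545, [102, 130]),
  (405, [3, 95, 135]),
  (406, [3, 92, 130]),
  (289, []),
  (288, []),
  (290, []),
  (552, []),
  (554, [101, 134]),
  (553, [103, 130]),
  (294, []),
  (296, []),
  (559, [87, 130]),
  (560, []),
  (295, []),
  (299, []),
  (561, []),
  (562, []),
  (564, [91, 130]),
  (563, [88, 135]),
  (423, [3, 94, 130]),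
  (424, [3, 93, 135]),
  (304, []),
  (305, []),
  (307, [94, 135]),
  (306, [78, 130]),
  (571, []),
  (573, [91, 130]),
  (572, [88, 135])]

/-- The moves by letter 2, a part. -/
def certMoves2Part12 : List (ℕ × List ℕ) := [
  (575, [110, 134]),
  (576, [102, 134]),
  (315, []),
  (317, []),
  (436, [53, 42, 114, 77, 135]),
  (318, [86]),
  (316, [97, 135]),
  (320, []),
  (580, []),
  (582, [86, 135]),
  (583, []),
  (322, []),
  (324, []),
  (589, []),
  (591, [91, 135]),
  (592, []),
  (323, []),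
  (558, [4]),
  (328, [110, 134]),
  (329, [103, 135]),
  (452, [53, 42, 114, 92, 135]),
  (453, [53, 42, 114, 77, 130]),
  (362, []),
  (600, []),
  (364, []),
  (334, []),
  (604, []),
  (371, []),
  (336, []),
  (608, []),
  (609, []),
  (379, []),
  (340, []),
  (341, []),
  (612, []),
  (613, [])]

/-- The moves by letter 2, a part. -/
def certMoves2Part13 : List (ℕ × List ℕ) := [
  (617, []),
  (397, []),
  (344, []),
  (621, []),
  (622, []),
  (347, []),
  (624, []),
  (349, []),
  (350, []),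
  (627, []),
  (628, []),
  (353, []),
  (354, []),
  (631, []),
  (357, []),
  (483, [53, 42, 114, 77, 135]),
  (634, []),
  (359, []),
  (637, []),
  (626, [4]),
  (640, []),
  (599, []),
  (490, [3, 86, 134]),
  (363, []),
  (649, []),
  (650, []),
  (652, [90, 135]),
  (651, [130]),
  (603, []),
  (497, [3, 94, 130]),
  (498, [3, 87, 134]),
  (499, [3, 92, 130]),
  (369, [130]),
  (368, [90, 135]),
  (370, []),
  (661, [])]

/-- The moves by letter 2, a part. -/
def certMoves2Part14 : List (ℕ × List ℕ) := [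
  (662, []),
  (664, [107, 134]),
  (663, [109, 130]),
  (607, []),
  (508, [3, 87, 134]),
  (509, [3, 94, 130]),
  (375, []),
  (376, []),
  (378, []),
  (674, []),
  (675, []),
  (677, [106]),
  (676, [100, 135]),
  (679, [87, 130]),
  (680, []),
  (377, []),
  (520, [3, 27]),
  (521, [3, 87, 134]),
  (387, []),
  (388, []),
  (390, [100, 135]),
  (389, [106]),
  (526, [53, 42, 114, 77, 135]),
  (391, [91, 130]),
  (393, []),
  (687, []),
  (693, [106]),
  (688, []),
  (689, []),
  (691, [87]),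
  (692, [86, 135]),
  (396, []),
  (702, []),
  (703, []),
  (705, [101, 134]),
  (704, [103, 130])]

/-- The moves by letter 2, a part. -/
def certMoves2Part15 : List (ℕ × List ℕ) := [
  (620, []),
  (541, [3, 87, 134]),
  (542, [3, 92, 130]),
  (401, []),
  (402, []),
  (404, [111, 130]),
  (403, [105, 134]),
  (715, []),
  (720, [130]),
  (716, []),
  (718, [100, 135]),
  (719, [130]),
  (410, []),
  (412, [103, 130]),
  (411, [101, 134]),
  (724, []),
  (727, [90]),
  (726, [101, 134]),
  (449, [4]),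
  (415, [87, 130]),
  (416, []),
  (419, []),
  (420, []),
  (422, [88, 135]),
  (421, [91, 130]),
  (733, []),
  (739, [88, 135]),
  (734, []),
  (735, []),
  (738, [84, 130]),
  (737, [92, 134]),
  (429, []),
  (431, [88, 135]),
  (430, [91, 130]),
  (717, [5, 36, 43, 67]),
  (432, [110, 134])]

/-- The moves by letter 2, a part. -/
def certMoves2Part16 : List (ℕ × List ℕ) := [
  (433, [102, 134]),
  (746, []),
  (749, [90, 134]),
  (748, [91, 130]),
  (440, []),
  (581, [53, 42, 114, 77, 135]),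
  (441, [86, 135]),
  (442, []),
  (584, [53, 42, 114, 92, 135]),
  (585, [53, 42, 114, 77, 130]),
  (755, []),
  (757, [86, 135]),
  (758, [27, 130]),
  (445, []),
  (725, [4]),
  (446, [91, 135]),
  (447, []),
  (764, []),
  (765, [91, 135]),
  (766, [110, 134]),
  (731, [4, 102, 135]),
  (732, [4, 89]),
  (772, []),
  (489, []),
  (455, []),
  (777, []),
  (778, []),
  (496, []),
  (458, []),
  (781, []),
  (782, []),
  (507, []),
  (461, []),
  (462, []),
  (786, []),
  (787, [])]

/-- The moves by letter 2, a part. -/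
def certMoves2Part17 : List (ℕ × List ℕ) := [
  (466, []),
  (467, []),
  (614, [53, 42, 114, 77, 135]),
  (791, []),
  (792, []),
  (468, []),
  (796, []),
  (797, []),
  (540, []),
  (471, []),
  (472, []),
  (801, []),
  (474, []),
  (804, []),
  (487, [4]),
  (477, []),
  (478, []),
  (807, []),
  (808, []),
  (481, []),
  (802, [5, 36, 43, 67]),
  (812, []),
  (484, []),
  (635, [53, 42, 114, 77, 135]),
  (815, []),
  (486, []),
  (805, [4]),
  (818, []),
  (488, []),
  (820, []),
  (821, []),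
  (831, []),
  (822, []),
  (775, []),
  (776, []),
  (647, [3])]

/-- The moves by letter 2, a part. -/
def certMoves2Part18 : List (ℕ × List ℕ) := [
  (648, [3, 95, 135]),
  (492, []),
  (493, []),
  (495, [130]),
  (494, [90, 135]),
  (837, []),
  (838, []),
  (840, [107, 130]),
  (839, [102, 134]),
  (842, [100, 135]),
  (843, [105, 135]),
  (659, [3, 94, 130]),
  (660, [3, 87, 134]),
  (503, []),
  (504, []),
  (506, [101, 130]),
  (505, [104, 134]),
  (850, []),
  (851, []),
  (853, [102, 134]),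
  (852, [107, 130]),
  (854, []),
  (856, [99, 135]),
  (857, [91, 130]),
  (672, [3, 87, 134]),
  (673, [3, 94, 130]),
  (513, []),
  (514, []),
  (516, [100, 135]),
  (515, [106]),
  (841, [36, 43, 67]),
  (517, [87, 130]),
  (518, []),
  (867, []),
  (869, [91, 134]),
  (868, [87])]

/-- The moves by letter 2, a part. -/
def certMoves2Part19 : List (ℕ × List ℕ) := [
  (870, []),
  (873, [97, 134]),
  (872, [100, 134]),
  (529, []),
  (531, []),
  (532, []),
  (690, [53, 42, 114, 77, 135]),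
  (533, [87]),
  (534, [86, 135]),
  (530, [106]),
  (694, [53, 42, 114, 95, 134]),
  (695, [53, 42, 114, 92]),
  (882, []),
  (884, [87]),
  (885, []),
  (886, []),
  (888, [87]),
  (889, [86, 135]),
  (536, []),
  (537, []),
  (539, [103, 130]),
  (538, [101, 134]),
  (898, []),
  (899, []),
  (905, [103, 134]),
  (900, []),
  (901, []),
  (904, [77, 134]),
  (903, [91, 135]),
  (713, [3, 87, 134]),
  (714, [3, 92, 130]),
  (547, []),
  (549, []),
  (574, [4, 36, 43, 67]),
  (550, [100, 135]),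
  (551, [130])]

/-- The moves by letter 2, a part. -/
def certMoves2Part20 : List (ℕ × List ℕ) := [
  (548, [130]),
  (912, []),
  (914, [92, 130]),
  (915, []),
  (555, []),
  (590, [4]),
  (557, [101, 134]),
  (556, [90]),
  (921, []),
  (923, [90]),
  (922, [103, 130]),
  (596, [4, 100, 135]),
  (597, [4, 89]),
  (565, []),
  (567, []),
  (568, []),
  (902, [5, 36, 43, 67]),
  (570, [92, 134]),
  (569, [84, 130]),
  (566, [88, 135]),
  (928, []),
  (929, [87, 134]),
  (930, []),
  (931, [10, 53, 43, 67, 114, 84]),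
  (935, [84, 130]),
  (932, [110, 130]),
  (577, []),
  (913, [5, 36, 43, 67]),
  (579, [91, 130]),
  (578, [90, 134]),
  (916, [5, 36, 43, 67, 87, 130]),
  (917, [5, 36, 43, 67, 111, 134]),
  (940, []),
  (944, [90, 134]),
  (941, [88, 135]),
  (586, [])]

/-- The moves by letter 2, a part. -/
def certMoves2Part21 : List (ℕ × List ℕ) := [
  (756, [53, 42, 114, 77, 135]),
  (587, [86, 135]),
  (588, [27, 130]),
  (759, [53, 42, 114, 92]),
  (760, [53, 42, 114, 95, 134]),
  (948, [27, 130]),
  (951, [86, 135]),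
  (920, [4]),
  (593, []),
  (594, [91, 135]),
  (595, [110, 134]),
  (925, [4, 86, 135]),
  (924, [4]),
  (952, [50, 100]),
  (955, [90, 130]),
  (956, [91, 135]),
  (598, []),
  (959, []),
  (960, []),
  (645, []),
  (646, []),
  (601, []),
  (602, []),
  (966, []),
  (967, []),
  (605, []),
  (606, []),
  (971, []),
  (972, []),
  (973, []),
  (610, []),
  (611, []),
  (968, [36, 43, 67]),
  (978, []),
  (979, []),
  (615, [])]

/-- The moves by letter 2, a part. -/
def certMoves2Part22 : List (ℕ × List ℕ) := [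
  (616, []),
  (793, [53, 42, 114, 77, 135]),
  (983, []),
  (985, []),
  (618, []),
  (619, []),
  (989, []),
  (990, []),
  (991, []),
  (623, []),
  (632, [4, 36, 43, 67]),
  (993, []),
  (625, []),
  (638, [4]),
  (996, []),
  (629, []),
  (630, []),
  (992, [5, 36, 43, 67]),
  (997, []),
  (998, [14, 53, 43, 67, 114, 84]),
  (633, []),
  (994, [5, 36, 43, 67]),
  (999, []),
  (636, []),
  (816, [53, 42, 114, 77, 135]),
  (995, [4]),
  (639, []),
  (1001, [49, 67, 84]),
  (641, []),
  (642, []),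
  (644, []),
  (1002, []),
  (1003, []),
  (1004, []),
  (1006, [108]),
  (1005, [99, 135])]

/-- The moves by letter 2, a part. -/
def certMoves2Part23 : List (ℕ × List ℕ) := [
  (1007, []),
  (1009, [92, 134]),
  (1010, []),
  (643, []),
  (965, []),
  (833, [3]),
  (834, [3]),
  (835, [3, 95, 135]),
  (836, [3, 95, 135]),
  (653, []),
  (654, []),
  (656, [102, 134]),
  (655, [107, 130]),
  (678, [36, 43, 67]),
  (657, [100, 135]),
  (658, [105, 135]),
  (1023, []),
  (1029, [107, 130]),
  (1024, []),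
  (1025, []),
  (1027, [94, 130]),
  (1028, [92, 130]),
  (665, []),
  (666, []),
  (668, [107, 130]),
  (667, [102, 134]),
  (669, []),
  (1008, [36, 43, 67]),
  (670, [99, 135]),
  (671, [91, 130]),
  (1037, []),
  (1042, [102, 134]),
  (1038, []),
  (1039, []),
  (1040, [86, 134]),
  (1041, [87, 134])]

/-- The moves by letter 2, a part. -/
def certMoves2Part24 : List (ℕ × List ℕ) := [
  (1043, [10, 53, 43, 67, 114, 84]),
  (1044, [99, 135]),
  (1045, [88, 135]),
  (681, []),
  (683, [87]),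
  (682, [91, 134]),
  (684, []),
  (1026, [36, 43, 67]),
  (686, [100, 134]),
  (685, [97, 134]),
  (1030, [36, 43, 67, 109, 134]),
  (1031, [36, 43, 67, 89]),
  (1055, []),
  (1058, [88, 134]),
  (1057, [91, 134]),
  (1059, []),
  (1061, [97, 134]),
  (1060, [100, 134]),
  (696, []),
  (883, [53, 42, 114, 77, 135]),
  (697, [87]),
  (698, []),
  (699, []),
  (887, [53, 42, 114, 77, 135]),
  (700, [87]),
  (701, [86, 135]),
  (890, [53, 42, 114, 94, 135]),
  (891, [53, 42, 114, 92]),
  (1070, []),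
  (1072, []),
  (1073, [87]),
  (1074, [91, 134]),
  (1078, [91, 134]),
  (1079, [27, 130]),
  (706, []),
  (707, [])]

/-- The moves by letter 2, a part. -/
def certMoves2Part25 : List (ℕ × List ℕ) := [
  (709, []),
  (710, []),
  (736, [4, 36, 43, 67]),
  (712, [91, 135]),
  (711, [93, 134]),
  (708, [105, 134]),
  (1094, [103, 134]),
  (1087, []),
  (1088, [110, 134]),
  (1089, [105, 135]),
  (1093, [77, 134]),
  (1090, [103, 130]),
  (721, []),
  (747, [4, 36, 43, 67]),
  (722, [92, 130]),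
  (723, []),
  (750, [4, 36, 43, 67, 87, 130]),
  (751, [4, 36, 43, 67, 89, 130]),
  (1097, [92, 130]),
  (1095, [110, 134]),
  (763, [4]),
  (728, []),
  (730, [103, 130]),
  (729, [90]),
  (768, [4]),
  (767, [4, 86, 135]),
  (1101, [110, 134]),
  (1102, [90]),
  (740, []),
  (741, [87, 134]),
  (742, []),
  (743, [10, 53, 43, 67, 114, 84]),
  (745, [99, 130]),
  (1091, [5, 36, 43, 67, 92, 134]),
  (1092, [5, 36, 43, 67, 111, 134]),
  (744, [84, 130])]

/-- The moves by letter 2, a part. -/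
def certMoves2Part26 : List (ℕ × List ℕ) := [
  (1103, [88, 135]),
  (1104, [90, 134]),
  (1105, [10, 53, 43, 67, 114, 91, 130]),
  (1106, [10, 53, 43, 67, 114, 84]),
  (752, []),
  (754, [88, 135]),
  (1098, [5, 36, 43, 67]),
  (1096, [5, 36, 43, 67, 87, 134]),
  (753, [90, 134]),
  (1107, [87, 134]),
  (1108, []),
  (947, [53, 42, 114, 77, 135]),
  (761, [27, 130]),
  (949, [53, 42, 114, 92]),
  (950, [53, 42, 114, 95, 134]),
  (762, [86, 135]),
  (769, [50, 100]),
  (1100, [4, 86, 135]),
  (1099, [4, 84, 130]),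
  (770, [90, 130]),
  (771, [91, 135]),
  (1111, [50, 135]),
  (1112, [50, 78, 135]),
  (773, []),
  (774, []),
  (1113, []),
  (1114, []),
  (1115, []),
  (1116, []),
  (832, []),
  (779, []),
  (780, []),
  (788, [36, 43, 67]),
  (1120, []),
  (1121, []),
  (783, [])]

/-- The moves by letter 2, a part. -/
def certMoves2Part27 : List (ℕ × List ℕ) := [
  (784, []),
  (785, []),
  (1117, [36, 43, 67]),
  (1124, []),
  (1125, []),
  (1126, [14, 53, 43, 67, 114, 84]),
  (789, []),
  (790, []),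
  (1122, [36, 43, 67]),
  (1128, []),
  (1130, []),
  (794, []),
  (984, [53, 42, 114, 77, 135]),
  (795, []),
  (986, [53, 42, 114, 77, 135]),
  (1133, []),
  (1135, []),
  (798, []),
  (799, []),
  (800, []),
  (809, [4, 36, 43, 67]),
  (803, []),
  (813, [4, 36, 43, 67]),
  (817, [4]),
  (806, []),
  (810, []),
  (811, [14, 53, 43, 67, 114, 84]),
  (814, []),
  (1000, [53, 42, 114, 77, 135]),
  (819, [49, 67, 84]),
  (823, []),
  (824, []),
  (825, []),
  (827, [99, 135]),
  (826, [108]),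
  (828, [])]

/-- The moves by letter 2, a part. -/
def certMoves2Part28 : List (ℕ × List ℕ) := [
  (855, [36, 43, 67]),
  (829, [92, 134]),
  (830, []),
  (1138, []),
  (1139, []),
  (1145, [108]),
  (1140, []),
  (1142, [108]),
  (1141, [99, 135]),
  (1143, [108, 134]),
  (1144, [110, 134]),
  (1146, [92, 134]),
  (1147, [112, 135]),
  (1021, [3]),
  (1022, [3, 95, 135]),
  (844, []),
  (846, []),
  (847, []),
  (871, [36, 43, 67]),
  (848, [94, 130]),
  (849, [92, 130]),
  (845, [107, 130]),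
  (874, [36, 43, 67, 109, 134]),
  (875, [36, 43, 67, 89]),
  (1154, []),
  (1156, [94, 130]),
  (1157, []),
  (1159, [84, 135]),
  (1158, [94]),
  (858, []),
  (860, []),
  (861, []),
  (862, [86, 134]),
  (863, [87, 134]),
  (859, [102, 134]),
  (864, [10, 53, 43, 67, 114, 84])]

/-- The moves by letter 2, a part. -/
def certMoves2Part29 : List (ℕ × List ℕ) := [
  (865, [99, 135]),
  (866, [88, 135]),
  (1148, [36, 43, 67, 103, 130]),
  (1149, [36, 43, 67]),
  (1165, []),
  (1166, [86, 134]),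
  (1167, []),
  (1168, [87]),
  (1169, [88, 135]),
  (1170, [10, 53, 43, 67, 114, 111, 134]),
  (1171, [10, 53, 43, 67, 114, 104]),
  (876, []),
  (1155, [36, 43, 67]),
  (878, [91, 134]),
  (877, [88, 134]),
  (879, []),
  (881, [100, 134]),
  (880, [97, 134]),
  (1161, [36, 43, 67, 101]),
  (1160, [36, 43, 67, 105]),
  (1174, []),
  (1175, []),
  (1179, [88, 134]),
  (1176, [87]),
  (1180, [86, 134]),
  (1181, [87, 134]),
  (892, []),
  (1071, [53, 42, 114, 77, 135]),
  (893, []),
  (894, [87]),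
  (895, [91, 134]),
  (1075, [53, 42, 114, 94, 135]),
  (1076, [53, 42, 114, 78, 130]),
  (1077, [53, 42, 114, 77, 135]),
  (896, [91, 134]),
  (897, [27, 130])]

/-- The moves by letter 2, a part. -/
def certMoves2Part30 : List (ℕ × List ℕ) := [
  (1080, [53, 42, 114, 94, 135]),
  (1081, [53, 42, 114, 92]),
  (1188, []),
  (1189, [91, 134]),
  (1193, [27, 130]),
  (1194, [87]),
  (1195, [91, 134]),
  (907, []),
  (908, [110, 134]),
  (909, [105, 135]),
  (911, [103, 130]),
  (933, [4, 36, 43, 67, 91, 135]),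
  (934, [4, 36, 43, 67, 89, 130]),
  (910, [93, 134]),
  (906, [105, 134]),
  (919, [110, 134]),
  (943, [4, 36, 43, 67, 92, 130]),
  (918, [92, 130]),
  (942, [4, 36, 43, 67]),
  (954, [4, 77, 135]),
  (953, [4, 86, 135]),
  (926, [110, 134]),
  (927, [90]),
  (936, [88, 135]),
  (937, [90, 134]),
  (938, [10, 53, 43, 67, 114, 134]),
  (939, [10, 53, 43, 67, 114, 84]),
  (945, [87, 134]),
  (946, []),
  (1109, [53, 42, 114, 95, 134]),
  (1110, [53, 42, 114, 92]),
  (957, [50, 135]),
  (958, [50, 90, 130]),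
  (961, []),
  (962, []),
  (963, [])]

/-- The moves by letter 2, a part. -/
def certMoves2Part31 : List (ℕ × List ℕ) := [
  (964, []),
  (974, [36, 43, 67]),
  (1201, []),
  (1202, []),
  (969, []),
  (970, []),
  (980, [36, 43, 67]),
  (1203, []),
  (975, []),
  (976, []),
  (977, [14, 53, 43, 67, 114, 84]),
  (1206, []),
  (981, []),
  (1204, [36, 43, 67]),
  (982, []),
  (1207, []),
  (1208, []),
  (987, []),
  (1134, [53, 42, 114, 77, 135]),
  (988, []),
  (1136, [53, 42, 114, 77, 135]),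
  (1211, []),
  (1011, []),
  (1012, []),
  (1014, []),
  (1016, [99, 135]),
  (1015, [108]),
  (1017, [108, 134]),
  (1018, [110, 134]),
  (1013, [108]),
  (1019, [92, 134]),
  (1020, [112, 135]),
  (1046, [36, 43, 67, 103, 130]),
  (1047, [36, 43, 67]),
  (1217, [108]),
  (1214, [])]

/-- The moves by letter 2, a part. -/
def certMoves2Part32 : List (ℕ × List ℕ) := [
  (1215, [108, 134]),
  (1216, [101, 135]),
  (1032, []),
  (1056, [36, 43, 67]),
  (1033, [94, 130]),
  (1034, []),
  (1036, [85]),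
  (1035, [92, 135]),
  (1063, [36, 43, 67, 94, 135]),
  (1062, [36, 43, 67, 84]),
  (1218, []),
  (1221, [94, 130]),
  (1219, [108, 134]),
  (1048, []),
  (1049, [86, 134]),
  (1050, []),
  (1051, [87]),
  (1052, [88, 135]),
  (1053, [10, 53, 43, 67, 114, 110, 130]),
  (1054, [10, 53, 43, 67, 114, 98]),
  (1225, [87]),
  (1226, [86, 134]),
  (1064, []),
  (1065, []),
  (1067, [87]),
  (1222, [36, 43, 67]),
  (1220, [36, 43, 67, 86, 134]),
  (1066, [88, 134]),
  (1068, [86, 134]),
  (1069, [87, 134]),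
  (1227, []),
  (1228, [86, 134]),
  (1229, []),
  (1230, [90, 130]),
  (1231, [87]),
  (1187, [53, 42, 114, 77, 135])]

/-- The moves by letter 2, a part. -/
def certMoves2Part33 : List (ℕ × List ℕ) := [
  (1082, []),
  (1083, [91, 134]),
  (1190, [53, 42, 114, 77, 135]),
  (1191, [53, 42, 114, 94, 135]),
  (1192, [53, 42, 114, 78, 130]),
  (1084, [27, 130]),
  (1085, [87]),
  (1086, [91, 134]),
  (1196, [53, 42, 114, 78, 130]),
  (1197, [53, 42, 114, 95, 134]),
  (1236, []),
  (1237, [86]),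
  (1238, [91, 134]),
  (1118, []),
  (1119, []),
  (1123, []),
  (1129, [36, 43, 67]),
  (1244, []),
  (1127, []),
  (1131, []),
  (1132, []),
  (1245, []),
  (1210, [53, 42, 114, 77, 135]),
  (1137, []),
  (1212, [53, 42, 114, 77, 135]),
  (1247, []),
  (1151, []),
  (1152, [108, 134]),
  (1153, [101, 135]),
  (1150, [108]),
  (1162, []),
  (1164, [108, 134]),
  (1178, [36, 43, 67, 94, 130]),
  (1163, [94, 130]),
  (1177, [36, 43, 67]),
  (1248, [112, 135])]

/-- The moves by letter 2, a part. -/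
def certMoves2Part34 : List (ℕ × List ℕ) := [
  (1249, [108, 134]),
  (1172, [87]),
  (1173, [86, 134]),
  (1182, []),
  (1183, [86, 134]),
  (1184, []),
  (1185, [90, 130]),
  (1186, [87]),
  (1250, [110, 134]),
  (1251, [86, 134]),
  (1234, [53, 42, 114, 77, 135]),
  (1235, [53, 42, 114, 78, 130]),
  (1198, []),
  (1199, [86]),
  (1200, [91, 134]),
  (1239, [53, 42, 114, 95, 134]),
  (1240, [53, 42, 114, 94, 135]),
  (1241, [53, 42, 114, 78, 130]),
  (1255, [86]),
  (1256, [91, 134]),
  (1205, []),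
  (1209, []),
  (1246, [53, 42, 114, 77, 135]),
  (1213, []),
  (1223, [112, 135]),
  (1224, [108, 134]),
  (1232, [110, 134]),
  (1233, [86, 134]),
  (1252, [53, 42, 114, 77, 135]),
  (1253, [53, 42, 114, 92, 135]),
  (1254, [53, 42, 114, 78, 130]),
  (1242, [86]),
  (1243, [91, 134]),
  (1257, [53, 42, 114, 77, 135]),
  (1258, [53, 42, 114, 92, 135]),
  (1259, [53, 42, 114, 78, 130])]

/-- The moves by letter 2, in equal parts. -/
def certMoves2C : List (List (ℕ × List ℕ)) := [certMoves2Part0, certMoves2Part1, certMoves2Part2, certMoves2Part3, certMoves2Part4, certMoves2Part5, certMoves2Part6, certMoves2Part7, certMoves2Part8, certMoves2Part9, certMoves2Part10, certMoves2Part11, certMoves2Part12, certMoves2Part13, certMoves2Part14, certMoves2Part15, certMoves2Part16, certMoves2Part17, certMoves2Part18, certMoves2Part19, certMoves2Part20, certMoves2Part21, certMoves2Part22, certMoves2Part23, certMoves2Part24, certMoves2Part25, certMoves2Part26, certMoves2Part27, certMoves2Part28,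 certMoves2Part29, certMoves2Part30, certMoves2Part31, certMoves2Part32, certMoves2Part33, certMoves2Part34]

/-- The moves by letter 2. -/
def certMoves2 : List (ℕ × List ℕ) := certMoves2C.flatten

/-- The moves by letter 3, a part. -/
def certMoves3Part0 : List (ℕ × List ℕ) := [
  (2, []),
  (5, []),
  (0, []),
  (9, []),
  (10, []),
  (1, []),
  (15, []),
  (16, []),
  (8, [114, 104, 130]),
  (3, []),
  (4, []),
  (22, []),
  (24, []),
  (25, []),
  (14, [114, 104, 130]),
  (6, []),
  (7, []),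
  (33, []),
  (34, []),
  (36, []),
  (20, [114, 104, 130]),
  (21, [114, 77, 134]),
  (11, []),
  (44, [5]),
  (12, []),
  (13, []),
  (45, []),
  (46, []),
  (49, []),
  (50, []),
  (51, []),
  (31, [114, 104, 130]),
  (32, [114, 104, 130]),
  (17, []),
  (18, []),
  (64, [5])]

/-- The moves by letter 3, a part. -/
def certMoves3Part1 : List (ℕ × List ℕ) := [
  (19, []),
  (63, []),
  (65, []),
  (68, []),
  (40, [114, 104, 130]),
  (75, []),
  (42, [114, 104, 130]),
  (43, [114, 77, 134]),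
  (23, [5]),
  (26, []),
  (27, []),
  (81, [5]),
  (82, [5]),
  (28, []),
  (29, []),
  (30, []),
  (83, []),
  (84, []),
  (85, []),
  (86, []),
  (91, []),
  (92, []),
  (93, []),
  (59, [114, 104, 130]),
  (60, [114, 104, 130]),
  (106, []),
  (62, [114, 104, 130]),
  (37, []),
  (35, [5]),
  (38, []),
  (109, [5]),
  (110, [5]),
  (39, []),
  (111, []),
  (112, []),
  (115, [])]

/-- The moves by letter 3, a part. -/
def certMoves3Part2 : List (ℕ × List ℕ) := [
  (118, []),
  (73, [114, 104, 130]),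
  (74, [114, 85, 135]),
  (41, []),
  (125, []),
  (126, []),
  (78, [114, 104, 130]),
  (79, [114, 91, 134]),
  (80, [114, 77, 134]),
  (47, [5]),
  (48, [5]),
  (52, []),
  (53, []),
  (54, []),
  (55, []),
  (134, [5]),
  (135, [5]),
  (136, [5]),
  (137, [5, 91, 134]),
  (56, []),
  (57, []),
  (58, []),
  (138, []),
  (140, []),
  (141, []),
  (142, []),
  (143, []),
  (144, []),
  (152, []),
  (153, []),
  (102, [114, 104, 130]),
  (161, []),
  (104, [114, 104, 130]),
  (165, []),
  (61, []),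
  (166, [])]

/-- The moves by letter 3, a part. -/
def certMoves3Part3 : List (ℕ × List ℕ) := [
  (108, [114, 104, 130]),
  (66, [5]),
  (67, [5]),
  (69, []),
  (70, []),
  (170, [5]),
  (171, [5]),
  (71, []),
  (172, []),
  (174, []),
  (72, []),
  (180, []),
  (181, [109, 134]),
  (121, [114, 104, 130]),
  (122, [114, 104, 130]),
  (123, [114, 78, 134]),
  (124, [114, 91, 134]),
  (76, []),
  (77, []),
  (193, []),
  (194, []),
  (196, [135]),
  (195, [77]),
  (131, [114, 104, 130]),
  (132, [114, 91, 134]),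
  (133, [114, 85, 135]),
  (87, [5]),
  (88, [5]),
  (89, [5]),
  (90, [5, 108]),
  (94, []),
  (173, [3, 67, 103]),
  (95, []),
  (96, []),
  (97, []),
  (98, [])]

/-- The moves by letter 3, a part. -/
def certMoves3Part4 : List (ℕ × List ℕ) := [
  (99, []),
  (206, [5]),
  (207, [5]),
  (209, [5]),
  (210, [5, 93]),
  (211, [5]),
  (212, [5]),
  (213, [5, 107, 130]),
  (100, []),
  (101, []),
  (214, []),
  (216, []),
  (217, []),
  (218, []),
  (221, []),
  (222, []),
  (237, []),
  (103, []),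
  (238, []),
  (163, [114, 104, 130]),
  (164, [114, 104, 130]),
  (105, []),
  (107, []),
  (244, []),
  (245, []),
  (169, [114, 104, 130]),
  (113, [5]),
  (114, [5]),
  (116, []),
  (139, [3, 67, 103]),
  (117, []),
  (249, [5]),
  (250, [5]),
  (252, [5]),
  (253, []),
  (255, [])]

/-- The moves by letter 3, a part. -/
def certMoves3Part5 : List (ℕ × List ℕ) := [
  (119, []),
  (120, [109, 134]),
  (260, []),
  (261, []),
  (262, []),
  (263, [109, 135]),
  (186, [114, 104, 130]),
  (277, []),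
  (188, [114, 78, 134]),
  (189, [114, 104, 130]),
  (190, [114, 78, 134]),
  (191, [114, 91, 134]),
  (192, [114, 91, 134]),
  (127, []),
  (128, []),
  (130, [77]),
  (129, [135]),
  (282, []),
  (283, []),
  (286, [77]),
  (287, []),
  (289, [107, 130]),
  (288, [77]),
  (285, [77]),
  (204, [114, 85, 135]),
  (205, [114, 91, 134]),
  (145, [5]),
  (146, [5]),
  (251, [3, 67, 103]),
  (147, [5]),
  (148, [5, 93]),
  (149, [5]),
  (150, [5]),
  (151, [5, 90, 135]),
  (154, []),
  (254, [3, 67, 103])]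

/-- The moves by letter 3, a part. -/
def certMoves3Part6 : List (ℕ × List ℕ) := [
  (155, []),
  (156, []),
  (157, []),
  (219, [67, 87]),
  (220, [67, 87]),
  (158, []),
  (159, []),
  (299, [5]),
  (301, [5, 105, 135]),
  (303, [5]),
  (305, [5]),
  (306, [5]),
  (307, [5, 93]),
  (302, [5, 93]),
  (310, [5]),
  (311, [5, 102, 134]),
  (313, []),
  (314, []),
  (318, []),
  (319, []),
  (320, []),
  (160, []),
  (162, []),
  (333, []),
  (334, []),
  (241, [114, 104, 130]),
  (342, []),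
  (243, [114, 104, 130]),
  (167, []),
  (168, []),
  (343, []),
  (344, []),
  (346, []),
  (175, [5]),
  (176, [5]),
  (208, [3, 67, 103])]

/-- The moves by letter 3, a part. -/
def certMoves3Part7 : List (ℕ × List ℕ) := [
  (177, [5]),
  (178, []),
  (215, [3, 67, 103]),
  (179, []),
  (350, [5]),
  (352, [5]),
  (354, [5]),
  (356, []),
  (182, []),
  (183, []),
  (184, []),
  (185, [109, 135]),
  (362, []),
  (363, []),
  (379, []),
  (365, []),
  (367, []),
  (368, []),
  (369, [109, 135]),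
  (366, [109, 135]),
  (272, [114, 104, 130]),
  (387, []),
  (274, [114, 104, 130]),
  (275, [114, 78, 134]),
  (276, [114, 88, 135]),
  (187, []),
  (394, []),
  (395, []),
  (280, [114, 88, 135]),
  (281, [114, 85, 135]),
  (197, []),
  (198, []),
  (345, [2]),
  (203, [77]),
  (199, [77]),
  (200, [])]

/-- The moves by letter 3, a part. -/
def certMoves3Part8 : List (ℕ × List ℕ) := [
  (202, [77]),
  (201, [107, 130]),
  (396, []),
  (398, []),
  (399, []),
  (400, []),
  (402, []),
  (404, [77]),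
  (403, [102, 134]),
  (408, [102, 134]),
  (407, [78]),
  (223, [5]),
  (351, [3, 67, 103]),
  (224, [5, 105, 135]),
  (229, [5, 93]),
  (225, [5]),
  (353, [3, 67, 103]),
  (226, [5]),
  (227, [5]),
  (228, [5, 93]),
  (308, [67, 87]),
  (309, [67, 85]),
  (230, [5]),
  (231, [5, 130]),
  (355, [3, 67, 103]),
  (232, []),
  (233, []),
  (357, [3, 67, 103]),
  (316, [67, 87]),
  (317, [67, 92, 135]),
  (234, []),
  (235, []),
  (236, []),
  (418, [5]),
  (420, [5]),
  (421, [5, 105, 135])]

/-- The moves by letter 3, a part. -/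
def certMoves3Part9 : List (ℕ × List ℕ) := [
  (422, [5, 92, 135]),
  (426, [5]),
  (427, [5]),
  (428, [5, 95]),
  (432, [5]),
  (433, [5, 105, 134]),
  (436, []),
  (437, []),
  (439, []),
  (239, []),
  (240, []),
  (454, []),
  (455, []),
  (463, []),
  (457, []),
  (339, [114, 104, 130]),
  (466, []),
  (341, [114, 104, 130]),
  (242, []),
  (246, []),
  (247, []),
  (284, [2]),
  (248, []),
  (468, []),
  (470, []),
  (472, []),
  (256, [5]),
  (300, [3, 67, 103]),
  (257, [5]),
  (304, [3, 67, 103]),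
  (258, [5]),
  (312, [3, 67, 103]),
  (259, []),
  (315, [3, 67, 103]),
  (476, [5]),
  (478, [5])]

/-- The moves by letter 3, a part. -/
def certMoves3Part10 : List (ℕ × List ℕ) := [
  (480, [5]),
  (483, []),
  (264, []),
  (265, []),
  (496, []),
  (267, []),
  (271, [109, 135]),
  (268, []),
  (269, []),
  (270, [109, 135]),
  (488, []),
  (507, []),
  (490, []),
  (499, [93]),
  (491, []),
  (513, []),
  (493, []),
  (494, []),
  (495, [130]),
  (266, []),
  (520, []),
  (521, [109, 135]),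
  (500, []),
  (501, [98, 134]),
  (522, []),
  (385, [114, 104, 130]),
  (386, [114, 88, 135]),
  (273, []),
  (529, []),
  (530, []),
  (531, [100, 135]),
  (391, [114, 85, 135]),
  (392, [114, 78, 134]),
  (393, [114, 88, 135]),
  (278, []),
  (279, [])]

/-- The moves by letter 3, a part. -/
def certMoves3Part11 : List (ℕ × List ℕ) := [
  (290, []),
  (469, [2]),
  (291, []),
  (292, []),
  (293, []),
  (471, [2]),
  (294, []),
  (296, [102, 134]),
  (295, [77]),
  (405, [2, 3, 92]),
  (406, [2, 3, 92]),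
  (298, [78]),
  (297, [102, 134]),
  (535, []),
  (537, []),
  (538, []),
  (539, []),
  (544, []),
  (546, [78]),
  (550, []),
  (551, []),
  (545, [107, 130]),
  (321, [5]),
  (477, [3, 67, 103]),
  (322, [5]),
  (323, [5, 105, 135]),
  (324, [5, 109, 130]),
  (423, [67, 85]),
  (424, [67, 87]),
  (479, [3, 67, 103]),
  (325, [5]),
  (326, [5]),
  (327, [5, 95]),
  (481, [3, 67, 103]),
  (430, [67, 87]),
  (431, [67, 85])]

/-- The moves by letter 3, a part. -/
def certMoves3Part12 : List (ℕ × List ℕ) := [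
  (328, [5]),
  (329, [5, 78, 130]),
  (482, [3, 67, 103]),
  (435, [67, 92, 135]),
  (330, []),
  (331, []),
  (438, [67, 92, 135]),
  (332, []),
  (484, [3, 67, 103]),
  (441, [67, 87, 135]),
  (442, [67, 92, 135]),
  (562, [5]),
  (563, [5, 110, 134]),
  (568, [5]),
  (569, [5]),
  (570, [5]),
  (564, [5, 93, 130]),
  (574, [5]),
  (575, [5]),
  (576, [5]),
  (584, []),
  (585, []),
  (335, []),
  (336, []),
  (603, []),
  (338, []),
  (598, []),
  (607, []),
  (600, []),
  (610, []),
  (602, []),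
  (337, []),
  (612, []),
  (465, [114, 104, 130]),
  (340, []),
  (615, [])]

/-- The moves by letter 3, a part. -/
def certMoves3Part13 : List (ℕ × List ℕ) := [
  (347, []),
  (397, [2]),
  (348, []),
  (401, [2]),
  (349, []),
  (617, []),
  (619, []),
  (622, []),
  (358, [5]),
  (419, [3, 67, 103]),
  (359, [5]),
  (425, [3, 67, 103]),
  (360, [5]),
  (429, [3, 67, 103]),
  (434, [3, 67, 103]),
  (361, []),
  (440, [3, 67, 103]),
  (628, [5]),
  (630, [5]),
  (632, [5]),
  (370, []),
  (645, []),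
  (372, []),
  (374, []),
  (653, []),
  (376, []),
  (377, []),
  (378, [130]),
  (364, []),
  (659, []),
  (660, []),
  (373, [93]),
  (382, []),
  (383, [98, 134]),
  (640, []),
  (665, [])]

/-- The moves by letter 3, a part. -/
def certMoves3Part14 : List (ℕ × List ℕ) := [
  (642, []),
  (643, []),
  (644, [109, 130]),
  (371, []),
  (672, []),
  (673, []),
  (674, []),
  (650, []),
  (651, []),
  (375, []),
  (681, []),
  (682, []),
  (683, [109, 135]),
  (657, [109, 134]),
  (658, [78, 130]),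
  (652, [90, 135]),
  (380, []),
  (381, [109, 135]),
  (384, []),
  (687, []),
  (688, []),
  (693, []),
  (526, [114, 104, 130]),
  (527, [114, 77, 134]),
  (528, [114, 88, 135]),
  (388, []),
  (389, []),
  (390, [100, 135]),
  (696, []),
  (697, []),
  (698, [99, 134]),
  (409, []),
  (618, [2]),
  (410, []),
  (411, []),
  (412, [])]

/-- The moves by letter 3, a part. -/
def certMoves3Part15 : List (ℕ × List ℕ) := [
  (620, [2]),
  (541, [2, 3, 88]),
  (542, [2, 3, 92]),
  (621, [2]),
  (413, []),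
  (417, [107, 130]),
  (414, [78]),
  (623, [2]),
  (548, [2, 3, 92]),
  (549, [2, 3, 95, 134]),
  (415, []),
  (416, []),
  (703, []),
  (704, []),
  (705, []),
  (710, []),
  (711, []),
  (712, [102, 130]),
  (717, []),
  (718, [109, 134]),
  (719, [130]),
  (627, [3, 67, 103]),
  (443, [5]),
  (444, [5, 110, 134]),
  (448, [5, 104, 134]),
  (629, [3, 67, 103]),
  (566, [67, 85]),
  (567, [67, 87, 135]),
  (445, [5]),
  (446, [5]),
  (447, [5]),
  (631, [3, 67, 103]),
  (572, [67, 92, 135]),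
  (573, [67, 87, 135]),
  (449, [5]),
  (450, [5])]

/-- The moves by letter 3, a part. -/
def certMoves3Part16 : List (ℕ × List ℕ) := [
  (451, [5]),
  (633, [3, 67, 103]),
  (578, [67, 86, 135]),
  (579, [67, 85]),
  (634, [3, 67, 103]),
  (635, [3, 67, 103]),
  (582, [67, 86]),
  (583, [67, 92, 135]),
  (452, []),
  (453, []),
  (636, [3, 67, 103]),
  (587, [67, 87, 135]),
  (588, [67, 92, 135]),
  (735, [5]),
  (736, [5]),
  (738, [5, 94, 134]),
  (737, [5, 91, 135]),
  (769, []),
  (744, [5]),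
  (745, [5]),
  (750, [5]),
  (751, [5]),
  (458, []),
  (775, []),
  (460, []),
  (779, []),
  (462, []),
  (456, []),
  (772, []),
  (783, []),
  (774, []),
  (459, []),
  (786, []),
  (778, []),
  (461, []),
  (789, [])]

/-- The moves by letter 3, a part. -/
def certMoves3Part17 : List (ℕ × List ℕ) := [
  (464, []),
  (791, []),
  (614, [114, 104, 130]),
  (467, []),
  (794, []),
  (473, []),
  (536, [2]),
  (474, []),
  (540, [2]),
  (543, [2]),
  (475, []),
  (547, [2]),
  (797, []),
  (800, []),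
  (802, []),
  (561, [3, 67, 103]),
  (485, [5]),
  (565, [3, 67, 103]),
  (486, [5]),
  (571, [3, 67, 103]),
  (487, [5]),
  (577, [3, 67, 103]),
  (580, [3, 67, 103]),
  (581, [3, 67, 103]),
  (586, [3, 67, 103]),
  (808, [5]),
  (809, [5]),
  (819, []),
  (502, []),
  (823, []),
  (504, []),
  (505, []),
  (506, [101, 130]),
  (489, []),
  (832, []),
  (833, [])]

/-- The moves by letter 3, a part. -/
def certMoves3Part18 : List (ℕ × List ℕ) := [
  (836, []),
  (837, []),
  (511, []),
  (512, []),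
  (519, [90, 135]),
  (492, []),
  (844, []),
  (845, []),
  (846, [102, 134]),
  (517, [109, 134]),
  (518, [95, 130]),
  (497, []),
  (498, []),
  (850, []),
  (821, []),
  (822, []),
  (831, [104, 134]),
  (503, []),
  (858, []),
  (859, []),
  (860, [107, 130]),
  (828, []),
  (829, [103, 130]),
  (830, [85, 135]),
  (508, []),
  (509, []),
  (510, []),
  (867, []),
  (868, []),
  (869, [98, 134]),
  (841, []),
  (842, []),
  (843, [111, 134]),
  (514, []),
  (515, []),
  (516, [109, 135])]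

/-- The moves by letter 3, a part. -/
def certMoves3Part19 : List (ℕ × List ℕ) := [
  (876, []),
  (877, []),
  (878, [99]),
  (523, []),
  (524, []),
  (882, []),
  (883, []),
  (884, []),
  (885, [109, 130]),
  (525, []),
  (694, [114, 77, 134]),
  (695, [114, 88, 135]),
  (532, []),
  (533, []),
  (534, [99, 134]),
  (892, []),
  (894, []),
  (895, [99, 134]),
  (796, [2]),
  (552, []),
  (553, []),
  (554, []),
  (798, [2]),
  (799, [2]),
  (708, [2, 3, 88]),
  (709, [2, 3, 89, 134]),
  (555, []),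
  (556, []),
  (557, [111, 130]),
  (713, [2, 3, 88]),
  (714, [2, 3, 92]),
  (801, [2]),
  (716, [2, 3, 95, 134]),
  (558, []),
  (559, [109, 134]),
  (560, [130])]

/-- The moves by letter 3, a part. -/
def certMoves3Part20 : List (ℕ × List ℕ) := [
  (720, [2, 3, 95, 134]),
  (803, [2]),
  (722, [2, 3, 94]),
  (723, [2, 3, 89, 134]),
  (901, []),
  (902, []),
  (903, []),
  (904, [85, 134]),
  (921, [17, 37, 42, 67, 114, 98, 134]),
  (910, []),
  (911, []),
  (916, [109, 134]),
  (917, [130]),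
  (807, [3, 67, 103]),
  (734, [67, 87, 135]),
  (589, [5]),
  (590, [5]),
  (592, [5, 92, 134]),
  (591, [5, 89, 135]),
  (739, [67, 92, 135]),
  (810, [3, 67, 103]),
  (741, [67, 84]),
  (742, [67, 87, 135]),
  (920, [0, 52, 114, 102]),
  (594, [5]),
  (595, [5]),
  (812, [3, 67, 103]),
  (813, [3, 67, 103]),
  (748, [67, 94, 135]),
  (749, [67, 87, 135]),
  (596, [5]),
  (597, [5]),
  (814, [3, 67, 103]),
  (753, [67, 86, 135]),
  (754, [67, 84]),
  (815, [3, 67, 103])]

/-- The moves by letter 3, a part. -/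
def certMoves3Part21 : List (ℕ × List ℕ) := [
  (816, [3, 67, 103]),
  (757, [67, 86]),
  (758, [67, 84]),
  (759, [67, 86]),
  (760, [67, 92, 135]),
  (761, [67, 92, 135]),
  (762, [67, 87, 135]),
  (931, [5]),
  (952, [50, 100]),
  (935, [5, 94, 134]),
  (932, [5, 94, 134]),
  (934, [5, 94, 134]),
  (933, [5, 91, 135]),
  (593, []),
  (957, []),
  (958, []),
  (604, []),
  (961, []),
  (606, []),
  (599, []),
  (965, []),
  (966, []),
  (609, []),
  (601, []),
  (969, []),
  (971, []),
  (960, []),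
  (605, []),
  (975, []),
  (964, []),
  (608, []),
  (978, []),
  (968, []),
  (611, []),
  (981, []),
  (613, [])]

/-- The moves by letter 3, a part. -/
def certMoves3Part22 : List (ℕ × List ℕ) := [
  (983, []),
  (984, []),
  (616, []),
  (987, []),
  (702, [2]),
  (624, []),
  (706, [2]),
  (707, [2]),
  (625, []),
  (715, [2]),
  (626, []),
  (721, [2]),
  (991, []),
  (992, []),
  (996, [21, 3, 43, 114, 111]),
  (733, [3, 67, 103]),
  (637, [5]),
  (638, [5]),
  (740, [3, 67, 103]),
  (995, [7, 49, 43, 114, 87, 130]),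
  (746, [3, 67, 103]),
  (747, [3, 67, 103]),
  (752, [3, 67, 103]),
  (755, [3, 67, 103]),
  (756, [3, 67, 103]),
  (998, [5]),
  (1001, [49, 67, 84]),
  (639, []),
  (1002, []),
  (662, []),
  (663, []),
  (641, []),
  (1011, []),
  (1012, []),
  (1013, []),
  (1014, [99, 135])]

/-- The moves by letter 3, a part. -/
def certMoves3Part23 : List (ℕ × List ℕ) := [
  (669, []),
  (670, [103, 130]),
  (671, [94, 135]),
  (664, [107, 134]),
  (646, []),
  (647, []),
  (1021, []),
  (1022, []),
  (648, []),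
  (649, []),
  (1023, []),
  (1024, []),
  (1029, []),
  (678, []),
  (679, []),
  (680, [111, 134]),
  (654, []),
  (655, []),
  (656, [102, 134]),
  (1032, []),
  (1033, []),
  (1034, [130]),
  (661, []),
  (1037, []),
  (1038, []),
  (1042, []),
  (1007, []),
  (1008, []),
  (1009, []),
  (1010, [92, 134]),
  (666, []),
  (667, []),
  (668, [107, 130]),
  (1048, []),
  (1049, []),
  (1050, [106, 135])]

/-- The moves by letter 3, a part. -/
def certMoves3Part24 : List (ℕ × List ℕ) := [
  (1043, [17, 52, 114, 102]),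
  (1019, [103, 130]),
  (1020, [109, 134]),
  (675, []),
  (676, []),
  (677, [98, 134]),
  (1055, []),
  (1056, []),
  (1057, []),
  (1058, [103]),
  (1030, []),
  (1031, [111, 134]),
  (684, []),
  (685, []),
  (686, [110]),
  (1064, []),
  (1066, []),
  (1067, [109, 134]),
  (689, []),
  (690, []),
  (691, []),
  (692, [101, 130]),
  (1070, []),
  (1071, []),
  (1073, []),
  (1074, [111, 135]),
  (1075, []),
  (1076, [109, 130]),
  (699, []),
  (893, [0]),
  (700, []),
  (701, [99, 134]),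
  (1083, []),
  (1085, [108, 134]),
  (989, [2]),
  (990, [2])]

/-- The moves by letter 3, a part. -/
def certMoves3Part25 : List (ℕ × List ℕ) := [
  (900, [2, 3, 89, 134]),
  (724, []),
  (725, []),
  (726, []),
  (727, [85, 134]),
  (905, [2, 3, 95, 134]),
  (906, [2, 3, 88]),
  (907, [2, 3, 89, 134]),
  (908, [2, 3, 93, 134]),
  (909, [2, 3, 88]),
  (729, []),
  (730, []),
  (993, [2]),
  (994, [2]),
  (914, [2, 3, 92]),
  (915, [2, 3, 89, 134]),
  (731, [109, 134]),
  (732, [130]),
  (918, [2, 3, 94]),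
  (919, [2, 3, 93, 134]),
  (743, [0, 33, 114, 104, 130]),
  (728, [17, 37, 42, 67, 114, 98, 134]),
  (1090, []),
  (1093, [85, 134]),
  (1091, []),
  (1092, [85, 134]),
  (1101, [17, 37, 42, 67, 114, 98, 134]),
  (1102, [17, 37, 42, 67, 114, 97, 135]),
  (997, [3, 67, 103]),
  (929, [67, 85]),
  (930, [67, 87, 135]),
  (763, [5]),
  (766, [5, 89, 135]),
  (768, [5, 92, 134]),
  (767, [5, 89, 135]),
  (765, [5, 89, 135])]

/-- The moves by letter 3, a part. -/
def certMoves3Part26 : List (ℕ × List ℕ) := [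
  (936, [67, 84]),
  (937, [67, 86, 135]),
  (1099, [0, 52, 114, 102]),
  (1100, [0, 52, 114, 91, 135]),
  (999, [3, 67, 103]),
  (941, [67, 94, 135]),
  (942, [67, 94, 135]),
  (943, [67, 86, 135]),
  (944, [67, 87, 135]),
  (945, [67, 84]),
  (946, [67, 87, 135]),
  (1000, [3, 67, 103]),
  (948, [67, 84]),
  (949, [67, 86]),
  (950, [67, 84]),
  (951, [67, 86]),
  (764, [50, 100]),
  (1106, [5, 91, 135]),
  (1105, [5, 94, 134]),
  (1111, [50, 90, 134]),
  (1112, [50, 93]),
  (770, []),
  (771, []),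
  (1113, []),
  (782, []),
  (773, []),
  (1118, []),
  (1119, []),
  (785, []),
  (776, []),
  (777, []),
  (1120, []),
  (788, []),
  (780, []),
  (1123, []),
  (781, [])]

/-- The moves by letter 3, a part. -/
def certMoves3Part27 : List (ℕ × List ℕ) := [
  (1124, []),
  (1116, []),
  (1117, []),
  (784, []),
  (1127, []),
  (1126, [21, 49, 43, 114, 87, 130]),
  (787, []),
  (1128, []),
  (1129, []),
  (790, []),
  (1131, []),
  (792, []),
  (793, []),
  (1133, []),
  (1134, []),
  (795, []),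
  (1086, [0, 3, 99, 135]),
  (898, [2]),
  (899, [2]),
  (804, []),
  (805, []),
  (912, [2]),
  (913, [2]),
  (811, [7, 33, 114, 104, 130]),
  (806, [21, 3, 43, 114, 111]),
  (928, [3, 67, 103]),
  (817, [5]),
  (940, [3, 67, 103]),
  (947, [3, 67, 103]),
  (818, [49, 67, 84]),
  (820, []),
  (1138, []),
  (1139, []),
  (1140, []),
  (1145, []),
  (854, [])]

/-- The moves by letter 3, a part. -/
def certMoves3Part28 : List (ℕ × List ℕ) := [
  (855, []),
  (856, []),
  (857, [92, 134]),
  (824, []),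
  (825, []),
  (826, []),
  (827, [99, 135]),
  (1150, []),
  (1151, [99, 135]),
  (1152, []),
  (1153, [90, 135]),
  (865, [103, 130]),
  (866, [109, 134]),
  (834, []),
  (835, []),
  (838, []),
  (839, []),
  (1154, []),
  (1155, []),
  (1156, []),
  (1157, [84]),
  (840, []),
  (874, []),
  (875, [111, 134]),
  (847, []),
  (848, []),
  (849, [130]),
  (1163, []),
  (1164, [109, 134]),
  (851, []),
  (852, []),
  (1165, []),
  (1166, []),
  (1167, [107, 130]),
  (853, []),
  (864, [10, 33, 114, 104, 130])]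

/-- The moves by letter 3, a part. -/
def certMoves3Part29 : List (ℕ × List ℕ) := [
  (1146, []),
  (1147, [27, 134]),
  (1148, []),
  (1149, [92, 134]),
  (861, []),
  (862, []),
  (863, [97, 135]),
  (1172, []),
  (1173, [103, 130]),
  (1170, [17, 52, 114, 102]),
  (1171, [17, 52, 114, 95, 130]),
  (870, []),
  (871, []),
  (872, []),
  (873, [105]),
  (1174, []),
  (1176, []),
  (1179, [103]),
  (1177, []),
  (1178, [97, 134]),
  (879, []),
  (1065, [0]),
  (880, []),
  (881, [109, 134]),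
  (1183, []),
  (1184, [106, 135]),
  (886, []),
  (887, []),
  (1072, [0]),
  (888, []),
  (889, [111, 135]),
  (890, []),
  (891, [101, 130]),
  (1187, []),
  (1189, []),
  (1194, [104, 135])]

/-- The moves by letter 3, a part. -/
def certMoves3Part30 : List (ℕ × List ℕ) := [
  (1191, []),
  (1192, [111, 135]),
  (1082, [0]),
  (896, []),
  (1084, [0]),
  (897, [108, 134]),
  (988, [7, 31, 42, 67, 109, 135]),
  (1087, [2, 3, 89, 134]),
  (1088, [2, 3, 91, 134]),
  (1089, [2, 3, 92]),
  (922, []),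
  (924, []),
  (925, [85, 134]),
  (923, [85, 134]),
  (1094, [2, 3, 95, 134]),
  (1095, [2, 3, 91, 134]),
  (1096, [2, 3, 92]),
  (1097, [2, 3, 92]),
  (1098, [2, 3, 89, 134]),
  (938, [0, 33, 114, 104, 130]),
  (939, [0, 33, 114, 106, 130]),
  (926, [17, 37, 42, 67, 114, 98, 134]),
  (927, [17, 37, 42, 67, 114, 94]),
  (1103, [67, 94, 135]),
  (1104, [67, 87, 135]),
  (954, [5, 89, 135]),
  (953, [5, 92, 134]),
  (1107, [67, 85]),
  (1108, [67, 87, 135]),
  (1109, [67, 84]),
  (1110, [67, 86]),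
  (955, [50, 90, 134]),
  (956, [50, 93]),
  (959, []),
  (1201, []),
  (1202, [])]

/-- The moves by letter 3, a part. -/
def certMoves3Part31 : List (ℕ × List ℕ) := [
  (973, []),
  (974, []),
  (962, []),
  (963, []),
  (967, []),
  (1203, []),
  (1204, []),
  (970, []),
  (972, []),
  (1206, []),
  (977, [14, 33, 114, 104, 130]),
  (976, []),
  (979, []),
  (980, []),
  (1207, []),
  (982, []),
  (1186, [0, 3, 112]),
  (985, []),
  (986, []),
  (1195, [0, 3, 112]),
  (1210, []),
  (1200, [0, 3, 99, 135]),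
  (1003, []),
  (1004, []),
  (1005, []),
  (1214, []),
  (1217, []),
  (1215, []),
  (1216, [27, 134]),
  (1006, []),
  (1044, []),
  (1045, [27, 134]),
  (1046, []),
  (1047, [92, 134]),
  (1015, []),
  (1016, [99, 135])]

/-- The moves by letter 3, a part. -/
def certMoves3Part32 : List (ℕ × List ℕ) := [
  (1017, []),
  (1018, [90, 135]),
  (1025, []),
  (1026, []),
  (1027, []),
  (1028, [92]),
  (1219, []),
  (1221, [27, 134]),
  (1220, []),
  (1222, [84]),
  (1162, [0]),
  (1035, []),
  (1036, [109, 134]),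
  (1039, []),
  (1040, []),
  (1041, [107, 130]),
  (1225, []),
  (1226, [103]),
  (1053, [10, 33, 114, 104, 130]),
  (1054, [10, 33, 114, 103, 135]),
  (1051, []),
  (1052, [103, 130]),
  (1059, []),
  (1175, [0]),
  (1060, []),
  (1062, []),
  (1063, [97, 134]),
  (1061, [105]),
  (1228, []),
  (1229, [107, 130]),
  (1182, [0]),
  (1068, []),
  (1069, [97, 135]),
  (1185, [0]),
  (1132, [7, 31, 42, 67, 102, 130]),
  (1077, [])]

/-- The moves by letter 3, a part. -/
def certMoves3Part33 : List (ℕ × List ℕ) := [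
  (1188, [0]),
  (1078, []),
  (1190, [0]),
  (1080, []),
  (1081, [111, 135]),
  (1193, [0]),
  (1079, [104, 135]),
  (1135, [7, 31, 42, 67, 102, 130]),
  (1235, []),
  (1240, [104, 135]),
  (1198, [0]),
  (1199, [0]),
  (1137, [7, 31, 42, 67, 109, 135]),
  (1114, []),
  (1115, []),
  (1121, []),
  (1122, []),
  (1224, [0, 3, 108, 135]),
  (1125, []),
  (1130, []),
  (1231, [0, 3, 101, 135]),
  (1233, [0, 3, 112]),
  (1136, []),
  (1238, [0, 3, 112]),
  (1241, [0, 3, 112]),
  (1243, [0, 3, 99, 135]),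
  (1141, []),
  (1143, []),
  (1144, [27, 134]),
  (1142, []),
  (1218, [0]),
  (1158, []),
  (1160, []),
  (1159, [27, 134]),
  (1161, [92]),
  (1223, [0])]

/-- The moves by letter 3, a part. -/
def certMoves3Part34 : List (ℕ × List ℕ) := [
  (1205, [7, 31, 42, 67, 78]),
  (1168, []),
  (1169, [105]),
  (1227, [0]),
  (1180, []),
  (1181, [107, 130]),
  (1230, [0]),
  (1208, [7, 31, 42, 67, 110, 130]),
  (1232, [0]),
  (1209, [7, 31, 42, 67, 102, 130]),
  (1234, [0]),
  (1196, []),
  (1236, [0]),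
  (1237, [0]),
  (1211, [7, 31, 42, 67, 102, 130]),
  (1239, [0]),
  (1197, [104, 135]),
  (1212, [7, 31, 42, 67, 102, 130]),
  (1242, [0]),
  (1213, [7, 31, 42, 67, 109, 135]),
  (1249, [0, 3, 112, 135]),
  (1251, [0, 3, 102]),
  (1254, [0, 3, 112]),
  (1256, [0, 3, 112]),
  (1248, [0]),
  (1244, [7, 31, 42, 67, 99, 134]),
  (1250, [0]),
  (1245, [7, 31, 42, 67, 112, 135]),
  (1252, [0]),
  (1253, [0]),
  (1246, [7, 31, 42, 67, 102, 130]),
  (1255, [0]),
  (1247, [7, 31, 42, 67, 102, 130]),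
  (1259, [0, 3, 112]),
  (1258, [0]),
  (1257, [7, 31, 42, 67, 102, 130])]

/-- The moves by letter 3, in equal parts. -/
def certMoves3C : List (List (ℕ × List ℕ)) := [certMoves3Part0, certMoves3Part1, certMoves3Part2, certMoves3Part3, certMoves3Part4, certMoves3Part5, certMoves3Part6, certMoves3Part7, certMoves3Part8, certMoves3Part9, certMoves3Part10, certMoves3Part11, certMoves3Part12, certMoves3Part13, certMoves3Part14, certMoves3Part15, certMoves3Part16, certMoves3Part17, certMoves3Part18, certMoves3Part19, certMoves3Part20, certMoves3Part21, certMoves3Part22, certMoves3Part23, certMoves3Part24, certMoves3Part25, certMoves3Part26, certMoves3Part27, certMoves3Part28, certMoves3Part29, certMoves3Part30, certMoves3Part31, certMoves3Part32, certMoves3Part33, certMoves3Part34]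

/-- The moves by letter 3. -/
def certMoves3 : List (ℕ × List ℕ) := certMoves3C.flatten

/-- The moves by letter 4, a part. -/
def certMoves4Part0 : List (ℕ × List ℕ) := [
  (3, []),
  (6, []),
  (9, []),
  (0, []),
  (13, []),
  (15, []),
  (1, []),
  (18, []),
  (20, []),
  (2, []),
  (25, []),
  (11, [53, 42, 114, 77, 135]),
  (19, [2]),
  (4, []),
  (31, []),
  (5, []),
  (34, []),
  (17, [53, 42, 114, 77, 135]),
  (7, []),
  (12, [2]),
  (8, []),
  (43, []),
  (22, [53, 42, 114, 77, 135]),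
  (41, [4]),
  (36, [2]),
  (10, []),
  (52, []),
  (27, [53, 42, 114, 92, 135]),
  (39, [2]),
  (29, [2, 3, 88]),
  (30, [2, 3, 88]),
  (14, []),
  (60, []),
  (33, [53, 42, 114, 77, 135]),
  (16, []),
  (61, [4])]

/-- The moves by letter 4, a part. -/
def certMoves4Part1 : List (ℕ × List ℕ) := [
  (24, [2]),
  (37, [53, 42, 114, 77, 135]),
  (69, []),
  (28, [2]),
  (40, [53, 42, 114, 77, 135]),
  (23, [4]),
  (62, [2]),
  (21, []),
  (75, [5, 36, 43, 67]),
  (83, []),
  (46, [53, 42, 114, 92, 135]),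
  (87, []),
  (77, [4]),
  (68, [2]),
  (50, [2, 3, 88]),
  (51, [2, 3, 88]),
  (26, []),
  (94, []),
  (95, []),
  (99, []),
  (71, [2]),
  (57, [2, 3, 88]),
  (58, [2, 3, 89, 134]),
  (59, [53, 42, 114, 77, 135]),
  (32, []),
  (35, [4]),
  (42, [2]),
  (63, [53, 42, 114, 77, 135]),
  (106, [5, 36, 43, 67]),
  (111, []),
  (105, [4]),
  (113, []),
  (49, [2]),
  (38, []),
  (116, []),
  (56, [2])]

/-- The moves by letter 4, a part. -/
def certMoves4Part2 : List (ℕ × List ℕ) := [
  (118, [36, 43, 67]),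
  (121, []),
  (74, [53, 42, 114, 95, 134]),
  (44, [4, 36, 43, 67]),
  (127, []),
  (48, [4]),
  (108, [2]),
  (79, [2, 3, 92]),
  (80, [2, 3, 92]),
  (134, []),
  (126, [5, 36, 43, 67]),
  (45, []),
  (138, []),
  (140, []),
  (144, []),
  (47, []),
  (146, []),
  (147, []),
  (148, []),
  (115, [2]),
  (92, [2, 3, 88]),
  (93, [2, 3, 89, 134]),
  (53, []),
  (54, []),
  (154, []),
  (156, []),
  (157, [86]),
  (55, []),
  (100, [2, 3, 89, 134]),
  (101, [2, 3, 88]),
  (102, [53, 42, 114, 77, 135]),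
  (161, [36, 43, 67]),
  (163, []),
  (66, [4]),
  (64, [4, 36, 43, 67]),
  (167, [])]

/-- The moves by letter 4, a part. -/
def certMoves4Part3 : List (ℕ × List ℕ) := [
  (78, [2]),
  (165, [5, 36, 43, 67]),
  (170, []),
  (65, []),
  (172, []),
  (67, []),
  (176, []),
  (91, [2]),
  (70, []),
  (178, []),
  (72, [36, 43, 67]),
  (182, []),
  (181, [36, 43, 67]),
  (73, []),
  (186, []),
  (188, []),
  (192, []),
  (193, []),
  (82, [4, 36, 43, 67]),
  (76, []),
  (198, []),
  (199, []),
  (203, []),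
  (169, [2]),
  (132, [2, 3, 92]),
  (133, [2, 3, 95, 134]),
  (81, []),
  (207, []),
  (209, []),
  (210, [112]),
  (84, []),
  (208, []),
  (85, []),
  (214, []),
  (217, []),
  (218, [86])]

/-- The moves by letter 4, a part. -/
def certMoves4Part4 : List (ℕ × List ℕ) := [
  (86, []),
  (206, []),
  (88, []),
  (89, []),
  (90, []),
  (225, []),
  (227, []),
  (228, []),
  (152, [2, 3, 89, 134]),
  (153, [2, 3, 88]),
  (96, []),
  (155, [0]),
  (97, []),
  (98, [86]),
  (233, []),
  (235, [89, 134]),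
  (237, [36, 43, 67]),
  (103, [36, 43, 67]),
  (239, []),
  (104, []),
  (241, []),
  (109, [4, 36, 43, 67]),
  (244, []),
  (107, []),
  (247, []),
  (131, [2]),
  (110, []),
  (250, []),
  (112, []),
  (251, []),
  (253, []),
  (249, []),
  (114, []),
  (257, []),
  (117, []),
  (236, [0, 3, 88])]

/-- The moves by letter 4, a part. -/
def certMoves4Part5 : List (ℕ × List ℕ) := [
  (260, []),
  (120, [36, 43, 67]),
  (119, []),
  (265, []),
  (267, []),
  (271, []),
  (122, []),
  (266, []),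
  (123, []),
  (272, []),
  (275, []),
  (276, [27, 130]),
  (124, []),
  (125, []),
  (283, []),
  (285, []),
  (286, [77, 135]),
  (264, []),
  (128, []),
  (129, []),
  (293, []),
  (295, []),
  (296, [107, 134]),
  (130, []),
  (204, [2, 3, 95, 134]),
  (205, [2, 3, 92]),
  (145, []),
  (135, []),
  (139, []),
  (136, []),
  (137, [100]),
  (303, []),
  (306, []),
  (307, [94, 135]),
  (141, []),
  (304, [])]

/-- The moves by letter 4, a part. -/
def certMoves4Part6 : List (ℕ × List ℕ) := [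
  (216, [0]),
  (142, []),
  (143, [86]),
  (308, []),
  (309, [109, 135]),
  (314, []),
  (319, [89, 134]),
  (299, []),
  (301, []),
  (149, []),
  (226, [0]),
  (150, []),
  (151, []),
  (302, []),
  (326, []),
  (327, []),
  (232, [0]),
  (158, []),
  (234, [0]),
  (159, [89, 134]),
  (179, [7, 31, 42, 67, 107, 135]),
  (160, [36, 43, 67]),
  (333, []),
  (162, []),
  (336, []),
  (164, []),
  (337, []),
  (339, []),
  (166, []),
  (344, []),
  (335, []),
  (168, []),
  (348, []),
  (175, []),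
  (171, []),
  (173, [])]

/-- The moves by letter 4, a part. -/
def certMoves4Part7 : List (ℕ × List ℕ) := [
  (352, []),
  (174, []),
  (353, []),
  (320, [0, 3, 88]),
  (350, []),
  (177, []),
  (329, [0, 3, 102]),
  (332, [0, 3, 88]),
  (180, []),
  (363, []),
  (365, []),
  (366, []),
  (197, []),
  (183, []),
  (187, []),
  (184, []),
  (374, []),
  (377, []),
  (378, [109, 134]),
  (185, []),
  (189, []),
  (375, []),
  (274, [0]),
  (190, []),
  (191, [27, 130]),
  (379, []),
  (380, []),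
  (381, []),
  (386, []),
  (392, [86, 135]),
  (362, []),
  (194, []),
  (284, [114, 104, 130]),
  (195, []),
  (196, [77, 135]),
  (400, [])]

/-- The moves by letter 4, a part. -/
def certMoves4Part8 : List (ℕ × List ℕ) := [
  (403, []),
  (404, [111, 130]),
  (370, []),
  (372, []),
  (373, [77]),
  (200, []),
  (294, [0]),
  (201, []),
  (202, [104, 134]),
  (414, []),
  (417, [101, 130]),
  (223, []),
  (351, [2]),
  (224, []),
  (229, []),
  (211, []),
  (215, []),
  (305, [0]),
  (212, []),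
  (213, [85, 135]),
  (219, []),
  (220, [109, 135]),
  (427, []),
  (428, [95, 130]),
  (425, []),
  (313, [0]),
  (221, []),
  (440, []),
  (430, []),
  (431, [88, 135]),
  (318, [0]),
  (222, [89, 134]),
  (255, [7, 31, 42, 67, 107, 135]),
  (418, []),
  (445, []),
  (421, [])]

/-- The moves by letter 4, a part. -/
def certMoves4Part9 : List (ℕ × List ℕ) := [
  (422, [88, 135]),
  (325, [0]),
  (230, []),
  (231, []),
  (328, [0]),
  (258, [7, 31, 42, 67, 112, 135]),
  (330, [0]),
  (331, [0]),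
  (259, [7, 31, 42, 67, 107, 135]),
  (238, []),
  (455, []),
  (246, []),
  (240, []),
  (242, []),
  (460, []),
  (243, []),
  (461, []),
  (393, [0, 3, 92]),
  (463, []),
  (454, []),
  (245, []),
  (345, [114, 104, 130]),
  (470, []),
  (458, []),
  (248, []),
  (416, [0, 3, 97, 135]),
  (256, []),
  (300, [2]),
  (252, []),
  (254, []),
  (433, [0, 3, 84]),
  (479, []),
  (439, [0, 3, 88]),
  (484, []),
  (476, []),
  (486, [])]

/-- The moves by letter 4, a part. -/
def certMoves4Part10 : List (ℕ × List ℕ) := [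
  (451, [0, 3, 98, 130]),
  (453, [0, 3, 88]),
  (282, []),
  (261, []),
  (364, [114, 104, 130]),
  (262, []),
  (263, []),
  (491, []),
  (494, []),
  (495, []),
  (290, []),
  (459, [2]),
  (291, []),
  (292, [77]),
  (268, []),
  (273, []),
  (376, [0]),
  (269, []),
  (270, [109, 134]),
  (277, []),
  (278, []),
  (279, []),
  (512, []),
  (519, [105, 130]),
  (510, []),
  (385, [0]),
  (280, []),
  (513, []),
  (532, []),
  (515, []),
  (516, []),
  (391, [0]),
  (281, [86, 135]),
  (341, [7, 31, 42, 67, 86, 130]),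
  (520, []),
  (521, [109, 135])]

/-- The moves by letter 4, a part. -/
def certMoves4Part11 : List (ℕ × List ℕ) := [
  (488, []),
  (540, []),
  (490, []),
  (499, [89]),
  (287, []),
  (401, [114, 104, 130]),
  (402, [0]),
  (288, []),
  (289, [102, 130]),
  (405, [114, 91, 134]),
  (406, [114, 78, 134]),
  (545, []),
  (546, [103, 134]),
  (502, []),
  (555, []),
  (505, []),
  (506, [77]),
  (413, [0]),
  (297, []),
  (415, [0]),
  (349, [7, 31, 42, 67, 94, 130]),
  (298, [109, 130]),
  (321, []),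
  (477, [2]),
  (568, []),
  (323, []),
  (324, [88, 135]),
  (423, [2, 3, 92]),
  (424, [2, 3, 92]),
  (312, []),
  (426, [0]),
  (310, []),
  (311, [78, 130]),
  (577, []),
  (316, []),
  (317, [88, 135])]

/-- The moves by letter 4, a part. -/
def certMoves4Part12 : List (ℕ × List ℕ) := [
  (432, [0]),
  (354, [7, 31, 42, 67, 88, 130]),
  (580, []),
  (572, []),
  (436, [0]),
  (437, [0]),
  (573, [98, 134]),
  (356, [7, 31, 42, 67, 107, 135]),
  (315, []),
  (587, []),
  (588, [89]),
  (589, []),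
  (563, []),
  (322, []),
  (594, []),
  (595, [105, 135]),
  (564, [91, 130]),
  (449, [0]),
  (450, [0]),
  (360, [7, 31, 42, 67, 85]),
  (452, [0]),
  (361, [7, 31, 42, 67, 107, 135]),
  (343, []),
  (334, []),
  (456, [114, 104, 130]),
  (600, []),
  (347, []),
  (371, [2]),
  (338, []),
  (340, []),
  (518, [0, 3, 84]),
  (342, []),
  (608, []),
  (528, [0, 3, 92]),
  (610, []),
  (616, [])]

/-- The moves by letter 4, a part. -/
def certMoves4Part13 : List (ℕ × List ℕ) := [
  (598, []),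
  (620, []),
  (346, []),
  (471, [114, 104, 130]),
  (551, [0, 3, 97, 135]),
  (604, []),
  (625, []),
  (560, [0, 3, 97, 135]),
  (358, []),
  (419, [2]),
  (630, []),
  (355, []),
  (576, [0, 3, 111]),
  (633, []),
  (634, []),
  (585, [0, 3, 88]),
  (357, []),
  (637, []),
  (359, []),
  (597, [0, 3, 98, 130]),
  (396, []),
  (646, []),
  (398, []),
  (367, []),
  (492, [114, 104, 130]),
  (493, [0]),
  (368, []),
  (369, []),
  (496, [114, 104, 130]),
  (497, [114, 78, 134]),
  (498, [114, 91, 134]),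
  (399, [89]),
  (651, []),
  (652, []),
  (409, []),
  (605, [2])]

/-- The moves by letter 4, a part. -/
def certMoves4Part14 : List (ℕ × List ℕ) := [
  (669, []),
  (411, []),
  (412, [77]),
  (607, [2]),
  (508, [2, 3, 88]),
  (509, [2, 3, 92]),
  (384, []),
  (511, [0]),
  (382, []),
  (387, []),
  (684, []),
  (389, []),
  (390, []),
  (517, [0]),
  (462, [7, 31, 42, 67, 88, 130]),
  (383, [105, 130]),
  (394, []),
  (395, [109, 135]),
  (674, []),
  (689, []),
  (676, []),
  (677, []),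
  (526, [0]),
  (527, [0]),
  (465, [7, 31, 42, 67, 86, 130]),
  (696, []),
  (682, []),
  (683, [87]),
  (388, []),
  (700, []),
  (701, []),
  (640, []),
  (706, []),
  (710, []),
  (643, []),
  (644, [103, 130])]

/-- The moves by letter 4, a part. -/
def certMoves4Part15 : List (ℕ × List ℕ) := [
  (397, []),
  (713, []),
  (714, []),
  (543, [114, 104, 130]),
  (544, [0]),
  (407, []),
  (408, [105, 134]),
  (721, []),
  (548, [114, 91, 134]),
  (549, [114, 85, 135]),
  (550, [0]),
  (472, [7, 31, 42, 67, 94, 130]),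
  (724, []),
  (663, []),
  (664, [95]),
  (410, []),
  (729, []),
  (730, [93, 135]),
  (558, [0]),
  (559, [0]),
  (475, [7, 31, 42, 67, 94, 130]),
  (627, [2]),
  (735, []),
  (444, []),
  (448, [91, 130]),
  (740, []),
  (566, [2, 3, 92]),
  (567, [2, 3, 95, 134]),
  (420, []),
  (744, []),
  (745, [105, 135]),
  (746, []),
  (435, []),
  (438, [98, 134]),
  (574, [0]),
  (575, [0])]

/-- The moves by letter 4, a part. -/
def certMoves4Part16 : List (ℕ × List ℕ) := [
  (480, [7, 31, 42, 67, 100, 135]),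
  (429, []),
  (753, []),
  (754, [87, 134]),
  (434, []),
  (756, []),
  (757, []),
  (758, [91, 130]),
  (584, [0]),
  (483, [7, 31, 42, 67, 107, 135]),
  (636, [2]),
  (441, []),
  (442, [89]),
  (443, []),
  (763, []),
  (765, []),
  (766, [84, 130]),
  (639, [2]),
  (446, []),
  (447, [105, 135]),
  (596, [0]),
  (487, [7, 31, 42, 67, 85]),
  (468, []),
  (776, []),
  (457, []),
  (601, [114, 104, 130]),
  (658, [0, 3, 108, 130]),
  (603, [114, 104, 130]),
  (473, []),
  (503, [2]),
  (785, []),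
  (507, [2]),
  (464, []),
  (680, [0, 3, 84]),
  (466, []),
  (790, [])]

/-- The moves by letter 4, a part. -/
def certMoves4Part17 : List (ℕ × List ℕ) := [
  (786, []),
  (792, []),
  (695, [0, 3, 92]),
  (794, []),
  (467, []),
  (772, []),
  (798, []),
  (800, []),
  (469, []),
  (621, [114, 104, 130]),
  (719, [0, 3, 108, 130]),
  (803, []),
  (804, []),
  (474, []),
  (732, [0, 3, 97, 135]),
  (561, [2]),
  (808, []),
  (810, []),
  (478, []),
  (812, []),
  (751, [0, 3, 111]),
  (481, []),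
  (482, []),
  (816, []),
  (586, [2]),
  (485, []),
  (817, []),
  (593, [2]),
  (535, []),
  (824, []),
  (828, []),
  (538, []),
  (539, [103, 130]),
  (832, []),
  (489, []),
  (834, [])]

/-- The moves by letter 4, a part. -/
def certMoves4Part18 : List (ℕ × List ℕ) := [
  (835, []),
  (649, [114, 104, 130]),
  (650, [0]),
  (500, []),
  (501, []),
  (653, [114, 104, 130]),
  (847, []),
  (655, [114, 78, 134]),
  (656, [114, 91, 134]),
  (657, [0]),
  (602, [7, 31, 42, 67, 94]),
  (659, [114, 78, 134]),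
  (660, [114, 91, 134]),
  (781, [2]),
  (854, []),
  (553, []),
  (554, [95]),
  (783, [2]),
  (861, []),
  (667, [2, 3, 88]),
  (668, [2, 3, 92]),
  (504, []),
  (865, []),
  (866, [87, 134]),
  (672, [2, 3, 88]),
  (673, [2, 3, 92]),
  (522, []),
  (870, []),
  (524, []),
  (525, []),
  (678, [0]),
  (679, [0]),
  (609, [7, 31, 42, 67, 88, 130]),
  (876, []),
  (530, []),
  (531, [87])]

/-- The moves by letter 4, a part. -/
def certMoves4Part19 : List (ℕ × List ℕ) := [
  (514, []),
  (880, []),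
  (881, []),
  (882, []),
  (868, []),
  (523, []),
  (887, []),
  (888, []),
  (889, []),
  (869, [98, 134]),
  (694, [0]),
  (614, [7, 31, 42, 67, 86, 130]),
  (529, []),
  (894, []),
  (895, []),
  (795, [2]),
  (533, []),
  (534, []),
  (898, []),
  (901, []),
  (822, []),
  (831, [101, 134]),
  (536, []),
  (899, [17, 37, 42, 67, 114, 98, 134]),
  (906, []),
  (907, []),
  (537, []),
  (910, []),
  (911, [107, 134]),
  (541, []),
  (542, []),
  (912, []),
  (716, [114, 85, 135]),
  (717, [0]),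
  (718, [0]),
  (622, [7, 31, 42, 67, 94])]

/-- The moves by letter 4, a part. -/
def certMoves4Part20 : List (ℕ × List ℕ) := [
  (720, [114, 88, 135]),
  (547, []),
  (918, []),
  (919, [103, 135]),
  (552, []),
  (920, []),
  (922, []),
  (923, []),
  (806, [2]),
  (556, []),
  (557, [93, 135]),
  (731, [0]),
  (626, [7, 31, 42, 67, 94, 130]),
  (928, []),
  (734, [2, 3, 95, 134]),
  (562, []),
  (931, []),
  (932, []),
  (935, []),
  (739, [2, 3, 95, 134]),
  (565, []),
  (936, []),
  (937, [90, 134]),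
  (902, [0, 52, 114, 102]),
  (569, []),
  (570, [105, 135]),
  (571, []),
  (940, [10, 53, 43, 67, 114, 84]),
  (941, []),
  (944, []),
  (750, [0]),
  (632, [7, 31, 42, 67, 100, 135]),
  (913, [0, 52, 114, 102]),
  (578, []),
  (579, [87, 134]),
  (815, [2])]

/-- The moves by letter 4, a part. -/
def certMoves4Part21 : List (ℕ × List ℕ) := [
  (581, []),
  (582, []),
  (583, [91, 130]),
  (949, []),
  (950, [91, 130]),
  (761, [2, 3, 95, 134]),
  (762, [2, 3, 95, 134]),
  (590, []),
  (818, [2]),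
  (591, []),
  (592, [84, 130]),
  (953, []),
  (954, [84, 130]),
  (819, [2]),
  (770, [2, 3, 94]),
  (771, [2, 3, 94]),
  (617, []),
  (962, []),
  (964, []),
  (965, []),
  (599, []),
  (777, [114, 104, 130]),
  (843, [0, 3, 102]),
  (779, [114, 104, 130]),
  (970, []),
  (661, [2]),
  (973, []),
  (665, [2]),
  (976, []),
  (606, []),
  (612, []),
  (979, []),
  (875, [0, 3, 84]),
  (981, []),
  (611, []),
  (983, [])]

/-- The moves by letter 4, a part. -/
def certMoves4Part22 : List (ℕ × List ℕ) := [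
  (613, []),
  (986, []),
  (615, []),
  (699, [2]),
  (989, []),
  (991, []),
  (618, []),
  (990, [21, 3, 43, 114, 111]),
  (619, []),
  (993, []),
  (917, [0, 3, 108, 130]),
  (623, []),
  (624, []),
  (995, []),
  (728, [2]),
  (997, []),
  (628, []),
  (998, []),
  (629, []),
  (992, [7, 49, 43, 114, 87, 130]),
  (631, []),
  (999, [14, 53, 43, 67, 114, 84]),
  (994, [7, 49, 43, 114, 87, 130]),
  (755, [2]),
  (635, []),
  (638, []),
  (764, [2]),
  (769, [2]),
  (1003, []),
  (1007, []),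
  (704, []),
  (1011, []),
  (641, []),
  (1004, [17, 37, 42, 67, 114, 98, 134]),
  (1015, []),
  (1016, [])]

/-- The moves by letter 4, a part. -/
def certMoves4Part23 : List (ℕ × List ℕ) := [
  (642, []),
  (1019, []),
  (1020, [103, 135]),
  (705, [101, 134]),
  (645, []),
  (1021, []),
  (647, []),
  (648, []),
  (1022, []),
  (837, [114, 104, 130]),
  (1025, []),
  (839, [114, 88, 135]),
  (840, [114, 85, 135]),
  (841, [0]),
  (842, [0]),
  (778, [7, 31, 42, 67, 112, 135]),
  (1032, []),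
  (845, [114, 78, 134]),
  (846, [114, 88, 135]),
  (654, []),
  (1035, []),
  (1036, []),
  (971, [2]),
  (1039, []),
  (852, [2, 3, 89, 134]),
  (853, [2, 3, 95, 134]),
  (662, []),
  (1043, []),
  (1044, []),
  (1045, []),
  (1048, []),
  (859, [2, 3, 88]),
  (860, [2, 3, 89, 134]),
  (666, []),
  (1051, []),
  (1052, [])]

/-- The moves by letter 4, a part. -/
def certMoves4Part24 : List (ℕ × List ℕ) := [
  (1008, [17, 52, 114, 102]),
  (670, []),
  (671, [87, 134]),
  (1055, []),
  (688, []),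
  (693, [98, 134]),
  (675, []),
  (1059, [10, 53, 43, 67, 114, 84]),
  (1060, []),
  (1061, []),
  (874, [0]),
  (788, [7, 31, 42, 67, 88, 130]),
  (681, []),
  (1066, []),
  (1067, [88, 134]),
  (1026, [17, 52, 114, 102]),
  (685, []),
  (686, []),
  (687, []),
  (1071, []),
  (1073, []),
  (1074, [91, 134]),
  (985, [2]),
  (690, []),
  (691, []),
  (692, []),
  (1080, []),
  (1081, []),
  (987, [2]),
  (893, [114, 104, 130]),
  (697, []),
  (698, []),
  (896, [2, 3, 89, 134]),
  (897, [2, 3, 95, 134]),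
  (702, []),
  (707, [17, 37, 42, 67, 114, 98, 134])]

/-- The moves by letter 4, a part. -/
def certMoves4Part25 : List (ℕ × List ℕ) := [
  (1087, []),
  (703, []),
  (743, [0, 33, 114, 104, 130]),
  (1090, []),
  (1093, []),
  (1094, []),
  (708, []),
  (709, []),
  (1088, [17, 37, 42, 67, 114, 98, 134]),
  (1089, [17, 37, 42, 67, 114, 95]),
  (711, []),
  (712, [104, 134]),
  (715, []),
  (752, [0, 33, 114, 104, 130]),
  (1097, []),
  (1095, [92, 130]),
  (916, [0]),
  (802, [7, 31, 42, 67, 94]),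
  (722, []),
  (723, [103, 135]),
  (725, []),
  (996, [2]),
  (726, []),
  (727, []),
  (1099, []),
  (1100, []),
  (926, [2, 3, 93, 134]),
  (927, [2, 3, 93, 134]),
  (733, []),
  (1103, [91, 130]),
  (1104, []),
  (736, []),
  (737, []),
  (1105, []),
  (1106, [84, 130]),
  (738, [])]

/-- The moves by letter 4, a part. -/
def certMoves4Part26 : List (ℕ × List ℕ) := [
  (741, []),
  (742, [90, 134]),
  (1091, [0, 52, 114, 102]),
  (1092, [0, 52, 114, 95]),
  (747, [10, 53, 43, 67, 114, 84]),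
  (748, []),
  (1107, [10, 53, 43, 67, 114, 84]),
  (1108, [10, 53, 43, 67, 114, 84]),
  (749, []),
  (1098, [0, 52, 114, 110, 134]),
  (1096, [0, 52, 114, 110, 134]),
  (1000, [2]),
  (948, [2, 3, 92]),
  (759, []),
  (760, [91, 130]),
  (951, [2, 3, 92]),
  (1001, [2]),
  (767, []),
  (768, [84, 130]),
  (955, [2, 3, 92]),
  (956, [2, 3, 92]),
  (957, [2, 3, 94]),
  (958, [2, 3, 94]),
  (1114, []),
  (1116, []),
  (1118, []),
  (773, []),
  (1115, [21, 3, 43, 114, 111]),
  (774, []),
  (775, []),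
  (966, [114, 104, 130]),
  (1121, []),
  (1031, [0, 3, 102]),
  (1123, []),
  (780, []),
  (850, [2])]

/-- The moves by letter 4, a part. -/
def certMoves4Part27 : List (ℕ × List ℕ) := [
  (1125, []),
  (782, []),
  (1126, []),
  (1127, []),
  (784, []),
  (1117, [21, 49, 43, 114, 87, 130]),
  (1128, []),
  (787, []),
  (1130, [14, 53, 43, 67, 114, 84]),
  (789, []),
  (1122, [21, 49, 43, 114, 87, 130]),
  (791, []),
  (1134, []),
  (886, [2]),
  (793, []),
  (892, [2]),
  (988, [114, 104, 130]),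
  (796, []),
  (799, [21, 3, 43, 114, 111]),
  (797, []),
  (811, [7, 33, 114, 104, 130]),
  (801, []),
  (814, [7, 33, 114, 104, 130]),
  (805, []),
  (921, [2]),
  (807, []),
  (809, []),
  (813, [14, 53, 43, 67, 114, 84]),
  (947, [2]),
  (952, [2]),
  (1138, []),
  (820, []),
  (825, [17, 37, 42, 67, 114, 98, 134]),
  (1141, []),
  (1142, []),
  (821, [])]

/-- The moves by letter 4, a part. -/
def certMoves4Part28 : List (ℕ × List ℕ) := [
  (864, [10, 33, 114, 104, 130]),
  (1146, []),
  (1147, [85]),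
  (823, []),
  (1139, [17, 37, 42, 67, 114, 98, 134]),
  (1150, []),
  (1151, []),
  (826, []),
  (827, []),
  (1143, [17, 37, 42, 67, 114, 98, 134]),
  (1144, [17, 37, 42, 67, 114, 98, 134]),
  (829, []),
  (830, [103, 135]),
  (833, []),
  (836, []),
  (1154, []),
  (1024, [114, 88, 135]),
  (838, []),
  (879, [10, 33, 114, 104, 130]),
  (1159, [27, 134]),
  (1158, [91, 130]),
  (1029, [114, 85, 135]),
  (1030, [0]),
  (968, [7, 31, 42, 67, 112, 135]),
  (844, []),
  (1163, []),
  (1164, [109, 135]),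
  (848, []),
  (849, []),
  (1165, []),
  (1038, [2, 3, 89, 134]),
  (851, []),
  (1168, [27, 134]),
  (1169, [91, 130]),
  (1042, [2, 3, 95, 134]),
  (855, [])]

/-- The moves by letter 4, a part. -/
def certMoves4Part29 : List (ℕ × List ℕ) := [
  (856, []),
  (857, []),
  (1170, []),
  (1171, []),
  (858, []),
  (1172, []),
  (1173, [86, 134]),
  (862, []),
  (863, []),
  (1148, [17, 52, 114, 102]),
  (1149, [17, 52, 114, 86]),
  (867, []),
  (1174, [10, 53, 43, 67, 114, 84]),
  (1176, []),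
  (1179, []),
  (871, [10, 53, 43, 67, 114, 84]),
  (872, []),
  (873, []),
  (1180, [10, 53, 43, 67, 114, 84]),
  (1181, [10, 53, 43, 67, 114, 84]),
  (1155, [17, 52, 114, 102]),
  (1162, []),
  (877, []),
  (878, [88, 134]),
  (1161, [17, 52, 114, 27, 134]),
  (1160, [17, 52, 114, 95, 130]),
  (1133, [2]),
  (883, []),
  (1072, [114, 104, 130]),
  (884, []),
  (885, [91, 134]),
  (1191, []),
  (1192, [91, 134]),
  (1136, [2]),
  (1078, [2, 3, 88]),
  (1079, [2, 3, 92])]

/-- The moves by letter 4, a part. -/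
def certMoves4Part30 : List (ℕ × List ℕ) := [
  (890, []),
  (891, []),
  (1198, []),
  (1083, [2, 3, 89, 134]),
  (1084, [114, 85, 135]),
  (1085, [2, 3, 89, 134]),
  (1086, [114, 88, 135]),
  (900, []),
  (908, [17, 37, 42, 67, 114, 98, 134]),
  (909, [17, 37, 42, 67, 114, 95]),
  (903, []),
  (938, [0, 33, 114, 104, 130]),
  (939, [0, 33, 114, 102, 135]),
  (904, []),
  (905, []),
  (915, [92, 130]),
  (946, [0, 33, 114, 100]),
  (914, []),
  (945, [0, 33, 114, 100]),
  (924, []),
  (925, []),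
  (1101, [2, 3, 91, 134]),
  (1102, [2, 3, 92]),
  (929, [91, 130]),
  (930, []),
  (933, []),
  (934, [84, 130]),
  (942, [10, 53, 43, 67, 114, 84]),
  (943, [10, 53, 43, 67, 114, 84]),
  (1109, [2, 3, 92]),
  (1110, [2, 3, 92]),
  (1111, [2, 3, 92]),
  (1112, [2, 3, 92]),
  (1201, []),
  (959, []),
  (963, [21, 3, 43, 114, 111])]

/-- The moves by letter 4, a part. -/
def certMoves4Part31 : List (ℕ × List ℕ) := [
  (960, []),
  (977, [14, 33, 114, 104, 130]),
  (961, []),
  (1202, [21, 3, 43, 114, 111]),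
  (1203, []),
  (967, []),
  (982, [14, 33, 114, 104, 130]),
  (969, []),
  (1206, []),
  (972, []),
  (974, []),
  (975, []),
  (978, []),
  (1207, [14, 53, 43, 67, 114, 84]),
  (980, [14, 53, 43, 67, 114, 84]),
  (1204, [21, 49, 43, 114, 87, 130]),
  (1205, []),
  (1070, [2]),
  (984, []),
  (1135, [114, 104, 130]),
  (1077, [2]),
  (1213, []),
  (1002, []),
  (1012, [17, 37, 42, 67, 114, 98, 134]),
  (1214, []),
  (1005, []),
  (1006, []),
  (1017, [17, 37, 42, 67, 114, 98, 134]),
  (1018, [17, 37, 42, 67, 114, 98, 134]),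
  (1217, []),
  (1009, []),
  (1010, [94]),
  (1053, [10, 33, 114, 104, 130]),
  (1054, [10, 33, 114, 110, 130]),
  (1013, []),
  (1014, [])]

/-- The moves by letter 4, a part. -/
def certMoves4Part32 : List (ℕ × List ℕ) := [
  (1215, [17, 37, 42, 67, 114, 98, 134]),
  (1216, [17, 37, 42, 67, 114, 89]),
  (1023, []),
  (1064, [10, 33, 114, 104, 130]),
  (1221, []),
  (1219, [94, 130]),
  (1028, [91, 130]),
  (1027, [27, 134]),
  (1069, [10, 33, 114, 103, 135]),
  (1068, [10, 33, 114, 105]),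
  (1065, []),
  (1033, []),
  (1034, [109, 135]),
  (1037, []),
  (1225, [27, 134]),
  (1226, []),
  (1040, [27, 134]),
  (1041, [91, 130]),
  (1046, []),
  (1047, []),
  (1049, []),
  (1050, [86, 134]),
  (1056, [10, 53, 43, 67, 114, 84]),
  (1218, []),
  (1057, []),
  (1228, [10, 53, 43, 67, 114, 84]),
  (1229, [10, 53, 43, 67, 114, 84]),
  (1058, []),
  (1062, [10, 53, 43, 67, 114, 84]),
  (1063, [10, 53, 43, 67, 114, 84]),
  (1227, [17, 37, 42, 67, 114, 98, 134]),
  (1222, [17, 52, 114, 112, 134]),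
  (1220, [17, 52, 114, 112, 134]),
  (1223, [109, 134]),
  (1224, [103, 130]),
  (1210, [2])]

/-- The moves by letter 4, a part. -/
def certMoves4Part33 : List (ℕ × List ℕ) := [
  (1236, []),
  (1189, [2, 3, 88]),
  (1190, [114, 104, 130]),
  (1075, []),
  (1076, [91, 134]),
  (1193, [114, 77, 134]),
  (1194, [2, 3, 88]),
  (1195, [114, 89, 134]),
  (1196, [2, 3, 88]),
  (1197, [2, 3, 92]),
  (1082, []),
  (1242, []),
  (1243, []),
  (1113, []),
  (1119, [21, 3, 43, 114, 111]),
  (1120, []),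
  (1131, [14, 33, 114, 104, 130]),
  (1132, []),
  (1124, []),
  (1129, [14, 53, 43, 67, 114, 84]),
  (1244, []),
  (1245, [21, 3, 43, 114, 111]),
  (1187, [2]),
  (1247, []),
  (1212, [114, 104, 130]),
  (1137, []),
  (1140, []),
  (1152, [17, 37, 42, 67, 114, 98, 134]),
  (1153, [17, 37, 42, 67, 114, 89]),
  (1145, []),
  (1175, []),
  (1157, [94, 130]),
  (1184, [10, 33, 114, 99]),
  (1156, []),
  (1183, [10, 33, 114, 99]),
  (1185, [109, 134])]

/-- The moves by letter 4, a part. -/
def certMoves4Part34 : List (ℕ × List ℕ) := [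
  (1186, [103, 130]),
  (1166, [27, 134]),
  (1167, []),
  (1182, [17, 37, 42, 67, 114, 98, 134]),
  (1177, [10, 53, 43, 67, 114, 84]),
  (1178, [10, 53, 43, 67, 114, 84]),
  (1248, []),
  (1249, [89, 135]),
  (1250, [17, 37, 42, 67, 114, 98, 134]),
  (1251, [17, 37, 42, 67, 114, 112, 130]),
  (1252, []),
  (1235, [2, 3, 88]),
  (1188, []),
  (1255, []),
  (1256, []),
  (1239, [114, 77, 134]),
  (1240, [2, 3, 88]),
  (1241, [114, 89, 134]),
  (1199, []),
  (1200, []),
  (1208, []),
  (1209, [21, 3, 43, 114, 111]),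
  (1257, []),
  (1211, []),
  (1230, []),
  (1231, [89, 135]),
  (1232, [17, 37, 42, 67, 114, 98, 134]),
  (1233, [17, 37, 42, 67, 114, 108, 130]),
  (1234, []),
  (1258, []),
  (1259, []),
  (1237, []),
  (1238, []),
  (1246, []),
  (1253, []),
  (1254, [])]

/-- The moves by letter 4, in equal parts. -/
def certMoves4C : List (List (ℕ × List ℕ)) := [certMoves4Part0, certMoves4Part1, certMoves4Part2, certMoves4Part3, certMoves4Part4, certMoves4Part5, certMoves4Part6, certMoves4Part7, certMoves4Part8, certMoves4Part9, certMoves4Part10, certMoves4Part11, certMoves4Part12, certMoves4Part13, certMoves4Part14, certMoves4Part15, certMoves4Part16, certMoves4Part17, certMoves4Part18, certMoves4Part19, certMoves4Part20, certMoves4Part21, certMoves4Part22, certMoves4Part23, certMoves4Part24, certMoves4Part25, certMoves4Part26, certMoves4Part27, certMoves4Part28, certMoves4Part29, certMoves4Part30, certMoves4Part31, certMoves4Part32, certMoves4Part33, certMoves4Part34]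

/-- The moves by letter 4. -/
def certMoves4 : List (ℕ × List ℕ) := certMoves4C.flatten

/-- The moves by letter 5, a part. -/
def certMoves5Part0 : List (ℕ × List ℕ) := [
  (0, [0]),
  (7, []),
  (2, [0]),
  (3, [0]),
  (4, [0]),
  (16, []),
  (18, []),
  (1, []),
  (8, [0]),
  (9, [0]),
  (10, [0]),
  (11, [0]),
  (28, []),
  (13, [0]),
  (32, []),
  (34, []),
  (5, []),
  (37, []),
  (6, []),
  (39, []),
  (20, [0]),
  (21, [0]),
  (22, [0]),
  (23, [0]),
  (49, []),
  (25, [0]),
  (53, []),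
  (27, [0]),
  (12, []),
  (57, []),
  (58, [86]),
  (60, []),
  (14, []),
  (63, []),
  (15, []),
  (66, [])]

/-- The moves by letter 5, a part. -/
def certMoves5Part1 : List (ℕ × List ℕ) := [
  (68, []),
  (17, []),
  (70, []),
  (19, []),
  (40, [0]),
  (41, [0]),
  (78, []),
  (43, [0]),
  (44, [0]),
  (84, []),
  (46, [0]),
  (88, []),
  (48, [0]),
  (24, []),
  (92, []),
  (93, [86]),
  (94, []),
  (26, []),
  (97, []),
  (98, []),
  (71, []),
  (29, []),
  (30, [86]),
  (102, []),
  (31, []),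
  (105, []),
  (108, []),
  (33, []),
  (109, []),
  (112, []),
  (35, []),
  (114, []),
  (36, []),
  (116, []),
  (38, []),
  (56, [])]

/-- The moves by letter 5, a part. -/
def certMoves5Part2 : List (ℕ × List ℕ) := [
  (72, [0]),
  (122, []),
  (74, [0]),
  (75, [0]),
  (128, []),
  (77, [0]),
  (42, []),
  (132, []),
  (133, [27, 130]),
  (135, []),
  (82, [0]),
  (138, []),
  (45, []),
  (142, []),
  (143, []),
  (146, []),
  (47, []),
  (150, []),
  (151, []),
  (115, []),
  (50, []),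
  (51, [86]),
  (52, []),
  (156, []),
  (117, []),
  (54, []),
  (55, []),
  (157, [86]),
  (100, [3, 86, 134]),
  (101, [3, 86, 134]),
  (59, []),
  (160, []),
  (164, []),
  (61, []),
  (165, []),
  (168, [])]

/-- The moves by letter 5, a part. -/
def certMoves5Part3 : List (ℕ × List ℕ) := [
  (62, []),
  (64, []),
  (171, []),
  (172, []),
  (65, []),
  (176, []),
  (67, []),
  (91, []),
  (69, []),
  (96, []),
  (118, [0]),
  (183, []),
  (120, [0]),
  (186, []),
  (73, []),
  (190, []),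
  (191, []),
  (194, []),
  (126, [0]),
  (198, []),
  (76, []),
  (201, []),
  (202, []),
  (169, []),
  (79, []),
  (80, [27, 130]),
  (207, []),
  (81, []),
  (212, []),
  (213, [103, 135]),
  (83, []),
  (215, []),
  (217, []),
  (174, []),
  (85, []),
  (86, [])]

/-- The moves by letter 5, a part. -/
def certMoves5Part4 : List (ℕ × List ℕ) := [
  (218, [86]),
  (223, []),
  (87, []),
  (227, []),
  (228, []),
  (177, []),
  (89, []),
  (90, []),
  (152, [3, 86, 134]),
  (153, [3, 86, 134]),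
  (178, []),
  (155, [53, 42, 114, 77, 135]),
  (95, []),
  (99, [86]),
  (158, [3]),
  (159, [3, 86, 134]),
  (103, []),
  (237, []),
  (240, []),
  (241, []),
  (104, []),
  (106, []),
  (245, []),
  (247, []),
  (107, []),
  (131, []),
  (250, []),
  (110, []),
  (111, []),
  (254, []),
  (141, []),
  (256, []),
  (113, []),
  (149, []),
  (154, []),
  (179, [53, 42, 114, 77, 135])]

/-- The moves by letter 5, a part. -/
def certMoves5Part5 : List (ℕ × List ℕ) := [
  (261, []),
  (181, [0]),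
  (265, []),
  (119, []),
  (269, []),
  (270, []),
  (121, []),
  (273, []),
  (275, []),
  (243, []),
  (123, []),
  (124, []),
  (276, [27, 130]),
  (283, []),
  (125, []),
  (288, []),
  (289, [107, 134]),
  (290, []),
  (127, []),
  (295, []),
  (248, []),
  (129, []),
  (130, []),
  (296, [107, 134]),
  (204, [3, 93, 135]),
  (205, [3, 93, 135]),
  (299, []),
  (134, []),
  (304, []),
  (306, []),
  (307, []),
  (252, []),
  (136, []),
  (137, [103, 135]),
  (253, []),
  (139, [])]

/-- The moves by letter 5, a part. -/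
def certMoves5Part6 : List (ℕ × List ℕ) := [
  (216, [53, 42, 114, 77, 135]),
  (140, []),
  (144, [86]),
  (316, []),
  (317, [99]),
  (221, [3]),
  (222, [3, 86, 134]),
  (145, []),
  (323, []),
  (257, []),
  (294, [4]),
  (147, []),
  (148, []),
  (324, [88, 135]),
  (230, [3, 87, 134]),
  (231, [3, 94, 130]),
  (330, []),
  (233, [3]),
  (234, [53, 42, 114, 92, 135]),
  (235, [3]),
  (236, [53, 42, 114, 77, 130]),
  (161, []),
  (334, []),
  (336, []),
  (162, []),
  (163, []),
  (340, []),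
  (189, []),
  (344, []),
  (166, []),
  (347, []),
  (167, []),
  (200, []),
  (350, []),
  (170, []),
  (353, [])]

/-- The moves by letter 5, a part. -/
def certMoves5Part7 : List (ℕ × List ℕ) := [
  (211, []),
  (214, []),
  (173, []),
  (255, [53, 42, 114, 77, 135]),
  (175, []),
  (225, []),
  (349, [4]),
  (361, []),
  (363, []),
  (180, []),
  (368, []),
  (369, []),
  (370, []),
  (182, []),
  (375, []),
  (377, []),
  (338, []),
  (184, []),
  (185, []),
  (378, [109, 134]),
  (339, []),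
  (187, []),
  (274, [53, 42, 114, 77, 135]),
  (188, []),
  (192, [27, 130]),
  (387, []),
  (389, []),
  (390, []),
  (280, [3, 94, 130]),
  (281, [3, 93, 135]),
  (396, []),
  (193, []),
  (401, []),
  (403, []),
  (404, []),
  (346, [])]

/-- The moves by letter 5, a part. -/
def certMoves5Part8 : List (ℕ × List ℕ) := [
  (195, []),
  (196, [104, 134]),
  (197, []),
  (411, []),
  (412, []),
  (348, []),
  (226, [4]),
  (199, []),
  (203, [104, 134]),
  (297, [3, 94, 130]),
  (298, [3, 86, 134]),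
  (206, []),
  (419, []),
  (421, []),
  (422, []),
  (352, []),
  (208, []),
  (402, [5, 36, 43, 67]),
  (209, []),
  (210, []),
  (430, []),
  (431, []),
  (310, [3, 95, 135]),
  (311, [3, 95, 135]),
  (355, []),
  (436, []),
  (314, [3]),
  (315, [53, 42, 114, 77, 135]),
  (219, []),
  (220, [110]),
  (318, [53, 42, 114, 92, 135]),
  (319, [3]),
  (320, [53, 42, 114, 77, 130]),
  (358, []),
  (410, [4]),
  (224, [])]

/-- The moves by letter 5, a part. -/
def certMoves5Part9 : List (ℕ × List ℕ) := [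
  (229, [88, 135]),
  (449, []),
  (326, [3, 87, 134]),
  (327, [3, 94, 130]),
  (415, [4]),
  (416, [4, 105, 135]),
  (232, []),
  (452, []),
  (453, []),
  (455, []),
  (238, []),
  (458, []),
  (239, []),
  (461, []),
  (268, []),
  (272, []),
  (242, []),
  (341, [53, 42, 114, 77, 135]),
  (466, []),
  (468, []),
  (244, []),
  (471, []),
  (287, []),
  (246, []),
  (293, []),
  (258, [4]),
  (249, []),
  (477, []),
  (303, []),
  (251, []),
  (472, [5, 36, 43, 67]),
  (312, []),
  (483, []),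
  (357, [53, 42, 114, 77, 135]),
  (321, []),
  (474, [4])]

/-- The moves by letter 5, a part. -/
def certMoves5Part10 : List (ℕ × List ℕ) := [
  (487, []),
  (259, []),
  (488, []),
  (260, []),
  (492, []),
  (494, []),
  (495, []),
  (457, []),
  (262, []),
  (263, []),
  (264, []),
  (503, []),
  (505, []),
  (506, []),
  (460, []),
  (266, []),
  (493, [36, 43, 67]),
  (267, []),
  (271, [109, 134]),
  (513, []),
  (515, []),
  (516, []),
  (382, [3, 92, 130]),
  (383, [3, 86, 134]),
  (464, []),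
  (526, []),
  (386, [3, 94, 130]),
  (277, []),
  (388, [53, 42, 114, 77, 135]),
  (278, []),
  (279, []),
  (391, [53, 42, 114, 95, 134]),
  (392, [3, 94, 130]),
  (393, [53, 42, 114, 92]),
  (530, []),
  (531, [100, 135])]

/-- The moves by letter 5, a part. -/
def certMoves5Part11 : List (ℕ × List ℕ) := [
  (282, []),
  (536, []),
  (538, []),
  (539, []),
  (470, []),
  (284, []),
  (305, [4, 36, 43, 67]),
  (285, []),
  (286, []),
  (548, []),
  (549, [90, 135]),
  (407, [3, 87, 134]),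
  (408, [3, 87, 134]),
  (473, []),
  (322, [4]),
  (291, []),
  (292, []),
  (558, []),
  (414, [3, 94, 130]),
  (328, [4]),
  (329, [4, 103, 130]),
  (417, [3, 94, 130]),
  (476, []),
  (300, []),
  (537, [5, 36, 43, 67]),
  (301, []),
  (302, []),
  (566, []),
  (567, [91, 130]),
  (479, []),
  (574, []),
  (427, [3, 95, 135]),
  (428, [3, 94, 130]),
  (547, [5, 36, 43, 67]),
  (308, []),
  (309, [])]

/-- The moves by letter 5, a part. -/
def certMoves5Part12 : List (ℕ × List ℕ) := [
  (550, [5, 36, 43, 67]),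
  (551, [5, 36, 43, 67, 111, 134]),
  (581, []),
  (435, [3, 93, 135]),
  (313, []),
  (584, []),
  (438, [3]),
  (585, []),
  (440, [53, 42, 114, 77, 135]),
  (441, [53, 42, 114, 92]),
  (442, [53, 42, 114, 95, 134]),
  (590, []),
  (444, [3, 93, 135]),
  (555, [4]),
  (556, [4]),
  (557, [4, 99, 134]),
  (448, [3, 93, 135]),
  (325, []),
  (596, []),
  (597, []),
  (331, []),
  (332, []),
  (598, []),
  (333, []),
  (601, []),
  (367, []),
  (335, []),
  (605, []),
  (374, []),
  (337, []),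
  (602, [36, 43, 67]),
  (610, []),
  (384, []),
  (614, []),
  (342, []),
  (467, [53, 42, 114, 77, 135])]

/-- The moves by letter 5, a part. -/
def certMoves5Part13 : List (ℕ × List ℕ) := [
  (343, []),
  (618, []),
  (400, []),
  (345, []),
  (354, [4, 36, 43, 67]),
  (409, []),
  (359, [4]),
  (626, []),
  (418, []),
  (351, []),
  (619, [5, 36, 43, 67]),
  (425, []),
  (632, []),
  (623, [5, 36, 43, 67]),
  (635, []),
  (356, []),
  (484, [53, 42, 114, 77, 135]),
  (638, []),
  (625, [4]),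
  (360, []),
  (362, []),
  (641, []),
  (643, []),
  (600, []),
  (364, []),
  (376, [36, 43, 67]),
  (365, []),
  (366, []),
  (653, []),
  (655, []),
  (656, []),
  (644, [105, 130]),
  (500, [3, 92, 130]),
  (501, [3, 95, 135]),
  (604, []),
  (371, [])]

/-- The moves by letter 5, a part. -/
def certMoves5Part14 : List (ℕ × List ℕ) := [
  (642, [36, 43, 67]),
  (372, []),
  (373, []),
  (665, []),
  (667, []),
  (668, []),
  (608, []),
  (678, []),
  (512, [3, 92, 130]),
  (379, []),
  (654, [36, 43, 67]),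
  (380, []),
  (381, []),
  (657, [36, 43, 67]),
  (658, [36, 43, 67, 88, 135]),
  (519, [3, 92, 130]),
  (682, []),
  (683, []),
  (612, []),
  (690, []),
  (524, [3, 27]),
  (525, [3, 93, 135]),
  (385, []),
  (694, []),
  (695, []),
  (529, [53, 42, 114, 77, 135]),
  (394, []),
  (395, [100, 135]),
  (532, [53, 42, 114, 77, 135]),
  (533, [53, 42, 114, 94, 135]),
  (534, [53, 42, 114, 92]),
  (617, []),
  (397, []),
  (420, [4, 36, 43, 67]),
  (398, []),
  (399, [])]

/-- The moves by letter 5, a part. -/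
def certMoves5Part15 : List (ℕ × List ℕ) := [
  (706, []),
  (708, []),
  (709, [102, 130]),
  (621, []),
  (717, []),
  (545, [3, 87, 134]),
  (546, [3, 92, 130]),
  (429, [4, 36, 43, 67]),
  (405, []),
  (406, [90, 135]),
  (432, [4, 36, 43, 67]),
  (433, [4, 36, 43, 67, 89, 130]),
  (725, []),
  (553, [3, 86, 134]),
  (554, [3, 92, 130]),
  (445, [4]),
  (446, [4]),
  (447, [4, 101, 134]),
  (413, []),
  (731, []),
  (732, []),
  (627, []),
  (736, []),
  (563, [3, 93, 135]),
  (564, [3, 94, 130]),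
  (707, [5, 36, 43, 67]),
  (423, []),
  (424, [91, 130]),
  (710, [5, 36, 43, 67]),
  (711, [5, 36, 43, 67]),
  (712, [5, 36, 43, 67, 92, 134]),
  (747, []),
  (572, [3, 93, 135]),
  (573, [3, 94, 130]),
  (426, []),
  (750, [])]

/-- The moves by letter 5, a part. -/
def certMoves5Part16 : List (ℕ × List ℕ) := [
  (751, []),
  (721, [5, 36, 43, 67]),
  (722, [5, 36, 43, 67]),
  (723, [5, 36, 43, 67, 91, 130]),
  (756, []),
  (434, []),
  (759, []),
  (760, []),
  (437, []),
  (439, []),
  (586, [53, 42, 114, 77, 135]),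
  (587, [53, 42, 114, 92]),
  (588, [53, 42, 114, 95, 134]),
  (763, []),
  (443, []),
  (767, []),
  (768, []),
  (728, [4]),
  (729, [4]),
  (730, [4]),
  (450, []),
  (451, []),
  (454, []),
  (773, []),
  (491, []),
  (456, []),
  (462, [36, 43, 67]),
  (779, []),
  (502, []),
  (459, []),
  (774, [36, 43, 67]),
  (783, []),
  (510, []),
  (788, []),
  (463, []),
  (780, [36, 43, 67])]

/-- The moves by letter 5, a part. -/
def certMoves5Part17 : List (ℕ × List ℕ) := [
  (522, []),
  (793, []),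
  (465, []),
  (615, [53, 42, 114, 77, 135]),
  (616, [53, 42, 114, 77, 135]),
  (535, []),
  (469, []),
  (478, [4, 36, 43, 67]),
  (798, []),
  (543, []),
  (802, []),
  (481, [4, 36, 43, 67]),
  (805, []),
  (486, [4]),
  (475, []),
  (561, []),
  (809, []),
  (799, [5, 36, 43, 67]),
  (800, [5, 36, 43, 67]),
  (813, []),
  (480, []),
  (803, [5, 36, 43, 67]),
  (816, []),
  (482, []),
  (636, [53, 42, 114, 77, 135]),
  (817, []),
  (485, []),
  (806, [4]),
  (772, []),
  (489, []),
  (504, [36, 43, 67]),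
  (490, []),
  (499, [105, 130]),
  (823, []),
  (824, []),
  (826, [])]

/-- The moves by letter 5, a part. -/
def certMoves5Part18 : List (ℕ × List ℕ) := [
  (827, []),
  (777, []),
  (841, []),
  (651, [3, 92, 130]),
  (652, [3, 95, 135]),
  (496, []),
  (514, [36, 43, 67]),
  (497, []),
  (498, []),
  (517, [36, 43, 67]),
  (518, [36, 43, 67, 103, 135]),
  (845, []),
  (846, [102, 134]),
  (781, []),
  (855, []),
  (663, [3, 86, 134]),
  (664, [3, 94, 130]),
  (507, []),
  (825, [36, 43, 67]),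
  (508, []),
  (509, []),
  (828, [36, 43, 67]),
  (829, [36, 43, 67]),
  (830, [36, 43, 67, 91, 130]),
  (859, []),
  (860, [107, 130]),
  (786, []),
  (871, []),
  (676, [3, 27]),
  (677, [3, 93, 135]),
  (511, []),
  (874, []),
  (875, []),
  (844, [36, 43, 67]),
  (520, []),
  (521, [])]

/-- The moves by letter 5, a part. -/
def certMoves5Part19 : List (ℕ × List ℕ) := [
  (847, [36, 43, 67]),
  (848, [36, 43, 67]),
  (849, [36, 43, 67]),
  (883, []),
  (688, [3, 27]),
  (887, []),
  (523, []),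
  (890, []),
  (891, []),
  (693, [3, 93, 135]),
  (527, []),
  (528, []),
  (696, [53, 42, 114, 77, 135]),
  (697, [53, 42, 114, 94, 135]),
  (698, [53, 42, 114, 78, 130]),
  (699, [53, 42, 114, 77, 135]),
  (700, [53, 42, 114, 94, 135]),
  (701, [53, 42, 114, 92]),
  (796, []),
  (902, []),
  (704, [3, 86, 134]),
  (705, [3, 92, 130]),
  (540, []),
  (565, [4, 36, 43, 67]),
  (541, []),
  (542, [111, 130]),
  (568, [4, 36, 43, 67]),
  (569, [4, 36, 43, 67]),
  (570, [4, 36, 43, 67, 91, 135]),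
  (906, []),
  (907, [102, 130]),
  (913, []),
  (716, [3, 95, 135]),
  (544, []),
  (916, []),
  (917, [])]

/-- The moves by letter 5, a part. -/
def certMoves5Part20 : List (ℕ × List ℕ) := [
  (720, [3, 92, 130]),
  (577, [4, 36, 43, 67]),
  (578, [4, 36, 43, 67]),
  (579, [4, 36, 43, 67, 110, 134]),
  (920, []),
  (552, []),
  (924, []),
  (925, []),
  (593, [4]),
  (594, [4]),
  (595, [4]),
  (559, []),
  (560, []),
  (928, [10, 53, 43, 67, 114, 84]),
  (734, [3, 94, 130]),
  (931, []),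
  (562, []),
  (933, []),
  (934, []),
  (739, [3, 93, 135]),
  (899, [0, 52, 114, 102]),
  (908, [5, 36, 43, 67]),
  (909, [5, 36, 43, 67, 88, 135]),
  (901, [0, 52, 114, 102]),
  (910, [5, 36, 43, 67]),
  (911, [5, 36, 43, 67]),
  (940, [10, 53, 43, 67, 114, 84]),
  (571, []),
  (942, []),
  (943, [90, 134]),
  (575, []),
  (576, []),
  (912, [0, 52, 114, 102]),
  (918, [5, 36, 43, 67]),
  (919, [5, 36, 43, 67]),
  (947, [])]

/-- The moves by letter 5, a part. -/
def certMoves5Part21 : List (ℕ × List ℕ) := [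
  (580, []),
  (949, []),
  (950, []),
  (582, []),
  (583, []),
  (761, [53, 42, 114, 95, 134]),
  (762, [53, 42, 114, 92]),
  (589, []),
  (952, []),
  (953, []),
  (954, []),
  (591, []),
  (592, []),
  (921, [4, 50, 100]),
  (926, [4]),
  (927, [4]),
  (640, []),
  (599, []),
  (606, [36, 43, 67]),
  (961, []),
  (962, []),
  (649, []),
  (968, []),
  (603, []),
  (611, [36, 43, 67]),
  (661, []),
  (974, []),
  (607, []),
  (963, [36, 43, 67]),
  (964, [36, 43, 67]),
  (674, []),
  (980, []),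
  (609, []),
  (969, [36, 43, 67]),
  (970, [36, 43, 67]),
  (984, [])]

/-- The moves by letter 5, a part. -/
def certMoves5Part22 : List (ℕ × List ℕ) := [
  (986, []),
  (613, []),
  (794, [53, 42, 114, 77, 135]),
  (795, [53, 42, 114, 77, 135]),
  (702, []),
  (992, []),
  (620, []),
  (629, [4, 36, 43, 67]),
  (630, [4, 36, 43, 67]),
  (994, []),
  (622, []),
  (633, [4, 36, 43, 67]),
  (995, []),
  (624, []),
  (639, [4]),
  (997, [14, 53, 43, 67, 114, 84]),
  (998, []),
  (628, []),
  (990, [7, 49, 43, 114, 87, 130]),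
  (991, [7, 49, 43, 114, 87, 130]),
  (999, [14, 53, 43, 67, 114, 84]),
  (631, []),
  (993, [7, 49, 43, 114, 87, 130]),
  (1000, []),
  (634, []),
  (637, []),
  (1001, []),
  (996, [4, 49, 67, 84]),
  (959, []),
  (1008, []),
  (822, [3, 86, 134]),
  (645, []),
  (646, []),
  (666, [36, 43, 67]),
  (647, []),
  (648, [])]

/-- The moves by letter 5, a part. -/
def certMoves5Part23 : List (ℕ × List ℕ) := [
  (669, [36, 43, 67]),
  (670, [36, 43, 67]),
  (671, [36, 43, 67, 110, 134]),
  (831, [3, 86, 134]),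
  (1011, []),
  (1013, []),
  (1015, []),
  (1016, []),
  (1014, [99, 135]),
  (966, []),
  (1026, []),
  (839, [3, 94, 130]),
  (840, [3, 87, 134]),
  (650, []),
  (1030, []),
  (1031, []),
  (681, [36, 43, 67]),
  (659, []),
  (660, [102, 134]),
  (684, [36, 43, 67]),
  (685, [36, 43, 67]),
  (686, [36, 43, 67]),
  (971, []),
  (1039, [10, 53, 43, 67, 114, 84]),
  (852, [3, 87, 134]),
  (853, [3, 94, 130]),
  (1043, []),
  (662, []),
  (1046, []),
  (1047, []),
  (1012, [36, 43, 67]),
  (672, []),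
  (673, [107, 130]),
  (1004, [17, 52, 114, 102]),
  (1017, [36, 43, 67]),
  (1018, [36, 43, 67])]

/-- The moves by letter 5, a part. -/
def certMoves5Part24 : List (ℕ × List ℕ) := [
  (1007, [17, 52, 114, 102]),
  (1019, [36, 43, 67]),
  (1020, [36, 43, 67]),
  (1056, []),
  (868, [3, 27]),
  (869, [3, 87, 134]),
  (1059, [10, 53, 43, 67, 114, 84]),
  (675, []),
  (1062, []),
  (1063, []),
  (679, []),
  (680, []),
  (1032, [36, 43, 67]),
  (1033, [36, 43, 67]),
  (1034, [36, 43, 67, 91, 134]),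
  (1025, [17, 52, 114, 102]),
  (1035, [36, 43, 67]),
  (1036, [36, 43, 67]),
  (1071, []),
  (687, []),
  (1075, []),
  (1076, []),
  (1077, []),
  (689, []),
  (1080, []),
  (1081, []),
  (691, []),
  (692, []),
  (892, [53, 42, 114, 77, 135]),
  (893, [53, 42, 114, 77, 135]),
  (894, [53, 42, 114, 94, 135]),
  (895, [53, 42, 114, 78, 130]),
  (896, [53, 42, 114, 78, 130]),
  (897, [53, 42, 114, 95, 134]),
  (989, []),
  (740, [0, 33, 114, 104, 130])]

/-- The moves by letter 5, a part. -/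
def certMoves5Part25 : List (ℕ × List ℕ) := [
  (900, [3, 87, 134]),
  (743, [0, 33, 114, 104, 130]),
  (703, []),
  (1091, []),
  (1092, []),
  (905, [3, 92, 130]),
  (713, []),
  (714, [111, 130]),
  (741, [4, 36, 43, 67]),
  (742, [4, 36, 43, 67, 103, 135]),
  (744, [4, 36, 43, 67]),
  (745, [4, 36, 43, 67]),
  (752, [0, 33, 114, 104, 130]),
  (715, []),
  (1096, []),
  (1098, []),
  (718, []),
  (719, []),
  (753, [4, 36, 43, 67]),
  (754, [4, 36, 43, 67]),
  (724, []),
  (769, [17, 33, 114, 104, 130]),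
  (1099, []),
  (1100, []),
  (726, []),
  (727, []),
  (770, [4]),
  (771, [4]),
  (733, [10, 53, 43, 67, 114, 84]),
  (1103, [10, 53, 43, 67, 114, 84]),
  (1104, [10, 53, 43, 67, 114, 95, 134]),
  (735, []),
  (1105, []),
  (737, []),
  (738, []),
  (1106, [84, 130])]

/-- The moves by letter 5, a part. -/
def certMoves5Part26 : List (ℕ × List ℕ) := [
  (1088, [0, 52, 114, 102]),
  (1089, [0, 52, 114, 102]),
  (1090, [0, 52, 114, 102]),
  (1093, [0, 52, 114, 95]),
  (746, [10, 53, 43, 67, 114, 84]),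
  (1107, [10, 53, 43, 67, 114, 84]),
  (748, []),
  (749, [90, 134]),
  (1108, [10, 53, 43, 67, 114, 78, 134]),
  (1095, [0, 52, 114, 102]),
  (1097, [0, 52, 114, 110, 134]),
  (755, []),
  (1109, []),
  (757, []),
  (758, []),
  (1110, []),
  (764, []),
  (765, []),
  (766, []),
  (1111, []),
  (1112, []),
  (1101, [4, 50, 100]),
  (1102, [4, 50, 99, 130]),
  (820, []),
  (1117, []),
  (775, []),
  (776, []),
  (784, [36, 43, 67]),
  (785, [36, 43, 67]),
  (1118, []),
  (837, []),
  (1122, []),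
  (778, []),
  (789, [36, 43, 67]),
  (790, [36, 43, 67]),
  (850, [])]

/-- The moves by letter 5, a part. -/
def certMoves5Part27 : List (ℕ × List ℕ) := [
  (1125, [14, 53, 43, 67, 114, 84]),
  (1126, []),
  (782, []),
  (1119, [36, 43, 67]),
  (1115, [21, 49, 43, 114, 87, 130]),
  (1116, [21, 49, 43, 114, 87, 130]),
  (1129, []),
  (1130, [14, 53, 43, 67, 114, 84]),
  (787, []),
  (1123, [36, 43, 67]),
  (1121, [21, 49, 43, 114, 87, 130]),
  (1134, []),
  (791, []),
  (1136, []),
  (792, []),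
  (987, [53, 42, 114, 77, 135]),
  (988, [53, 42, 114, 77, 135]),
  (898, []),
  (810, [7, 33, 114, 104, 130]),
  (811, [7, 33, 114, 104, 130]),
  (797, []),
  (814, [7, 33, 114, 104, 130]),
  (801, []),
  (804, []),
  (819, [21, 33, 114, 104, 130]),
  (807, [14, 53, 43, 67, 114, 84]),
  (808, []),
  (812, [14, 53, 43, 67, 114, 84]),
  (815, []),
  (818, []),
  (1113, []),
  (1114, []),
  (861, [10, 33, 114, 104, 130]),
  (1005, [3]),
  (1006, [3, 95, 135]),
  (864, [10, 33, 114, 104, 130])]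

/-- The moves by letter 5, a part. -/
def certMoves5Part28 : List (ℕ × List ℕ) := [
  (821, []),
  (1148, []),
  (1149, []),
  (832, []),
  (858, [36, 43, 67]),
  (833, []),
  (836, [99, 135]),
  (834, []),
  (835, []),
  (862, [36, 43, 67]),
  (863, [36, 43, 67]),
  (865, [36, 43, 67]),
  (866, [36, 43, 67]),
  (1150, []),
  (1151, [99, 135]),
  (1155, []),
  (1024, [3, 94, 130]),
  (879, [10, 33, 114, 104, 130]),
  (838, []),
  (1160, []),
  (1161, []),
  (1029, [3, 87, 134]),
  (842, []),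
  (843, []),
  (876, [36, 43, 67]),
  (877, [36, 43, 67]),
  (878, [36, 43, 67, 98, 134]),
  (880, [36, 43, 67]),
  (881, [36, 43, 67]),
  (1165, [10, 53, 43, 67, 114, 84]),
  (1038, [3, 87, 134]),
  (851, [10, 53, 43, 67, 114, 84]),
  (1168, [10, 53, 43, 67, 114, 84]),
  (1169, [10, 53, 43, 67, 114, 84]),
  (1042, [3, 94, 130]),
  (854, [])]

/-- The moves by letter 5, a part. -/
def certMoves5Part29 : List (ℕ × List ℕ) := [
  (1170, []),
  (1171, []),
  (856, []),
  (857, []),
  (1139, [17, 52, 114, 102]),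
  (1152, [36, 43, 67]),
  (1153, [36, 43, 67, 87]),
  (1143, [17, 52, 114, 102]),
  (1144, [17, 52, 114, 102]),
  (1146, [17, 52, 114, 102]),
  (1147, [17, 52, 114, 102]),
  (1174, [10, 53, 43, 67, 114, 84]),
  (867, []),
  (1177, []),
  (1178, [88, 134]),
  (870, [10, 53, 43, 67, 114, 84]),
  (1180, [10, 53, 43, 67, 114, 84]),
  (1181, [10, 53, 43, 67, 114, 84]),
  (872, []),
  (873, []),
  (1154, [17, 52, 114, 102]),
  (1162, [36, 43, 67]),
  (1163, [36, 43, 67]),
  (1164, [36, 43, 67]),
  (1158, [17, 52, 114, 102]),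
  (1159, [17, 52, 114, 102]),
  (1187, []),
  (882, []),
  (1190, []),
  (1191, []),
  (1192, []),
  (884, []),
  (885, []),
  (886, []),
  (1196, []),
  (1197, [])]

/-- The moves by letter 5, a part. -/
def certMoves5Part30 : List (ℕ × List ℕ) := [
  (888, []),
  (889, []),
  (1082, [53, 42, 114, 77, 135]),
  (1083, [53, 42, 114, 78, 130]),
  (1084, [53, 42, 114, 95, 134]),
  (1085, [53, 42, 114, 94, 135]),
  (1086, [53, 42, 114, 78, 130]),
  (1087, [3, 87, 134]),
  (936, [0, 33, 114, 104, 130]),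
  (937, [0, 33, 114, 104, 130]),
  (938, [0, 33, 114, 104, 130]),
  (903, []),
  (904, []),
  (939, [0, 33, 114, 102, 135]),
  (1094, [3, 92, 130]),
  (945, [0, 33, 114, 104, 130]),
  (914, []),
  (946, [0, 33, 114, 100]),
  (915, []),
  (922, []),
  (923, []),
  (957, [17, 33, 114, 104, 130]),
  (958, [17, 33, 114, 95, 135]),
  (929, [10, 53, 43, 67, 114, 84]),
  (930, [10, 53, 43, 67, 114, 95, 134]),
  (932, []),
  (935, [84, 130]),
  (941, [10, 53, 43, 67, 114, 84]),
  (944, [10, 53, 43, 67, 114, 78, 134]),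
  (948, []),
  (951, []),
  (955, []),
  (956, []),
  (1002, []),
  (1003, []),
  (976, [14, 33, 114, 104, 130])]

/-- The moves by letter 5, a part. -/
def certMoves5Part31 : List (ℕ × List ℕ) := [
  (977, [14, 33, 114, 104, 130]),
  (960, []),
  (965, []),
  (975, [36, 43, 67]),
  (1204, []),
  (982, [14, 33, 114, 104, 130]),
  (967, []),
  (981, [36, 43, 67]),
  (1206, [14, 53, 43, 67, 114, 84]),
  (972, [14, 53, 43, 67, 114, 84]),
  (973, []),
  (1202, [21, 49, 43, 114, 87, 130]),
  (1207, [14, 53, 43, 67, 114, 84]),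
  (978, []),
  (979, [14, 53, 43, 67, 114, 84]),
  (1203, [21, 49, 43, 114, 87, 130]),
  (1205, [36, 43, 67]),
  (1210, []),
  (983, []),
  (1212, []),
  (985, []),
  (1137, [53, 42, 114, 77, 135]),
  (1201, []),
  (1048, [10, 33, 114, 104, 130]),
  (1140, [3]),
  (1141, [3]),
  (1142, [3, 95, 135]),
  (1051, [10, 33, 114, 104, 130]),
  (1052, [10, 33, 114, 104, 130]),
  (1145, [3, 95, 135]),
  (1053, [10, 33, 114, 104, 130]),
  (1054, [10, 33, 114, 104, 130]),
  (1009, []),
  (1010, []),
  (1021, []),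
  (1022, [99, 135])]

/-- The moves by letter 5, a part. -/
def certMoves5Part32 : List (ℕ × List ℕ) := [
  (1049, [36, 43, 67]),
  (1050, [36, 43, 67, 109, 135]),
  (1064, [10, 33, 114, 104, 130]),
  (1023, []),
  (1220, []),
  (1222, []),
  (1068, [10, 33, 114, 104, 130]),
  (1069, [10, 33, 114, 104, 130]),
  (1027, []),
  (1028, []),
  (1065, [36, 43, 67]),
  (1066, [36, 43, 67]),
  (1067, [36, 43, 67]),
  (1037, [10, 53, 43, 67, 114, 84]),
  (1225, [10, 53, 43, 67, 114, 84]),
  (1226, [10, 53, 43, 67, 114, 77, 134]),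
  (1040, [10, 53, 43, 67, 114, 84]),
  (1041, [10, 53, 43, 67, 114, 84]),
  (1044, []),
  (1045, []),
  (1215, [17, 52, 114, 102]),
  (1216, [17, 52, 114, 102]),
  (1055, [10, 53, 43, 67, 114, 84]),
  (1227, [10, 53, 43, 67, 114, 84]),
  (1228, [10, 53, 43, 67, 114, 84]),
  (1057, []),
  (1058, [88, 134]),
  (1229, [10, 53, 43, 67, 114, 77, 134]),
  (1060, [10, 53, 43, 67, 114, 84]),
  (1061, [10, 53, 43, 67, 114, 84]),
  (1218, [17, 52, 114, 102]),
  (1219, [17, 52, 114, 102]),
  (1221, [17, 52, 114, 112, 134]),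
  (1223, [36, 43, 67]),
  (1224, [36, 43, 67]),
  (1070, [])]

/-- The moves by letter 5, a part. -/
def certMoves5Part33 : List (ℕ × List ℕ) := [
  (1234, []),
  (1235, []),
  (1072, []),
  (1073, []),
  (1074, []),
  (1239, []),
  (1240, []),
  (1241, []),
  (1078, []),
  (1079, []),
  (1198, [53, 42, 114, 77, 135]),
  (1199, [53, 42, 114, 92, 135]),
  (1200, [53, 42, 114, 78, 130]),
  (1138, []),
  (1127, [14, 33, 114, 104, 130]),
  (1131, [14, 33, 114, 104, 130]),
  (1120, []),
  (1132, [36, 43, 67]),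
  (1124, [14, 53, 43, 67, 114, 84]),
  (1128, [14, 53, 43, 67, 114, 84]),
  (1245, [14, 53, 43, 67, 114, 84]),
  (1244, [21, 49, 43, 114, 87, 130]),
  (1133, []),
  (1246, []),
  (1135, []),
  (1213, [53, 42, 114, 77, 135]),
  (1214, [3]),
  (1172, [10, 33, 114, 104, 130]),
  (1173, [10, 33, 114, 104, 130]),
  (1217, [3, 95, 135]),
  (1182, [10, 33, 114, 104, 130]),
  (1183, [10, 33, 114, 104, 130]),
  (1156, []),
  (1184, [10, 33, 114, 99]),
  (1157, []),
  (1185, [36, 43, 67])]

/-- The moves by letter 5, a part. -/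
def certMoves5Part34 : List (ℕ × List ℕ) := [
  (1186, [36, 43, 67]),
  (1166, [10, 53, 43, 67, 114, 84]),
  (1167, [10, 53, 43, 67, 114, 77, 134]),
  (1175, [10, 53, 43, 67, 114, 84]),
  (1176, [10, 53, 43, 67, 114, 84]),
  (1179, [10, 53, 43, 67, 114, 77, 134]),
  (1250, [10, 53, 43, 67, 114, 84]),
  (1251, [10, 53, 43, 67, 114, 84]),
  (1248, [17, 52, 114, 102]),
  (1249, [17, 52, 114, 102]),
  (1188, []),
  (1189, []),
  (1252, []),
  (1253, []),
  (1254, []),
  (1193, []),
  (1194, []),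
  (1195, []),
  (1242, [53, 42, 114, 92, 135]),
  (1243, [53, 42, 114, 78, 130]),
  (1209, [14, 33, 114, 104, 130]),
  (1208, [14, 53, 43, 67, 114, 84]),
  (1211, []),
  (1257, []),
  (1232, [10, 33, 114, 104, 130]),
  (1233, [10, 33, 114, 104, 130]),
  (1230, [10, 53, 43, 67, 114, 84]),
  (1231, [10, 53, 43, 67, 114, 84]),
  (1236, []),
  (1237, []),
  (1238, []),
  (1258, []),
  (1259, []),
  (1247, []),
  (1255, []),
  (1256, [])]

/-- The moves by letter 5, in equal parts. -/
def certMoves5C : List (List (ℕ × List ℕ)) := [certMoves5Part0, certMoves5Part1, certMoves5Part2, certMoves5Part3, certMoves5Part4, certMoves5Part5, certMoves5Part6, certMoves5Part7, certMoves5Part8, certMoves5Part9, certMoves5Part10, certMoves5Part11, certMoves5Part12, certMoves5Part13, certMoves5Part14, certMoves5Part15, certMoves5Part16, certMoves5Part17, certMoves5Part18, certMoves5Part19, certMoves5Part20, certMoves5Part21, certMoves5Part22, certMoves5Part23, certMoves5Part24, certMoves5Part25, certMoves5Part26,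 certMoves5Part27, certMoves5Part28, certMoves5Part29, certMoves5Part30, certMoves5Part31, certMoves5Part32, certMoves5Part33, certMoves5Part34]

/-- The moves by letter 5. -/
def certMoves5 : List (ℕ × List ℕ) := certMoves5C.flatten

/-- The moves by letter 6, a part. -/
def certMoves6Part0 : List (ℕ × List ℕ) := [
  (0, [1]),
  (1, [1]),
  (8, [4]),
  (11, [5]),
  (4, [1, 112, 135]),
  (14, [4]),
  (17, [5]),
  (7, [1]),
  (2, [4]),
  (23, []),
  (21, [4, 101, 134]),
  (3, [5]),
  (26, [5]),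
  (27, [5, 109, 134]),
  (5, [4]),
  (35, []),
  (32, [4]),
  (6, [5]),
  (37, [5]),
  (38, [5]),
  (41, []),
  (10, [4, 99, 134]),
  (44, []),
  (9, []),
  (47, []),
  (48, [112, 135]),
  (12, [5]),
  (13, [5, 91, 130]),
  (53, [5]),
  (55, [5, 105, 135]),
  (54, [5, 92, 134]),
  (61, []),
  (16, [4]),
  (64, []),
  (66, []),
  (15, [])]

/-- The moves by letter 6, a part. -/
def certMoves6Part1 : List (ℕ × List ℕ) := [
  (67, []),
  (18, [5]),
  (19, [5]),
  (70, [5]),
  (72, []),
  (20, []),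
  (76, []),
  (77, [87, 130]),
  (22, []),
  (81, []),
  (82, [90, 130]),
  (24, []),
  (25, [112, 135]),
  (88, []),
  (89, [77]),
  (90, [110, 130]),
  (69, [3, 67, 103]),
  (28, [5]),
  (30, [5, 91, 135]),
  (29, [5, 105, 135]),
  (96, [5]),
  (98, [5, 105, 135]),
  (97, [5, 77, 134]),
  (103, []),
  (105, []),
  (31, []),
  (107, []),
  (109, []),
  (33, []),
  (110, []),
  (34, []),
  (36, []),
  (114, []),
  (52, [3, 67, 103]),
  (39, [5]),
  (117, [5])]

/-- The moves by letter 6, a part. -/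
def certMoves6Part2 : List (ℕ × List ℕ) := [
  (40, []),
  (119, []),
  (120, [91, 130]),
  (75, [114, 104, 130]),
  (42, []),
  (43, [87, 130]),
  (128, []),
  (130, [103, 135]),
  (129, [87, 134]),
  (45, []),
  (46, [90, 130]),
  (139, []),
  (135, []),
  (137, [90, 135]),
  (136, [109, 135]),
  (113, [2]),
  (49, []),
  (50, [77]),
  (51, [99, 130]),
  (149, []),
  (150, [77]),
  (151, [101, 130]),
  (116, [3, 67, 103]),
  (95, [67, 87]),
  (56, [5]),
  (58, [5, 99]),
  (57, [5, 105, 135]),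
  (99, [67, 85]),
  (159, [5, 110, 134]),
  (158, [5, 94]),
  (160, []),
  (59, []),
  (162, []),
  (60, []),
  (106, [114, 104, 130]),
  (62, [])]

/-- The moves by letter 6, a part. -/
def certMoves6Part3 : List (ℕ × List ℕ) := [
  (168, []),
  (63, []),
  (65, []),
  (173, []),
  (171, []),
  (87, [2]),
  (68, []),
  (177, []),
  (94, [3, 67, 103]),
  (71, [5]),
  (118, [114, 104, 130]),
  (73, []),
  (74, [91, 130]),
  (187, []),
  (183, []),
  (184, [93]),
  (185, [103, 135]),
  (125, [114, 104, 130]),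
  (126, [114, 77, 134]),
  (167, [2]),
  (78, []),
  (80, [87, 134]),
  (79, [103, 135]),
  (200, []),
  (202, [103, 135]),
  (201, [86, 135]),
  (208, []),
  (84, []),
  (86, [109, 135]),
  (85, [90, 135]),
  (215, []),
  (83, []),
  (220, []),
  (211, []),
  (213, [108]),
  (212, [109, 135])]

/-- The moves by letter 6, a part. -/
def certMoves6Part4 : List (ℕ × List ℕ) := [
  (219, [103, 135]),
  (175, [2]),
  (176, [2]),
  (147, [2, 3, 88]),
  (148, [2, 3, 92]),
  (91, []),
  (92, [77]),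
  (93, [109, 130]),
  (230, [78]),
  (231, [107, 134]),
  (178, [3, 67, 103]),
  (179, [3, 67, 103]),
  (156, [67, 87]),
  (157, [67, 92, 135]),
  (101, [5, 106, 135]),
  (100, [5, 110, 134]),
  (102, []),
  (161, [114, 104, 130]),
  (104, []),
  (242, []),
  (240, []),
  (165, [114, 104, 130]),
  (166, [114, 104, 130]),
  (127, [2]),
  (108, []),
  (248, []),
  (251, []),
  (112, []),
  (254, []),
  (111, []),
  (252, []),
  (145, [2]),
  (146, [2]),
  (115, []),
  (154, [3, 67, 103]),
  (155, [3, 67, 103])]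

/-- The moves by letter 6, a part. -/
def certMoves6Part5 : List (ℕ × List ℕ) := [
  (180, [114, 104, 130]),
  (181, [114, 85, 135]),
  (266, []),
  (122, []),
  (123, [93]),
  (124, [103, 135]),
  (273, []),
  (121, []),
  (278, [103, 135]),
  (268, []),
  (269, [93]),
  (270, [103, 135]),
  (279, []),
  (284, []),
  (194, [114, 104, 130]),
  (195, [114, 91, 134]),
  (196, [114, 77, 134]),
  (246, [2]),
  (247, [2]),
  (199, [2, 3, 92]),
  (131, []),
  (133, [86, 135]),
  (132, [103, 135]),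
  (203, [2, 3, 88]),
  (298, [99, 134]),
  (297, [27, 130]),
  (300, []),
  (304, []),
  (134, []),
  (308, [93]),
  (309, []),
  (141, []),
  (143, [109, 135]),
  (142, [108]),
  (312, []),
  (138, [])]

/-- The moves by letter 6, a part. -/
def certMoves6Part6 : List (ℕ × List ℕ) := [
  (315, []),
  (317, [99]),
  (316, [97, 135]),
  (144, [103, 135]),
  (140, []),
  (311, [99, 135]),
  (310, [98, 134]),
  (256, [2]),
  (224, [2, 3, 92]),
  (257, [2]),
  (258, [2]),
  (227, [2, 3, 88]),
  (228, [2, 3, 92]),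
  (229, [2, 3, 92]),
  (152, [78]),
  (153, [104, 134]),
  (259, [3, 67, 103]),
  (233, [67, 92, 135]),
  (234, [67, 87, 135]),
  (235, [67, 87]),
  (236, [67, 92, 135]),
  (237, [114, 104, 130]),
  (238, [114, 104, 130]),
  (337, []),
  (164, []),
  (340, []),
  (163, []),
  (338, []),
  (345, []),
  (245, [114, 104, 130]),
  (197, [2]),
  (198, [2]),
  (169, []),
  (351, []),
  (353, []),
  (170, [])]

/-- The moves by letter 6, a part. -/
def certMoves6Part7 : List (ℕ × List ℕ) := [
  (174, []),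
  (355, []),
  (172, []),
  (357, []),
  (223, [2]),
  (225, [2]),
  (226, [2]),
  (232, [3, 67, 103]),
  (364, []),
  (261, [114, 104, 130]),
  (262, [114, 78, 134]),
  (263, [114, 91, 134]),
  (371, []),
  (375, []),
  (182, []),
  (380, [109, 135]),
  (189, []),
  (190, [93]),
  (191, [103, 135]),
  (381, [103, 135]),
  (384, []),
  (186, []),
  (388, []),
  (389, [103, 135]),
  (390, [27, 130]),
  (277, [114, 104, 130]),
  (188, [103, 135]),
  (192, []),
  (382, [78]),
  (383, [99, 134]),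
  (397, []),
  (401, []),
  (193, []),
  (405, [105, 135]),
  (406, []),
  (287, [114, 104, 130])]

/-- The moves by letter 6, a part. -/
def certMoves6Part8 : List (ℕ × List ℕ) := [
  (288, [114, 91, 134]),
  (289, [114, 85, 135]),
  (347, [2]),
  (291, [2, 3, 88]),
  (292, [2, 3, 92]),
  (348, [2]),
  (349, [2]),
  (295, [2, 3, 92]),
  (296, [2, 3, 95, 134]),
  (205, [27, 130]),
  (204, [99, 134]),
  (419, []),
  (206, []),
  (424, []),
  (423, []),
  (425, []),
  (207, []),
  (429, []),
  (430, [93]),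
  (431, []),
  (209, [93]),
  (210, []),
  (222, [98, 134]),
  (221, [99, 135]),
  (214, []),
  (434, []),
  (438, []),
  (216, []),
  (218, [106, 135]),
  (217, [110]),
  (442, [110, 134]),
  (435, [99]),
  (441, [108, 134]),
  (358, [2]),
  (359, [2]),
  (323, [2, 3, 92])]

/-- The moves by letter 6, a part. -/
def certMoves6Part9 : List (ℕ × List ℕ) := [
  (324, [2, 3, 95, 134]),
  (360, [2]),
  (326, [2, 3, 89, 134]),
  (327, [2, 3, 95, 134]),
  (328, [2, 3, 93, 134]),
  (329, [2, 3, 88]),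
  (361, [3, 67, 103]),
  (331, [67, 86]),
  (332, [67, 92, 135]),
  (456, []),
  (334, [114, 104, 130]),
  (459, []),
  (461, []),
  (239, []),
  (243, []),
  (464, []),
  (241, []),
  (467, []),
  (342, [114, 104, 130]),
  (469, []),
  (471, []),
  (244, []),
  (346, [114, 104, 130]),
  (290, [2]),
  (293, [2]),
  (294, [2]),
  (477, []),
  (249, []),
  (479, []),
  (250, []),
  (481, []),
  (253, []),
  (482, []),
  (255, []),
  (321, [2]),
  (322, [2])]

/-- The moves by letter 6, a part. -/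
def certMoves6Part10 : List (ℕ × List ℕ) := [
  (325, [2]),
  (330, [3, 67, 103]),
  (489, []),
  (492, []),
  (260, []),
  (497, [77]),
  (498, [105, 135]),
  (367, [114, 104, 130]),
  (368, [114, 78, 134]),
  (369, [114, 91, 134]),
  (503, []),
  (264, []),
  (508, [77]),
  (509, []),
  (510, []),
  (265, []),
  (514, []),
  (515, [109, 135]),
  (516, [93, 130]),
  (496, []),
  (267, [109, 135]),
  (271, [103, 135]),
  (280, [78]),
  (281, [99, 134]),
  (272, []),
  (523, []),
  (524, [99, 134]),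
  (387, [114, 104, 130]),
  (274, []),
  (275, [103, 135]),
  (276, [27, 130]),
  (533, [98, 134]),
  (525, [88, 135]),
  (534, []),
  (394, [114, 78, 134]),
  (395, [114, 91, 134])]

/-- The moves by letter 6, a part. -/
def certMoves6Part11 : List (ℕ × List ℕ) := [
  (536, []),
  (282, []),
  (541, [93]),
  (542, []),
  (543, []),
  (283, []),
  (547, []),
  (548, [105, 135]),
  (549, [90, 135]),
  (285, [105, 135]),
  (286, []),
  (407, [114, 85, 135]),
  (408, [114, 91, 134]),
  (473, [2]),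
  (474, [2]),
  (411, [2, 3, 88]),
  (412, [2, 3, 92]),
  (475, [2]),
  (414, [2, 3, 95, 134]),
  (415, [2, 3, 94]),
  (416, [2, 3, 95, 134]),
  (417, [2, 3, 92]),
  (561, []),
  (299, []),
  (565, []),
  (567, [91, 130]),
  (566, []),
  (302, []),
  (301, []),
  (303, []),
  (571, []),
  (572, [78]),
  (573, []),
  (305, []),
  (306, [93]),
  (307, [])]

/-- The moves by letter 6, a part. -/
def certMoves6Part12 : List (ℕ × List ℕ) := [
  (579, [112]),
  (578, [90, 134]),
  (313, []),
  (319, [110]),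
  (581, []),
  (583, [101, 134]),
  (314, []),
  (582, [107, 130]),
  (440, [0]),
  (320, [108, 134]),
  (318, [110, 134]),
  (485, [2]),
  (444, [2, 3, 95, 134]),
  (593, []),
  (446, [2, 3, 94]),
  (447, [2, 3, 89, 134]),
  (448, [2, 3, 92]),
  (487, [2]),
  (450, [2, 3, 91, 134]),
  (451, [2, 3, 92]),
  (452, [67, 86]),
  (453, [67, 92, 135]),
  (599, []),
  (601, []),
  (333, []),
  (457, [114, 104, 130]),
  (605, []),
  (335, []),
  (608, []),
  (336, []),
  (611, []),
  (603, []),
  (339, []),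
  (613, []),
  (466, [114, 104, 130]),
  (341, [])]

/-- The moves by letter 6, a part. -/
def certMoves6Part13 : List (ℕ × List ℕ) := [
  (618, []),
  (343, []),
  (621, []),
  (344, []),
  (623, []),
  (409, [2]),
  (410, [2]),
  (413, [2]),
  (627, []),
  (350, []),
  (629, []),
  (352, []),
  (631, []),
  (354, []),
  (356, []),
  (635, []),
  (587, [0, 3, 92]),
  (443, [2]),
  (639, []),
  (449, [2]),
  (641, []),
  (362, []),
  (648, [101, 135]),
  (649, []),
  (363, []),
  (654, []),
  (655, [77]),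
  (656, [105, 135]),
  (379, []),
  (365, [77]),
  (366, [105, 135]),
  (647, [103, 135]),
  (500, [114, 88, 135]),
  (501, [114, 85, 135]),
  (661, []),
  (370, [])]

/-- The moves by letter 6, a part. -/
def certMoves6Part14 : List (ℕ × List ℕ) := [
  (666, []),
  (667, [77]),
  (668, []),
  (645, []),
  (372, [77]),
  (373, []),
  (374, []),
  (675, []),
  (676, [108, 134]),
  (653, []),
  (376, []),
  (377, [109, 135]),
  (378, [77, 130]),
  (685, [105, 130]),
  (686, [90, 134]),
  (677, [84, 135]),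
  (659, [105, 135]),
  (660, [89]),
  (522, [114, 104, 130]),
  (385, []),
  (386, [99, 134]),
  (392, [88, 135]),
  (690, []),
  (691, [104, 135]),
  (692, [86, 135]),
  (529, [114, 104, 130]),
  (530, [114, 78, 134]),
  (531, [114, 88, 135]),
  (532, [0]),
  (391, [98, 134]),
  (393, []),
  (702, []),
  (396, []),
  (707, []),
  (708, [93]),
  (709, [102, 130])]

/-- The moves by letter 6, a part. -/
def certMoves6Part15 : List (ℕ × List ℕ) := [
  (646, []),
  (398, [93]),
  (399, []),
  (400, []),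
  (715, []),
  (716, [99, 134]),
  (720, []),
  (402, []),
  (403, [105, 135]),
  (404, [90, 135]),
  (723, [107, 134]),
  (722, [92]),
  (624, [2]),
  (553, [2, 3, 89, 134]),
  (554, [2, 3, 95, 134]),
  (728, []),
  (556, [2, 3, 93, 134]),
  (557, [2, 3, 92]),
  (626, [2]),
  (559, [2, 3, 92]),
  (560, [2, 3, 95, 134]),
  (418, []),
  (733, []),
  (739, []),
  (734, []),
  (420, []),
  (422, []),
  (421, [91, 130]),
  (743, []),
  (742, [98, 135]),
  (741, [77, 130]),
  (426, []),
  (427, [78]),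
  (428, []),
  (747, []),
  (748, [135])]

/-- The moves by letter 6, a part. -/
def certMoves6Part16 : List (ℕ × List ℕ) := [
  (749, [102, 134]),
  (577, [0]),
  (433, [90, 134]),
  (432, [100]),
  (580, [0]),
  (436, []),
  (439, [107, 130]),
  (437, [101, 134]),
  (760, [101, 134]),
  (759, [107, 130]),
  (586, [0]),
  (484, [7, 31, 42, 67, 86, 130]),
  (588, [0]),
  (764, []),
  (638, [2]),
  (591, [2, 3, 92]),
  (592, [2, 3, 89, 134]),
  (445, []),
  (771, []),
  (770, [91, 130]),
  (596, [2, 3, 91, 134]),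
  (597, [2, 3, 92]),
  (773, []),
  (454, []),
  (777, []),
  (455, []),
  (780, []),
  (463, []),
  (781, []),
  (458, []),
  (784, []),
  (775, []),
  (460, []),
  (787, []),
  (779, []),
  (462, [])]

/-- The moves by letter 6, a part. -/
def certMoves6Part17 : List (ℕ × List ℕ) := [
  (612, [114, 104, 130]),
  (465, []),
  (793, []),
  (615, [114, 104, 130]),
  (701, [0, 3, 92]),
  (796, []),
  (468, []),
  (799, []),
  (776, []),
  (470, []),
  (801, []),
  (472, []),
  (552, [2]),
  (806, []),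
  (558, [2]),
  (476, []),
  (807, []),
  (478, []),
  (811, []),
  (480, []),
  (813, []),
  (753, [0, 3, 94, 130]),
  (757, [0, 3, 95, 134]),
  (483, []),
  (762, [0, 3, 92]),
  (818, []),
  (590, [2]),
  (486, []),
  (820, []),
  (488, []),
  (825, []),
  (827, [101, 135]),
  (826, [89, 134]),
  (507, []),
  (540, []),
  (499, [103, 135])]

/-- The moves by letter 6, a part. -/
def certMoves6Part18 : List (ℕ × List ℕ) := [
  (490, [101, 135]),
  (491, []),
  (838, []),
  (839, [78]),
  (840, [99, 134]),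
  (513, []),
  (493, []),
  (494, [77]),
  (495, [105, 135]),
  (848, [105, 130]),
  (849, [99, 134]),
  (520, [105, 135]),
  (521, [89]),
  (502, []),
  (851, []),
  (852, [78]),
  (853, []),
  (823, []),
  (504, []),
  (505, [77]),
  (506, []),
  (864, []),
  (862, [101, 134]),
  (863, [87, 134]),
  (836, [103, 135]),
  (833, [109, 135]),
  (837, []),
  (511, []),
  (512, [108, 134]),
  (519, [92, 135]),
  (871, []),
  (873, [91, 134]),
  (872, [101]),
  (844, []),
  (845, [105, 135]),
  (846, [111, 134])]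

/-- The moves by letter 6, a part. -/
def certMoves6Part19 : List (ℕ × List ℕ) := [
  (684, [0]),
  (517, [105, 130]),
  (518, [90, 134]),
  (687, [114, 104, 130]),
  (688, [114, 88, 135]),
  (689, [0]),
  (526, []),
  (527, [104, 135]),
  (528, [86, 135]),
  (693, [114, 85, 135]),
  (890, [104, 135]),
  (891, [86, 135]),
  (893, []),
  (697, [114, 85, 135]),
  (698, [114, 88, 135]),
  (699, [0]),
  (700, [0, 110, 134]),
  (616, [7, 31, 42, 67, 86, 130]),
  (535, []),
  (899, []),
  (900, [78]),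
  (905, []),
  (824, []),
  (537, []),
  (538, [93]),
  (539, [111, 130]),
  (901, [17, 37, 42, 67, 114, 98, 134]),
  (909, [109, 130]),
  (908, [103, 135]),
  (835, [105, 135]),
  (834, [105, 135]),
  (544, []),
  (545, [99, 134]),
  (913, []),
  (915, [92, 130]),
  (914, [])]

/-- The moves by letter 6, a part. -/
def certMoves6Part20 : List (ℕ × List ℕ) := [
  (546, []),
  (721, [0]),
  (551, [84]),
  (550, [104, 134]),
  (921, []),
  (805, [2]),
  (726, [2, 3, 91, 134]),
  (727, [2, 3, 92]),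
  (555, []),
  (927, []),
  (926, [91, 130]),
  (731, [2, 3, 92]),
  (732, [2, 3, 95, 134]),
  (562, []),
  (564, []),
  (931, [10, 53, 43, 67, 114, 84]),
  (928, [10, 53, 43, 67, 114, 84]),
  (929, [91, 130]),
  (930, [102, 134]),
  (563, []),
  (902, [0, 52, 114, 102]),
  (570, [93, 130]),
  (569, [108, 135]),
  (568, []),
  (939, [130]),
  (938, [103, 130]),
  (746, [0]),
  (574, []),
  (575, [135]),
  (576, [102, 134]),
  (942, [135]),
  (943, [110]),
  (752, [0]),
  (633, [7, 31, 42, 67, 27, 135]),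
  (754, [0]),
  (755, [0])]

/-- The moves by letter 6, a part. -/
def certMoves6Part21 : List (ℕ × List ℕ) := [
  (756, [0]),
  (634, [7, 31, 42, 67, 134]),
  (758, [0]),
  (585, [107, 130]),
  (584, [101, 134]),
  (761, [0]),
  (636, [7, 31, 42, 67, 86, 130]),
  (952, []),
  (589, []),
  (956, []),
  (955, [101, 134]),
  (767, [2, 3, 92]),
  (768, [2, 3, 89, 134]),
  (920, [4, 50, 100]),
  (595, [91, 130]),
  (594, []),
  (959, []),
  (598, []),
  (963, []),
  (607, []),
  (620, []),
  (600, []),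
  (967, []),
  (610, []),
  (602, []),
  (604, []),
  (972, []),
  (961, []),
  (606, []),
  (977, []),
  (966, []),
  (609, []),
  (980, []),
  (969, []),
  (881, [0, 3, 94, 130]),
  (791, [114, 104, 130])]

/-- The moves by letter 6, a part. -/
def certMoves6Part22 : List (ℕ × List ℕ) := [
  (889, [0, 3, 95, 134]),
  (614, []),
  (988, []),
  (896, [0, 3, 99, 135]),
  (617, []),
  (990, []),
  (962, []),
  (619, []),
  (991, [21, 3, 43, 114, 111]),
  (622, []),
  (994, []),
  (918, [0, 3, 95, 135]),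
  (996, []),
  (725, [2]),
  (625, []),
  (628, []),
  (998, [14, 53, 43, 67, 114, 84]),
  (997, [14, 53, 43, 67, 114, 84]),
  (992, [7, 49, 43, 114, 87, 130]),
  (630, []),
  (944, [0, 3, 84]),
  (632, []),
  (946, [0, 3, 92]),
  (951, [0, 3, 95, 134]),
  (949, [0, 3, 95, 134]),
  (1001, []),
  (637, []),
  (995, [4, 49, 67, 84]),
  (640, []),
  (1004, []),
  (1006, [98, 134]),
  (665, []),
  (706, []),
  (642, []),
  (644, [89, 134]),
  (643, [101, 135])]

/-- The moves by letter 6, a part. -/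
def certMoves6Part23 : List (ℕ × List ℕ) := [
  (1007, [17, 37, 42, 67, 114, 98, 134]),
  (1017, [101, 134]),
  (1018, [103, 135]),
  (1005, [88]),
  (965, [2]),
  (673, [109, 135]),
  (714, [105, 135]),
  (713, [105, 135]),
  (672, [103, 135]),
  (674, []),
  (650, []),
  (651, [78]),
  (652, [99, 134]),
  (1026, []),
  (1027, [89, 135]),
  (1028, []),
  (681, []),
  (682, [105, 135]),
  (683, [111, 134]),
  (847, [0]),
  (657, [105, 130]),
  (658, [99, 134]),
  (1002, []),
  (662, []),
  (663, [78]),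
  (664, []),
  (1043, [10, 53, 43, 67, 114, 84]),
  (1039, [10, 53, 43, 67, 114, 84]),
  (1040, [89, 135]),
  (1041, [91, 130]),
  (1012, []),
  (1014, [92]),
  (1013, [78, 134]),
  (1008, [17, 52, 114, 102]),
  (670, [101, 134]),
  (671, [87, 134])]

/-- The moves by letter 6, a part. -/
def certMoves6Part24 : List (ℕ × List ℕ) := [
  (669, []),
  (1053, [93, 135]),
  (1054, [101, 134]),
  (1023, []),
  (1024, [99, 134]),
  (1029, [89]),
  (870, [0]),
  (678, []),
  (680, [109]),
  (679, [91, 134]),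
  (1063, [91, 134]),
  (1062, [101]),
  (1065, []),
  (1033, [109, 134]),
  (1034, [92]),
  (879, [0]),
  (880, [0, 109, 134]),
  (790, [7, 31, 42, 67, 27, 135]),
  (1072, []),
  (883, [114, 104, 130]),
  (884, [114, 77, 134]),
  (885, [114, 88, 135]),
  (886, [0]),
  (887, [0]),
  (888, [0, 111, 135]),
  (792, [7, 31, 42, 67, 134]),
  (694, [104, 135]),
  (695, [86, 135]),
  (1082, []),
  (696, []),
  (1084, [98, 134]),
  (1086, []),
  (795, [7, 31, 42, 67, 109, 135]),
  (897, [0]),
  (1003, []),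
  (703, [])]

/-- The moves by letter 6, a part. -/
def certMoves6Part25 : List (ℕ × List ℕ) := [
  (704, [78]),
  (710, [17, 37, 42, 67, 114, 98, 134]),
  (740, [0, 33, 114, 104, 130]),
  (1088, [85, 134]),
  (1089, []),
  (705, []),
  (1016, [105, 135]),
  (1015, [78, 134]),
  (712, [103, 135]),
  (711, [101, 130]),
  (1093, [17, 37, 42, 67, 114, 104, 130]),
  (1090, [17, 37, 42, 67, 114, 104, 130]),
  (912, [0]),
  (717, []),
  (719, []),
  (718, [92, 130]),
  (1098, [92, 130]),
  (1096, []),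
  (803, [7, 31, 42, 67, 91, 130]),
  (919, [0]),
  (769, [17, 33, 114, 104, 130]),
  (724, []),
  (1101, [94, 134]),
  (1102, []),
  (924, [2, 3, 91, 134]),
  (925, [2, 3, 92]),
  (730, [91, 130]),
  (729, []),
  (736, [10, 53, 43, 67, 114, 84]),
  (737, [91, 130]),
  (738, [102, 134]),
  (735, [10, 53, 43, 67, 114, 84]),
  (1105, [10, 53, 43, 67, 114, 94, 130]),
  (1103, [10, 53, 43, 67, 114, 94, 130]),
  (1104, [10, 53, 43, 67, 114, 103]),
  (1106, [10, 53, 43, 67, 114])]

/-- The moves by letter 6, a part. -/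
def certMoves6Part26 : List (ℕ × List ℕ) := [
  (1091, [0, 52, 114, 107, 135]),
  (1092, [0, 52, 114, 102]),
  (745, [103, 130]),
  (744, [130]),
  (940, [0]),
  (941, [0, 91, 130]),
  (750, [135]),
  (751, [99]),
  (812, [7, 31, 42, 67, 88, 130]),
  (945, [0]),
  (814, [7, 31, 42, 67, 86, 130]),
  (947, [0]),
  (948, [0]),
  (816, [7, 31, 42, 67, 134]),
  (950, [0]),
  (815, [7, 31, 42, 67, 134]),
  (763, []),
  (1112, []),
  (1111, [101, 134]),
  (766, [101, 134]),
  (765, []),
  (1099, [4, 50, 101, 134]),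
  (1100, [4, 50, 99, 130]),
  (772, []),
  (1115, []),
  (783, []),
  (798, []),
  (774, []),
  (1116, [21, 3, 43, 114, 111]),
  (832, [2]),
  (786, []),
  (778, []),
  (1122, []),
  (789, []),
  (1036, [0, 3, 87, 134]),
  (1113, [])]

/-- The moves by letter 6, a part. -/
def certMoves6Part27 : List (ℕ × List ℕ) := [
  (782, []),
  (1126, [14, 53, 43, 67, 114, 84]),
  (1125, [14, 53, 43, 67, 114, 84]),
  (1119, []),
  (1117, [21, 49, 43, 114, 87, 130]),
  (785, []),
  (1120, []),
  (1060, [0, 3, 101, 135]),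
  (788, []),
  (1132, []),
  (1068, [0, 3, 112]),
  (1135, []),
  (984, [114, 104, 130]),
  (1078, [0, 3, 112]),
  (1081, [0, 3, 95, 134]),
  (1137, []),
  (794, []),
  (1114, []),
  (797, []),
  (800, [21, 3, 43, 114, 111]),
  (810, [7, 33, 114, 104, 130]),
  (1097, [0, 3, 108, 130]),
  (802, []),
  (819, [21, 33, 114, 104, 130]),
  (804, []),
  (809, [14, 53, 43, 67, 114, 84]),
  (808, [14, 53, 43, 67, 114, 84]),
  (1108, [0, 3, 92]),
  (1110, [0, 3, 95, 134]),
  (817, []),
  (850, []),
  (898, []),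
  (821, []),
  (831, [88]),
  (822, [98, 134]),
  (828, [17, 37, 42, 67, 114, 98, 134])]

/-- The moves by letter 6, a part. -/
def certMoves6Part28 : List (ℕ × List ℕ) := [
  (861, [10, 33, 114, 104, 130]),
  (1143, [27, 134]),
  (1144, [92, 130]),
  (1118, [2]),
  (858, []),
  (860, [95, 134]),
  (859, [84]),
  (907, [95, 134]),
  (906, [105, 135]),
  (829, [101, 134]),
  (830, [103, 135]),
  (1146, [17, 37, 42, 67, 114, 100, 130]),
  (1147, [17, 37, 42, 67, 114, 94]),
  (1021, [2, 3, 88]),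
  (1022, [2, 3, 92]),
  (867, []),
  (868, [99, 134]),
  (1025, [0]),
  (841, []),
  (842, [89, 135]),
  (843, []),
  (869, [89]),
  (1160, [89, 135]),
  (1161, []),
  (1162, []),
  (877, [109, 134]),
  (878, [84]),
  (1035, [0, 109, 134]),
  (970, [7, 31, 42, 67, 107, 134]),
  (1139, []),
  (1145, [110, 134]),
  (855, [10, 53, 43, 67, 114, 84]),
  (856, [89, 135]),
  (857, [91, 130]),
  (1140, [98, 134]),
  (854, [10, 53, 43, 67, 114, 84])]

/-- The moves by letter 6, a part. -/
def certMoves6Part29 : List (ℕ × List ℕ) := [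
  (1170, [10, 53, 43, 67, 114, 85, 134]),
  (1171, [10, 53, 43, 67, 114, 94, 130]),
  (1168, [10, 53, 43, 67, 114, 92, 135]),
  (1169, [10, 53, 43, 67, 114, 94, 130]),
  (1165, [17, 37, 42, 67, 114, 98, 134]),
  (1152, [103, 130]),
  (1153, [78, 134]),
  (1148, [17, 52, 114, 95, 130]),
  (1149, [17, 52, 114, 110, 134]),
  (865, [93, 135]),
  (866, [101, 134]),
  (1175, []),
  (1155, []),
  (1157, [85, 134]),
  (1156, [104, 130]),
  (1059, [0]),
  (979, [7, 31, 42, 67, 110, 130]),
  (1061, [0, 91, 130]),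
  (875, [109]),
  (874, [91, 134]),
  (1182, []),
  (876, []),
  (1185, [103, 130]),
  (1186, []),
  (982, [7, 31, 42, 67, 102, 130]),
  (1069, [0]),
  (1188, []),
  (1190, []),
  (882, []),
  (1193, [107, 135]),
  (1195, []),
  (1075, [114, 77, 134]),
  (1076, [114, 88, 135]),
  (1077, [0]),
  (985, [7, 31, 42, 67, 102, 130]),
  (1079, [0])]

/-- The moves by letter 6, a part. -/
def certMoves6Part30 : List (ℕ × List ℕ) := [
  (1080, [0, 111, 135]),
  (986, [7, 31, 42, 67, 134]),
  (892, []),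
  (1200, []),
  (894, [98, 134]),
  (1199, [78]),
  (895, []),
  (1142, [110, 134]),
  (903, [85, 134]),
  (904, []),
  (911, [17, 37, 42, 67, 114, 134]),
  (936, [0, 33, 114, 110, 135]),
  (937, [0, 33, 114, 104, 130]),
  (910, [17, 37, 42, 67, 114, 134]),
  (1141, [99, 134]),
  (1095, [0]),
  (917, []),
  (993, [7, 31, 42, 67, 94]),
  (916, [92, 130]),
  (957, [17, 33, 114, 99, 135]),
  (958, [17, 33, 114, 95, 135]),
  (922, [94, 134]),
  (923, []),
  (933, [10, 53, 43, 67, 114, 94, 130]),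
  (934, [10, 53, 43, 67, 114, 97]),
  (932, [10, 53, 43, 67, 114, 94, 130]),
  (935, [10, 53, 43, 67, 114, 27, 135]),
  (1107, [0, 91, 130]),
  (999, [7, 31, 42, 67, 86, 130]),
  (1109, [0]),
  (1000, [7, 31, 42, 67, 134]),
  (954, [101, 134]),
  (953, []),
  (971, []),
  (989, []),
  (960, [])]

/-- The moves by letter 6, a part. -/
def certMoves6Part31 : List (ℕ × List ℕ) := [
  (964, [21, 3, 43, 114, 111]),
  (976, [14, 33, 114, 104, 130]),
  (1011, [2]),
  (975, []),
  (978, []),
  (1158, [0, 3, 112, 135]),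
  (968, []),
  (1205, []),
  (1202, []),
  (974, [14, 53, 43, 67, 114, 84]),
  (973, [14, 53, 43, 67, 114, 84]),
  (1206, [21, 3, 43, 114, 111]),
  (1208, []),
  (1204, []),
  (1180, [0, 3, 102]),
  (1209, []),
  (981, []),
  (1211, []),
  (1212, []),
  (983, []),
  (1196, [0, 3, 112]),
  (987, []),
  (1201, [2]),
  (1037, []),
  (1042, [98, 134]),
  (1094, [99, 134]),
  (1087, [110, 134]),
  (1009, [27, 134]),
  (1010, [92, 130]),
  (1038, [110, 134]),
  (1019, [17, 37, 42, 67, 114, 98, 130]),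
  (1020, [17, 37, 42, 67, 114, 97, 135]),
  (1051, [10, 33, 114, 103, 135]),
  (1052, [10, 33, 114, 100]),
  (1150, [2, 3, 88]),
  (1151, [2, 3, 89, 134])]

/-- The moves by letter 6, a part. -/
def certMoves6Part32 : List (ℕ × List ℕ) := [
  (1049, [103, 130]),
  (1050, [95, 134]),
  (1218, []),
  (1056, []),
  (1058, [104, 130]),
  (1057, [85, 134]),
  (1121, [7, 31, 42, 67, 99, 134]),
  (1159, [0]),
  (1030, [89, 135]),
  (1031, []),
  (1032, []),
  (1223, [103, 130]),
  (1224, []),
  (1048, [17, 37, 42, 67, 114, 98, 134]),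
  (1215, [91, 130]),
  (1216, [104, 130]),
  (1046, [10, 53, 43, 67, 114, 92, 135]),
  (1047, [10, 53, 43, 67, 114, 94, 130]),
  (1044, [10, 53, 43, 67, 114, 85, 134]),
  (1045, [10, 53, 43, 67, 114, 94, 130]),
  (1225, [17, 37, 42, 67, 114, 85]),
  (1226, [17, 37, 42, 67, 114, 94, 134]),
  (1227, []),
  (1055, []),
  (1231, []),
  (1222, [85, 134]),
  (1220, [108, 135]),
  (1230, [104, 134]),
  (1130, [7, 31, 42, 67, 112, 135]),
  (1181, [0, 91, 130]),
  (1064, []),
  (1233, []),
  (1232, [92, 130]),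
  (1066, [103, 130]),
  (1067, []),
  (1234, [])]

/-- The moves by letter 6, a part. -/
def certMoves6Part33 : List (ℕ × List ℕ) := [
  (1070, []),
  (1238, []),
  (1071, []),
  (1239, [107, 135]),
  (1241, []),
  (1073, [107, 135]),
  (1237, [93]),
  (1074, []),
  (1136, [7, 31, 42, 67, 102, 130]),
  (1197, [0]),
  (1213, [2]),
  (1085, [78]),
  (1083, []),
  (1138, [2]),
  (1124, []),
  (1244, []),
  (1129, []),
  (1123, []),
  (1127, [21, 3, 43, 114, 111]),
  (1245, []),
  (1128, []),
  (1131, []),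
  (1246, []),
  (1133, []),
  (1134, []),
  (1198, [2]),
  (1214, [2, 3, 89, 134]),
  (1166, [91, 130]),
  (1167, [104, 130]),
  (1217, [2, 3, 95, 134]),
  (1154, []),
  (1249, []),
  (1178, [98, 135]),
  (1248, [89, 135]),
  (1177, [85, 134]),
  (1163, [103, 130])]

/-- The moves by letter 6, a part. -/
def certMoves6Part34 : List (ℕ × List ℕ) := [
  (1164, []),
  (1172, [17, 37, 42, 67, 114, 106, 135]),
  (1173, [17, 37, 42, 67, 114, 87, 134]),
  (1174, []),
  (1251, []),
  (1250, [103, 135]),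
  (1179, [107, 134]),
  (1176, []),
  (1184, [92, 130]),
  (1183, []),
  (1187, []),
  (1254, []),
  (1247, [2]),
  (1194, [93]),
  (1189, []),
  (1191, [107, 135]),
  (1253, [93]),
  (1192, []),
  (1242, [2, 3, 89, 134]),
  (1243, [2, 3, 89, 134]),
  (1203, []),
  (1207, []),
  (1210, []),
  (1236, [2]),
  (1221, [89, 135]),
  (1219, []),
  (1229, [103, 135]),
  (1228, []),
  (1257, [2]),
  (1240, [93]),
  (1235, []),
  (1255, [2, 3, 88]),
  (1256, [2, 3, 88]),
  (1252, [2]),
  (1258, [2, 3, 88]),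
  (1259, [2, 3, 88])]

/-- The moves by letter 6, in equal parts. -/
def certMoves6C : List (List (ℕ × List ℕ)) := [certMoves6Part0, certMoves6Part1, certMoves6Part2, certMoves6Part3, certMoves6Part4, certMoves6Part5, certMoves6Part6, certMoves6Part7, certMoves6Part8, certMoves6Part9, certMoves6Part10, certMoves6Part11, certMoves6Part12, certMoves6Part13, certMoves6Part14, certMoves6Part15, certMoves6Part16, certMoves6Part17, certMoves6Part18, certMoves6Part19, certMoves6Part20, certMoves6Part21, certMoves6Part22, certMoves6Part23, certMoves6Part24, certMoves6Part25, certMoves6Part26, certMoves6Part27, certMoves6Part28, certMoves6Part29, certMoves6Part30, certMoves6Part31, certMoves6Part32, certMoves6Part33, certMoves6Part34]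

/-- The moves by letter 6. -/
def certMoves6 : List (ℕ × List ℕ) := certMoves6C.flatten

/-- The moves by letter 7, a part. -/
def certMoves7Part0 : List (ℕ × List ℕ) := [
  (1, [2]),
  (0, [2]),
  (5, [2]),
  (12, []),
  (4, [2, 3, 88]),
  (2, [2]),
  (19, []),
  (7, [42, 67, 134]),
  (14, [2]),
  (24, []),
  (10, [2, 3, 88]),
  (26, []),
  (3, []),
  (30, []),
  (8, [2]),
  (36, []),
  (16, [42, 67, 134]),
  (38, []),
  (29, [0, 3, 88, 134]),
  (6, []),
  (42, []),
  (21, [2, 3, 92]),
  (45, []),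
  (47, []),
  (9, []),
  (51, []),
  (11, []),
  (54, [134]),
  (28, [0]),
  (18, [7, 31, 42, 67, 108, 135]),
  (13, []),
  (62, []),
  (32, [42, 67, 134]),
  (65, []),
  (50, [0, 3, 88, 134]),
  (67, [])]

/-- The moves by letter 7, a part. -/
def certMoves7Part1 : List (ℕ × List ℕ) := [
  (15, []),
  (55, [0, 3, 88, 134]),
  (17, []),
  (57, [0, 3, 88, 134]),
  (73, []),
  (76, []),
  (20, []),
  (80, []),
  (81, []),
  (22, []),
  (85, [134]),
  (23, []),
  (90, [91, 134]),
  (49, [0]),
  (34, [7, 31, 42, 67, 108, 135]),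
  (25, []),
  (52, [53, 42, 114, 77, 135]),
  (53, [0]),
  (27, [134]),
  (37, [7, 31, 42, 67, 108, 135]),
  (56, [0]),
  (39, [7, 31, 42, 67, 108, 135]),
  (58, [0]),
  (104, []),
  (79, [0, 3, 93, 135]),
  (107, []),
  (31, []),
  (86, [0, 3, 88, 134]),
  (110, []),
  (33, []),
  (89, [0, 3, 102]),
  (35, []),
  (92, [0, 3, 88, 134]),
  (69, [53, 42, 114, 77, 135]),
  (98, [0, 3, 88, 134]),
  (101, [0, 3, 88, 134])]

/-- The moves by letter 7, a part. -/
def certMoves7Part2 : List (ℕ × List ℕ) := [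
  (119, []),
  (40, []),
  (123, [88, 135]),
  (125, []),
  (41, []),
  (129, [135]),
  (78, [0]),
  (60, [7, 31, 42, 67, 87]),
  (43, []),
  (44, []),
  (137, []),
  (83, [53, 42, 114, 77, 135]),
  (84, [0]),
  (46, [134]),
  (63, [7, 31, 42, 67, 108, 135]),
  (127, [4]),
  (88, [0]),
  (66, [7, 31, 42, 67, 112, 135]),
  (48, [91, 134]),
  (91, [0]),
  (68, [7, 31, 42, 67, 108, 135]),
  (93, [0]),
  (155, []),
  (95, [53, 42, 114, 92, 135]),
  (96, [0]),
  (97, [0, 86]),
  (70, [7, 31, 42, 67, 108, 135]),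
  (99, [53, 42, 114, 77, 130]),
  (100, [0]),
  (71, [7, 31, 42, 67, 108, 135]),
  (124, [0, 3, 93, 135]),
  (162, []),
  (59, []),
  (130, [0, 3, 88, 134]),
  (166, []),
  (61, [])]

/-- The moves by letter 7, a part. -/
def certMoves7Part3 : List (ℕ × List ℕ) := [
  (132, [0, 3, 93, 135]),
  (136, [0, 3, 108, 130]),
  (64, []),
  (111, [53, 42, 114, 77, 135]),
  (143, [0, 3, 88, 134]),
  (167, [4]),
  (150, [0, 3, 102]),
  (153, [0, 3, 88, 134]),
  (179, []),
  (158, [0, 3, 88]),
  (180, []),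
  (72, []),
  (184, [85, 134]),
  (121, [53, 42, 114, 77, 135]),
  (122, [0]),
  (74, [88, 135]),
  (102, [7, 31, 42, 67, 87]),
  (75, []),
  (196, []),
  (87, [4]),
  (128, [0]),
  (77, [135]),
  (105, [7, 31, 42, 67, 108, 135]),
  (131, [0]),
  (108, [7, 31, 42, 67, 87]),
  (133, [0]),
  (193, [5, 36, 43, 67]),
  (135, [0]),
  (109, [7, 31, 42, 67, 94]),
  (82, []),
  (216, []),
  (139, [53, 42, 114, 77, 135]),
  (140, [53, 42, 114, 92, 135]),
  (141, [0]),
  (142, [0, 86]),
  (112, [7, 31, 42, 67, 108, 135])]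

/-- The moves by letter 7, a part. -/
def certMoves7Part4 : List (ℕ × List ℕ) := [
  (144, [53, 42, 114, 77, 130]),
  (197, [4]),
  (226, []),
  (203, [4, 84, 130]),
  (199, [4, 91, 130]),
  (149, [0]),
  (114, [7, 31, 42, 67, 112, 135]),
  (151, [0, 91, 130]),
  (152, [0]),
  (115, [7, 31, 42, 67, 108, 135]),
  (232, []),
  (94, []),
  (234, [89, 134]),
  (236, []),
  (117, [7, 31, 42, 67, 107, 135]),
  (159, [0]),
  (185, [0, 3, 88, 134]),
  (238, []),
  (103, []),
  (163, [53, 42, 114, 77, 135]),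
  (191, [0, 3, 93, 135]),
  (195, [0, 3, 102]),
  (106, []),
  (113, [4]),
  (202, [0, 3, 88, 134]),
  (205, [0, 3, 93, 135]),
  (244, [5, 36, 43, 67]),
  (212, [0, 3, 108, 130]),
  (255, []),
  (173, [53, 42, 114, 77, 135]),
  (221, [0, 3, 88]),
  (246, [4]),
  (258, []),
  (231, [0, 3, 92]),
  (259, []),
  (116, [])]

/-- The moves by letter 7, a part. -/
def certMoves7Part5 : List (ℕ × List ℕ) := [
  (118, []),
  (262, [108]),
  (260, [36, 43, 67]),
  (183, [0]),
  (120, [85, 134]),
  (160, [7, 31, 42, 67, 108, 135]),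
  (274, []),
  (187, [53, 42, 114, 77, 135]),
  (188, [53, 42, 114, 95, 134]),
  (189, [0]),
  (190, [0, 91, 130]),
  (164, [7, 31, 42, 67, 87]),
  (192, [53, 42, 114, 92]),
  (134, [4, 36, 43, 67]),
  (194, [0]),
  (165, [7, 31, 42, 67, 112, 135]),
  (126, []),
  (145, [4]),
  (294, []),
  (148, [4, 91, 130]),
  (200, [0]),
  (201, [0, 91, 130]),
  (168, [7, 31, 42, 67, 108, 135]),
  (147, [4, 77, 135]),
  (204, [0]),
  (169, [7, 31, 42, 67, 87]),
  (282, [5, 36, 43, 67]),
  (305, []),
  (284, [5, 36, 43, 67]),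
  (285, [5, 36, 43, 67, 85, 134]),
  (286, [5, 36, 43, 67, 104, 130]),
  (211, [0]),
  (171, [7, 31, 42, 67, 94]),
  (213, [0, 110, 134]),
  (313, []),
  (315, [])]

/-- The moves by letter 7, a part. -/
def certMoves7Part6 : List (ℕ × List ℕ) := [
  (138, []),
  (318, [89, 134]),
  (320, []),
  (219, [53, 42, 114, 92]),
  (220, [53, 42, 114, 92, 135]),
  (174, [7, 31, 42, 67, 107, 135]),
  (222, [0]),
  (322, []),
  (291, [4, 97, 134]),
  (325, []),
  (146, []),
  (329, []),
  (328, [91, 134]),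
  (292, [4, 94, 135]),
  (230, [0, 110, 134]),
  (177, [7, 31, 42, 67, 86, 130]),
  (154, []),
  (332, []),
  (156, [89, 134]),
  (331, [88, 134]),
  (157, []),
  (263, [0, 3, 108, 130]),
  (161, []),
  (333, [36, 43, 67]),
  (270, [0, 3, 88, 134]),
  (341, []),
  (242, [53, 42, 114, 77, 135]),
  (280, [0, 3, 92]),
  (170, [4, 36, 43, 67]),
  (288, [0, 3, 102]),
  (175, [4]),
  (349, []),
  (297, [0, 3, 92]),
  (343, [5, 36, 43, 67]),
  (354, []),
  (345, [5, 36, 43, 67])]

/-- The moves by letter 7, a part. -/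
def certMoves7Part7 : List (ℕ × List ℕ) := [
  (311, [0, 3, 108, 130]),
  (356, []),
  (357, []),
  (172, []),
  (359, []),
  (360, []),
  (176, []),
  (178, []),
  (182, [36, 43, 67]),
  (261, [0]),
  (181, [108]),
  (237, [7, 31, 42, 67, 94]),
  (362, [36, 43, 67]),
  (376, []),
  (364, [36, 43, 67]),
  (365, [36, 43, 67, 109, 134]),
  (268, [0]),
  (269, [0, 109, 134]),
  (240, [7, 31, 42, 67, 108, 135]),
  (366, [36, 43, 67, 108, 130]),
  (385, []),
  (388, []),
  (186, []),
  (391, [88, 135]),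
  (393, []),
  (277, [53, 42, 114, 77, 135]),
  (278, [53, 42, 114, 94, 135]),
  (279, [53, 42, 114, 92]),
  (243, [7, 31, 42, 67, 86, 130]),
  (281, [0]),
  (206, [4, 36, 43, 67]),
  (402, []),
  (208, [4, 36, 43, 67]),
  (209, [4, 36, 43, 67, 135]),
  (210, [4, 36, 43, 67, 87, 135]),
  (287, [0])]

/-- The moves by letter 7, a part. -/
def certMoves7Part8 : List (ℕ × List ℕ) := [
  (245, [7, 31, 42, 67, 112, 135]),
  (289, [0, 110, 134]),
  (410, []),
  (224, [4, 106]),
  (229, [4, 78, 130]),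
  (413, []),
  (198, []),
  (415, [135]),
  (416, [78]),
  (248, [7, 31, 42, 67, 86, 130]),
  (298, [0]),
  (420, []),
  (397, [5, 36, 43, 67]),
  (398, [5, 36, 43, 67, 88, 130]),
  (399, [5, 36, 43, 67, 104, 130]),
  (426, []),
  (429, []),
  (207, []),
  (433, [95, 130]),
  (432, [100]),
  (405, [5, 36, 43, 67, 27, 130]),
  (406, [5, 36, 43, 67, 104, 130]),
  (310, [0, 110, 134]),
  (252, [7, 31, 42, 67, 94]),
  (434, []),
  (214, []),
  (439, []),
  (215, []),
  (441, [27, 130]),
  (442, []),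
  (217, [89, 134]),
  (437, [88, 134]),
  (218, []),
  (443, []),
  (223, []),
  (446, [88, 130])]

/-- The moves by letter 7, a part. -/
def certMoves7Part9 : List (ℕ × List ℕ) := [
  (447, [98, 134]),
  (225, []),
  (450, [92, 130]),
  (451, [78, 130]),
  (228, [91, 134]),
  (227, []),
  (361, []),
  (235, [88, 134]),
  (233, []),
  (239, [36, 43, 67]),
  (369, [0, 3, 108, 130]),
  (454, [36, 43, 67]),
  (462, []),
  (456, [36, 43, 67]),
  (382, [0, 3, 97, 135]),
  (465, []),
  (467, []),
  (241, []),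
  (342, [53, 42, 114, 77, 135]),
  (249, [4, 36, 43, 67]),
  (472, []),
  (251, [4, 36, 43, 67]),
  (408, [0, 3, 102]),
  (474, []),
  (475, []),
  (247, []),
  (478, []),
  (469, [5, 36, 43, 67]),
  (480, []),
  (481, []),
  (250, []),
  (482, []),
  (253, []),
  (254, []),
  (485, []),
  (256, [])]

/-- The moves by letter 7, a part. -/
def certMoves7Part10 : List (ℕ × List ℕ) := [
  (257, []),
  (330, []),
  (264, [36, 43, 67]),
  (493, []),
  (266, [36, 43, 67]),
  (267, [36, 43, 67, 109, 134]),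
  (271, [36, 43, 67, 77, 134]),
  (367, [0]),
  (368, [0, 109, 134]),
  (334, [7, 31, 42, 67, 94]),
  (504, []),
  (489, [36, 43, 67]),
  (490, [36, 43, 67, 103, 130]),
  (499, [36, 43, 67, 105, 134]),
  (511, []),
  (514, []),
  (265, []),
  (517, [85, 134]),
  (518, [95]),
  (496, [36, 43, 67]),
  (497, [36, 43, 67, 27, 134]),
  (498, [36, 43, 67, 27, 130]),
  (338, [7, 31, 42, 67, 94, 130]),
  (383, [0]),
  (523, []),
  (272, []),
  (528, []),
  (529, []),
  (273, []),
  (533, [91, 134]),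
  (534, [27, 130]),
  (275, [88, 135]),
  (527, [87, 134]),
  (276, []),
  (394, [53, 42, 114, 94, 135]),
  (395, [53, 42, 114, 92])]

/-- The moves by letter 7, a part. -/
def certMoves7Part11 : List (ℕ × List ℕ) := [
  (537, []),
  (300, [4, 36, 43, 67]),
  (301, [4, 36, 43, 67, 88, 130]),
  (302, [4, 36, 43, 67, 87, 135]),
  (544, []),
  (547, []),
  (283, []),
  (551, [103, 134]),
  (550, [77, 135]),
  (308, [4, 36, 43, 67, 99, 134]),
  (309, [4, 36, 43, 67, 87, 135]),
  (407, [0, 110, 134]),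
  (346, [7, 31, 42, 67, 112, 135]),
  (552, []),
  (290, []),
  (556, [103, 130]),
  (557, []),
  (293, []),
  (560, [78]),
  (295, [135]),
  (296, [78]),
  (559, [87, 134]),
  (562, []),
  (565, []),
  (299, []),
  (569, [97, 134]),
  (570, [85, 135]),
  (542, [5, 36, 43, 67, 104, 130]),
  (541, [5, 36, 43, 67, 87, 134]),
  (571, []),
  (303, []),
  (575, [92, 130]),
  (576, [102, 134]),
  (304, []),
  (578, [86, 135]),
  (579, [])]

/-- The moves by letter 7, a part. -/
def certMoves7Part12 : List (ℕ × List ℕ) := [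
  (307, [112]),
  (306, [78, 130]),
  (312, []),
  (583, []),
  (483, []),
  (319, [88, 134]),
  (582, [107, 130]),
  (314, []),
  (577, []),
  (316, [27, 130]),
  (317, []),
  (321, []),
  (592, [98, 134]),
  (568, []),
  (323, [88, 130]),
  (324, [98, 134]),
  (591, [87, 134]),
  (487, []),
  (326, [92, 130]),
  (327, [95, 130]),
  (452, [3]),
  (453, [3]),
  (335, [36, 43, 67]),
  (602, []),
  (337, [36, 43, 67]),
  (500, [0, 3, 97, 135]),
  (606, []),
  (599, [36, 43, 67]),
  (609, []),
  (611, []),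
  (336, []),
  (603, [36, 43, 67]),
  (613, []),
  (339, []),
  (615, []),
  (340, [])]

/-- The moves by letter 7, a part. -/
def certMoves7Part13 : List (ℕ × List ℕ) := [
  (619, []),
  (351, [4, 36, 43, 67]),
  (622, []),
  (623, []),
  (344, []),
  (624, []),
  (347, []),
  (348, []),
  (628, []),
  (629, []),
  (350, []),
  (631, []),
  (352, []),
  (353, []),
  (355, []),
  (436, []),
  (633, []),
  (358, []),
  (630, []),
  (449, []),
  (642, []),
  (371, [36, 43, 67]),
  (372, [36, 43, 67, 103, 130]),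
  (650, []),
  (654, []),
  (363, []),
  (657, [108]),
  (658, []),
  (379, [36, 43, 67]),
  (380, [36, 43, 67, 108, 134]),
  (381, [36, 43, 67, 99, 134]),
  (373, [36, 43, 67, 111, 130]),
  (457, [7, 31, 42, 67, 94, 130]),
  (501, [0, 110, 134]),
  (662, []),
  (666, [])]

/-- The moves by letter 7, a part. -/
def certMoves7Part14 : List (ℕ × List ℕ) := [
  (370, []),
  (670, [106]),
  (671, []),
  (645, [36, 43, 67]),
  (648, [36, 43, 67, 112, 130]),
  (647, [36, 43, 67, 97, 130]),
  (675, []),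
  (374, []),
  (680, [95]),
  (681, []),
  (375, []),
  (685, [87]),
  (686, [86, 135]),
  (377, [85, 134]),
  (378, [95]),
  (679, [93, 135]),
  (659, [36, 43, 67, 27, 134]),
  (660, [36, 43, 67, 111, 134]),
  (687, []),
  (384, []),
  (692, [101, 130]),
  (691, [105, 134]),
  (614, []),
  (392, [87, 134]),
  (386, []),
  (387, []),
  (697, [91, 134]),
  (698, []),
  (684, []),
  (389, [91, 134]),
  (390, [27, 130]),
  (703, []),
  (707, []),
  (396, []),
  (711, [103, 130]),
  (712, [102, 130])]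

/-- The moves by letter 7, a part. -/
def certMoves7Part15 : List (ℕ × List ℕ) := [
  (620, [8, 47, 43, 67, 111, 130]),
  (424, [4, 36, 43, 67, 92, 130]),
  (423, [4, 36, 43, 67, 87, 135]),
  (715, []),
  (400, []),
  (718, [92, 130]),
  (719, [130]),
  (401, []),
  (722, [92, 130]),
  (723, [99, 134]),
  (404, [77, 135]),
  (403, [105, 134]),
  (409, []),
  (726, [93, 135]),
  (727, [85, 135]),
  (669, []),
  (411, [103, 130]),
  (412, []),
  (626, []),
  (417, [87, 134]),
  (414, [78]),
  (733, []),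
  (418, []),
  (737, [87, 134]),
  (738, [102, 134]),
  (419, []),
  (741, [87, 134]),
  (742, []),
  (445, []),
  (421, [97, 134]),
  (422, [94, 135]),
  (425, []),
  (748, [87, 134]),
  (749, []),
  (632, []),
  (427, [92, 130])]

/-- The moves by letter 7, a part. -/
def certMoves7Part16 : List (ℕ × List ℕ) := [
  (428, [102, 134]),
  (440, []),
  (430, [86, 135]),
  (431, []),
  (746, []),
  (635, []),
  (438, [107, 130]),
  (435, []),
  (584, [3]),
  (585, [3]),
  (752, []),
  (753, [87, 134]),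
  (754, [27, 130]),
  (735, []),
  (638, []),
  (448, [87, 134]),
  (444, [98, 134]),
  (743, []),
  (744, [105, 135]),
  (745, [110, 134]),
  (596, [3, 87, 134]),
  (597, [3, 95, 135]),
  (774, []),
  (459, [36, 43, 67]),
  (778, []),
  (780, []),
  (455, []),
  (463, [36, 43, 67]),
  (782, []),
  (784, []),
  (458, []),
  (775, [36, 43, 67]),
  (787, []),
  (460, []),
  (789, []),
  (461, [])]

/-- The moves by letter 7, a part. -/
def certMoves7Part17 : List (ℕ × List ℕ) := [
  (791, []),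
  (464, []),
  (526, []),
  (466, []),
  (790, []),
  (797, []),
  (799, []),
  (468, []),
  (540, [8, 47, 43, 67, 111, 130]),
  (801, []),
  (470, []),
  (471, []),
  (473, []),
  (785, []),
  (558, []),
  (807, []),
  (476, []),
  (477, []),
  (486, []),
  (479, []),
  (574, []),
  (484, []),
  (812, []),
  (581, []),
  (814, []),
  (808, []),
  (590, []),
  (811, []),
  (821, []),
  (825, []),
  (488, []),
  (829, [88, 130]),
  (830, [98, 134]),
  (507, [36, 43, 67]),
  (776, [8, 47, 43, 67, 111, 130]),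
  (509, [36, 43, 67, 95, 134])]

/-- The moves by letter 7, a part. -/
def certMoves7Part18 : List (ℕ × List ℕ) := [
  (508, [36, 43, 67, 95, 130]),
  (838, []),
  (491, []),
  (843, [105, 134]),
  (842, [94]),
  (844, []),
  (492, []),
  (848, [94, 130]),
  (849, [92, 130]),
  (494, [108]),
  (495, []),
  (520, [36, 43, 67, 108, 134]),
  (521, [36, 43, 67, 111, 134]),
  (851, []),
  (502, []),
  (857, [111]),
  (856, [102, 130]),
  (858, []),
  (503, []),
  (862, [86, 134]),
  (863, [87, 134]),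
  (555, []),
  (505, [106]),
  (506, []),
  (836, [36, 43, 67, 112, 130]),
  (833, [36, 43, 67, 97, 130]),
  (867, []),
  (510, []),
  (872, [88, 134]),
  (873, [87, 134]),
  (788, []),
  (519, [93, 135]),
  (512, [95]),
  (513, []),
  (877, [87]),
  (878, [])]

/-- The moves by letter 7, a part. -/
def certMoves7Part19 : List (ℕ × List ℕ) := [
  (532, []),
  (515, [87]),
  (516, [86, 135]),
  (522, []),
  (885, []),
  (870, []),
  (793, []),
  (525, [103, 134]),
  (524, [109, 130]),
  (884, [105, 134]),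
  (694, [3, 94, 130]),
  (695, [3, 94, 130]),
  (876, []),
  (530, [91, 134]),
  (531, []),
  (879, []),
  (880, [88, 134]),
  (881, [87, 134]),
  (899, []),
  (535, []),
  (903, [93, 135]),
  (904, [130]),
  (898, [17, 37, 42, 67, 114, 98, 134]),
  (536, []),
  (909, []),
  (908, [103, 135]),
  (828, []),
  (538, [103, 130]),
  (539, [111, 130]),
  (713, [8, 53, 42, 67, 102, 134]),
  (714, [8, 53, 42, 67, 109, 130]),
  (543, []),
  (915, [99, 134]),
  (802, []),
  (545, [92, 130]),
  (546, [130])]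

/-- The moves by letter 7, a part. -/
def certMoves7Part20 : List (ℕ × List ℕ) := [
  (914, [130]),
  (721, [114, 104, 130]),
  (548, [92, 130]),
  (549, [99, 134]),
  (854, []),
  (805, []),
  (553, [93, 135]),
  (554, [94, 135]),
  (864, []),
  (865, [88, 130]),
  (866, [90, 130]),
  (731, [3, 94, 130]),
  (732, [3, 92, 130]),
  (561, []),
  (930, []),
  (589, []),
  (809, []),
  (563, [87, 134]),
  (564, [102, 134]),
  (929, [88, 135]),
  (810, [2]),
  (566, [87, 134]),
  (567, []),
  (593, []),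
  (594, [105, 135]),
  (595, [110, 134]),
  (580, []),
  (813, []),
  (572, [87, 134]),
  (573, []),
  (750, [3, 95, 135]),
  (751, [3, 87, 134]),
  (586, []),
  (587, [87, 134]),
  (588, [27, 130]),
  (940, [])]

/-- The moves by letter 7, a part. -/
def certMoves7Part21 : List (ℕ × List ℕ) := [
  (947, [10, 53, 43, 67, 114, 84]),
  (944, [88, 135]),
  (941, [88, 135]),
  (759, [3, 93, 135]),
  (760, [3, 93, 135]),
  (945, [27, 130]),
  (946, []),
  (952, [10, 53, 43, 67, 114, 84]),
  (931, [10, 53, 43, 67, 114, 84]),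
  (935, [100, 130]),
  (932, [110, 130]),
  (767, [3, 93, 135]),
  (768, [3, 87, 134]),
  (920, [0, 52, 114, 102]),
  (938, [94, 134]),
  (939, [103, 134]),
  (960, []),
  (963, []),
  (598, []),
  (607, [36, 43, 67]),
  (646, [8, 47, 43, 67, 111, 130]),
  (967, []),
  (600, []),
  (969, []),
  (601, []),
  (972, []),
  (604, []),
  (975, []),
  (605, []),
  (625, []),
  (978, []),
  (608, []),
  (678, []),
  (610, []),
  (616, []),
  (612, [])]

/-- The moves by letter 7, a part. -/
def certMoves7Part22 : List (ℕ × List ℕ) := [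
  (979, []),
  (690, []),
  (981, []),
  (982, []),
  (990, []),
  (617, []),
  (989, [21, 3, 43, 114, 111]),
  (618, []),
  (964, []),
  (621, []),
  (717, []),
  (803, [114, 104, 130]),
  (973, []),
  (725, []),
  (977, []),
  (627, []),
  (637, []),
  (736, []),
  (740, [2]),
  (639, []),
  (634, []),
  (747, []),
  (636, []),
  (999, []),
  (1000, [14, 53, 43, 67, 114, 84]),
  (1001, [14, 53, 43, 67, 114, 84]),
  (998, [14, 53, 43, 67, 114, 84]),
  (995, [7, 49, 43, 114, 87, 130]),
  (1004, []),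
  (640, []),
  (1010, [98, 134]),
  (1012, []),
  (1003, [17, 37, 42, 67, 114, 98, 134]),
  (641, []),
  (1018, [90, 135]),
  (1017, [88])]

/-- The moves by letter 7, a part. -/
def certMoves7Part23 : List (ℕ × List ℕ) := [
  (710, []),
  (643, [88, 130]),
  (644, [98, 134]),
  (1009, [93, 135]),
  (965, [8, 47, 43, 67, 111, 130]),
  (673, [36, 43, 67, 95, 134]),
  (834, [8, 53, 42, 67, 97]),
  (835, [8, 53, 42, 67, 98, 135]),
  (672, [36, 43, 67, 95, 130]),
  (1023, []),
  (649, []),
  (1028, [102, 134]),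
  (1027, [107, 130]),
  (968, []),
  (652, [85]),
  (651, [103, 134]),
  (653, []),
  (1033, [94, 130]),
  (1034, [108, 134]),
  (847, [114, 104, 130]),
  (655, [94, 130]),
  (656, [92, 130]),
  (1037, []),
  (661, []),
  (1041, [107, 130]),
  (1040, [102, 134]),
  (724, []),
  (974, []),
  (664, [111, 130]),
  (663, [102]),
  (665, []),
  (1049, [86, 134]),
  (1050, []),
  (976, [2]),
  (667, [86, 134]),
  (668, [87, 134])]

/-- The moves by letter 7, a part. -/
def certMoves7Part24 : List (ℕ × List ℕ) := [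
  (728, []),
  (729, [88, 130]),
  (730, [90, 130]),
  (674, []),
  (1057, [88, 134]),
  (1058, []),
  (689, []),
  (980, []),
  (676, [88, 134]),
  (677, [87, 134]),
  (874, [3, 92, 130]),
  (875, [3, 94, 130]),
  (696, []),
  (682, [87]),
  (683, []),
  (699, []),
  (700, [88, 134]),
  (701, [87, 134]),
  (1055, []),
  (984, []),
  (693, [103, 134]),
  (688, []),
  (1059, []),
  (1077, [10, 53, 43, 67, 114, 84]),
  (1061, [108]),
  (1060, [99, 135]),
  (890, [3, 27]),
  (891, [3, 93, 135]),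
  (1064, []),
  (1065, []),
  (1066, [88, 134]),
  (1067, [91, 134]),
  (1068, [91, 134]),
  (1069, [27, 130]),
  (706, [17, 37, 42, 67, 114, 98, 134]),
  (702, [])]

/-- The moves by letter 7, a part. -/
def certMoves7Part25 : List (ℕ × List ℕ) := [
  (1088, [92, 130]),
  (1007, []),
  (992, []),
  (704, [93, 135]),
  (705, [130]),
  (1089, [130]),
  (1094, [17, 37, 42, 67, 114, 105, 134]),
  (1087, [17, 37, 42, 67, 114, 78]),
  (709, [103, 135]),
  (708, []),
  (1019, [106]),
  (1020, [112, 135]),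
  (912, [114, 104, 130]),
  (994, []),
  (720, [130]),
  (716, [99, 134]),
  (916, [3, 87, 134]),
  (917, [3, 95, 135]),
  (918, [114, 91, 134]),
  (919, [114, 85, 135]),
  (769, [0, 33, 114, 104, 130]),
  (1043, [10, 53, 43, 67, 114, 84]),
  (1045, [104, 135]),
  (1044, [100, 134]),
  (924, [3, 86, 134]),
  (925, [3, 93, 135]),
  (1054, [110, 134]),
  (1053, [92, 134]),
  (997, [2]),
  (739, [88, 135]),
  (734, []),
  (764, [10, 53, 43, 67, 114, 84]),
  (766, [99, 130]),
  (933, [3, 93, 135]),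
  (934, [3, 87, 134]),
  (765, [112, 130])]

/-- The moves by letter 7, a part. -/
def certMoves7Part26 : List (ℕ × List ℕ) := [
  (936, [2, 3, 92]),
  (937, [2, 3, 95, 134]),
  (770, [94, 134]),
  (771, [105, 134]),
  (755, []),
  (758, [88, 135]),
  (942, [3, 93, 135]),
  (943, [3, 94, 130]),
  (757, [88, 135]),
  (761, [27, 130]),
  (762, []),
  (756, [10, 53, 43, 67, 114, 84]),
  (1107, [87, 134]),
  (1110, [10, 53, 43, 67, 114, 95, 134]),
  (1109, [10, 53, 43, 67, 114, 94, 130]),
  (1108, [86, 135]),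
  (763, [10, 53, 43, 67, 114, 84]),
  (1112, [10, 53, 43, 67, 114, 95, 134]),
  (1111, [10, 53, 43, 67, 114, 98, 135]),
  (1105, [10, 53, 43, 67, 114, 95, 134]),
  (1106, [10, 53, 43, 67, 114, 100, 130]),
  (1099, [0, 52, 114, 97, 134]),
  (1100, [0, 52, 114, 104, 130]),
  (1115, []),
  (772, []),
  (1119, []),
  (1114, [21, 3, 43, 114, 111]),
  (773, []),
  (800, []),
  (832, [8, 47, 43, 67, 111, 130]),
  (1120, []),
  (777, []),
  (841, []),
  (779, []),
  (970, [114, 104, 130]),
  (1124, [])]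

/-- The moves by letter 7, a part. -/
def certMoves7Part27 : List (ℕ × List ℕ) := [
  (781, []),
  (804, []),
  (855, []),
  (783, []),
  (861, [2]),
  (806, []),
  (786, []),
  (792, []),
  (871, []),
  (794, []),
  (795, []),
  (1128, []),
  (883, []),
  (1130, []),
  (1136, [14, 53, 43, 67, 114, 84]),
  (1131, []),
  (1132, []),
  (798, [21, 3, 43, 114, 111]),
  (796, []),
  (1116, []),
  (902, []),
  (993, [114, 104, 130]),
  (913, []),
  (819, [7, 33, 114, 104, 130]),
  (1126, [14, 53, 43, 67, 114, 84]),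
  (928, [2]),
  (818, [14, 53, 43, 67, 114, 84]),
  (815, []),
  (816, [14, 53, 43, 67, 114, 84]),
  (817, [14, 53, 43, 67, 114, 84]),
  (1139, []),
  (824, [17, 37, 42, 67, 114, 98, 134]),
  (820, []),
  (1143, [85, 130]),
  (1144, [92, 130]),
  (901, [])]

/-- The moves by letter 7, a part. -/
def certMoves7Part28 : List (ℕ × List ℕ) := [
  (1117, []),
  (831, [93, 135]),
  (822, [98, 134]),
  (1138, [17, 37, 42, 67, 114, 98, 134]),
  (823, []),
  (1153, []),
  (1152, [101, 135]),
  (1142, [17, 37, 42, 67, 114, 99]),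
  (1141, [17, 37, 42, 67, 114, 110, 135]),
  (827, [88]),
  (826, [90, 135]),
  (910, [106]),
  (911, [112, 135]),
  (1021, [8, 53, 42, 67, 97]),
  (1022, [8, 53, 42, 67, 98, 135]),
  (837, []),
  (1157, [108, 134]),
  (1025, [114, 104, 130]),
  (1122, []),
  (840, [107, 130]),
  (839, [102, 134]),
  (1156, [107, 130]),
  (1030, [3, 92, 130]),
  (1031, [3, 87, 134]),
  (1032, [114, 104, 130]),
  (845, [94, 130]),
  (846, [108, 134]),
  (1035, [114, 78, 134]),
  (1036, [114, 91, 134]),
  (850, []),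
  (1167, []),
  (1125, [2]),
  (853, [102, 134]),
  (852, [107, 130]),
  (1166, [102, 134]),
  (921, [10, 53, 43, 67, 114, 84])]

/-- The moves by letter 7, a part. -/
def certMoves7Part29 : List (ℕ × List ℕ) := [
  (923, [100, 134]),
  (922, [104, 135]),
  (1046, [3, 86, 134]),
  (1047, [3, 93, 135]),
  (1127, [2]),
  (859, [86, 134]),
  (860, []),
  (1051, [2, 3, 88]),
  (1052, [2, 3, 92]),
  (927, [92, 134]),
  (926, [110, 134]),
  (882, []),
  (1129, []),
  (868, [88, 134]),
  (869, []),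
  (886, []),
  (889, [99, 135]),
  (888, [108]),
  (1062, [3, 27]),
  (1063, [3, 93, 135]),
  (892, []),
  (893, []),
  (894, [88, 134]),
  (895, [91, 134]),
  (896, [91, 134]),
  (897, [27, 130]),
  (1174, []),
  (1187, [10, 53, 43, 67, 114, 84]),
  (1175, []),
  (1179, [87]),
  (1176, [87]),
  (1075, [3, 27]),
  (1076, [3, 27]),
  (887, [10, 53, 43, 67, 114, 84]),
  (1180, [86, 134]),
  (1181, [87, 134])]

/-- The moves by letter 7, a part. -/
def certMoves7Part30 : List (ℕ × List ℕ) := [
  (1197, [10, 53, 43, 67, 114, 110, 134]),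
  (1196, [10, 53, 43, 67, 114, 106, 130]),
  (1182, []),
  (1183, [91, 134]),
  (1185, [27, 130]),
  (1184, []),
  (1186, [91, 134]),
  (907, [17, 37, 42, 67, 114, 78]),
  (900, [92, 130]),
  (905, [130]),
  (1147, [103, 130]),
  (1091, [3, 86, 134]),
  (1092, [3, 95, 135]),
  (1146, [103]),
  (906, [17, 37, 42, 67, 114, 95, 130]),
  (1095, [114, 85, 135]),
  (1096, [3, 95, 135]),
  (1097, [114, 91, 134]),
  (1098, [3, 87, 134]),
  (957, [0, 33, 114, 111, 134]),
  (958, [0, 33, 114, 77, 130]),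
  (1171, [10, 53, 43, 67, 114, 104]),
  (1170, [10, 53, 43, 67, 114, 105]),
  (1103, [2, 3, 95, 134]),
  (1104, [2, 3, 95, 134]),
  (955, [10, 53, 43, 67, 114, 95, 134]),
  (956, [10, 53, 43, 67, 114, 101, 134]),
  (948, [87, 134]),
  (951, [86, 135]),
  (950, [10, 53, 43, 67, 114, 94, 130]),
  (949, [10, 53, 43, 67, 114, 95, 134]),
  (954, [10, 53, 43, 67, 114, 107, 135]),
  (953, [10, 53, 43, 67, 114, 95, 134]),
  (1202, []),
  (962, [21, 3, 43, 114, 111]),
  (959, [])]

/-- The moves by letter 7, a part. -/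
def certMoves7Part31 : List (ℕ × List ℕ) := [
  (991, []),
  (1008, []),
  (1201, [21, 3, 43, 114, 111]),
  (961, []),
  (966, []),
  (1121, [114, 104, 130]),
  (1026, []),
  (1123, [114, 104, 130]),
  (971, []),
  (1039, [2]),
  (996, [14, 53, 43, 67, 114, 84]),
  (1048, [2]),
  (983, []),
  (1056, []),
  (985, []),
  (987, []),
  (988, []),
  (1207, []),
  (1210, [14, 53, 43, 67, 114, 84]),
  (1208, []),
  (986, [14, 53, 43, 67, 114, 84]),
  (1209, []),
  (1011, [17, 37, 42, 67, 114, 98, 134]),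
  (1002, []),
  (1215, [85, 130]),
  (1016, [17, 37, 42, 67, 114, 90]),
  (1015, [17, 37, 42, 67, 114, 94, 135]),
  (1005, [85, 130]),
  (1006, [92, 130]),
  (1216, [85, 135]),
  (1093, [105]),
  (1090, [103, 130]),
  (1148, [3, 86, 134]),
  (1149, [3, 95, 135]),
  (1217, [17, 37, 42, 67, 114, 99]),
  (1214, [17, 37, 42, 67, 114, 89])]

/-- The moves by letter 7, a part. -/
def certMoves7Part32 : List (ℕ × List ℕ) := [
  (1014, [101, 135]),
  (1013, []),
  (1154, [114, 104, 130]),
  (1204, []),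
  (1029, [107, 130]),
  (1024, [108, 134]),
  (1158, [114, 88, 135]),
  (1159, [114, 85, 135]),
  (1160, [3, 94, 130]),
  (1161, [3, 87, 134]),
  (1162, [114, 104, 130]),
  (1163, [114, 78, 134]),
  (1164, [114, 88, 135]),
  (1206, [2]),
  (1042, [102, 134]),
  (1038, []),
  (1168, [2, 3, 89, 134]),
  (1169, [2, 3, 95, 134]),
  (1102, [10, 53, 43, 67, 114, 106]),
  (1101, [10, 53, 43, 67, 114, 98]),
  (1172, [2, 3, 88]),
  (1173, [2, 3, 89, 134]),
  (1070, []),
  (1072, []),
  (1074, [87]),
  (1177, [3, 27]),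
  (1178, [3, 87, 134]),
  (1073, [87]),
  (1078, [86, 134]),
  (1079, [87, 134]),
  (1082, []),
  (1083, [91, 134]),
  (1085, []),
  (1084, [27, 130]),
  (1086, [91, 134]),
  (1071, [10, 53, 43, 67, 114, 84])]

/-- The moves by letter 7, a part. -/
def certMoves7Part33 : List (ℕ × List ℕ) := [
  (1227, []),
  (1228, [86, 134]),
  (1234, [10, 53, 43, 67, 114, 84]),
  (1240, [10, 53, 43, 67, 114, 77, 134]),
  (1235, [10, 53, 43, 67, 114, 85, 134]),
  (1230, [90, 130]),
  (1229, [87]),
  (1231, [87]),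
  (1081, [10, 53, 43, 67, 114, 105, 130]),
  (1080, [10, 53, 43, 67, 114, 102, 130]),
  (1236, [17, 37, 42, 67, 114, 98, 134]),
  (1232, [87, 130]),
  (1233, [91, 134]),
  (1118, [21, 3, 43, 114, 111]),
  (1113, []),
  (1203, [114, 104, 130]),
  (1155, []),
  (1205, [114, 104, 130]),
  (1165, [2]),
  (1133, []),
  (1135, []),
  (1137, []),
  (1134, [14, 53, 43, 67, 114, 84]),
  (1245, []),
  (1246, [14, 53, 43, 67, 114, 84]),
  (1247, [21, 3, 43, 114, 111]),
  (1151, [17, 37, 42, 67, 114, 89]),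
  (1140, [85, 130]),
  (1145, [94, 135]),
  (1150, [17, 37, 42, 67, 114, 94, 135]),
  (1218, [114, 104, 130]),
  (1219, [114, 88, 135]),
  (1220, [3, 94, 130]),
  (1221, [114, 78, 134]),
  (1222, [3]),
  (1223, [114, 85, 135])]

/-- The moves by letter 7, a part. -/
def certMoves7Part34 : List (ℕ × List ℕ) := [
  (1224, [114, 88, 135]),
  (1225, [2, 3, 89, 134]),
  (1226, [2, 3, 89, 134]),
  (1188, []),
  (1189, [86, 134]),
  (1194, [87]),
  (1193, [90, 130]),
  (1195, [87]),
  (1199, [87, 130]),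
  (1200, [91, 134]),
  (1190, [10, 53, 43, 67, 114, 84]),
  (1192, [10, 53, 43, 67, 114, 85, 134]),
  (1198, [17, 37, 42, 67, 114, 98, 134]),
  (1250, [112, 135]),
  (1251, [86, 134]),
  (1253, [10, 53, 43, 67, 114, 105, 134]),
  (1191, [10, 53, 43, 67, 114, 77, 134]),
  (1254, [10, 53, 43, 67, 114, 85, 134]),
  (1255, [17, 37, 42, 67, 114, 97, 135]),
  (1256, [17, 37, 42, 67, 114, 103, 130]),
  (1244, [114, 104, 130]),
  (1211, []),
  (1212, [14, 53, 43, 67, 114, 84]),
  (1213, [21, 3, 43, 114, 111]),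
  (1248, [114, 77, 134]),
  (1249, [114, 88, 135]),
  (1237, [112, 135]),
  (1238, [86, 134]),
  (1252, [1]),
  (1239, [10, 53, 43, 67, 114, 97, 134]),
  (1241, [10, 53, 43, 67, 114, 85, 134]),
  (1242, [17, 37, 42, 67, 114, 94]),
  (1243, [17, 37, 42, 67, 114, 27, 134]),
  (1257, [1]),
  (1258, [1, 112, 135]),
  (1259, [1, 103, 130])]

/-- The moves by letter 7, in equal parts. -/
def certMoves7C : List (List (ℕ × List ℕ)) := [certMoves7Part0, certMoves7Part1, certMoves7Part2, certMoves7Part3, certMoves7Part4, certMoves7Part5, certMoves7Part6, certMoves7Part7, certMoves7Part8, certMoves7Part9, certMoves7Part10, certMoves7Part11, certMoves7Part12, certMoves7Part13, certMoves7Part14, certMoves7Part15, certMoves7Part16, certMoves7Part17, certMoves7Part18, certMoves7Part19, certMoves7Part20, certMoves7Part21, certMoves7Part22, certMoves7Part23, certMoves7Part24, certMoves7Part25, certMoves7Part26, certMoves7Part27, certMoves7Part28, certMoves7Part29, certMoves7Part30, certMoves7Part31,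 certMoves7Part32, certMoves7Part33, certMoves7Part34]

/-- The moves by letter 7. -/
def certMoves7 : List (ℕ × List ℕ) := certMoves7C.flatten

/-- The moves by letter 8, a part. -/
def certMoves8Part0 : List (ℕ × List ℕ) := [
  (4, []),
  (7, [7, 3, 42, 67, 88]),
  (10, []),
  (13, []),
  (0, []),
  (16, [7, 3, 42, 67, 88]),
  (18, [7, 3, 42, 67, 88]),
  (1, [7, 3, 42, 67, 88]),
  (8, [111, 135]),
  (25, []),
  (2, []),
  (11, [86]),
  (19, [3, 88]),
  (3, []),
  (14, [106, 134]),
  (34, [7, 3, 42, 67, 88]),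
  (5, [7, 3, 42, 67, 88]),
  (17, [134]),
  (6, [7, 3, 42, 67, 88]),
  (12, [3, 89, 134]),
  (20, [111, 135]),
  (21, [111, 135]),
  (22, [86]),
  (48, []),
  (36, [3, 88]),
  (9, []),
  (54, []),
  (27, [86]),
  (39, [3, 88]),
  (30, [86, 134]),
  (29, [86, 134]),
  (31, [106, 134]),
  (32, [106, 134]),
  (33, [134]),
  (15, [7, 3, 42, 67, 88]),
  (66, [7, 3, 42, 67, 103])]

/-- The moves by letter 8, a part. -/
def certMoves8Part1 : List (ℕ × List ℕ) := [
  (24, [3, 89, 134]),
  (37, [134]),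
  (55, [3, 134]),
  (28, [3, 89, 134]),
  (40, [90, 130]),
  (77, []),
  (42, [77]),
  (43, [111, 135]),
  (82, []),
  (85, []),
  (46, [86]),
  (89, []),
  (23, []),
  (68, [3, 88]),
  (51, [86, 134]),
  (50, [86, 134]),
  (95, []),
  (97, []),
  (26, []),
  (38, [3, 86]),
  (56, [86, 134]),
  (58, [134]),
  (57, [134]),
  (59, [86, 130]),
  (60, [106, 134]),
  (105, [7, 3, 42, 67, 97, 135]),
  (62, [95]),
  (63, [134]),
  (109, [7, 3, 42, 67, 135]),
  (86, [3, 134]),
  (35, [7, 3, 42, 67, 103]),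
  (90, [3, 99]),
  (49, [3, 89, 134]),
  (99, [3, 134]),
  (98, [3, 134]),
  (71, [86, 134])]

/-- The moves by letter 8, a part. -/
def certMoves8Part2 : List (ℕ × List ℕ) := [
  (72, [109, 134]),
  (73, [109, 135]),
  (74, [90, 130]),
  (126, []),
  (107, [3, 97, 135]),
  (41, []),
  (78, [77]),
  (79, [77]),
  (80, [77]),
  (136, []),
  (44, []),
  (140, []),
  (142, []),
  (45, []),
  (65, [3, 86]),
  (147, []),
  (150, []),
  (47, []),
  (67, [3, 97, 135]),
  (91, [86, 134]),
  (93, [134]),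
  (92, [134]),
  (156, []),
  (52, []),
  (117, [3]),
  (53, []),
  (70, [3, 86]),
  (69, [3, 86]),
  (100, [86, 134]),
  (101, [86, 134]),
  (102, [86, 130]),
  (103, [103, 130]),
  (104, [108, 134]),
  (61, [7, 3, 42, 67, 97, 135]),
  (165, [7, 3, 42, 67, 97, 135]),
  (76, [3, 99])]

/-- The moves by letter 8, a part. -/
def certMoves8Part3 : List (ℕ × List ℕ) := [
  (108, [95]),
  (64, [7, 3, 42, 67, 135]),
  (137, [3, 108, 130]),
  (144, [3, 134]),
  (143, [3, 134]),
  (148, [3, 99]),
  (151, [3, 99]),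
  (115, [86, 134]),
  (157, [3]),
  (96, [3]),
  (118, [109, 134]),
  (184, []),
  (120, [109, 134]),
  (121, [109, 135]),
  (122, [109, 135]),
  (123, [109, 135]),
  (124, [109, 135]),
  (166, [3, 97, 135]),
  (75, []),
  (167, [3, 97, 135]),
  (168, [3, 97, 135]),
  (130, [77]),
  (129, [77]),
  (131, [91]),
  (132, [77]),
  (133, [93]),
  (209, []),
  (212, []),
  (81, []),
  (110, [3, 102]),
  (217, []),
  (173, [3, 99, 135]),
  (83, []),
  (174, [3]),
  (84, []),
  (112, [3, 86])]

/-- The moves by letter 8, a part. -/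
def certMoves8Part4 : List (ℕ × List ℕ) := [
  (111, [3, 86]),
  (145, [105, 135]),
  (227, []),
  (87, []),
  (113, [3, 97, 135]),
  (177, [3, 87, 134]),
  (88, []),
  (114, [3, 97, 135]),
  (152, [86, 134]),
  (153, [86, 134]),
  (178, [3]),
  (155, [86]),
  (94, []),
  (116, [3]),
  (159, [89, 134]),
  (158, [89, 134]),
  (160, [103, 130]),
  (161, [103, 130]),
  (185, [3, 110]),
  (163, [108, 134]),
  (164, [108, 134]),
  (106, [7, 3, 42, 67, 97, 135]),
  (125, [3, 99]),
  (127, [3, 99]),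
  (128, [3, 99]),
  (169, [91]),
  (210, [3, 134]),
  (213, [3, 95, 135]),
  (218, [3]),
  (139, [3, 108]),
  (141, [3]),
  (175, [110, 134]),
  (228, [3, 99]),
  (149, [3, 87, 134]),
  (154, [3]),
  (179, [134])]

/-- The moves by letter 8, a part. -/
def certMoves8Part5 : List (ℕ × List ℕ) := [
  (262, []),
  (181, [109, 134]),
  (267, []),
  (269, []),
  (119, []),
  (162, [3, 106, 135]),
  (186, [109, 135]),
  (278, []),
  (188, [109, 135]),
  (189, [94, 130]),
  (190, [109, 135]),
  (191, [109, 135]),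
  (192, [109, 135]),
  (244, [3, 97, 135]),
  (245, [3, 97, 135]),
  (196, [135]),
  (195, [135]),
  (291, []),
  (247, [3, 97, 135]),
  (203, [77]),
  (200, [77, 135]),
  (202, [77]),
  (201, [77]),
  (199, [77]),
  (204, [27]),
  (205, [27]),
  (206, [105, 135]),
  (306, []),
  (251, [3, 99, 135]),
  (134, []),
  (170, [3, 86]),
  (252, [3, 95, 135]),
  (135, []),
  (171, [3, 95, 135]),
  (253, [3]),
  (254, [3, 99, 135])]

/-- The moves by letter 8, a part. -/
def certMoves8Part6 : List (ℕ × List ℕ) := [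
  (216, [86]),
  (138, []),
  (172, [3]),
  (220, [93]),
  (219, [93]),
  (222, [89, 134]),
  (221, [89, 134]),
  (223, [105, 135]),
  (224, [105, 135]),
  (257, [3, 87, 134]),
  (328, []),
  (146, []),
  (176, [3, 97, 135]),
  (229, [105, 135]),
  (231, [102, 134]),
  (230, [102, 134]),
  (331, []),
  (235, []),
  (234, [86]),
  (233, []),
  (236, [86]),
  (237, [103, 130]),
  (263, [3, 95, 134]),
  (271, [3, 110]),
  (270, [3, 110]),
  (241, [108, 134]),
  (279, [3, 108]),
  (243, [94, 130]),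
  (193, [3, 99]),
  (194, [3, 99]),
  (292, [3, 110]),
  (198, [3, 99]),
  (248, [77, 135]),
  (249, [110, 134]),
  (307, [3, 134]),
  (208, [3, 108])]

/-- The moves by letter 8, a part. -/
def certMoves8Part7 : List (ℕ × List ℕ) := [
  (211, [3, 95, 135]),
  (214, [3]),
  (215, [3, 108]),
  (255, [134]),
  (256, [110, 134]),
  (225, [3, 87, 134]),
  (329, [3, 102]),
  (332, [3, 88, 134]),
  (365, []),
  (368, []),
  (180, []),
  (238, [3, 92]),
  (372, []),
  (377, []),
  (380, []),
  (182, []),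
  (338, [3, 92, 130]),
  (183, []),
  (240, [3, 106, 135]),
  (239, [3, 106, 135]),
  (272, [94, 130]),
  (389, []),
  (274, [90, 130]),
  (275, [109, 135]),
  (276, [109, 135]),
  (394, []),
  (187, []),
  (242, [3, 99, 135]),
  (280, [94, 130]),
  (281, [85, 130]),
  (398, []),
  (344, [3, 97, 135]),
  (284, [77]),
  (286, [77]),
  (285, [77]),
  (287, [77, 135])]

/-- The moves by letter 8, a part. -/
def certMoves8Part8 : List (ℕ × List ℕ) := [
  (289, [107, 130]),
  (288, [107, 130]),
  (411, []),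
  (197, []),
  (246, [3, 106, 135]),
  (293, [77, 135]),
  (415, []),
  (296, [102, 134]),
  (295, [102, 134]),
  (297, [77, 135]),
  (298, [77, 135]),
  (299, [105, 135]),
  (300, [77]),
  (301, [105, 135]),
  (302, [105, 135]),
  (352, [3, 95, 135]),
  (353, [3, 99, 135]),
  (432, []),
  (207, []),
  (250, [3, 86]),
  (309, [103, 135]),
  (308, [103, 135]),
  (311, []),
  (310, []),
  (312, [95, 135]),
  (437, []),
  (319, []),
  (315, [27, 135]),
  (317, [106]),
  (316, [106]),
  (318, [86]),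
  (314, []),
  (320, [86]),
  (321, [84, 130]),
  (446, []),
  (323, [105, 135])]

/-- The moves by letter 8, a part. -/
def certMoves8Part9 : List (ℕ × List ℕ) := [
  (324, [105, 135]),
  (450, []),
  (327, [102, 134]),
  (326, [102, 134]),
  (226, []),
  (258, [3, 108, 130]),
  (452, []),
  (232, []),
  (259, [3, 88, 134]),
  (366, [3, 95, 134]),
  (369, [3, 95, 134]),
  (373, [3, 98]),
  (378, [3, 92, 130]),
  (381, [3, 108]),
  (268, [3, 92, 130]),
  (339, [94, 130]),
  (390, [3, 108]),
  (341, [86, 130]),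
  (395, [3, 108]),
  (399, [3, 110]),
  (283, [3, 99]),
  (345, [95]),
  (346, [77, 135]),
  (412, [3, 110]),
  (348, [77, 135]),
  (416, [3, 88, 134]),
  (350, [110, 134]),
  (351, [95]),
  (303, [3, 95, 135]),
  (304, [3, 108]),
  (433, [3, 101, 134]),
  (355, [95, 135]),
  (439, [3, 88, 134]),
  (357, [89, 135]),
  (358, [84, 130]),
  (447, [3, 108, 130])]

/-- The moves by letter 8, a part. -/
def certMoves8Part10 : List (ℕ × List ℕ) := [
  (451, [3, 98, 130]),
  (453, [3, 88, 134]),
  (490, []),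
  (494, []),
  (364, [109, 135]),
  (260, []),
  (333, [3, 92]),
  (457, [3, 92, 130]),
  (261, []),
  (334, [3, 92]),
  (505, []),
  (459, [3, 88]),
  (264, []),
  (335, [3, 110, 135]),
  (460, [3, 92, 130]),
  (515, []),
  (376, [109, 134]),
  (265, []),
  (336, [3, 92, 130]),
  (520, []),
  (266, []),
  (337, [3, 99, 135]),
  (383, [105, 130]),
  (382, [105, 130]),
  (464, [3, 27]),
  (385, [111, 135]),
  (386, [94, 130]),
  (530, []),
  (388, [87]),
  (273, []),
  (340, [3, 99, 135]),
  (391, [90, 130]),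
  (392, [94, 130]),
  (393, [87, 130]),
  (277, []),
  (342, [3, 99, 135])]

/-- The moves by letter 8, a part. -/
def certMoves8Part11 : List (ℕ × List ℕ) := [
  (538, []),
  (469, [3, 88]),
  (282, []),
  (343, [3, 106, 135]),
  (400, [77, 135]),
  (401, [77]),
  (550, []),
  (404, [77]),
  (403, [77]),
  (405, [77]),
  (406, [77]),
  (407, [77, 135]),
  (408, [77, 135]),
  (473, [3, 86, 134]),
  (556, []),
  (290, []),
  (347, [3, 106, 135]),
  (413, [109, 134]),
  (414, [77, 135]),
  (294, []),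
  (349, [3, 88, 134]),
  (417, [77, 135]),
  (418, [84, 130]),
  (419, [77]),
  (569, []),
  (421, [105, 135]),
  (422, [105, 135]),
  (423, [77]),
  (424, [77]),
  (425, [95, 135]),
  (575, []),
  (428, [95, 130]),
  (427, [78, 130]),
  (481, [3, 100]),
  (431, [103, 135]),
  (430, [103, 135])]

/-- The moves by letter 8, a part. -/
def certMoves8Part12 : List (ℕ × List ℕ) := [
  (305, []),
  (354, [3, 103, 130]),
  (482, [3, 100, 135]),
  (435, [95, 135]),
  (584, []),
  (313, []),
  (438, [95, 135]),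
  (356, [3, 88, 134]),
  (440, [27, 135]),
  (441, [27, 135]),
  (442, [91, 135]),
  (485, [3, 102]),
  (444, [84, 130]),
  (594, []),
  (322, []),
  (359, [3, 102]),
  (448, [84, 130]),
  (596, []),
  (325, []),
  (360, [3, 111]),
  (330, []),
  (361, [3, 88, 134]),
  (499, [3, 99]),
  (495, [3, 95, 134]),
  (456, [108, 134]),
  (367, [3, 92, 130]),
  (506, [3, 98]),
  (371, [3, 89, 134]),
  (374, [3, 92, 130]),
  (516, [3, 108]),
  (462, [103, 130]),
  (521, [3, 134]),
  (384, [3, 27]),
  (465, [106, 134]),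
  (531, [3, 27]),
  (467, [27, 134])]

/-- The moves by letter 8, a part. -/
def certMoves8Part13 : List (ℕ × List ℕ) := [
  (539, [3, 110]),
  (397, [3, 89, 134]),
  (470, [77, 135]),
  (471, [95]),
  (551, [3, 88, 134]),
  (409, [3, 86, 134]),
  (557, [3, 86, 134]),
  (475, [103, 130]),
  (476, [84, 130]),
  (477, [95]),
  (570, [3, 102]),
  (479, [95, 135]),
  (576, [3, 111]),
  (429, [3, 98, 135]),
  (434, [3, 106]),
  (585, [3, 88, 134]),
  (484, [89, 135]),
  (443, [3, 108, 130]),
  (595, [3, 78, 135]),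
  (597, [3, 98, 130]),
  (643, []),
  (647, []),
  (362, []),
  (600, [3, 92, 130]),
  (492, [109, 135]),
  (493, [109, 134]),
  (363, []),
  (455, [3, 92]),
  (496, [109, 135]),
  (497, [109, 135]),
  (498, [109, 135]),
  (454, [3, 97, 135]),
  (501, [90, 135]),
  (500, [90, 135]),
  (604, [3, 86, 134]),
  (605, [3, 88])]

/-- The moves by letter 8, a part. -/
def certMoves8Part14 : List (ℕ × List ℕ) := [
  (504, [103, 130]),
  (370, []),
  (458, [3, 110, 135]),
  (607, [3, 88]),
  (509, [105, 135]),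
  (508, [105, 135]),
  (608, [3, 27]),
  (679, []),
  (519, []),
  (682, []),
  (685, []),
  (375, []),
  (461, [3, 99, 135]),
  (517, [109, 134]),
  (518, [101, 134]),
  (512, []),
  (379, []),
  (463, [3, 86]),
  (612, [3, 27]),
  (691, []),
  (525, [106]),
  (524, [106]),
  (526, [111, 135]),
  (527, [111, 135]),
  (528, [102, 135]),
  (529, [87]),
  (387, []),
  (466, [3, 27]),
  (532, [87]),
  (533, [87]),
  (534, [87]),
  (617, [3, 86, 134]),
  (618, [3, 88]),
  (711, []),
  (396, []),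
  (468, [3, 106, 135])]

/-- The moves by letter 8, a part. -/
def certMoves8Part15 : List (ℕ × List ℕ) := [
  (620, [3, 88]),
  (542, [101, 135]),
  (541, [101, 135]),
  (543, [91]),
  (544, [109, 134]),
  (545, [77, 135]),
  (546, [77, 135]),
  (623, [3, 94]),
  (548, [77]),
  (549, [93]),
  (402, []),
  (472, [3, 88, 134]),
  (726, []),
  (554, [101, 134]),
  (553, [101, 134]),
  (729, []),
  (410, []),
  (474, [3, 86, 134]),
  (558, [109, 134]),
  (559, [109, 134]),
  (560, [109, 134]),
  (561, [91]),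
  (628, [3, 108, 130]),
  (563, [84, 130]),
  (564, [92, 130]),
  (629, [3, 98, 135]),
  (566, [77]),
  (567, [93]),
  (744, []),
  (420, []),
  (478, [3, 108, 130]),
  (631, [3, 106]),
  (572, [95, 135]),
  (573, [78, 135]),
  (750, []),
  (426, [])]

/-- The moves by letter 8, a part. -/
def certMoves8Part16 : List (ℕ × List ℕ) := [
  (480, [3, 98, 130]),
  (633, [3, 100]),
  (579, [98, 135]),
  (578, [108, 135]),
  (634, [3, 100, 135]),
  (635, [3, 100, 135]),
  (583, [103, 134]),
  (582, [105, 134]),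
  (436, []),
  (483, [3, 88, 134]),
  (586, [91]),
  (587, [27, 135]),
  (588, [91, 135]),
  (637, [3, 102]),
  (638, [3, 102]),
  (592, [91, 135]),
  (591, [91, 135]),
  (639, [3, 94]),
  (445, []),
  (486, [3, 78, 135]),
  (449, []),
  (487, [3, 111]),
  (644, [3, 86, 134]),
  (648, [3, 108]),
  (491, [3, 92, 130]),
  (601, [108, 134]),
  (602, [103, 130]),
  (603, [108, 134]),
  (502, [3, 86, 134]),
  (503, [3, 89, 134]),
  (606, [109, 134]),
  (507, [3, 89, 134]),
  (510, [3, 27]),
  (680, [3, 92, 134]),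
  (683, [3, 134]),
  (686, [3, 98, 135])]

/-- The moves by letter 8, a part. -/
def certMoves8Part17 : List (ℕ × List ℕ) := [
  (522, [3, 27]),
  (692, [3, 106]),
  (614, [106, 134]),
  (615, [27, 134]),
  (616, [27, 134]),
  (535, [3, 86, 134]),
  (536, [3, 89, 134]),
  (712, [3, 97]),
  (540, [3, 89, 134]),
  (621, [91]),
  (622, [103, 130]),
  (547, [3, 93, 134]),
  (727, [3, 108, 130]),
  (730, [3, 84, 130]),
  (626, [103, 130]),
  (627, [91]),
  (562, [3, 102]),
  (565, [3, 100]),
  (745, [3, 90, 134]),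
  (571, [3, 100, 135]),
  (751, [3, 111]),
  (577, [3, 98, 135]),
  (580, [3, 106]),
  (581, [3, 106]),
  (636, [91]),
  (589, [3, 108, 130]),
  (590, [3, 108, 130]),
  (593, [3, 93, 134]),
  (772, [3, 86, 134]),
  (826, []),
  (642, [103, 130]),
  (488, []),
  (598, [3, 86, 134]),
  (833, []),
  (834, []),
  (489, [])]

/-- The moves by letter 8, a part. -/
def certMoves8Part18 : List (ℕ × List ℕ) := [
  (599, [3, 99, 135]),
  (649, [94, 130]),
  (842, []),
  (652, [90, 135]),
  (651, [90, 135]),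
  (653, [109, 135]),
  (848, []),
  (655, [109, 135]),
  (656, [109, 135]),
  (657, [109, 134]),
  (658, [109, 134]),
  (659, [109, 135]),
  (660, [109, 135]),
  (661, [86, 134]),
  (856, []),
  (664, [107, 134]),
  (663, [104, 134]),
  (783, [3, 88]),
  (862, []),
  (668, [105, 135]),
  (667, [105, 135]),
  (669, [103, 130]),
  (670, [103, 130]),
  (671, [105, 130]),
  (673, [105, 135]),
  (672, [105, 135]),
  (786, [3, 27]),
  (872, []),
  (677, [106]),
  (676, [106]),
  (874, []),
  (511, []),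
  (609, [3, 94, 134]),
  (877, []),
  (513, []),
  (610, [3, 86])]

/-- The moves by letter 8, a part. -/
def certMoves8Part19 : List (ℕ × List ℕ) := [
  (880, []),
  (514, []),
  (611, [3, 100]),
  (884, []),
  (693, [106]),
  (888, []),
  (890, []),
  (523, []),
  (613, [3, 100, 135]),
  (688, [106]),
  (694, [111, 135]),
  (695, [102, 135]),
  (696, [87]),
  (697, [87]),
  (698, [87]),
  (699, [86, 134]),
  (700, [87]),
  (701, [87]),
  (702, [86, 134]),
  (903, []),
  (705, [101, 134]),
  (704, [101, 134]),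
  (798, [3, 88]),
  (799, [3, 93, 134]),
  (709, [91, 134]),
  (708, [91, 134]),
  (910, []),
  (537, []),
  (619, [3, 112, 135]),
  (714, [101, 135]),
  (713, [101, 135]),
  (715, [94, 134]),
  (716, [27]),
  (717, [109, 134]),
  (718, [109, 134]),
  (719, [109, 134])]

/-- The moves by letter 8, a part. -/
def certMoves8Part20 : List (ℕ × List ℕ) := [
  (720, [27]),
  (803, [3, 94]),
  (723, [106]),
  (722, [106]),
  (922, []),
  (924, []),
  (552, []),
  (624, [3, 102]),
  (806, [3, 93, 134]),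
  (555, []),
  (625, [3, 84, 130]),
  (731, [109, 134]),
  (732, [109, 134]),
  (733, [89, 135]),
  (734, [27]),
  (808, [3, 108, 130]),
  (809, [3, 108, 130]),
  (738, [89, 135]),
  (737, [89, 135]),
  (739, [27]),
  (810, [3, 98, 135]),
  (742, [112]),
  (741, [100]),
  (938, []),
  (568, []),
  (630, [3, 90, 134]),
  (812, [3, 106]),
  (813, [3, 106]),
  (749, [109]),
  (748, [101]),
  (574, []),
  (632, [3, 98, 130]),
  (752, [77, 135]),
  (754, [105, 130]),
  (753, [105, 130]),
  (755, [77])]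

/-- The moves by letter 8, a part. -/
def certMoves8Part21 : List (ℕ × List ℕ) := [
  (816, [3, 100, 135]),
  (758, [104, 135]),
  (757, [104, 135]),
  (760, [103, 134]),
  (759, [105, 134]),
  (761, [27]),
  (762, [27]),
  (817, [3, 102]),
  (764, [94, 134]),
  (766, [94, 134]),
  (765, [94, 134]),
  (768, [91, 135]),
  (767, [91, 135]),
  (819, [3, 94]),
  (771, [90, 134]),
  (770, [90, 134]),
  (640, [3, 86, 134]),
  (827, [3, 108]),
  (774, [109, 134]),
  (836, [3, 108]),
  (835, [3, 108]),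
  (777, [94, 130]),
  (843, [3, 112, 135]),
  (779, [108, 134]),
  (849, [3, 100]),
  (781, [86, 134]),
  (857, [3, 102]),
  (665, [3, 89, 134]),
  (863, [3, 100]),
  (785, [109, 134]),
  (674, [3, 27]),
  (873, [3, 100, 135]),
  (875, [3, 92, 134]),
  (878, [3, 27]),
  (881, [3, 98, 135]),
  (885, [3, 90, 134])]

/-- The moves by letter 8, a part. -/
def certMoves8Part22 : List (ℕ × List ℕ) := [
  (889, [3, 106]),
  (891, [3, 106]),
  (794, [27, 134]),
  (795, [86, 134]),
  (796, [86, 134]),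
  (904, [3, 111, 135]),
  (706, [3, 89, 134]),
  (707, [3, 94]),
  (911, [3, 84, 130]),
  (801, [84, 134]),
  (802, [103, 130]),
  (721, [3, 93, 134]),
  (923, [3, 108, 130]),
  (925, [3, 108, 130]),
  (728, [3, 94]),
  (807, [27, 135]),
  (735, [3, 102]),
  (736, [3, 102]),
  (740, [3, 100]),
  (939, [3, 101, 135]),
  (746, [3, 100, 135]),
  (747, [3, 100, 135]),
  (814, [77, 135]),
  (815, [95]),
  (756, [3, 106]),
  (763, [3, 108, 130]),
  (818, [84, 134]),
  (769, [3, 93, 134]),
  (959, [3]),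
  (1009, []),
  (831, []),
  (1013, []),
  (1015, []),
  (1017, []),
  (641, []),
  (773, [3, 99, 135])]

/-- The moves by letter 8, a part. -/
def certMoves8Part23 : List (ℕ × List ℕ) := [
  (828, [103, 130]),
  (829, [103, 130]),
  (830, [103, 130]),
  (822, []),
  (1021, []),
  (645, []),
  (646, []),
  (776, [3, 99, 135]),
  (775, [3, 99, 135]),
  (837, [94, 130]),
  (967, [3, 98, 134]),
  (839, [94, 130]),
  (840, [85, 130]),
  (1030, []),
  (650, []),
  (778, [3, 97]),
  (1033, []),
  (845, [109, 135]),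
  (846, [109, 135]),
  (1035, []),
  (654, []),
  (780, [3, 98, 135]),
  (850, [86, 134]),
  (851, [27, 134]),
  (852, [86, 134]),
  (853, [88, 134]),
  (1044, []),
  (1046, []),
  (662, []),
  (782, [3, 108, 130]),
  (1049, []),
  (860, [27, 134]),
  (859, [27, 134]),
  (1051, []),
  (666, []),
  (784, [3, 98, 135])]

/-- The moves by letter 8, a part. -/
def certMoves8Part24 : List (ℕ × List ℕ) := [
  (1053, []),
  (865, [103, 130]),
  (866, [103, 130]),
  (1057, []),
  (869, [91, 134]),
  (868, [91, 134]),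
  (1060, []),
  (1062, []),
  (675, []),
  (787, [3, 106]),
  (678, []),
  (788, [3, 94, 134]),
  (1066, []),
  (681, []),
  (789, [3, 27]),
  (982, [3, 87, 134]),
  (684, []),
  (790, [3, 100]),
  (1073, []),
  (1075, []),
  (687, []),
  (791, [3, 90, 134]),
  (985, [3, 88]),
  (1080, []),
  (689, []),
  (792, [3, 100, 135]),
  (690, []),
  (793, [3, 100, 135]),
  (892, [86, 134]),
  (893, [90, 130]),
  (894, [87]),
  (895, [87]),
  (896, [86, 134]),
  (897, [88, 134]),
  (898, [86, 134]),
  (990, [3, 91, 134])]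

/-- The moves by letter 8, a part. -/
def certMoves8Part25 : List (ℕ × List ℕ) := [
  (900, [86, 134]),
  (1090, []),
  (1091, []),
  (703, []),
  (797, [3, 106, 134]),
  (905, [88, 134]),
  (907, [91, 134]),
  (906, [91, 134]),
  (909, [100, 135]),
  (908, [100, 135]),
  (710, []),
  (800, [3, 84, 130]),
  (912, [94, 134]),
  (913, [94, 134]),
  (914, [94, 134]),
  (915, [94, 134]),
  (916, [109, 134]),
  (917, [109, 134]),
  (919, [88, 135]),
  (918, [88, 135]),
  (1099, []),
  (996, [3, 91, 134]),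
  (724, []),
  (804, [3, 102]),
  (725, []),
  (805, [3, 102]),
  (927, [90, 134]),
  (926, [90, 134]),
  (928, [89, 135]),
  (929, [89, 135]),
  (930, [135]),
  (998, [3, 108, 130]),
  (935, [89, 135]),
  (934, [89, 135]),
  (933, [89, 135]),
  (932, [89, 135])]

/-- The moves by letter 8, a part. -/
def certMoves8Part26 : List (ℕ × List ℕ) := [
  (937, [101, 134]),
  (936, [101, 134]),
  (743, []),
  (811, [3, 98, 134]),
  (999, [3, 97, 135]),
  (944, [109]),
  (943, [100, 134]),
  (942, [100, 134]),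
  (941, [101]),
  (945, [77, 135]),
  (946, [77, 135]),
  (947, [77]),
  (948, [77]),
  (950, [104, 135]),
  (949, [104, 135]),
  (951, [77]),
  (952, [94, 134]),
  (954, [94, 134]),
  (953, [94, 134]),
  (955, [94, 134]),
  (956, [94, 134]),
  (958, [90, 134]),
  (957, [90, 134]),
  (820, [3]),
  (1010, [3, 106, 134]),
  (1014, [3]),
  (1016, [3, 108]),
  (1018, [3, 98, 135]),
  (964, [109, 134]),
  (1022, [3, 108]),
  (966, [94, 130]),
  (838, [3, 101, 135]),
  (1031, [3, 112, 135]),
  (1034, [3, 101, 135]),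
  (1036, [3, 100]),
  (971, [86, 134])]

/-- The moves by letter 8, a part. -/
def certMoves8Part27 : List (ℕ × List ℕ) := [
  (972, [87]),
  (1045, [3, 102]),
  (1047, [3, 102]),
  (1050, [3, 91]),
  (1052, [3, 100]),
  (1054, [3, 108, 135]),
  (1058, [3, 134]),
  (1061, [3, 100, 135]),
  (1063, [3, 100, 135]),
  (1067, [3, 90, 134]),
  (879, [3, 87, 134]),
  (1074, [3, 134]),
  (1076, [3, 90, 134]),
  (886, [3, 89, 134]),
  (1081, [3, 106]),
  (987, [86, 134]),
  (988, [86, 130]),
  (989, [86, 134]),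
  (899, [3, 90]),
  (1093, [3, 111, 135]),
  (1092, [3, 111, 135]),
  (993, [84, 134]),
  (994, [84, 134]),
  (1100, [3, 108, 130]),
  (921, [3, 90]),
  (997, [27, 135]),
  (931, [3, 102]),
  (940, [3, 99]),
  (1000, [95]),
  (1001, [84, 134]),
  (1113, [3]),
  (1114, [3]),
  (1143, []),
  (1006, [108]),
  (1005, [108]),
  (1146, [])]

/-- The moves by letter 8, a part. -/
def certMoves8Part28 : List (ℕ × List ℕ) := [
  (1148, []),
  (821, []),
  (960, [3, 111, 135]),
  (1150, []),
  (1152, []),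
  (823, []),
  (961, [3]),
  (824, []),
  (962, [3, 99, 135]),
  (825, []),
  (963, [3, 100]),
  (1019, [103, 130]),
  (1020, [103, 130]),
  (832, []),
  (965, [3, 99, 135]),
  (1120, [3, 98, 134]),
  (1024, [94, 130]),
  (1121, [3, 98, 134]),
  (1122, [3, 98, 134]),
  (1028, [91, 130]),
  (1027, [91, 130]),
  (1029, [85, 130]),
  (841, []),
  (968, [3, 97]),
  (1163, []),
  (844, []),
  (969, [3, 98, 134]),
  (847, []),
  (970, [3, 98, 135]),
  (1037, [27, 134]),
  (1038, [86, 134]),
  (1039, [27, 134]),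
  (1040, [27, 134]),
  (1041, [27, 134]),
  (1042, [88, 134]),
  (1170, [])]

/-- The moves by letter 8, a part. -/
def certMoves8Part29 : List (ℕ × List ℕ) := [
  (854, []),
  (973, [3, 108, 130]),
  (855, []),
  (974, [3, 108, 130]),
  (1172, []),
  (858, []),
  (975, [3, 91]),
  (861, []),
  (976, [3, 98, 135]),
  (864, []),
  (977, [3, 112]),
  (1176, []),
  (1177, []),
  (867, []),
  (978, [3, 86]),
  (1180, []),
  (870, []),
  (979, [3, 106]),
  (871, []),
  (980, [3, 106]),
  (1131, [3, 87, 134]),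
  (1065, [109, 134]),
  (876, []),
  (981, [3, 90, 134]),
  (1069, [103, 130]),
  (1068, [103, 130]),
  (1133, [3, 88]),
  (1191, []),
  (1072, [111, 135]),
  (882, []),
  (983, [3, 86]),
  (883, []),
  (984, [3, 90, 134]),
  (1136, [3, 88]),
  (1079, [107, 135]),
  (1078, [107, 135])]

/-- The moves by letter 8, a part. -/
def certMoves8Part30 : List (ℕ × List ℕ) := [
  (887, []),
  (986, [3, 100, 135]),
  (1082, [86]),
  (1083, [86, 134]),
  (1084, [90, 130]),
  (1085, [86, 134]),
  (1086, [87, 130]),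
  (1087, [86, 134]),
  (1089, [101, 134]),
  (1088, [101, 134]),
  (901, []),
  (902, []),
  (992, [3, 106, 134]),
  (991, [3, 106, 134]),
  (1094, [88, 134]),
  (1095, [94, 134]),
  (1096, [94, 134]),
  (1097, [94, 134]),
  (1098, [94, 134]),
  (920, []),
  (995, [3, 102]),
  (1102, [108]),
  (1101, [108]),
  (1103, [89, 135]),
  (1104, [135]),
  (1106, [92, 134]),
  (1105, [92, 134]),
  (1108, [102, 134]),
  (1107, [102, 134]),
  (1109, [77]),
  (1110, [77]),
  (1111, [94, 134]),
  (1112, [94, 134]),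
  (1002, [3]),
  (1003, [3]),
  (1144, [3, 100, 135])]

/-- The moves by letter 8, a part. -/
def certMoves8Part31 : List (ℕ × List ℕ) := [
  (1147, [3, 110]),
  (1149, [3, 106, 134]),
  (1151, [3]),
  (1153, [3, 98, 134]),
  (1023, [3, 101, 135]),
  (1025, [3, 101, 135]),
  (1026, [3, 101, 135]),
  (1164, [3, 85, 130]),
  (1124, [87]),
  (1125, [87]),
  (1171, [3, 102]),
  (1173, [3, 90, 134]),
  (1179, [3, 134]),
  (1178, [3, 88]),
  (1181, [3, 99]),
  (1064, [3, 87, 134]),
  (1132, [103, 130]),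
  (1070, [3, 89, 134]),
  (1192, [3, 134]),
  (1135, [106, 134]),
  (1077, [3, 89, 134]),
  (1137, [134]),
  (1201, [3]),
  (1215, []),
  (1145, [108]),
  (1142, [108]),
  (1141, [108]),
  (1004, []),
  (1115, [3, 106]),
  (1140, [108]),
  (1007, []),
  (1116, [3, 106, 135]),
  (1008, []),
  (1117, [3, 111, 135]),
  (1011, []),
  (1118, [3])]

/-- The moves by letter 8, a part. -/
def certMoves8Part32 : List (ℕ × List ℕ) := [
  (1012, []),
  (1119, [3, 101, 135]),
  (1203, [3, 98, 134]),
  (1204, [3, 98, 134]),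
  (1157, [94, 130]),
  (1156, [94, 130]),
  (1159, [27, 134]),
  (1158, [27, 134]),
  (1161, [91, 130]),
  (1160, [91, 130]),
  (1162, [109, 134]),
  (1032, []),
  (1123, [3, 85, 130]),
  (1165, [27, 134]),
  (1166, [27, 134]),
  (1167, [27, 134]),
  (1168, [27, 134]),
  (1169, [27, 134]),
  (1043, []),
  (1126, [3, 108, 130]),
  (1048, []),
  (1127, [3, 90, 134]),
  (1228, []),
  (1230, []),
  (1055, []),
  (1056, []),
  (1129, [3, 89, 134]),
  (1128, [3, 86]),
  (1059, []),
  (1130, [3, 97, 135]),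
  (1232, []),
  (1184, [86, 134]),
  (1183, [86, 134]),
  (1185, [109, 134]),
  (1186, [109, 134]),
  (1210, [3, 88])]

/-- The moves by letter 8, a part. -/
def certMoves8Part33 : List (ℕ × List ℕ) := [
  (1237, []),
  (1194, [89]),
  (1190, [111, 135]),
  (1071, []),
  (1134, [3, 86]),
  (1193, [111, 135]),
  (1189, [89]),
  (1195, [111, 135]),
  (1197, [107, 135]),
  (1196, [107, 135]),
  (1198, [86]),
  (1199, [86]),
  (1200, [88]),
  (1138, [3]),
  (1216, [3, 109, 135]),
  (1154, [3, 101, 135]),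
  (1155, [3, 101, 135]),
  (1205, [103, 130]),
  (1206, [87]),
  (1229, [3, 87, 134]),
  (1231, [3, 101, 135]),
  (1233, [3, 94, 130]),
  (1187, [3, 89, 134]),
  (1238, [3, 95, 134]),
  (1212, [106, 134]),
  (1213, [134]),
  (1217, [108]),
  (1139, []),
  (1202, [3, 108, 134]),
  (1214, [108]),
  (1248, []),
  (1221, []),
  (1222, [94, 130]),
  (1219, []),
  (1220, [94, 130]),
  (1223, [109, 134])]

/-- The moves by letter 8, a part. -/
def certMoves8Part34 : List (ℕ × List ℕ) := [
  (1224, [109, 134]),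
  (1225, [27, 134]),
  (1226, [27, 134]),
  (1250, []),
  (1174, []),
  (1207, [3, 87, 134]),
  (1175, []),
  (1208, [3, 98, 134]),
  (1182, []),
  (1209, [3, 94, 130]),
  (1253, []),
  (1240, [89]),
  (1255, []),
  (1188, []),
  (1211, [3, 92]),
  (1239, [111, 135]),
  (1235, [89]),
  (1241, [111, 135]),
  (1242, [86]),
  (1243, [88]),
  (1249, [3, 102]),
  (1251, [3, 102]),
  (1254, [3, 95, 134]),
  (1256, [3, 95, 134]),
  (1218, []),
  (1244, [3, 108, 130]),
  (1227, []),
  (1245, [3, 108, 130]),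
  (1258, []),
  (1234, []),
  (1246, [3, 92]),
  (1236, []),
  (1247, [3, 92]),
  (1259, [3, 95, 134]),
  (1252, []),
  (1257, [3, 92])]

/-- The moves by letter 8, in equal parts. -/
def certMoves8C : List (List (ℕ × List ℕ)) := [certMoves8Part0, certMoves8Part1, certMoves8Part2, certMoves8Part3, certMoves8Part4, certMoves8Part5, certMoves8Part6, certMoves8Part7, certMoves8Part8, certMoves8Part9, certMoves8Part10, certMoves8Part11, certMoves8Part12, certMoves8Part13, certMoves8Part14, certMoves8Part15, certMoves8Part16, certMoves8Part17, certMoves8Part18, certMoves8Part19, certMoves8Part20, certMoves8Part21, certMoves8Part22, certMoves8Part23, certMoves8Part24, certMoves8Part25, certMoves8Part26, certMoves8Part27, certMoves8Part28, certMoves8Part29, certMoves8Part30, certMoves8Part31, certMoves8Part32, certMoves8Part33, certMoves8Part34]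

/-- The moves by letter 8. -/
def certMoves8 : List (ℕ × List ℕ) := certMoves8C.flatten

/-- The moves by letter 9, a part. -/
def certMoves9Part0 : List (ℕ × List ℕ) := [
  (0, [111, 135]),
  (1, [106, 134]),
  (10, [111, 135]),
  (3, [111, 135]),
  (4, [111, 135]),
  (16, [7, 3, 42, 67, 105, 134]),
  (6, [106, 134]),
  (7, [106, 134]),
  (21, []),
  (25, [111, 135]),
  (2, [111, 135]),
  (11, [90, 130]),
  (12, [77]),
  (13, [111, 135]),
  (32, [7, 3, 42, 67, 105, 134]),
  (34, [7, 3, 42, 67, 105, 134]),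
  (5, [7, 3, 42, 67, 105, 134]),
  (17, [86, 130]),
  (18, [106, 134]),
  (19, [95]),
  (43, []),
  (8, []),
  (22, [91, 130]),
  (23, [91, 130]),
  (36, [3, 92]),
  (9, [111, 135]),
  (26, [109, 135]),
  (27, [90, 130]),
  (28, [77]),
  (29, [77]),
  (30, [77]),
  (60, [7, 3, 42, 67, 105, 134]),
  (14, [7, 3, 42, 67, 105, 134]),
  (33, [86, 135]),
  (15, [7, 3, 42, 67, 105, 134]),
  (35, [86, 135])]

/-- The moves by letter 9, a part. -/
def certMoves9Part1 : List (ℕ × List ℕ) := [
  (24, [3, 95, 134]),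
  (37, [86, 130]),
  (38, [108, 134]),
  (39, [95]),
  (40, [91, 130]),
  (41, [91, 130]),
  (62, [3, 92]),
  (20, []),
  (82, [109, 134]),
  (85, [109, 135]),
  (46, [91, 130]),
  (90, []),
  (48, [91, 130]),
  (68, [3, 92]),
  (51, [92, 134]),
  (50, [92, 134]),
  (52, [109, 135]),
  (53, [109, 135]),
  (54, [109, 135]),
  (55, [109, 135]),
  (56, [91]),
  (57, [77]),
  (58, [93]),
  (59, [86, 135]),
  (31, [7, 3, 42, 67, 105, 134]),
  (61, [86, 135]),
  (42, [3, 95, 134]),
  (63, [86, 135]),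
  (109, [7, 3, 42, 67, 105, 134]),
  (86, [3, 108]),
  (66, [86, 135]),
  (89, [3, 99]),
  (49, [3, 95, 134]),
  (69, [108, 134]),
  (70, [108, 134]),
  (71, [91])]

/-- The moves by letter 9, a part. -/
def certMoves9Part2 : List (ℕ × List ℕ) := [
  (120, []),
  (123, []),
  (74, [91, 130]),
  (126, [91, 130]),
  (129, []),
  (77, [91, 130]),
  (108, [3, 92]),
  (80, [87, 134]),
  (79, [87, 134]),
  (110, [3, 92]),
  (44, [109, 134]),
  (140, [109, 135]),
  (142, [109, 135]),
  (45, [109, 135]),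
  (65, [3, 99, 135]),
  (148, []),
  (151, []),
  (67, [3, 97, 135]),
  (47, []),
  (91, [90, 134]),
  (93, [93, 134]),
  (92, [77, 134]),
  (94, [109, 135]),
  (95, [109, 135]),
  (96, [94, 130]),
  (97, [109, 135]),
  (98, [109, 135]),
  (99, [109, 135]),
  (100, [27]),
  (101, [27]),
  (102, [86, 135]),
  (160, [7, 3, 42, 67, 105, 134]),
  (124, [3, 95, 134]),
  (105, [86, 135]),
  (165, [7, 3, 42, 67, 103]),
  (130, [3, 108])]

/-- The moves by letter 9, a part. -/
def certMoves9Part3 : List (ℕ × List ℕ) := [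
  (78, [3, 95, 134]),
  (64, [7, 3, 42, 67, 105, 134]),
  (81, [3, 95, 134]),
  (144, [3, 108]),
  (143, [3, 108]),
  (147, [3, 99]),
  (150, [3, 99]),
  (115, [90, 134]),
  (116, [108, 134]),
  (117, [94, 130]),
  (181, []),
  (162, [3, 92]),
  (72, []),
  (188, []),
  (190, []),
  (73, []),
  (104, [3, 92]),
  (195, []),
  (75, [91, 130]),
  (199, []),
  (201, []),
  (76, []),
  (107, [3, 99, 135]),
  (131, [90, 134]),
  (133, [86, 135]),
  (132, [86, 135]),
  (170, [3, 92]),
  (171, [3, 92]),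
  (137, [108]),
  (136, [108]),
  (217, [109, 135]),
  (219, []),
  (83, [109, 135]),
  (174, [3, 94, 130]),
  (84, [109, 135]),
  (112, [3, 99, 135])]

/-- The moves by letter 9, a part. -/
def certMoves9Part4 : List (ℕ × List ℕ) := [
  (111, [3, 99, 135]),
  (224, []),
  (228, []),
  (113, [3, 97, 135]),
  (87, []),
  (177, [3, 94, 130]),
  (114, [3, 97, 135]),
  (88, []),
  (152, [87, 134]),
  (153, [87, 134]),
  (154, [94, 130]),
  (155, [90, 130]),
  (156, [109, 135]),
  (157, [109, 135]),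
  (158, [94, 130]),
  (159, [85, 130]),
  (103, [7, 3, 42, 67, 105, 134]),
  (237, [7, 3, 42, 67, 135]),
  (119, [3, 95, 134]),
  (192, [3, 95, 134]),
  (191, [3, 95, 134]),
  (106, [7, 3, 42, 67, 103]),
  (196, [3, 112, 135]),
  (203, [3, 108]),
  (202, [3, 108]),
  (169, [90, 134]),
  (134, [3, 95, 134]),
  (135, [3, 95, 134]),
  (218, [3, 108, 134]),
  (220, [3, 110]),
  (141, [3, 94, 130]),
  (229, [3, 95, 134]),
  (227, [3, 99]),
  (149, [3, 94, 130]),
  (178, [94, 130]),
  (179, [86, 130])]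

/-- The moves by letter 9, a part. -/
def certMoves9Part5 : List (ℕ × List ℕ) := [
  (263, []),
  (118, []),
  (239, [3, 92]),
  (240, [3, 92]),
  (185, [109, 135]),
  (184, [109, 135]),
  (275, []),
  (279, []),
  (121, []),
  (243, [3, 94, 130]),
  (122, []),
  (164, [3, 92]),
  (163, [3, 92]),
  (285, []),
  (288, []),
  (125, []),
  (166, [3, 97]),
  (291, [105, 135]),
  (295, []),
  (127, []),
  (248, [3, 94, 130]),
  (128, []),
  (168, [3, 99, 135]),
  (167, [3, 99, 135]),
  (204, [90, 134]),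
  (205, [90, 134]),
  (301, []),
  (250, [3, 92]),
  (308, []),
  (210, [93]),
  (209, [93]),
  (211, [90, 134]),
  (213, [90, 135]),
  (212, [90, 135]),
  (253, [3, 94, 130]),
  (316, [])]

/-- The moves by letter 9, a part. -/
def certMoves9Part6 : List (ℕ × List ℕ) := [
  (216, [91, 130]),
  (138, [109, 135]),
  (172, [3, 109, 135]),
  (139, []),
  (173, [3, 106, 135]),
  (222, [94, 135]),
  (221, [85, 135]),
  (323, []),
  (145, []),
  (257, [3, 94, 130]),
  (226, [91, 130]),
  (176, [3, 97, 135]),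
  (146, []),
  (175, [3, 92]),
  (231, [107, 130]),
  (230, [107, 130]),
  (232, [111, 135]),
  (233, [94, 130]),
  (234, [90, 130]),
  (235, [94, 130]),
  (236, [87, 130]),
  (161, [7, 3, 42, 67, 135]),
  (262, [3, 95, 134]),
  (182, [3, 95, 134]),
  (183, [3, 95, 134]),
  (276, [3, 94, 130]),
  (278, [3, 108]),
  (189, [3, 94, 130]),
  (286, [3, 108]),
  (289, [3, 87, 134]),
  (292, [3, 89, 134]),
  (296, [3, 94, 130]),
  (200, [3, 94, 130]),
  (302, [3, 95, 134]),
  (207, [3, 95, 134]),
  (309, [3, 95, 134])]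

/-- The moves by letter 9, a part. -/
def certMoves9Part7 : List (ℕ × List ℕ) := [
  (252, [90, 134]),
  (214, [3, 94, 130]),
  (317, [3, 93, 135]),
  (255, [86, 135]),
  (324, [3, 93, 135]),
  (225, [3, 94, 130]),
  (258, [86, 135]),
  (259, [106, 134]),
  (366, []),
  (369, []),
  (238, [3, 92]),
  (180, []),
  (372, [105, 135]),
  (336, [3, 92]),
  (381, []),
  (271, [109, 135]),
  (268, [90, 134]),
  (270, [109, 135]),
  (269, [109, 135]),
  (267, [109, 135]),
  (339, [3, 94, 130]),
  (390, []),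
  (274, [91, 130]),
  (186, []),
  (241, [3, 94, 130]),
  (342, [3, 99, 135]),
  (242, [3, 99, 135]),
  (187, []),
  (281, [86, 135]),
  (280, [86, 135]),
  (282, [105, 135]),
  (403, []),
  (284, [105, 135]),
  (193, []),
  (244, [3, 99, 135]),
  (346, [3, 87, 134])]

/-- The moves by letter 9, a part. -/
def certMoves9Part8 : List (ℕ × List ℕ) := [
  (194, []),
  (245, [3, 87, 134]),
  (411, [105, 135]),
  (197, [105, 135]),
  (246, [3, 88]),
  (348, [3, 94, 130]),
  (294, [91, 130]),
  (198, []),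
  (247, [3, 94, 130]),
  (298, [109, 130]),
  (297, [101, 130]),
  (421, []),
  (351, [3, 92]),
  (206, []),
  (249, [3, 92]),
  (303, [90, 134]),
  (430, []),
  (432, [109, 134]),
  (307, [93]),
  (306, [93]),
  (208, []),
  (251, [3, 92]),
  (310, [90, 134]),
  (311, [90, 134]),
  (355, [3, 93, 135]),
  (437, [111, 135]),
  (319, [94, 130]),
  (315, [86, 135]),
  (215, []),
  (254, [3, 93, 135]),
  (318, [91, 130]),
  (314, [94, 130]),
  (320, [27, 130]),
  (358, [3, 93, 135]),
  (322, [86, 135]),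
  (223, [])]

/-- The moves by letter 9, a part. -/
def certMoves9Part9 : List (ℕ × List ℕ) := [
  (256, [3, 93, 135]),
  (450, [109, 134]),
  (327, [107, 130]),
  (326, [107, 130]),
  (328, [91, 130]),
  (329, [91, 130]),
  (330, [111, 135]),
  (331, [111, 135]),
  (332, [102, 135]),
  (365, [3, 95, 134]),
  (368, [3, 95, 134]),
  (373, [3, 95, 134]),
  (265, [3, 95, 134]),
  (380, [3, 108]),
  (338, [90, 134]),
  (272, [3, 94, 130]),
  (389, [3, 108]),
  (341, [86, 135]),
  (277, [3, 108]),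
  (343, [110, 134]),
  (404, [3, 108]),
  (345, [110, 134]),
  (287, [3, 87, 134]),
  (412, [3, 89, 134]),
  (293, [3, 94, 130]),
  (349, [86, 135]),
  (422, [3, 95, 134]),
  (300, [3, 95, 134]),
  (352, [90, 134]),
  (431, [3, 95, 134]),
  (433, [3, 93, 135]),
  (312, [3, 93, 135]),
  (439, [3, 105]),
  (357, [91, 130]),
  (321, [3, 93, 135]),
  (359, [91, 130])]

/-- The moves by letter 9, a part. -/
def certMoves9Part10 : List (ℕ × List ℕ) := [
  (451, [3, 90]),
  (361, [106, 134]),
  (362, [105, 135]),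
  (495, []),
  (364, [105, 135]),
  (333, [3, 92]),
  (260, []),
  (457, [3, 95, 135]),
  (334, [3, 92]),
  (261, []),
  (505, [105, 135]),
  (459, [3, 92]),
  (264, [105, 135]),
  (335, [3, 92]),
  (374, [90, 134]),
  (516, []),
  (517, []),
  (378, [130]),
  (377, [130]),
  (463, [3, 99, 135]),
  (337, [3, 99, 135]),
  (266, []),
  (382, [90, 134]),
  (383, [87, 134]),
  (464, [3, 93, 135]),
  (527, []),
  (392, []),
  (466, [3, 99, 135]),
  (388, [86, 135]),
  (340, [3, 99, 135]),
  (273, []),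
  (391, [91, 130]),
  (386, []),
  (393, [91, 130]),
  (395, []),
  (394, [])]

/-- The moves by letter 9, a part. -/
def certMoves9Part11 : List (ℕ × List ℕ) := [
  (396, [105, 135]),
  (541, []),
  (398, [105, 135]),
  (399, [105, 135]),
  (470, [3, 87, 134]),
  (401, [105, 135]),
  (550, [91, 130]),
  (283, []),
  (344, [3, 99, 135]),
  (405, [105, 135]),
  (406, [105, 135]),
  (408, []),
  (407, []),
  (473, [3, 93, 135]),
  (410, [86, 135]),
  (290, [105, 135]),
  (347, [3, 88]),
  (559, []),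
  (417, []),
  (415, [91, 130]),
  (416, [27, 130]),
  (414, []),
  (476, [3, 93, 135]),
  (477, [3, 92]),
  (569, [103, 130]),
  (299, []),
  (350, [3, 92]),
  (424, []),
  (423, []),
  (479, [3, 93, 135]),
  (426, [91, 130]),
  (427, [90, 134]),
  (428, [90, 134]),
  (578, []),
  (304, []),
  (353, [3, 92])]

/-- The moves by letter 9, a part. -/
def certMoves9Part12 : List (ℕ × List ℕ) := [
  (305, [109, 134]),
  (354, [3, 93, 135]),
  (582, []),
  (438, [106, 135]),
  (584, [111, 135]),
  (313, [111, 135]),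
  (435, [97, 135]),
  (356, [3, 112, 130]),
  (440, [86, 135]),
  (441, [86, 135]),
  (442, [86, 135]),
  (591, []),
  (448, []),
  (445, [86, 135]),
  (446, [86, 135]),
  (447, [86, 135]),
  (444, []),
  (596, [109, 134]),
  (325, [109, 134]),
  (360, [3, 91, 134]),
  (452, [111, 135]),
  (453, [102, 135]),
  (454, [110, 134]),
  (494, [3, 95, 134]),
  (456, [110, 134]),
  (367, [3, 95, 135]),
  (506, [3, 95, 134]),
  (371, [3, 95, 134]),
  (460, [90, 134]),
  (515, [3, 108]),
  (518, [3, 93, 135]),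
  (379, [3, 108]),
  (384, [3, 93, 135]),
  (528, [3, 77, 135]),
  (387, [3, 108]),
  (467, [91, 130])]

/-- The moves by letter 9, a part. -/
def certMoves9Part13 : List (ℕ × List ℕ) := [
  (468, [110, 134]),
  (542, [3, 108]),
  (400, [3, 87, 134]),
  (471, [110, 134]),
  (551, [3, 89, 130]),
  (409, [3, 93, 135]),
  (474, [91, 130]),
  (560, [3, 135]),
  (418, [3, 93, 135]),
  (419, [3, 95, 134]),
  (570, [3, 27, 134]),
  (425, [3, 93, 135]),
  (480, [86, 135]),
  (579, [3, 77, 135]),
  (583, [3, 85, 130]),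
  (585, [3, 105]),
  (484, [91, 130]),
  (592, [3, 108, 134]),
  (486, [91, 130]),
  (597, [3, 90]),
  (488, [105, 135]),
  (648, []),
  (490, [105, 135]),
  (600, [3, 95, 135]),
  (492, [105, 135]),
  (657, []),
  (455, [3, 92]),
  (363, []),
  (496, [77]),
  (497, [105, 135]),
  (498, [105, 135]),
  (499, [105, 135]),
  (501, [130]),
  (500, [130]),
  (604, [3, 93, 135]),
  (605, [3, 92])]

/-- The moves by letter 9, a part. -/
def certMoves9Part14 : List (ℕ × List ℕ) := [
  (670, []),
  (370, [105, 135]),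
  (458, [3, 92]),
  (507, [77]),
  (509, [109, 135]),
  (508, [109, 135]),
  (608, [3, 93, 135]),
  (511, [91, 130]),
  (512, [90, 134]),
  (610, [3, 99, 135]),
  (686, []),
  (461, [3, 99, 135]),
  (375, []),
  (376, []),
  (462, [3, 93, 135]),
  (519, [90, 134]),
  (521, [109, 135]),
  (520, [109, 135]),
  (522, [95, 135]),
  (692, []),
  (525, [100, 135]),
  (524, [100, 135]),
  (694, []),
  (385, []),
  (465, [3, 77, 135]),
  (529, [27, 135]),
  (531, [100, 135]),
  (530, [100, 135]),
  (532, [86, 135]),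
  (533, [86, 135]),
  (534, [86, 135]),
  (535, [84, 130]),
  (708, []),
  (711, [86, 135]),
  (538, [105, 135]),
  (539, [105, 135])]

/-- The moves by letter 9, a part. -/
def certMoves9Part15 : List (ℕ × List ℕ) := [
  (713, []),
  (397, []),
  (469, [3, 99, 135]),
  (543, [84, 130]),
  (718, []),
  (546, [103, 134]),
  (545, [105, 134]),
  (722, []),
  (548, [105, 135]),
  (549, [105, 135]),
  (402, [91, 130]),
  (472, [3, 90, 135]),
  (727, []),
  (554, [97, 135]),
  (553, [106, 135]),
  (555, [86, 135]),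
  (556, [86, 135]),
  (557, [88, 135]),
  (731, []),
  (413, []),
  (475, [3, 27, 135]),
  (561, [90, 134]),
  (737, []),
  (564, [91, 130]),
  (563, [91, 130]),
  (741, []),
  (567, [91, 130]),
  (566, [91, 130]),
  (744, [103, 130]),
  (420, [103, 130]),
  (478, [3, 87]),
  (748, []),
  (573, [91, 130]),
  (572, [91, 130]),
  (574, [91, 130]),
  (575, [91, 130])]

/-- The moves by letter 9, a part. -/
def certMoves9Part16 : List (ℕ × List ℕ) := [
  (576, [91, 130]),
  (753, []),
  (429, []),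
  (481, [3, 77, 135]),
  (757, []),
  (759, []),
  (434, []),
  (482, [3, 85, 130]),
  (436, [111, 135]),
  (483, [3, 112, 130]),
  (586, [90, 134]),
  (587, [86, 135]),
  (588, [86, 135]),
  (765, []),
  (767, []),
  (443, []),
  (485, [3, 109, 135]),
  (593, [90, 134]),
  (594, [86, 135]),
  (595, [86, 135]),
  (449, [109, 134]),
  (487, [3, 91, 134]),
  (598, [110, 134]),
  (647, [3, 108]),
  (491, [3, 95, 135]),
  (601, [110, 134]),
  (658, [3, 108, 130]),
  (603, [95]),
  (502, [3, 93, 135]),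
  (503, [3, 95, 134]),
  (671, [3, 77, 135]),
  (607, [95]),
  (510, [3, 93, 135]),
  (609, [86, 135]),
  (513, [3, 108]),
  (685, [3, 98, 135])]

/-- The moves by letter 9, a part. -/
def certMoves9Part17 : List (ℕ × List ℕ) := [
  (612, [95, 135]),
  (691, [3, 106]),
  (695, [3, 77, 135]),
  (615, [89, 135]),
  (616, [91, 130]),
  (617, [84, 130]),
  (709, [3, 87, 134]),
  (712, [3, 108, 130]),
  (714, [3, 108]),
  (621, [84, 130]),
  (719, [3, 108, 130]),
  (723, [3, 108, 130]),
  (726, [3, 108, 130]),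
  (625, [91, 130]),
  (732, [3, 135]),
  (627, [90, 134]),
  (738, [3, 101, 135]),
  (742, [3, 93, 135]),
  (745, [3, 100]),
  (749, [3, 95, 134]),
  (632, [86, 135]),
  (754, [3, 94, 130]),
  (758, [3, 95, 134]),
  (760, [3, 85, 130]),
  (636, [90, 134]),
  (766, [3, 102, 135]),
  (768, [3, 108, 134]),
  (639, [90, 134]),
  (640, [84, 130]),
  (827, []),
  (829, []),
  (643, [105, 135]),
  (644, [105, 135]),
  (775, [3, 99, 135]),
  (835, []),
  (599, [3, 99, 135])]

/-- The moves by letter 9, a part. -/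
def certMoves9Part18 : List (ℕ × List ℕ) := [
  (489, []),
  (649, [84, 130]),
  (842, [91, 130]),
  (652, [130]),
  (651, [130]),
  (653, [77]),
  (849, []),
  (655, [105, 135]),
  (656, [105, 135]),
  (493, []),
  (602, [3, 102]),
  (659, [77]),
  (660, [77]),
  (661, [90, 134]),
  (857, []),
  (664, [100, 135]),
  (663, [100, 135]),
  (665, [77]),
  (863, []),
  (668, [109, 135]),
  (667, [109, 135]),
  (865, []),
  (504, []),
  (606, [3, 77, 135]),
  (672, [77]),
  (673, [77]),
  (674, [95, 135]),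
  (873, []),
  (677, [100, 135]),
  (676, [100, 135]),
  (678, [91, 130]),
  (679, [91, 130]),
  (680, [91, 130]),
  (789, [3, 100]),
  (683, [109, 135]),
  (682, [109, 135])]

/-- The moves by letter 9, a part. -/
def certMoves9Part19 : List (ℕ × List ℕ) := [
  (881, []),
  (611, [3, 100]),
  (514, []),
  (791, [3, 100, 135]),
  (688, [95, 135]),
  (889, []),
  (891, []),
  (613, [3, 100, 135]),
  (523, []),
  (693, [95, 135]),
  (526, []),
  (614, [3, 77, 135]),
  (696, [27, 135]),
  (697, [27, 135]),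
  (698, [91, 135]),
  (699, [90, 134]),
  (700, [86, 135]),
  (701, [86, 135]),
  (796, [3, 87, 134]),
  (797, [3, 102]),
  (704, [84, 130]),
  (705, [92, 130]),
  (906, []),
  (908, []),
  (536, []),
  (618, [3, 87, 134]),
  (910, [86, 135]),
  (537, [86, 135]),
  (619, [3, 102]),
  (540, []),
  (620, [3, 99, 135]),
  (801, [3, 102]),
  (716, [84, 130]),
  (916, []),
  (544, []),
  (622, [3, 102])]

/-- The moves by letter 9, a part. -/
def certMoves9Part20 : List (ℕ × List ℕ) := [
  (720, [92, 130]),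
  (918, []),
  (547, []),
  (623, [3, 102]),
  (923, []),
  (925, []),
  (624, [3, 102]),
  (552, []),
  (728, [90, 134]),
  (729, [86, 135]),
  (730, [86, 135]),
  (558, []),
  (626, [3, 27, 135]),
  (733, [91, 130]),
  (734, [90, 134]),
  (932, []),
  (933, []),
  (562, []),
  (628, [3, 98, 134]),
  (739, [90, 134]),
  (936, []),
  (565, []),
  (629, [3, 93, 135]),
  (811, [3, 94, 130]),
  (568, [103, 130]),
  (630, [3, 98, 135]),
  (941, []),
  (942, []),
  (571, []),
  (631, [3, 92]),
  (750, [91, 130]),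
  (751, [91, 130]),
  (814, [3, 94, 130]),
  (577, []),
  (633, [3, 94, 130]),
  (815, [3, 92])]

/-- The moves by letter 9, a part. -/
def certMoves9Part21 : List (ℕ × List ℕ) := [
  (949, []),
  (580, []),
  (634, [3, 92]),
  (581, []),
  (635, [3, 85, 130]),
  (761, [90, 134]),
  (762, [90, 134]),
  (953, []),
  (818, [3, 92]),
  (589, []),
  (637, [3, 97, 134]),
  (590, []),
  (638, [3, 109, 135]),
  (819, [3, 93, 134]),
  (770, [90, 134]),
  (771, [90, 134]),
  (772, [84, 130]),
  (826, [3, 108]),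
  (830, [3, 102]),
  (645, [3, 108]),
  (834, [3, 108]),
  (777, [84, 130]),
  (843, [3, 102]),
  (779, [95]),
  (848, [3, 100]),
  (781, [90, 134]),
  (856, [3, 102]),
  (783, [95]),
  (862, [3, 100]),
  (866, [3, 94, 130]),
  (786, [95, 135]),
  (872, [3, 100, 135]),
  (788, [86, 135]),
  (681, [3, 98, 135]),
  (880, [3, 98, 135]),
  (687, [3, 106])]

/-- The moves by letter 9, a part. -/
def certMoves9Part22 : List (ℕ × List ℕ) := [
  (888, [3, 106]),
  (890, [3, 106]),
  (794, [89, 135]),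
  (795, [90, 134]),
  (702, [3, 87, 134]),
  (703, [3, 108, 130]),
  (907, [3, 87, 134]),
  (909, [3, 102]),
  (911, [3, 94]),
  (715, [3, 108, 130]),
  (917, [3, 108, 130]),
  (919, [3, 95, 135]),
  (922, [3, 108, 130]),
  (924, [3, 108, 130]),
  (806, [90, 134]),
  (807, [86, 135]),
  (935, [3, 101, 135]),
  (934, [3, 101, 135]),
  (937, [3, 94, 130]),
  (743, [3, 94, 130]),
  (944, [3, 95, 134]),
  (943, [3, 92]),
  (752, [3, 94, 130]),
  (755, [3, 95, 134]),
  (950, [3, 95, 134]),
  (954, [3, 102, 135]),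
  (764, [3, 95, 134]),
  (769, [3, 94]),
  (959, [3, 95, 135]),
  (960, [3, 108, 130]),
  (822, [84, 130]),
  (961, [3, 99, 135]),
  (1016, []),
  (1018, []),
  (773, [3, 99, 135]),
  (641, [])]

/-- The moves by letter 9, a part. -/
def certMoves9Part23 : List (ℕ × List ℕ) := [
  (1019, []),
  (642, []),
  (774, [3, 108, 130]),
  (831, [84, 130]),
  (965, [3, 99, 135]),
  (836, []),
  (776, [3, 99, 135]),
  (646, []),
  (833, []),
  (837, [91]),
  (967, [3, 108, 130]),
  (839, [92, 130]),
  (840, [84, 130]),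
  (1030, [91, 130]),
  (650, [91, 130]),
  (778, [3, 108, 130]),
  (969, [3, 98, 135]),
  (845, [77]),
  (846, [93]),
  (1036, []),
  (780, [3, 98, 135]),
  (654, []),
  (850, [91]),
  (851, [91, 130]),
  (852, [87, 134]),
  (853, [90, 134]),
  (1045, []),
  (1047, []),
  (782, [3, 108, 130]),
  (662, []),
  (975, [3, 98, 135]),
  (859, [77]),
  (860, [93]),
  (1052, []),
  (784, [3, 98, 135]),
  (666, [])]

/-- The moves by letter 9, a part. -/
def certMoves9Part24 : List (ℕ × List ℕ) := [
  (977, [3, 94, 130]),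
  (669, []),
  (785, [3, 94, 130]),
  (978, [3, 106]),
  (868, [95, 135]),
  (869, [78, 135]),
  (1061, []),
  (1063, []),
  (787, [3, 106]),
  (675, []),
  (874, [91, 130]),
  (875, [91, 130]),
  (981, [3, 100]),
  (878, [99]),
  (877, [110]),
  (982, [3, 94, 130]),
  (790, [3, 100]),
  (684, []),
  (983, [3, 100, 135]),
  (984, [3, 100, 135]),
  (885, [109, 130]),
  (884, [101, 130]),
  (985, [3, 92]),
  (1081, []),
  (792, [3, 100, 135]),
  (689, []),
  (793, [3, 100, 135]),
  (690, []),
  (892, [91]),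
  (893, [91]),
  (894, [27, 135]),
  (895, [91, 135]),
  (896, [87, 134]),
  (897, [90, 134]),
  (989, [3, 87, 134]),
  (1088, [])]

/-- The moves by letter 9, a part. -/
def certMoves9Part25 : List (ℕ × List ℕ) := [
  (905, [103, 134]),
  (991, [3, 102]),
  (992, [3, 102]),
  (904, [85, 134]),
  (903, [85, 134]),
  (900, [105, 134]),
  (706, []),
  (798, [3, 87, 134]),
  (707, []),
  (799, [3, 108, 130]),
  (710, [86, 135]),
  (800, [3, 93, 134]),
  (993, [3, 102]),
  (994, [3, 102]),
  (915, [92, 130]),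
  (914, [92, 130]),
  (717, []),
  (802, [3, 102]),
  (721, []),
  (803, [3, 95, 135]),
  (1100, []),
  (996, [3, 92]),
  (804, [3, 102]),
  (724, []),
  (805, [3, 102]),
  (725, []),
  (926, [90, 134]),
  (927, [90, 134]),
  (928, [91, 130]),
  (929, [91, 130]),
  (930, [91, 130]),
  (1105, []),
  (735, []),
  (736, []),
  (809, [3, 98, 134]),
  (808, [3, 98, 134])]

/-- The moves by letter 9, a part. -/
def certMoves9Part26 : List (ℕ × List ℕ) := [
  (740, []),
  (810, [3, 94, 130]),
  (939, [101, 135]),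
  (938, [101, 135]),
  (1107, []),
  (746, []),
  (747, []),
  (813, [3, 95, 134]),
  (812, [3, 92]),
  (946, [87, 134]),
  (945, [87, 134]),
  (1000, [3, 92]),
  (951, []),
  (756, []),
  (816, [3, 92]),
  (948, []),
  (1001, [3, 92]),
  (763, []),
  (817, [3, 97, 134]),
  (956, []),
  (955, []),
  (958, []),
  (957, []),
  (820, [3, 95, 135]),
  (821, [3, 102]),
  (823, [3, 108]),
  (1015, [3, 108]),
  (1017, [3, 98, 135]),
  (1020, [3, 87, 134]),
  (832, [3, 108]),
  (966, [91]),
  (838, [3, 102]),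
  (1031, [3, 102]),
  (844, [3, 100]),
  (1035, [3, 100]),
  (971, [91])]

/-- The moves by letter 9, a part. -/
def certMoves9Part27 : List (ℕ × List ℕ) := [
  (972, [86, 135]),
  (1044, [3, 102]),
  (1046, [3, 102]),
  (858, [3, 100]),
  (1051, [3, 100]),
  (864, [3, 94, 130]),
  (867, [3, 100, 135]),
  (1060, [3, 100, 135]),
  (1062, [3, 100, 135]),
  (876, [3, 98, 135]),
  (879, [3, 94, 130]),
  (882, [3, 106]),
  (883, [3, 106]),
  (886, [3, 95, 134]),
  (1080, [3, 106]),
  (987, [91]),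
  (988, [91]),
  (898, [3, 87, 134]),
  (1089, [3, 108, 130]),
  (901, [3, 108, 130]),
  (902, [3, 108, 130]),
  (912, [3, 108, 130]),
  (913, [3, 108, 130]),
  (1099, [3, 108, 130]),
  (921, [3, 95, 134]),
  (997, [86, 135]),
  (1106, [3, 106, 134]),
  (1108, [3, 94, 130]),
  (947, [3, 95, 134]),
  (952, [3, 95, 134]),
  (1002, [95, 135]),
  (1114, [3, 95, 135]),
  (1144, []),
  (1006, [99, 135]),
  (1005, [99, 135]),
  (1116, [3, 108, 130])]

/-- The moves by letter 9, a part. -/
def certMoves9Part28 : List (ℕ × List ℕ) := [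
  (1117, [3, 108, 130]),
  (1010, [92, 134]),
  (1009, [92, 134]),
  (1118, [3, 99, 135]),
  (1119, [3, 100]),
  (1014, [99, 135]),
  (1013, [99, 135]),
  (962, [3, 99, 135]),
  (824, []),
  (963, [3, 100]),
  (825, []),
  (828, []),
  (964, [3, 87, 134]),
  (1022, []),
  (1021, []),
  (1023, [89, 135]),
  (1024, [27]),
  (1121, [3, 108, 130]),
  (1122, [3, 108, 130]),
  (1028, [27, 134]),
  (1027, [27, 134]),
  (1029, [27]),
  (841, [91, 130]),
  (968, [3, 108, 130]),
  (1123, [3, 98, 135]),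
  (1034, [130]),
  (1033, [130]),
  (970, [3, 98, 135]),
  (847, []),
  (1037, [89, 135]),
  (1038, [27]),
  (1039, [91, 130]),
  (1040, [91, 130]),
  (1041, [91, 130]),
  (1042, [27]),
  (1171, [])]

/-- The moves by letter 9, a part. -/
def certMoves9Part29 : List (ℕ × List ℕ) := [
  (973, [3, 108, 130]),
  (854, []),
  (974, [3, 108, 130]),
  (855, []),
  (1127, [3, 98, 135]),
  (1050, [106, 135]),
  (1049, [97, 135]),
  (976, [3, 98, 135]),
  (861, []),
  (1054, [103, 130]),
  (1053, [103, 130]),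
  (1128, [3, 106]),
  (1129, [3, 106]),
  (1058, [103]),
  (1057, [105]),
  (1181, []),
  (979, [3, 106]),
  (870, []),
  (980, [3, 106]),
  (871, []),
  (1064, [77, 135]),
  (1065, [77, 135]),
  (1067, [109, 134]),
  (1066, [109, 134]),
  (1069, [109, 134]),
  (1068, [109, 134]),
  (1070, [77]),
  (1134, [3, 100, 135]),
  (1072, [77]),
  (1074, [111, 135]),
  (1073, [111, 135]),
  (1076, [109, 130]),
  (1075, [101, 130]),
  (1136, [3, 92]),
  (1079, [111, 135]),
  (1078, [111, 135])]

/-- The moves by letter 9, a part. -/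
def certMoves9Part30 : List (ℕ × List ℕ) := [
  (986, [3, 100, 135]),
  (887, []),
  (1082, [27, 135]),
  (1083, [27]),
  (1084, [27]),
  (1085, [27]),
  (1086, [27]),
  (1094, [103, 134]),
  (899, []),
  (990, [3, 102]),
  (1093, [85, 134]),
  (1092, [85, 134]),
  (1091, [85, 134]),
  (1090, [85, 134]),
  (1087, [105, 134]),
  (1097, []),
  (1098, [92, 130]),
  (1095, []),
  (1096, [92, 130]),
  (995, [3, 102]),
  (920, []),
  (1102, [101, 134]),
  (1101, [101, 134]),
  (1103, [91, 130]),
  (1104, [91, 130]),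
  (931, []),
  (998, [3, 111, 135]),
  (940, []),
  (999, [3, 94, 130]),
  (1110, []),
  (1109, []),
  (1112, []),
  (1111, []),
  (1113, [95, 135]),
  (1003, [3, 95, 135]),
  (1143, [3, 100, 135])]

/-- The moves by letter 9, a part. -/
def certMoves9Part31 : List (ℕ × List ℕ) := [
  (1007, [3, 102]),
  (1008, [3, 102]),
  (1011, [3, 108]),
  (1012, [3, 98, 135]),
  (1120, [27, 135]),
  (1025, [3, 102]),
  (1026, [3, 102]),
  (1032, [3, 100]),
  (1124, [27, 135]),
  (1125, [86, 135]),
  (1170, [3, 102]),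
  (1048, [3, 100]),
  (1055, [3, 100, 135]),
  (1056, [3, 100, 135]),
  (1180, [3, 99]),
  (1131, [77, 135]),
  (1132, [77, 135]),
  (1133, [95]),
  (1071, [3, 106]),
  (1135, [95]),
  (1077, [3, 95, 134]),
  (1137, [89, 135]),
  (1138, [95, 135]),
  (1202, [3, 106]),
  (1140, [95, 135]),
  (1142, [99, 135]),
  (1141, [99, 135]),
  (1115, [3, 106]),
  (1004, []),
  (1145, [95, 135]),
  (1147, [27, 134]),
  (1146, [27, 134]),
  (1149, [92, 134]),
  (1148, [92, 134]),
  (1151, [99, 135]),
  (1150, [99, 135])]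

/-- The moves by letter 9, a part. -/
def certMoves9Part32 : List (ℕ × List ℕ) := [
  (1153, [90, 135]),
  (1152, [90, 135]),
  (1154, [89, 135]),
  (1155, [89, 135]),
  (1156, [89, 135]),
  (1157, [89, 135]),
  (1159, [91, 130]),
  (1158, [91, 130]),
  (1161, [27, 134]),
  (1160, [27, 134]),
  (1162, [77, 135]),
  (1164, [109, 134]),
  (1163, [109, 134]),
  (1165, [89, 135]),
  (1166, [89, 135]),
  (1167, [135]),
  (1168, [91, 130]),
  (1169, [91, 130]),
  (1126, [3, 108, 130]),
  (1043, []),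
  (1173, [103, 130]),
  (1172, [103, 130]),
  (1207, [3, 97, 135]),
  (1208, [3, 97, 135]),
  (1179, [103]),
  (1178, [97, 134]),
  (1177, [97, 134]),
  (1176, [105]),
  (1130, [3, 97, 135]),
  (1059, []),
  (1209, [3, 100]),
  (1183, [77, 135]),
  (1184, [77, 135]),
  (1185, [77, 135]),
  (1186, [77, 135]),
  (1187, [77])]

/-- The moves by letter 9, a part. -/
def certMoves9Part33 : List (ℕ × List ℕ) := [
  (1211, [3, 100, 135]),
  (1189, [77]),
  (1190, [77]),
  (1192, [111, 135]),
  (1191, [111, 135]),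
  (1193, [77]),
  (1194, [77]),
  (1195, [77]),
  (1197, [111, 135]),
  (1196, [111, 135]),
  (1198, [27, 135]),
  (1199, [27, 135]),
  (1200, [91, 135]),
  (1201, [95, 135]),
  (1139, [3, 100, 135]),
  (1203, [27, 135]),
  (1204, [27, 135]),
  (1205, [77, 135]),
  (1206, [27, 135]),
  (1174, [3, 99]),
  (1175, [3, 99]),
  (1182, [3, 98, 135]),
  (1210, [95]),
  (1188, [3, 106]),
  (1212, [95]),
  (1213, [89, 135]),
  (1214, [95, 135]),
  (1216, [27, 134]),
  (1215, [27, 134]),
  (1217, [95, 135]),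
  (1244, [3, 97, 135]),
  (1219, [89, 135]),
  (1220, [89, 135]),
  (1221, [89, 135]),
  (1222, [89, 135]),
  (1223, [77, 135])]

/-- The moves by letter 9, a part. -/
def certMoves9Part34 : List (ℕ × List ℕ) := [
  (1224, [77, 135]),
  (1225, [89, 135]),
  (1226, [135]),
  (1245, [3, 106]),
  (1229, [107, 130]),
  (1228, [107, 130]),
  (1231, [27, 130]),
  (1230, [27, 130]),
  (1233, [105, 130]),
  (1232, [105, 130]),
  (1246, [3, 100, 135]),
  (1235, [77]),
  (1247, [3, 100, 135]),
  (1238, [104, 135]),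
  (1237, [104, 135]),
  (1239, [77]),
  (1240, [77]),
  (1241, [77]),
  (1242, [27, 135]),
  (1243, [91, 135]),
  (1218, [3, 99]),
  (1227, [3, 100, 135]),
  (1234, [3, 106]),
  (1236, [3, 106]),
  (1249, [91, 134]),
  (1248, [91, 134]),
  (1251, [27, 130]),
  (1250, [27, 130]),
  (1257, [3, 100, 135]),
  (1254, [104, 135]),
  (1253, [104, 135]),
  (1256, [104, 135]),
  (1255, [104, 135]),
  (1252, [3, 106]),
  (1259, [104, 135]),
  (1258, [104, 135])]

/-- The moves by letter 9, in equal parts. -/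
def certMoves9C : List (List (ℕ × List ℕ)) := [certMoves9Part0, certMoves9Part1, certMoves9Part2, certMoves9Part3, certMoves9Part4, certMoves9Part5, certMoves9Part6, certMoves9Part7, certMoves9Part8, certMoves9Part9, certMoves9Part10, certMoves9Part11, certMoves9Part12, certMoves9Part13, certMoves9Part14, certMoves9Part15, certMoves9Part16, certMoves9Part17, certMoves9Part18, certMoves9Part19, certMoves9Part20, certMoves9Part21, certMoves9Part22, certMoves9Part23, certMoves9Part24, certMoves9Part25, certMoves9Part26, certMoves9Part27, certMoves9Part28, certMoves9Part29, certMoves9Part30, certMoves9Part31, certMoves9Part32, certMoves9Part33, certMoves9Part34]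

/-- The moves by letter 9. -/
def certMoves9 : List (ℕ × List ℕ) := certMoves9C.flatten

/-- The moves by letter 10, a part. -/
def certMoves10Part0 : List (ℕ × List ℕ) := [
  (0, [88]),
  (1, [89, 134]),
  (2, [88]),
  (13, [88]),
  (4, [88]),
  (5, [89, 134]),
  (18, [7, 3, 42, 67, 86, 134]),
  (7, [89, 134]),
  (8, [87, 130]),
  (25, [88]),
  (10, [88]),
  (27, []),
  (29, []),
  (3, [88]),
  (14, [88, 130]),
  (34, [7, 3, 42, 67, 86, 134]),
  (16, [89, 134]),
  (37, [7, 3, 42, 67, 86, 134]),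
  (6, [7, 3, 42, 67, 86, 134]),
  (30, [3, 88]),
  (20, [99, 134]),
  (21, [87, 130]),
  (46, []),
  (23, [99, 134]),
  (50, []),
  (9, [88]),
  (55, []),
  (11, []),
  (57, []),
  (12, []),
  (19, [3, 89, 134]),
  (31, [103, 135]),
  (32, [88, 130]),
  (63, [7, 3, 42, 67, 86, 134]),
  (15, [7, 3, 42, 67, 86, 134]),
  (35, [103, 135])]

/-- The moves by letter 10, a part. -/
def certMoves10Part1 : List (ℕ × List ℕ) := [
  (51, [3, 88]),
  (17, [7, 3, 42, 67, 86, 134]),
  (54, [3, 134]),
  (58, [3, 88, 134]),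
  (40, [99, 134]),
  (77, [101, 134]),
  (42, [103, 135]),
  (43, [99, 134]),
  (44, [99, 134]),
  (86, []),
  (22, []),
  (47, [103, 135]),
  (48, [99, 134]),
  (92, []),
  (24, []),
  (36, [3, 89, 134]),
  (69, [3, 86]),
  (98, []),
  (38, [3, 86]),
  (26, []),
  (71, [3, 88, 134]),
  (28, []),
  (39, [3, 88, 134]),
  (59, [103, 135]),
  (60, [103, 135]),
  (105, [7, 3, 42, 67, 86, 134]),
  (62, [99, 134]),
  (33, [7, 3, 42, 67, 86, 134]),
  (64, [103, 135]),
  (85, [3, 134]),
  (66, [103, 135]),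
  (67, [99, 134]),
  (93, [3, 88, 134]),
  (52, [3, 134]),
  (97, [3, 134]),
  (56, [3, 88, 134])]

/-- The moves by letter 10, a part. -/
def certMoves10Part2 : List (ℕ × List ℕ) := [
  (120, [112, 135]),
  (73, [103, 135]),
  (74, [99, 134]),
  (126, [101, 134]),
  (130, []),
  (41, [101, 134]),
  (78, [103, 135]),
  (79, [103, 135]),
  (80, [105, 135]),
  (81, [103, 135]),
  (82, [99, 134]),
  (111, [3, 86]),
  (143, []),
  (65, [3, 86]),
  (45, []),
  (147, [103, 135]),
  (88, [103, 135]),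
  (89, [103, 135]),
  (90, [103, 135]),
  (115, [3, 88, 134]),
  (49, []),
  (68, [3, 88, 134]),
  (116, [3, 86]),
  (99, []),
  (117, [3, 88, 134]),
  (70, [3, 86]),
  (53, []),
  (95, []),
  (101, []),
  (100, []),
  (102, [103, 135]),
  (160, [7, 3, 42, 67, 86, 134]),
  (104, [99, 134]),
  (61, [7, 3, 42, 67, 86, 134]),
  (165, [7, 3, 42, 67, 86, 134]),
  (129, [3, 108])]

/-- The moves by letter 10, a part. -/
def certMoves10Part3 : List (ℕ × List ℕ) := [
  (108, [99, 134]),
  (109, [103, 135]),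
  (110, [99, 134]),
  (83, [3, 134]),
  (142, [3, 134]),
  (148, [3, 89, 134]),
  (114, [99, 134]),
  (91, [3, 88, 134]),
  (94, [3, 134]),
  (96, [3, 88, 134]),
  (181, [90, 130]),
  (185, []),
  (72, [112, 135]),
  (121, [93]),
  (122, [103, 135]),
  (123, [103, 135]),
  (124, [103, 135]),
  (195, [77]),
  (75, [101, 134]),
  (199, [77]),
  (202, []),
  (107, [3, 99, 135]),
  (76, []),
  (131, [92, 130]),
  (132, [103, 135]),
  (133, [103, 135]),
  (209, [103, 135]),
  (135, [103, 135]),
  (136, [103, 135]),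
  (137, [103, 135]),
  (172, [3, 86]),
  (139, [93]),
  (144, []),
  (174, [3, 88, 134]),
  (112, [3, 86]),
  (84, [])]

/-- The moves by letter 10, a part. -/
def certMoves10Part4 : List (ℕ × List ℕ) := [
  (140, []),
  (224, [77]),
  (227, [103, 135]),
  (87, [103, 135]),
  (113, [3, 88]),
  (149, [92, 130]),
  (150, [103, 135]),
  (151, [103, 135]),
  (153, []),
  (152, []),
  (154, [88, 134]),
  (155, [88, 134]),
  (157, [86]),
  (156, [86]),
  (159, [86]),
  (158, [86]),
  (103, [7, 3, 42, 67, 86, 134]),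
  (237, [7, 3, 42, 67, 86, 134]),
  (184, [3, 110]),
  (163, [78]),
  (164, [99, 134]),
  (106, [7, 3, 42, 67, 86, 134]),
  (196, [3, 97, 135]),
  (203, [3, 99]),
  (201, [3, 108]),
  (169, [92, 130]),
  (210, [3, 110]),
  (171, [99, 134]),
  (138, [3, 134]),
  (173, [78]),
  (141, [3, 88, 134]),
  (229, [3, 89, 134]),
  (228, [3, 89, 134]),
  (177, [92, 130]),
  (178, [88, 134]),
  (179, [88, 134])]

/-- The moves by letter 10, a part. -/
def certMoves10Part5 : List (ℕ × List ℕ) := [
  (263, [109, 135]),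
  (118, [90, 130]),
  (239, [3, 106, 135]),
  (270, []),
  (162, [3, 106, 135]),
  (119, []),
  (186, [93]),
  (242, [3, 86]),
  (188, [93]),
  (189, [92, 130]),
  (190, [103, 135]),
  (191, [103, 135]),
  (192, [93]),
  (286, []),
  (288, [77]),
  (125, [77]),
  (166, [3, 99]),
  (292, []),
  (295, [77]),
  (127, [77]),
  (248, [3, 88, 134]),
  (168, [3, 99, 135]),
  (128, []),
  (167, [3, 97, 135]),
  (204, [92, 130]),
  (205, [92, 130]),
  (301, [109, 135]),
  (306, [103, 135]),
  (251, [3, 106, 135]),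
  (134, [103, 135]),
  (170, [3, 106, 135]),
  (211, [92, 130]),
  (212, [103, 135]),
  (213, [103, 135]),
  (214, [88, 134]),
  (215, [93])]

/-- The moves by letter 10, a part. -/
def certMoves10Part6 : List (ℕ × List ℕ) := [
  (216, [88, 134]),
  (218, [86]),
  (217, [86]),
  (219, [93]),
  (220, [93]),
  (222, [86]),
  (221, [86]),
  (323, [77]),
  (145, [77]),
  (257, [3, 78, 135]),
  (258, [3, 78, 135]),
  (146, [103, 135]),
  (176, [3, 88]),
  (175, [3, 88]),
  (230, [92, 130]),
  (231, [84, 130]),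
  (259, [3, 86]),
  (233, [88, 134]),
  (234, [88, 134]),
  (235, [88, 134]),
  (236, [88, 134]),
  (161, [7, 3, 42, 67, 86, 134]),
  (262, [3, 110]),
  (182, [3, 110]),
  (269, [3, 110]),
  (241, [78]),
  (187, [3, 134]),
  (243, [92, 130]),
  (285, [3, 108]),
  (289, [3, 84, 134]),
  (291, [3, 110]),
  (296, [3, 88, 130]),
  (200, [3, 88, 134]),
  (302, [3, 110]),
  (307, [3, 110]),
  (208, [3, 110])]

/-- The moves by letter 10, a part. -/
def certMoves10Part7 : List (ℕ × List ℕ) := [
  (252, [92, 130]),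
  (253, [88, 134]),
  (254, [78]),
  (255, [88, 134]),
  (324, [3, 27, 135]),
  (225, [3, 78, 135]),
  (226, [3, 78, 135]),
  (232, [3, 134]),
  (333, [3, 106, 135]),
  (369, [109, 135]),
  (238, [3, 106, 135]),
  (180, [109, 135]),
  (335, [3, 106, 135]),
  (336, [3, 106, 135]),
  (381, [109, 135]),
  (271, []),
  (338, [3, 88, 134]),
  (240, [3, 106, 135]),
  (183, []),
  (267, []),
  (272, [27]),
  (340, [3, 86]),
  (274, [27]),
  (275, [93]),
  (276, [77]),
  (342, [3, 86]),
  (279, [109, 135]),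
  (278, [109, 135]),
  (280, [84, 130]),
  (281, [92, 130]),
  (399, []),
  (404, []),
  (345, [3, 84]),
  (244, [3, 99, 135]),
  (193, []),
  (346, [3, 88, 134])]

/-- The moves by letter 10, a part. -/
def certMoves10Part8 : List (ℕ × List ℕ) := [
  (194, [77]),
  (245, [3, 85, 134]),
  (412, []),
  (246, [3, 106, 135]),
  (197, []),
  (348, [3, 84, 130]),
  (349, [3, 84, 130]),
  (198, [77]),
  (247, [3, 90, 130]),
  (298, [104, 134]),
  (297, [107, 134]),
  (421, [109, 135]),
  (351, [3, 106, 135]),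
  (206, [109, 135]),
  (249, [3, 106, 135]),
  (352, [3, 90, 134]),
  (353, [3, 106, 135]),
  (354, [3, 90, 134]),
  (207, [103, 135]),
  (250, [3, 106, 135]),
  (309, [109, 135]),
  (308, [109, 135]),
  (310, [92, 130]),
  (311, [92, 130]),
  (312, [27]),
  (356, [3, 86]),
  (314, [88, 134]),
  (315, [27]),
  (316, [93]),
  (317, [77]),
  (318, [88, 134]),
  (319, [88, 134]),
  (320, [88, 134]),
  (358, [3, 78, 135]),
  (359, [3, 78, 135]),
  (223, [77])]

/-- The moves by letter 10, a part. -/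
def certMoves10Part9 : List (ℕ × List ℕ) := [
  (256, [3, 135]),
  (451, []),
  (327, [108, 135]),
  (326, [98, 135]),
  (329, [110, 134]),
  (328, [110, 134]),
  (361, [3, 86]),
  (332, [89, 134]),
  (331, [89, 134]),
  (260, [3, 110]),
  (368, [3, 110]),
  (264, [3, 110]),
  (265, [3, 110]),
  (380, [3, 134]),
  (268, [3, 88, 134]),
  (339, [27]),
  (273, [3, 134]),
  (341, [27]),
  (277, [3, 134]),
  (398, [3, 110]),
  (403, [3, 108]),
  (284, [3, 78, 134]),
  (287, [3, 88, 134]),
  (411, [3, 110]),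
  (293, [3, 84, 130]),
  (294, [3, 84, 130]),
  (422, [3, 110]),
  (300, [3, 110]),
  (303, [3, 90, 134]),
  (304, [3, 110]),
  (305, [3, 90, 134]),
  (355, [27]),
  (313, [3, 134]),
  (357, [27]),
  (321, [3, 78, 135]),
  (322, [3, 78, 135])]

/-- The moves by letter 10, a part. -/
def certMoves10Part10 : List (ℕ × List ℕ) := [
  (450, [3, 98, 130]),
  (330, [3, 134]),
  (454, [3, 106, 135]),
  (455, [3, 106, 135]),
  (497, []),
  (366, [109, 135]),
  (365, [109, 135]),
  (457, [3, 88, 134]),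
  (334, [3, 106, 135]),
  (261, [109, 135]),
  (458, [3, 106, 135]),
  (508, []),
  (373, [77]),
  (372, [77]),
  (374, [93, 135]),
  (516, [109, 135]),
  (376, [93, 135]),
  (378, [109, 134]),
  (377, [109, 134]),
  (521, []),
  (337, [3, 86]),
  (266, [109, 135]),
  (383, [109, 134]),
  (382, [109, 134]),
  (384, [88, 134]),
  (385, [93]),
  (386, [91]),
  (466, [3, 86]),
  (388, [88, 134]),
  (390, [109, 135]),
  (389, [109, 135]),
  (391, [91]),
  (392, [91]),
  (393, [91]),
  (395, [109, 135]),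
  (394, [109, 135])]

/-- The moves by letter 10, a part. -/
def certMoves10Part11 : List (ℕ × List ℕ) := [
  (539, []),
  (469, [3, 84]),
  (343, [3, 106, 135]),
  (282, []),
  (470, [3, 84, 130]),
  (471, [3, 84]),
  (472, [3, 84, 130]),
  (344, [3, 99, 135]),
  (283, []),
  (406, []),
  (405, []),
  (408, [27]),
  (407, [27]),
  (473, [3, 84, 130]),
  (474, [3, 84, 130]),
  (347, [3, 106, 135]),
  (290, []),
  (559, [94, 134]),
  (417, [27]),
  (416, [77, 135]),
  (415, [77, 135]),
  (414, [27]),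
  (476, [3, 90, 134]),
  (477, [3, 106, 135]),
  (478, [3, 90, 134]),
  (299, [109, 135]),
  (350, [3, 106, 135]),
  (424, [109, 135]),
  (423, [109, 135]),
  (425, [93, 135]),
  (576, []),
  (428, [87]),
  (427, [87]),
  (429, [93, 135]),
  (431, [109, 135]),
  (430, [109, 135])]

/-- The moves by letter 10, a part. -/
def certMoves10Part12 : List (ℕ × List ℕ) := [
  (433, [108, 135]),
  (432, [98, 135]),
  (434, [93]),
  (435, [91]),
  (483, [3, 86]),
  (439, [89, 134]),
  (438, [91]),
  (437, [89, 134]),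
  (440, [135]),
  (441, [91]),
  (442, [91]),
  (591, [94, 134]),
  (448, [27]),
  (595, []),
  (447, [105, 135]),
  (446, [105, 135]),
  (444, [27]),
  (597, []),
  (360, [3, 111]),
  (325, []),
  (453, [89, 134]),
  (452, [89, 134]),
  (362, [3, 110]),
  (363, [3, 110]),
  (498, [3, 110]),
  (367, [3, 88, 134]),
  (370, [3, 110]),
  (509, [3, 110]),
  (460, [93, 135]),
  (515, [3, 134]),
  (462, [93, 135]),
  (520, [3, 134]),
  (464, [88, 134]),
  (465, [78]),
  (387, [3, 134]),
  (467, [88, 134])]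

/-- The moves by letter 10, a part. -/
def certMoves10Part13 : List (ℕ × List ℕ) := [
  (538, [3, 110]),
  (397, [3, 78, 134]),
  (400, [3, 84, 130]),
  (401, [3, 78, 134]),
  (402, [3, 84, 130]),
  (409, [3, 84, 130]),
  (410, [3, 84, 130]),
  (560, [3, 84, 130]),
  (418, [3, 90, 134]),
  (419, [3, 110]),
  (420, [3, 90, 134]),
  (479, [93, 135]),
  (575, [3, 111]),
  (481, [93, 135]),
  (482, [78]),
  (436, [3, 134]),
  (484, [91, 135]),
  (592, [3, 102]),
  (594, [3, 78, 135]),
  (596, [3, 98, 130]),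
  (598, [3, 106, 135]),
  (647, [101, 135]),
  (499, [89]),
  (491, [93, 135]),
  (655, []),
  (493, [93, 135]),
  (495, [109, 135]),
  (494, [109, 135]),
  (659, []),
  (364, []),
  (456, [3, 106, 135]),
  (490, [89]),
  (501, [85]),
  (500, [94]),
  (502, [93, 135]),
  (667, [])]

/-- The moves by letter 10, a part. -/
def certMoves10Part14 : List (ℕ × List ℕ) := [
  (504, [93, 135]),
  (506, [77]),
  (505, [77]),
  (672, []),
  (371, []),
  (459, [3, 106, 135]),
  (608, [3, 90, 134]),
  (609, [3, 106, 135]),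
  (512, [93, 135]),
  (683, []),
  (611, [3, 90, 134]),
  (461, [3, 86]),
  (375, [109, 135]),
  (517, [93, 135]),
  (518, [93, 135]),
  (519, [93, 135]),
  (463, [3, 86]),
  (379, []),
  (522, [88, 134]),
  (613, [3, 86]),
  (524, [88, 134]),
  (525, [86, 134]),
  (526, [93]),
  (527, [93]),
  (528, [77]),
  (529, [88, 134]),
  (531, [87]),
  (530, [87]),
  (532, [91, 134]),
  (533, [88, 134]),
  (534, [86, 134]),
  (617, [3, 84, 130]),
  (618, [3, 84]),
  (619, [3, 84, 130]),
  (468, [3, 106, 135]),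
  (396, [])]

/-- The moves by letter 10, a part. -/
def certMoves10Part15 : List (ℕ × List ℕ) := [
  (540, [93]),
  (542, [105, 135]),
  (541, [105, 135]),
  (543, [87, 134]),
  (718, [98]),
  (546, [111, 130]),
  (545, [102, 130]),
  (547, [87, 134]),
  (549, [90, 135]),
  (548, [90, 135]),
  (551, [77, 135]),
  (550, [77, 135]),
  (726, [101, 134]),
  (554, [103, 130]),
  (553, [103, 130]),
  (730, []),
  (557, [93, 135]),
  (556, [93, 135]),
  (731, [94, 134]),
  (413, [94, 134]),
  (475, [3, 84, 130]),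
  (561, [93, 135]),
  (738, []),
  (564, [84]),
  (563, [92]),
  (565, [93, 135]),
  (567, [102, 134]),
  (566, [102, 134]),
  (745, []),
  (570, [105, 135]),
  (569, [105, 135]),
  (631, [3, 106, 135]),
  (572, [77, 135]),
  (573, [93, 135]),
  (751, []),
  (480, [3, 98, 130])]

/-- The moves by letter 10, a part. -/
def certMoves10Part16 : List (ℕ × List ℕ) := [
  (426, []),
  (633, [3, 108, 135]),
  (578, [93, 135]),
  (579, [93, 135]),
  (634, [3, 108, 135]),
  (581, [93]),
  (582, [93]),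
  (583, [77]),
  (585, [89, 134]),
  (584, [89, 134]),
  (586, [135]),
  (587, [89, 135]),
  (588, [135]),
  (766, []),
  (767, [94, 134]),
  (443, [94, 134]),
  (485, [3, 108, 130]),
  (770, []),
  (486, [3, 78, 135]),
  (445, []),
  (487, [3, 111]),
  (449, []),
  (488, [3, 110]),
  (648, [3, 89, 134]),
  (600, [93, 135]),
  (656, [3, 110]),
  (602, [93, 135]),
  (660, [3, 110]),
  (604, [93, 135]),
  (668, [3, 110]),
  (606, [93, 135]),
  (673, [3, 110]),
  (510, [3, 90, 134]),
  (511, [3, 110]),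
  (682, [3, 134]),
  (514, [3, 90, 134])]

/-- The moves by letter 10, a part. -/
def certMoves10Part17 : List (ℕ × List ℕ) := [
  (612, [88, 134]),
  (523, [3, 134]),
  (614, [78]),
  (615, [88, 134]),
  (616, [90]),
  (535, [3, 84, 130]),
  (536, [3, 78, 134]),
  (537, [3, 84, 130]),
  (620, [78]),
  (621, [87, 134]),
  (719, [3, 78, 134]),
  (623, [87, 134]),
  (727, [3, 90]),
  (729, [3, 84, 130]),
  (732, [3, 84, 130]),
  (627, [93, 135]),
  (737, [3, 101, 135]),
  (629, [93, 135]),
  (744, [3, 90, 134]),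
  (571, [3, 110]),
  (750, [3, 111]),
  (577, [3, 112]),
  (580, [3, 112]),
  (635, [78]),
  (636, [91, 135]),
  (765, [3, 102, 135]),
  (768, [3, 102]),
  (771, [3, 94]),
  (640, [93, 135]),
  (826, [101, 135]),
  (642, [93, 135]),
  (644, [103, 130]),
  (643, [103, 130]),
  (833, [101, 135]),
  (646, [101, 135]),
  (489, [101, 135])]

/-- The moves by letter 10, a part. -/
def certMoves10Part18 : List (ℕ × List ℕ) := [
  (599, [3, 88]),
  (777, [3, 85, 130]),
  (778, [3, 106, 135]),
  (651, [93, 135]),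
  (652, [77, 135]),
  (845, []),
  (780, [3, 85, 130]),
  (492, []),
  (601, [3, 106, 135]),
  (657, [93, 135]),
  (658, [77, 135]),
  (496, []),
  (603, [3, 106, 135]),
  (781, [3, 90, 134]),
  (782, [3, 106, 135]),
  (663, [93, 135]),
  (664, [93, 135]),
  (859, []),
  (784, [3, 90, 134]),
  (503, []),
  (605, [3, 106, 135]),
  (669, [101, 134]),
  (670, [93, 135]),
  (671, [93, 135]),
  (507, []),
  (607, [3, 106, 135]),
  (786, [3, 90, 134]),
  (872, [91, 134]),
  (677, [103, 134]),
  (676, [105, 134]),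
  (788, [3, 106, 135]),
  (680, [102, 130]),
  (679, [111, 130]),
  (789, [3, 90, 134]),
  (610, [3, 86]),
  (513, [])]

/-- The moves by letter 10, a part. -/
def certMoves10Part19 : List (ℕ × List ℕ) := [
  (881, [109, 134]),
  (686, [109, 134]),
  (685, [109, 134]),
  (791, [3, 86]),
  (688, [88, 134]),
  (889, [111, 135]),
  (793, [3, 86]),
  (692, [111, 135]),
  (691, [111, 135]),
  (693, [86, 134]),
  (694, [93]),
  (695, [77]),
  (696, [91, 134]),
  (697, [88, 134]),
  (698, [88, 134]),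
  (699, [91, 134]),
  (700, [91, 134]),
  (701, [27, 134]),
  (702, [87, 134]),
  (903, [101, 134]),
  (705, [103, 130]),
  (704, [103, 130]),
  (706, [93]),
  (707, [87, 134]),
  (709, [95, 134]),
  (708, [78, 134]),
  (911, []),
  (712, [104, 134]),
  (711, [107, 134]),
  (713, [93]),
  (714, [93]),
  (801, [3, 84]),
  (716, [87, 134]),
  (916, [98]),
  (544, [98]),
  (622, [3, 84])]

/-- The moves by letter 10, a part. -/
def certMoves10Part20 : List (ℕ × List ℕ) := [
  (720, [87, 134]),
  (803, [3, 77, 134]),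
  (722, [87, 134]),
  (723, [90, 134]),
  (724, [101, 134]),
  (924, [101, 134]),
  (552, [101, 134]),
  (624, [3, 91, 134]),
  (926, []),
  (625, [3, 84, 130]),
  (555, []),
  (558, [94, 134]),
  (626, [3, 84, 130]),
  (807, [3, 106, 135]),
  (734, [93, 135]),
  (932, [89, 135]),
  (934, []),
  (628, [3, 98, 134]),
  (562, []),
  (739, [77, 135]),
  (810, [3, 112]),
  (741, [93, 135]),
  (742, [93, 135]),
  (743, [101, 134]),
  (630, [3, 90, 134]),
  (568, []),
  (746, [135]),
  (813, [3, 106, 135]),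
  (749, [109, 135]),
  (748, [109, 135]),
  (632, [3, 98, 130]),
  (574, []),
  (814, [3, 108, 135]),
  (754, [109, 134]),
  (753, [109, 134]),
  (815, [3, 108, 135])]

/-- The moves by letter 10, a part. -/
def certMoves10Part21 : List (ℕ × List ℕ) := [
  (816, [3, 108, 135]),
  (758, [111, 135]),
  (757, [111, 135]),
  (759, [93]),
  (760, [77]),
  (761, [135]),
  (762, [89, 135]),
  (954, []),
  (764, [101, 134]),
  (637, [3, 97, 134]),
  (589, []),
  (590, [94, 134]),
  (638, [3, 108, 130]),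
  (957, []),
  (593, []),
  (639, [3, 93, 134]),
  (772, [93, 135]),
  (827, [3, 89, 134]),
  (774, [93, 135]),
  (836, [3, 89, 134]),
  (776, [98, 134]),
  (649, [3, 85, 130]),
  (650, [3, 110]),
  (846, [3, 85, 130]),
  (654, [3, 85, 130]),
  (661, [3, 90, 134]),
  (662, [3, 110]),
  (860, [3, 90, 134]),
  (666, [3, 90, 134]),
  (785, [105, 130]),
  (674, [3, 90, 134]),
  (873, [3, 101, 135]),
  (678, [3, 110]),
  (681, [3, 90, 134]),
  (880, [3, 90, 134]),
  (687, [3, 134])]

/-- The moves by letter 10, a part. -/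
def certMoves10Part22 : List (ℕ × List ℕ) := [
  (888, [3, 134]),
  (690, [3, 134]),
  (794, [90]),
  (795, [90]),
  (796, [87, 134]),
  (904, [3, 78, 134]),
  (798, [78]),
  (799, [87, 134]),
  (910, [3, 84, 130]),
  (715, [3, 78, 134]),
  (917, [3, 78, 134]),
  (721, [3, 85]),
  (804, [105, 130]),
  (925, [3, 90]),
  (927, [3, 93, 134]),
  (733, [3, 110]),
  (935, [3, 102]),
  (933, [3, 101, 135]),
  (740, [3, 108, 135]),
  (811, [105, 130]),
  (812, [91, 135]),
  (747, [3, 110]),
  (752, [3, 112]),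
  (755, [3, 112]),
  (756, [3, 112]),
  (953, [3, 102, 135]),
  (818, [105, 130]),
  (958, [3, 94]),
  (959, [3, 85, 130]),
  (960, [3, 106, 135]),
  (822, [93, 135]),
  (1013, [101, 135]),
  (824, [101, 135]),
  (963, [3, 85, 130]),
  (641, [101, 135]),
  (773, [3, 88])]

/-- The moves by letter 10, a part. -/
def certMoves10Part23 : List (ℕ × List ℕ) := [
  (828, [101, 134]),
  (829, [93, 135]),
  (830, [77, 135]),
  (831, [93, 135]),
  (832, [101, 135]),
  (645, [101, 135]),
  (834, [101, 135]),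
  (835, [101, 135]),
  (775, [3, 88]),
  (966, [3, 85, 130]),
  (1027, []),
  (840, [107, 130]),
  (839, [107, 130]),
  (968, [3, 106, 135]),
  (843, [89, 135]),
  (842, [89, 135]),
  (969, [3, 85, 130]),
  (653, []),
  (779, [3, 85, 130]),
  (1036, [109, 134]),
  (849, [109, 134]),
  (848, [109, 134]),
  (971, [3, 90, 134]),
  (1040, []),
  (853, [102, 134]),
  (852, [102, 134]),
  (1045, [27, 134]),
  (974, [3, 106, 135]),
  (857, [27, 134]),
  (856, [27, 134]),
  (975, [3, 90, 134]),
  (665, []),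
  (783, [3, 90, 134]),
  (1052, [103, 130]),
  (863, [103, 130]),
  (862, [103, 130])]

/-- The moves by letter 10, a part. -/
def certMoves10Part24 : List (ℕ × List ℕ) := [
  (1054, []),
  (865, [101, 134]),
  (866, [101, 134]),
  (1057, [91, 134]),
  (869, [87]),
  (868, [87]),
  (870, [91, 134]),
  (1062, [91, 134]),
  (675, [91, 134]),
  (787, [3, 98, 134]),
  (875, [102, 130]),
  (874, [111, 130]),
  (1067, []),
  (878, [88, 134]),
  (877, [88, 134]),
  (1068, []),
  (790, [3, 90, 134]),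
  (684, [109, 134]),
  (1074, []),
  (984, [3, 86]),
  (885, [91, 134]),
  (884, [91, 134]),
  (1078, []),
  (1081, [111, 135]),
  (792, [3, 86]),
  (689, [111, 135]),
  (891, [111, 135]),
  (890, [111, 135]),
  (892, [91, 134]),
  (893, [27, 130]),
  (894, [91, 134]),
  (895, [91, 134]),
  (896, [91, 134]),
  (897, [91, 134]),
  (898, [27]),
  (990, [3, 84])]

/-- The moves by letter 10, a part. -/
def certMoves10Part25 : List (ℕ × List ℕ) := [
  (900, [90, 134]),
  (901, [101, 134]),
  (1091, [101, 134]),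
  (703, [101, 134]),
  (797, [3, 84]),
  (905, [87, 134]),
  (906, [93]),
  (907, [77]),
  (908, [87, 134]),
  (909, [90, 134]),
  (800, [3, 84, 130]),
  (710, []),
  (993, [3, 27, 134]),
  (994, [3, 84]),
  (915, [102, 130]),
  (914, [111, 130]),
  (717, [98]),
  (802, [3, 84]),
  (919, [91, 130]),
  (918, [91, 130]),
  (920, [101, 134]),
  (1101, []),
  (922, [101, 134]),
  (923, [101, 134]),
  (725, [101, 134]),
  (805, [3, 91, 134]),
  (728, []),
  (806, [3, 94]),
  (997, [3, 97]),
  (930, [102, 134]),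
  (929, [102, 134]),
  (1105, [89, 135]),
  (735, [89, 135]),
  (809, [3, 98, 134]),
  (736, []),
  (808, [3, 108, 130])]

/-- The moves by letter 10, a part. -/
def certMoves10Part26 : List (ℕ × List ℕ) := [
  (937, [103, 130]),
  (936, [103, 130]),
  (938, [101, 134]),
  (939, [101, 134]),
  (940, [135]),
  (941, [135]),
  (943, [100, 130]),
  (942, [112, 130]),
  (944, [89, 135]),
  (946, [112]),
  (945, [100]),
  (1000, [3, 108, 135]),
  (951, [111, 135]),
  (950, [111, 135]),
  (949, [111, 135]),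
  (948, [111, 135]),
  (952, [101, 134]),
  (817, [3, 97, 134]),
  (763, []),
  (955, [101, 134]),
  (956, [101, 134]),
  (769, []),
  (819, [3, 93, 134]),
  (820, [3, 85, 130]),
  (821, [3, 110]),
  (1014, [3, 98, 134]),
  (962, [98, 134]),
  (825, [3, 85, 130]),
  (964, [105, 130]),
  (965, [98, 134]),
  (837, [3, 85, 130]),
  (1028, [3, 110]),
  (841, [3, 110]),
  (844, [3, 85, 130]),
  (1035, [3, 85, 130]),
  (850, [3, 90, 134])]

/-- The moves by letter 10, a part. -/
def certMoves10Part27 : List (ℕ × List ℕ) := [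
  (1041, [3, 110]),
  (1044, [3, 110]),
  (855, [3, 110]),
  (858, [3, 90, 134]),
  (1051, [3, 90, 134]),
  (1053, [3, 108, 135]),
  (1058, [3, 90, 134]),
  (979, [90]),
  (1063, [3, 101, 135]),
  (1066, [3, 90, 134]),
  (1069, [3, 112]),
  (1073, [3, 134]),
  (883, [3, 134]),
  (1079, [3, 112]),
  (1080, [3, 134]),
  (987, [90]),
  (988, [88, 135]),
  (989, [27]),
  (899, [3, 78, 134]),
  (991, [105, 130]),
  (1092, [3, 78, 134]),
  (912, [3, 87]),
  (913, [3, 78, 134]),
  (995, [105, 130]),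
  (1102, [3, 102, 135]),
  (928, [3, 112, 135]),
  (1106, [3, 108, 130]),
  (999, [91, 135]),
  (947, [3, 112]),
  (1001, [105, 130]),
  (1113, [3, 85, 130]),
  (1003, [85, 130]),
  (1144, [27, 134]),
  (1006, [109, 130]),
  (1005, [101, 130]),
  (1147, [])]

/-- The moves by letter 10, a part. -/
def certMoves10Part28 : List (ℕ × List ℕ) := [
  (1117, [3, 106, 135]),
  (1010, [94]),
  (1009, [85]),
  (1011, [101, 135]),
  (1119, [3, 85, 130]),
  (823, [101, 135]),
  (961, [3, 101, 135]),
  (1015, [101, 135]),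
  (1016, [101, 135]),
  (1018, [103, 130]),
  (1017, [103, 130]),
  (1019, [101, 134]),
  (1020, [101, 134]),
  (1021, [101, 135]),
  (1022, [101, 135]),
  (1156, []),
  (1029, [107, 130]),
  (1158, []),
  (1160, []),
  (838, []),
  (967, [3, 106, 135]),
  (1024, [107, 130]),
  (1031, [89, 135]),
  (1030, [89, 135]),
  (1164, []),
  (1034, [109, 135]),
  (1033, [109, 135]),
  (970, [3, 85, 130]),
  (847, [109, 134]),
  (1166, []),
  (1042, [102, 134]),
  (1168, []),
  (851, []),
  (972, [3, 106, 135]),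
  (1038, [102, 134]),
  (1171, [27, 134])]

/-- The moves by letter 10, a part. -/
def certMoves10Part29 : List (ℕ × List ℕ) := [
  (973, [3, 106, 135]),
  (854, [27, 134]),
  (1047, [27, 134]),
  (1046, [27, 134]),
  (1173, []),
  (1050, [86, 134]),
  (1049, [86, 134]),
  (976, [3, 90, 134]),
  (861, [103, 130]),
  (977, [3, 112]),
  (864, []),
  (1055, [91, 134]),
  (1177, [91, 134]),
  (867, [91, 134]),
  (978, [3, 90, 134]),
  (1059, [91, 134]),
  (1060, [91, 134]),
  (1061, [91, 134]),
  (871, [91, 134]),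
  (980, [3, 98, 134]),
  (1183, []),
  (1185, []),
  (981, [3, 90, 134]),
  (876, []),
  (879, []),
  (982, [3, 108, 135]),
  (1189, []),
  (1192, []),
  (1193, []),
  (983, [3, 86]),
  (882, []),
  (1076, [91, 134]),
  (1075, [91, 134]),
  (1196, []),
  (886, []),
  (985, [3, 108, 135])]

/-- The moves by letter 10, a part. -/
def certMoves10Part30 : List (ℕ × List ℕ) := [
  (986, [3, 86]),
  (887, [111, 135]),
  (1082, [27, 130]),
  (1083, [91, 134]),
  (1084, [27, 130]),
  (1085, [91, 134]),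
  (1086, [27, 130]),
  (1087, [91]),
  (1089, [98]),
  (1088, [98]),
  (1090, [101, 134]),
  (902, [101, 134]),
  (992, [3, 84]),
  (1093, [101, 134]),
  (1094, [91]),
  (1097, [109, 134]),
  (1098, [102, 130]),
  (1095, [109, 134]),
  (1096, [111, 130]),
  (1099, [101, 134]),
  (1100, [101, 134]),
  (921, []),
  (996, [3, 97, 134]),
  (1104, [101]),
  (1103, [109]),
  (931, [89, 135]),
  (998, [3, 102]),
  (1107, [135]),
  (1108, [89, 135]),
  (1110, [111, 135]),
  (1109, [111, 135]),
  (1111, [101, 134]),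
  (1112, [101, 134]),
  (1002, [3, 85, 130]),
  (1114, [85, 130]),
  (1143, [3, 109, 135])]

/-- The moves by letter 10, a part. -/
def certMoves10Part31 : List (ℕ × List ℕ) := [
  (1146, [3, 110]),
  (1008, [3, 110]),
  (1118, [98, 134]),
  (1012, [3, 85, 130]),
  (1157, [3, 98, 134]),
  (1159, [3, 112, 135]),
  (1161, [3, 110]),
  (1163, [3, 85, 130]),
  (1167, [3, 90, 134]),
  (1169, [3, 112, 135]),
  (1170, [3, 110]),
  (1172, [3, 90, 134]),
  (1128, [90]),
  (1178, [3, 27]),
  (1130, [90]),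
  (1184, [3, 27]),
  (1186, [3, 100]),
  (1194, [3, 134]),
  (1191, [3, 134]),
  (1195, [3, 100]),
  (1197, [3, 112]),
  (1137, [88, 135]),
  (1138, [85, 130]),
  (1216, []),
  (1145, [109, 130]),
  (1141, [85, 130]),
  (1142, [94, 130]),
  (1115, [3, 108, 134]),
  (1004, [27, 134]),
  (1140, [101, 130]),
  (1116, [3, 106, 135]),
  (1007, []),
  (1149, [94]),
  (1148, [85]),
  (1150, [101, 135]),
  (1151, [101, 135])]

/-- The moves by letter 10, a part. -/
def certMoves10Part32 : List (ℕ × List ℕ) := [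
  (1153, [108, 134]),
  (1152, [108, 134]),
  (1219, []),
  (1220, []),
  (1023, []),
  (1120, [3, 101, 135]),
  (1025, []),
  (1121, [3, 97]),
  (1026, []),
  (1122, [3, 106, 135]),
  (1223, []),
  (1123, [3, 85, 130]),
  (1032, []),
  (1225, []),
  (1037, []),
  (1124, [3, 90, 134]),
  (1039, []),
  (1125, [3, 97]),
  (1126, [3, 106, 135]),
  (1043, [27, 134]),
  (1127, [3, 90, 134]),
  (1048, []),
  (1174, [91, 134]),
  (1175, [27, 130]),
  (1176, [91, 134]),
  (1056, [91, 134]),
  (1129, [3, 27]),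
  (1179, [91, 134]),
  (1180, [91, 134]),
  (1181, [91, 134]),
  (1232, [101, 134]),
  (1064, []),
  (1131, [3, 27]),
  (1065, []),
  (1132, [3, 98, 135]),
  (1235, [])]

/-- The moves by letter 10, a part. -/
def certMoves10Part33 : List (ℕ × List ℕ) := [
  (1237, [102, 135]),
  (1070, []),
  (1239, []),
  (1134, [3, 86]),
  (1071, []),
  (1072, []),
  (1133, [3, 86]),
  (1135, [3, 98, 135]),
  (1077, []),
  (1136, [3, 108, 135]),
  (1198, [87, 130]),
  (1199, [27, 130]),
  (1200, [27, 130]),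
  (1201, [85, 130]),
  (1215, [3, 109, 135]),
  (1221, [3, 101, 135]),
  (1222, [3, 98, 134]),
  (1224, [3, 98, 135]),
  (1226, [3, 89, 134]),
  (1207, [90]),
  (1208, [88, 135]),
  (1233, [3, 100]),
  (1240, [3, 134]),
  (1238, [3, 100]),
  (1241, [3, 100]),
  (1213, [88, 130]),
  (1214, [85, 130]),
  (1202, [3, 108, 134]),
  (1139, []),
  (1217, [94, 130]),
  (1248, [27, 130]),
  (1154, []),
  (1155, []),
  (1203, [3, 98, 134]),
  (1204, [3, 101, 135]),
  (1162, [])]

/-- The moves by letter 10, a part. -/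
def certMoves10Part34 : List (ℕ × List ℕ) := [
  (1205, [3, 100]),
  (1165, []),
  (1206, [3, 88]),
  (1227, [27, 130]),
  (1228, [91, 134]),
  (1229, [91, 134]),
  (1230, [27, 130]),
  (1231, [27, 130]),
  (1182, [101, 134]),
  (1209, [3, 98, 135]),
  (1253, [102, 135]),
  (1187, []),
  (1236, [102, 135]),
  (1188, [102, 135]),
  (1211, [3, 98, 135]),
  (1190, []),
  (1210, [3, 86]),
  (1212, [3, 98, 135]),
  (1242, [87, 130]),
  (1243, [90, 130]),
  (1249, [3, 100, 135]),
  (1245, [88, 135]),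
  (1254, [3, 100]),
  (1247, [97, 134]),
  (1218, [27, 130]),
  (1244, [3, 106]),
  (1250, [27, 130]),
  (1251, [27, 130]),
  (1252, [102, 135]),
  (1234, [102, 135]),
  (1246, [3, 98, 135]),
  (1255, [102, 135]),
  (1256, [102, 135]),
  (1257, [97, 134]),
  (1258, [102, 135]),
  (1259, [102, 135])]

/-- The moves by letter 10, in equal parts. -/
def certMoves10C : List (List (ℕ × List ℕ)) := [certMoves10Part0, certMoves10Part1, certMoves10Part2, certMoves10Part3, certMoves10Part4, certMoves10Part5, certMoves10Part6, certMoves10Part7, certMoves10Part8, certMoves10Part9, certMoves10Part10, certMoves10Part11, certMoves10Part12, certMoves10Part13, certMoves10Part14, certMoves10Part15, certMoves10Part16, certMoves10Part17, certMoves10Part18, certMoves10Part19, certMoves10Part20, certMoves10Part21, certMoves10Part22, certMoves10Part23, certMoves10Part24, certMoves10Part25, certMoves10Part26, certMoves10Part27, certMoves10Part28, certMoves10Part29, certMoves10Part30, certMoves10Part31,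 certMoves10Part32, certMoves10Part33, certMoves10Part34]

/-- The moves by letter 10. -/
def certMoves10 : List (ℕ × List ℕ) := certMoves10C.flatten

/-- The moves by letter 11, a part. -/
def certMoves11Part0 : List (ℕ × List ℕ) := [
  (0, [90, 130]),
  (1, [86, 130]),
  (2, [91, 130]),
  (3, [110, 134]),
  (4, [90, 130]),
  (5, [86, 135]),
  (6, [105, 135]),
  (7, [86, 130]),
  (8, [91, 130]),
  (25, [101, 134]),
  (10, [91, 130]),
  (11, [110, 134]),
  (12, [105, 135]),
  (13, [110, 134]),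
  (14, [86, 135]),
  (34, [7, 3, 42, 67, 106, 130]),
  (16, [86, 135]),
  (17, [105, 135]),
  (18, [105, 135]),
  (19, [110, 134]),
  (43, [91, 130]),
  (21, [91, 130]),
  (46, [99, 134]),
  (48, [87, 130]),
  (50, [103, 135]),
  (9, [101, 134]),
  (26, [105, 135]),
  (27, [110, 134]),
  (28, [105, 135]),
  (29, [105, 135]),
  (30, [103, 135]),
  (60, [7, 3, 42, 67, 106, 130]),
  (32, [86, 135]),
  (63, [7, 3, 42, 67, 106, 130]),
  (15, [7, 3, 42, 67, 106, 130]),
  (66, [7, 3, 42, 67, 106, 130])]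

/-- The moves by letter 11, a part. -/
def certMoves11Part1 : List (ℕ × List ℕ) := [
  (51, [3, 101, 134]),
  (37, [105, 135]),
  (38, [110, 134]),
  (39, [110, 134]),
  (74, []),
  (77, [88]),
  (79, []),
  (20, [91, 130]),
  (82, [102, 135]),
  (86, [103, 135]),
  (22, [99, 134]),
  (89, [101, 135]),
  (23, [87, 130]),
  (92, [103, 135]),
  (24, [103, 135]),
  (36, [3, 103, 130]),
  (52, [77]),
  (53, [105, 135]),
  (54, [105, 135]),
  (55, [105, 135]),
  (56, [84, 130]),
  (57, [105, 135]),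
  (58, [105, 135]),
  (102, [7, 3, 42, 67, 106, 130]),
  (31, [7, 3, 42, 67, 106, 130]),
  (105, [7, 3, 42, 67, 106, 130]),
  (80, [3, 84]),
  (33, [7, 3, 42, 67, 106, 130]),
  (109, [7, 3, 42, 67, 106, 130]),
  (85, [3, 110]),
  (35, [7, 3, 42, 67, 106, 130]),
  (90, [3, 95, 134]),
  (93, [3, 109]),
  (69, [95]),
  (70, [110, 134]),
  (71, [84, 130])]

/-- The moves by letter 11, a part. -/
def certMoves11Part2 : List (ℕ × List ℕ) := [
  (120, [91, 130]),
  (124, []),
  (40, []),
  (75, [110, 134]),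
  (130, [103, 135]),
  (41, [88]),
  (132, []),
  (42, []),
  (62, [3, 78, 134]),
  (136, [93]),
  (44, [102, 135]),
  (111, [3, 92]),
  (143, [103, 135]),
  (65, [3, 106, 135]),
  (45, [103, 135]),
  (113, [3, 92]),
  (150, [101, 135]),
  (47, [101, 135]),
  (67, [3, 92]),
  (115, [3, 93, 135]),
  (49, [103, 135]),
  (68, [3, 97, 130]),
  (94, [77]),
  (95, [77]),
  (96, [84, 130]),
  (97, [105, 135]),
  (98, [105, 135]),
  (99, [77]),
  (100, [84, 130]),
  (101, [84, 130]),
  (59, [7, 3, 42, 67, 106, 130]),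
  (160, [7, 3, 42, 67, 106, 130]),
  (123, [3, 95, 134]),
  (61, [7, 3, 42, 67, 106, 130]),
  (106, [105, 135]),
  (129, [3, 95, 134])]

/-- The moves by letter 11, a part. -/
def certMoves11Part3 : List (ℕ × List ℕ) := [
  (133, [3, 77, 135]),
  (64, [7, 3, 42, 67, 106, 130]),
  (137, [3, 99, 130]),
  (83, [3, 95, 134]),
  (142, [3, 110]),
  (87, [3, 95, 134]),
  (151, [3, 95, 134]),
  (91, [3, 93, 135]),
  (116, [95]),
  (117, [84, 130]),
  (118, [110, 134]),
  (185, [103, 135]),
  (72, [91, 130]),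
  (163, [3, 92]),
  (191, []),
  (104, [3, 92]),
  (73, []),
  (125, [105, 135]),
  (126, [110, 134]),
  (167, [3, 92]),
  (202, [103, 135]),
  (107, [3, 92]),
  (76, [103, 135]),
  (169, [3, 93, 135]),
  (78, []),
  (108, [3, 77, 135]),
  (210, []),
  (212, [93]),
  (81, [93]),
  (110, [3, 104]),
  (172, [3, 92]),
  (173, [3, 92]),
  (144, [93]),
  (174, [3, 93, 135]),
  (112, [3, 106, 135]),
  (84, [103, 135])]

/-- The moves by letter 11, a part. -/
def certMoves11Part4 : List (ℕ × List ℕ) := [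
  (140, [93]),
  (175, [3, 92]),
  (176, [3, 92]),
  (148, [101, 135]),
  (147, [101, 135]),
  (177, [3, 93, 135]),
  (88, [101, 135]),
  (114, [3, 92]),
  (153, [92, 130]),
  (152, [92, 130]),
  (154, [91]),
  (155, [91]),
  (156, [77]),
  (157, [93]),
  (158, [92, 130]),
  (159, [84, 130]),
  (103, [7, 3, 42, 67, 106, 130]),
  (161, [105, 135]),
  (184, [3, 134]),
  (121, [3, 95, 134]),
  (190, [3, 95, 134]),
  (165, [105, 135]),
  (166, [110, 134]),
  (127, [3, 95, 134]),
  (201, [3, 95, 134]),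
  (131, [3, 93, 135]),
  (209, [3, 134]),
  (213, [3, 89, 135]),
  (138, [3, 95, 134]),
  (139, [3, 95, 134]),
  (141, [3, 93, 135]),
  (145, [3, 95, 134]),
  (146, [3, 95, 134]),
  (149, [3, 93, 135]),
  (178, [91]),
  (179, [91])]

/-- The moves by letter 11, a part. -/
def certMoves11Part5 : List (ℕ × List ℕ) := [
  (180, [105, 135]),
  (181, [110, 134]),
  (267, [93]),
  (270, [103, 135]),
  (162, [3, 86]),
  (119, [103, 135]),
  (241, [3, 92]),
  (242, [3, 92]),
  (192, []),
  (243, [3, 93, 135]),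
  (164, [3, 92]),
  (122, []),
  (188, []),
  (285, [105, 135]),
  (194, [105, 135]),
  (195, [105, 135]),
  (196, [103, 135]),
  (246, [3, 92]),
  (247, [3, 92]),
  (203, [103, 135]),
  (248, [3, 93, 135]),
  (168, [3, 92]),
  (128, [103, 135]),
  (199, [103, 135]),
  (205, [89]),
  (204, [89]),
  (302, []),
  (307, []),
  (309, []),
  (170, [3, 86]),
  (134, []),
  (252, [3, 93, 135]),
  (135, [93]),
  (171, [3, 91, 135]),
  (214, [90, 134]),
  (254, [3, 92])]

/-- The moves by letter 11, a part. -/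
def certMoves11Part6 : List (ℕ × List ℕ) := [
  (216, [90, 134]),
  (218, [92]),
  (217, [84]),
  (220, [109, 135]),
  (219, [109, 135]),
  (222, [77, 130]),
  (221, [93, 130]),
  (256, [3, 92]),
  (229, []),
  (225, [90, 134]),
  (226, [90, 134]),
  (228, [101, 135]),
  (227, [101, 135]),
  (224, []),
  (231, [106, 135]),
  (230, [97, 135]),
  (232, [77]),
  (233, [27]),
  (234, [27]),
  (235, [27]),
  (236, [27]),
  (237, [105, 135]),
  (238, [110, 134]),
  (271, [3, 108]),
  (269, [3, 134]),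
  (186, [3, 95, 134]),
  (187, [3, 95, 134]),
  (189, [3, 93, 135]),
  (286, [3, 78, 134]),
  (245, [110, 134]),
  (197, [3, 95, 134]),
  (198, [3, 95, 134]),
  (200, [3, 93, 135]),
  (301, [3, 95, 134]),
  (306, [3, 134]),
  (308, [3, 95, 134])]

/-- The moves by letter 11, a part. -/
def certMoves11Part7 : List (ℕ × List ℕ) := [
  (211, [3, 93, 135]),
  (253, [90, 134]),
  (215, [3, 95, 134]),
  (255, [90, 134]),
  (223, [3, 95, 134]),
  (257, [90, 134]),
  (258, [90, 134]),
  (259, [95]),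
  (366, [105, 135]),
  (261, [105, 135]),
  (262, [105, 135]),
  (263, [105, 135]),
  (373, []),
  (377, [93]),
  (380, [103, 135]),
  (182, [93]),
  (338, [3, 93, 135]),
  (240, [3, 86]),
  (183, [103, 135]),
  (239, [3, 99, 135]),
  (272, [90, 134]),
  (340, [3, 92]),
  (274, [90, 134]),
  (276, [27, 130]),
  (275, [27, 130]),
  (277, [77]),
  (279, [103, 135]),
  (278, [103, 135]),
  (281, [91, 130]),
  (280, [91, 130]),
  (398, [101, 135]),
  (403, [105, 135]),
  (405, []),
  (193, [105, 135]),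
  (244, [3, 84]),
  (287, [84, 130])]

/-- The moves by letter 11, a part. -/
def certMoves11Part8 : List (ℕ × List ℕ) := [
  (288, [105, 135]),
  (289, [105, 135]),
  (347, [3, 92]),
  (292, [109, 135]),
  (291, [109, 135]),
  (293, [90, 134]),
  (294, [90, 134]),
  (296, [27, 130]),
  (295, [27, 130]),
  (298, [112, 135]),
  (297, [112, 135]),
  (422, []),
  (423, []),
  (249, [3, 92]),
  (206, []),
  (352, [3, 94, 130]),
  (431, []),
  (354, [3, 94, 130]),
  (250, [3, 86]),
  (207, []),
  (251, [3, 92]),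
  (208, []),
  (311, [91]),
  (310, [91]),
  (312, [90, 134]),
  (356, [3, 92]),
  (314, [87, 134]),
  (315, [90, 134]),
  (317, [88, 135]),
  (316, [88, 135]),
  (318, [87, 134]),
  (319, [87, 134]),
  (320, [87, 134]),
  (321, [90, 134]),
  (322, [90, 134]),
  (324, [88, 135])]

/-- The moves by letter 11, a part. -/
def certMoves11Part9 : List (ℕ × List ℕ) := [
  (323, [88, 135]),
  (360, [3, 92]),
  (326, [87, 134]),
  (327, [90, 134]),
  (328, [90, 134]),
  (329, [87, 134]),
  (330, [77]),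
  (331, [77]),
  (332, [93]),
  (365, [3, 98]),
  (334, [110, 134]),
  (372, [3, 98]),
  (378, [3, 87, 130]),
  (381, [3, 95, 134]),
  (268, [3, 93, 135]),
  (339, [90, 134]),
  (273, [3, 95, 134]),
  (341, [90, 134]),
  (342, [95]),
  (399, [3, 78, 134]),
  (404, [3, 78, 134]),
  (406, [3, 78, 134]),
  (346, [84, 130]),
  (290, [3, 95, 134]),
  (348, [90, 134]),
  (349, [90, 134]),
  (421, [3, 95, 134]),
  (424, [3, 95, 134]),
  (303, [3, 94, 130]),
  (430, [3, 95, 134]),
  (305, [3, 94, 130]),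
  (355, [90, 134]),
  (313, [3, 95, 134]),
  (357, [90, 134]),
  (358, [90, 134]),
  (359, [90, 134])]

/-- The moves by letter 11, a part. -/
def certMoves11Part10 : List (ℕ × List ℕ) := [
  (325, [3, 95, 134]),
  (361, [95]),
  (490, [93]),
  (495, [105, 135]),
  (498, []),
  (333, [3, 110, 135]),
  (260, [105, 135]),
  (367, [84, 130]),
  (368, [105, 135]),
  (369, [105, 135]),
  (506, []),
  (509, []),
  (335, [3, 110, 135]),
  (264, []),
  (460, [3, 94, 130]),
  (515, [103, 135]),
  (462, [3, 94, 130]),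
  (265, [93]),
  (336, [3, 86, 130]),
  (463, [3, 97, 135]),
  (266, [103, 135]),
  (337, [3, 92]),
  (383, [106, 135]),
  (382, [97, 135]),
  (384, [90, 134]),
  (465, [3, 92]),
  (386, [90, 134]),
  (387, [77]),
  (388, [90, 134]),
  (390, [103, 135]),
  (389, [103, 135]),
  (391, [90, 134]),
  (392, [90, 134]),
  (393, [90, 134]),
  (394, [77]),
  (395, [77])]

/-- The moves by letter 11, a part. -/
def certMoves11Part11 : List (ℕ × List ℕ) := [
  (538, [101, 135]),
  (541, [105, 135]),
  (282, [101, 135]),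
  (343, [3, 84]),
  (470, [3, 95, 135]),
  (548, []),
  (472, [3, 95, 135]),
  (283, [105, 135]),
  (344, [3, 84]),
  (284, []),
  (345, [3, 84]),
  (407, [84, 130]),
  (408, [84, 130]),
  (409, [90, 134]),
  (410, [90, 134]),
  (412, [109, 135]),
  (411, [109, 135]),
  (475, [3, 92]),
  (414, [90, 134]),
  (415, [90, 134]),
  (416, [90, 134]),
  (417, [90, 134]),
  (476, [3, 94, 130]),
  (566, []),
  (478, [3, 94, 130]),
  (350, [3, 92]),
  (299, []),
  (300, []),
  (351, [3, 92]),
  (479, [3, 94, 130]),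
  (575, [91, 134]),
  (428, [85, 135]),
  (427, [94, 135]),
  (481, [3, 94, 130]),
  (353, [3, 92]),
  (304, [])]

/-- The moves by letter 11, a part. -/
def certMoves11Part12 : List (ℕ × List ℕ) := [
  (433, [100]),
  (432, [112]),
  (482, [3, 92]),
  (435, [90, 134]),
  (483, [3, 92]),
  (439, [93, 134]),
  (438, [87, 134]),
  (437, [77, 134]),
  (440, [91, 130]),
  (441, [90, 134]),
  (442, [90, 134]),
  (485, [3, 92]),
  (444, [90, 134]),
  (445, [91, 130]),
  (446, [90, 134]),
  (447, [87, 134]),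
  (448, [90, 134]),
  (487, [3, 92]),
  (451, [98]),
  (450, [98]),
  (452, [77]),
  (453, [93]),
  (499, [3, 98]),
  (494, [3, 98]),
  (497, [3, 110]),
  (457, [84, 130]),
  (505, [3, 98]),
  (508, [3, 110]),
  (374, [3, 94, 130]),
  (516, [3, 95, 134]),
  (376, [3, 94, 130]),
  (379, [3, 99]),
  (464, [90, 134]),
  (385, [3, 95, 134]),
  (466, [95]),
  (467, [90, 134])]

/-- The moves by letter 11, a part. -/
def certMoves11Part13 : List (ℕ × List ℕ) := [
  (539, [3, 78, 134]),
  (542, [3, 78, 134]),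
  (400, [3, 95, 135]),
  (549, [3, 78, 135]),
  (402, [3, 95, 135]),
  (473, [90, 134]),
  (474, [90, 134]),
  (413, [3, 95, 134]),
  (418, [3, 94, 130]),
  (567, [3, 85, 130]),
  (420, [3, 94, 130]),
  (425, [3, 94, 130]),
  (576, [3, 110]),
  (429, [3, 94, 130]),
  (434, [3, 95, 134]),
  (436, [3, 95, 134]),
  (484, [86, 135]),
  (443, [3, 95, 134]),
  (486, [86, 135]),
  (449, [3, 95, 134]),
  (643, [93]),
  (648, [105, 135]),
  (362, [93]),
  (600, [3, 87, 134]),
  (656, []),
  (602, [3, 87, 134]),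
  (455, [3, 110, 135]),
  (363, [105, 135]),
  (603, [3, 97, 135]),
  (456, [3, 106, 135]),
  (364, []),
  (454, [3, 110, 135]),
  (500, [92, 130]),
  (501, [84, 130]),
  (604, [3, 94, 130]),
  (668, [])]

/-- The moves by letter 11, a part. -/
def certMoves11Part14 : List (ℕ × List ℕ) := [
  (606, [3, 94, 130]),
  (458, [3, 110, 135]),
  (370, []),
  (607, [3, 97, 135]),
  (459, [3, 106, 135]),
  (371, []),
  (608, [3, 94, 130]),
  (679, [135]),
  (519, [91]),
  (610, [3, 97, 135]),
  (611, [3, 94, 130]),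
  (375, [103, 135]),
  (461, [3, 92]),
  (518, [90, 134]),
  (517, [90, 134]),
  (512, [91]),
  (521, [105, 135]),
  (520, [105, 135]),
  (522, [91]),
  (613, [3, 92]),
  (524, [87, 134]),
  (525, [90, 134]),
  (614, [3, 92]),
  (528, [86, 135]),
  (527, [86, 135]),
  (529, [91]),
  (530, [77]),
  (531, [93]),
  (532, [91, 130]),
  (533, [87, 134]),
  (534, [90, 134]),
  (617, [3, 95, 135]),
  (708, [105, 135]),
  (619, [3, 95, 135]),
  (396, [101, 135]),
  (468, [3, 84])]

/-- The moves by letter 11, a part. -/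
def certMoves11Part15 : List (ℕ × List ℕ) := [
  (540, [105, 135]),
  (397, [105, 135]),
  (469, [3, 84]),
  (621, [3, 95, 135]),
  (719, []),
  (546, [110, 135]),
  (545, [110, 135]),
  (623, [3, 95, 135]),
  (401, []),
  (471, [3, 78, 135]),
  (551, [94, 130]),
  (550, [94, 130]),
  (624, [3, 92]),
  (553, [87, 134]),
  (554, [90, 134]),
  (555, [91, 130]),
  (556, [90, 134]),
  (557, [90, 134]),
  (626, [3, 92]),
  (560, [94, 135]),
  (559, [85, 135]),
  (627, [3, 94, 130]),
  (737, [91, 130]),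
  (564, [86, 135]),
  (563, [86, 135]),
  (629, [3, 94, 130]),
  (419, []),
  (477, [3, 85, 130]),
  (745, [101, 134]),
  (570, [101]),
  (569, [109]),
  (748, [91, 130]),
  (573, [86, 135]),
  (572, [86, 135]),
  (750, [91, 134]),
  (426, [91, 134])]

/-- The moves by letter 11, a part. -/
def certMoves11Part16 : List (ℕ × List ℕ) := [
  (480, [3, 106, 135]),
  (754, []),
  (579, [87, 134]),
  (578, [87, 134]),
  (758, []),
  (635, [3, 92]),
  (583, [91, 130]),
  (582, [91, 130]),
  (585, [93, 134]),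
  (584, [77, 134]),
  (586, [91, 130]),
  (587, [91, 130]),
  (588, [91, 130]),
  (766, [101, 134]),
  (638, [3, 92]),
  (592, [106, 135]),
  (591, [97, 135]),
  (593, [91, 130]),
  (594, [91, 130]),
  (595, [91, 130]),
  (597, [98]),
  (596, [98]),
  (644, [3, 94, 134]),
  (647, [3, 78, 134]),
  (491, [3, 87, 134]),
  (655, [3, 110]),
  (493, [3, 87, 134]),
  (496, [3, 99]),
  (502, [3, 94, 130]),
  (667, [3, 110]),
  (504, [3, 94, 130]),
  (507, [3, 99]),
  (510, [3, 94, 130]),
  (680, [3, 85, 130]),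
  (513, [3, 99]),
  (514, [3, 94, 130])]

/-- The moves by letter 11, a part. -/
def certMoves11Part17 : List (ℕ × List ℕ) := [
  (612, [91]),
  (523, [3, 95, 134]),
  (526, [3, 95, 134]),
  (615, [91]),
  (616, [86, 135]),
  (535, [3, 95, 135]),
  (709, [3, 111]),
  (537, [3, 95, 135]),
  (620, [110, 134]),
  (543, [3, 95, 135]),
  (718, [3, 108, 130]),
  (547, [3, 95, 135]),
  (552, [3, 95, 134]),
  (625, [86, 135]),
  (558, [3, 95, 134]),
  (561, [3, 94, 130]),
  (738, [3, 110]),
  (565, [3, 94, 130]),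
  (744, [3, 108, 135]),
  (749, [3, 85, 130]),
  (751, [3, 110]),
  (753, [3, 94, 130]),
  (757, [3, 95, 134]),
  (581, [3, 95, 134]),
  (636, [86, 135]),
  (765, [3, 95, 134]),
  (590, [3, 95, 134]),
  (639, [86, 135]),
  (772, [3, 87, 134]),
  (827, [105, 135]),
  (774, [3, 87, 134]),
  (488, [93]),
  (598, [3, 92, 134]),
  (775, [3, 97, 135]),
  (646, [105, 135]),
  (599, [3, 84])]

/-- The moves by letter 11, a part. -/
def certMoves11Part18 : List (ℕ × List ℕ) := [
  (489, [105, 135]),
  (777, [3, 87, 134]),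
  (843, []),
  (652, [84]),
  (651, [92]),
  (779, [3, 97, 135]),
  (780, [3, 87, 134]),
  (601, [3, 106, 135]),
  (492, []),
  (658, [99, 134]),
  (657, [99, 134]),
  (660, [89]),
  (659, [89]),
  (781, [3, 94, 130]),
  (857, [91, 130]),
  (664, [109, 130]),
  (663, [101, 130]),
  (783, [3, 97, 135]),
  (784, [3, 94, 130]),
  (605, [3, 106, 135]),
  (503, []),
  (866, []),
  (671, [87, 134]),
  (670, [87, 134]),
  (673, [89]),
  (672, [89]),
  (674, [77, 135]),
  (873, [91, 130]),
  (677, [109, 130]),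
  (676, [101, 130]),
  (874, [135]),
  (511, [135]),
  (609, [3, 85, 130]),
  (681, [77, 135]),
  (683, [105, 135]),
  (682, [105, 135])]

/-- The moves by letter 11, a part. -/
def certMoves11Part19 : List (ℕ × List ℕ) := [
  (880, [105, 130]),
  (686, [105, 130]),
  (685, [105, 130]),
  (687, [77]),
  (688, [27]),
  (888, [104, 135]),
  (793, [3, 92]),
  (692, [104, 135]),
  (691, [104, 135]),
  (693, [27]),
  (695, [86, 135]),
  (694, [86, 135]),
  (696, [89, 135]),
  (697, [27]),
  (698, [27]),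
  (699, [91, 130]),
  (700, [27, 130]),
  (701, [91, 130]),
  (796, [3, 95, 135]),
  (904, []),
  (705, [108, 135]),
  (704, [98, 135]),
  (706, [105, 135]),
  (799, [3, 95, 135]),
  (536, [105, 135]),
  (618, [3, 98, 130]),
  (911, [27, 130]),
  (712, [97]),
  (711, [97]),
  (713, [105, 135]),
  (714, [105, 135]),
  (914, []),
  (720, [89, 130]),
  (917, []),
  (622, [3, 102]),
  (544, [])]

/-- The moves by letter 11, a part. -/
def certMoves11Part20 : List (ℕ × List ℕ) := [
  (716, [89, 130]),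
  (919, []),
  (723, [103, 135]),
  (722, [103, 135]),
  (922, [108]),
  (805, [3, 92]),
  (727, [108]),
  (726, [108]),
  (728, [91, 130]),
  (729, [91, 130]),
  (730, [91, 130]),
  (732, [94, 135]),
  (731, [85, 135]),
  (929, []),
  (739, [86, 135]),
  (735, [91, 130]),
  (933, [91, 130]),
  (562, [91, 130]),
  (628, [3, 106, 135]),
  (734, [86, 135]),
  (937, []),
  (742, [90, 134]),
  (741, [90, 134]),
  (938, [93, 135]),
  (630, [3, 112]),
  (568, [101, 134]),
  (746, [91, 130]),
  (942, [91, 130]),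
  (571, [91, 130]),
  (631, [3, 85, 130]),
  (574, [91, 134]),
  (632, [3, 106, 135]),
  (945, []),
  (633, [3, 94, 130]),
  (577, []),
  (948, [])]

/-- The moves by letter 11, a part. -/
def certMoves11Part21 : List (ℕ × List ℕ) := [
  (950, []),
  (634, [3, 92]),
  (580, []),
  (760, [91, 130]),
  (759, [91, 130]),
  (761, [91, 130]),
  (762, [91, 130]),
  (954, [101, 134]),
  (955, []),
  (637, [3, 92]),
  (589, [101, 134]),
  (768, [106, 135]),
  (767, [97, 135]),
  (957, [27, 130]),
  (770, [91, 130]),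
  (771, [91, 130]),
  (640, [3, 87, 134]),
  (826, [3, 78, 134]),
  (642, [3, 87, 134]),
  (645, [3, 99]),
  (776, [110, 134]),
  (649, [3, 87, 134]),
  (842, [3, 112, 135]),
  (653, [3, 99]),
  (654, [3, 87, 134]),
  (661, [3, 94, 130]),
  (856, [3, 112, 135]),
  (665, [3, 99]),
  (666, [3, 94, 130]),
  (865, [3, 94, 130]),
  (786, [77, 135]),
  (872, [3, 111]),
  (875, [3, 85, 130]),
  (789, [77, 135]),
  (881, [3, 94, 130]),
  (791, [95])]

/-- The moves by letter 11, a part. -/
def certMoves11Part22 : List (ℕ × List ℕ) := [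
  (889, [3, 95, 134]),
  (690, [3, 95, 134]),
  (794, [27, 135]),
  (795, [86, 135]),
  (702, [3, 95, 135]),
  (903, [3, 111, 135]),
  (798, [110, 134]),
  (707, [3, 95, 135]),
  (910, [3, 77, 134]),
  (915, [3, 111]),
  (916, [3, 108, 130]),
  (918, [3, 95, 135]),
  (923, [3, 95, 134]),
  (725, [3, 95, 134]),
  (806, [86, 135]),
  (930, [3, 85, 130]),
  (808, [86, 135]),
  (934, [3, 110]),
  (936, [3, 94, 130]),
  (939, [3, 105]),
  (812, [86, 135]),
  (943, [3, 77, 135]),
  (946, [3, 77, 135]),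
  (951, [3, 95, 134]),
  (949, [3, 95, 134]),
  (953, [3, 95, 134]),
  (956, [3, 95, 134]),
  (958, [3, 95, 135]),
  (959, [3, 87, 134]),
  (1009, [135]),
  (831, [91]),
  (961, [3, 97, 135]),
  (824, [105, 135]),
  (963, [3, 87, 134]),
  (773, [3, 84]),
  (641, [105, 135])]

/-- The moves by letter 11, a part. -/
def certMoves11Part23 : List (ℕ × List ℕ) := [
  (1020, []),
  (830, [103, 135]),
  (829, [103, 135]),
  (822, [91]),
  (832, [77]),
  (836, [77]),
  (834, [105, 135]),
  (835, [105, 135]),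
  (833, [77]),
  (837, [77, 135]),
  (1028, []),
  (840, [111, 134]),
  (839, [111, 134]),
  (1031, []),
  (778, [3, 97]),
  (650, []),
  (844, [77, 135]),
  (846, [111, 134]),
  (845, [111, 134]),
  (1035, [105, 130]),
  (849, [105, 130]),
  (848, [105, 130]),
  (850, [77, 135]),
  (1041, []),
  (853, [104, 130]),
  (852, [104, 130]),
  (854, [91, 130]),
  (1047, [91, 130]),
  (782, [3, 97]),
  (662, [91, 130]),
  (858, [77, 135]),
  (860, [104, 130]),
  (859, [104, 130]),
  (1051, [101, 134]),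
  (863, [101, 134]),
  (862, [101, 134])]

/-- The moves by letter 11, a part. -/
def certMoves11Part24 : List (ℕ × List ℕ) := [
  (1054, [101, 134]),
  (785, [3, 94, 130]),
  (669, []),
  (978, [3, 97, 135]),
  (868, [93, 135]),
  (869, [77, 135]),
  (870, [91, 130]),
  (1063, [91, 130]),
  (787, [3, 98, 130]),
  (675, [91, 130]),
  (678, [135]),
  (788, [3, 85, 130]),
  (981, [3, 98, 135]),
  (877, [77, 135]),
  (878, [77, 135]),
  (1069, []),
  (684, [105, 130]),
  (790, [3, 94, 130]),
  (983, [3, 98, 135]),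
  (883, [77]),
  (884, [77]),
  (885, [93]),
  (1079, []),
  (1080, [104, 135]),
  (689, [104, 135]),
  (792, [3, 92]),
  (891, [104, 135]),
  (890, [104, 135]),
  (892, [89, 135]),
  (893, [89, 135]),
  (894, [135]),
  (895, [89, 135]),
  (896, [91, 130]),
  (897, [91, 130]),
  (898, [84, 130]),
  (1089, [])]

/-- The moves by letter 11, a part. -/
def certMoves11Part25 : List (ℕ × List ℕ) := [
  (905, [110, 135]),
  (1090, [85, 134]),
  (1092, []),
  (797, [3, 106, 134]),
  (703, []),
  (900, [110, 135]),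
  (906, [105, 135]),
  (907, [105, 135]),
  (909, [99, 134]),
  (908, [99, 134]),
  (800, [3, 85]),
  (710, [27, 130]),
  (1095, []),
  (1096, []),
  (715, []),
  (801, [3, 98, 130]),
  (802, [3, 102]),
  (717, []),
  (803, [3, 95, 135]),
  (721, []),
  (1099, [108]),
  (1101, [101, 134]),
  (724, [108]),
  (804, [3, 92]),
  (925, [108]),
  (924, [108]),
  (926, [91, 130]),
  (927, [91, 130]),
  (1103, []),
  (733, []),
  (807, [3, 85, 130]),
  (931, [91, 130]),
  (932, [91, 130]),
  (736, [91, 130]),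
  (809, [3, 106, 135]),
  (935, [91, 130])]

/-- The moves by letter 11, a part. -/
def certMoves11Part26 : List (ℕ × List ℕ) := [
  (810, [3, 94, 130]),
  (740, []),
  (743, [93, 135]),
  (811, [3, 112, 130]),
  (940, [91, 130]),
  (941, [91, 130]),
  (747, [91, 130]),
  (813, [3, 77, 135]),
  (944, [91, 130]),
  (752, []),
  (814, [3, 77, 135]),
  (1109, []),
  (755, []),
  (816, [3, 92]),
  (756, []),
  (815, [3, 92]),
  (1111, []),
  (817, [3, 92]),
  (763, [101, 134]),
  (764, []),
  (818, [3, 92]),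
  (769, [27, 130]),
  (819, [3, 95, 135]),
  (820, [3, 87, 134]),
  (1010, [3, 98, 130]),
  (823, [3, 99]),
  (962, [110, 134]),
  (825, [3, 87, 134]),
  (1019, [3, 87, 134]),
  (965, [95]),
  (966, [77, 135]),
  (1027, [3, 110]),
  (1030, [3, 112, 135]),
  (969, [77, 135]),
  (1036, [3, 87, 134]),
  (971, [77, 135])]

/-- The moves by letter 11, a part. -/
def certMoves11Part27 : List (ℕ × List ℕ) := [
  (1040, [3, 110]),
  (973, [86, 135]),
  (1046, [3, 112, 135]),
  (975, [77, 135]),
  (1052, [3, 94, 130]),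
  (1053, [3, 90, 134]),
  (867, [3, 99]),
  (979, [86, 135]),
  (1062, [3, 111]),
  (876, [3, 100]),
  (1068, [3, 112]),
  (882, [3, 100]),
  (984, [95]),
  (1078, [3, 112]),
  (1081, [3, 95, 134]),
  (987, [27, 135]),
  (988, [27, 135]),
  (989, [84, 130]),
  (1088, [3, 108, 130]),
  (1093, [3, 108, 130]),
  (1091, [3, 111, 135]),
  (1097, [3, 108, 130]),
  (1098, [3, 111]),
  (1100, [3, 95, 134]),
  (1102, [3, 95, 134]),
  (1104, [3, 95, 134]),
  (998, [86, 135]),
  (999, [86, 135]),
  (1110, [3, 95, 134]),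
  (1112, [3, 95, 134]),
  (1002, [77, 135]),
  (1003, [84, 130]),
  (1143, [27, 130]),
  (1006, [103, 134]),
  (1005, [105, 134]),
  (1147, [27, 130])]

/-- The moves by letter 11, a part. -/
def certMoves11Part28 : List (ℕ × List ℕ) := [
  (1148, [135]),
  (821, [135]),
  (960, [3, 111]),
  (1011, [77]),
  (1012, [77, 135]),
  (1014, [97, 135]),
  (1013, [106, 135]),
  (1015, [105, 135]),
  (1016, [105, 135]),
  (1018, [101, 134]),
  (1017, [101, 134]),
  (964, [3, 87, 134]),
  (828, []),
  (1021, [77]),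
  (1022, [77]),
  (1120, [3, 97, 135]),
  (1024, [77, 135]),
  (1159, []),
  (1161, []),
  (967, [3, 106, 135]),
  (838, []),
  (1029, [77, 135]),
  (968, [3, 97]),
  (841, []),
  (1123, [3, 100]),
  (1033, [77, 135]),
  (1034, [93, 135]),
  (847, [105, 130]),
  (970, [3, 87, 134]),
  (1124, [3, 97, 135]),
  (1038, [77, 135]),
  (1169, []),
  (972, [3, 106, 135]),
  (851, []),
  (1042, [77, 135]),
  (1043, [91, 130])]

/-- The moves by letter 11, a part. -/
def certMoves11Part29 : List (ℕ × List ℕ) := [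
  (1044, [91, 130]),
  (1045, [91, 130]),
  (974, [3, 97]),
  (855, [91, 130]),
  (1127, [3, 100]),
  (1049, [77, 135]),
  (1050, [77, 135]),
  (861, [101, 134]),
  (976, [3, 94, 130]),
  (977, [3, 90, 134]),
  (864, [101, 134]),
  (1055, [89, 135]),
  (1129, [3, 97, 135]),
  (1058, [105, 135]),
  (1057, [105, 135]),
  (1059, [91, 130]),
  (1060, [91, 130]),
  (1061, [91, 130]),
  (980, [3, 98, 130]),
  (871, [91, 130]),
  (1131, [3, 98, 135]),
  (1132, [3, 98, 135]),
  (1067, [103, 130]),
  (1066, [103, 130]),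
  (982, [3, 108, 135]),
  (879, []),
  (1133, [3, 98, 135]),
  (1134, [3, 98, 135]),
  (1135, [3, 98, 135]),
  (1074, [107, 135]),
  (1073, [107, 135]),
  (1075, [77]),
  (1076, [93]),
  (1197, []),
  (985, [3, 108, 135]),
  (886, [])]

/-- The moves by letter 11, a part. -/
def certMoves11Part30 : List (ℕ × List ℕ) := [
  (887, [104, 135]),
  (986, [3, 92]),
  (1082, [89, 135]),
  (1083, [89, 135]),
  (1084, [89, 135]),
  (1085, [135]),
  (1086, [89, 135]),
  (1087, [84, 130]),
  (990, [3, 102]),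
  (899, []),
  (901, [85, 134]),
  (992, [3, 106, 134]),
  (902, []),
  (991, [3, 102]),
  (1094, [92, 130]),
  (912, []),
  (913, []),
  (993, [3, 102]),
  (994, [3, 98, 130]),
  (920, [108]),
  (995, [3, 92]),
  (921, [101, 134]),
  (996, [3, 92]),
  (928, []),
  (997, [3, 92]),
  (1105, [91, 130]),
  (1106, [27, 130]),
  (1107, [91, 130]),
  (1108, [91, 130]),
  (947, []),
  (1000, [3, 92]),
  (952, []),
  (1001, [3, 92]),
  (1113, [77, 135]),
  (1114, [84, 130]),
  (1144, [3, 102])]

/-- The moves by letter 11, a part. -/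
def certMoves11Part31 : List (ℕ × List ℕ) := [
  (1146, [3, 109, 135]),
  (1149, [3, 98, 130]),
  (1118, [95]),
  (1119, [77, 135]),
  (1023, [3, 99]),
  (1158, [3, 112, 135]),
  (1160, [3, 110]),
  (1032, [3, 98, 135]),
  (1037, [3, 99]),
  (1168, [3, 112, 135]),
  (1126, [86, 135]),
  (1048, [3, 98, 135]),
  (1128, [27, 135]),
  (1056, [3, 99]),
  (1130, [86, 135]),
  (1064, [3, 100]),
  (1065, [3, 100]),
  (1070, [3, 100]),
  (1071, [3, 100]),
  (1072, [3, 100]),
  (1196, [3, 112]),
  (1137, [27, 135]),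
  (1138, [91]),
  (1202, [3, 97, 135]),
  (1140, [93, 135]),
  (1141, [92, 130]),
  (1142, [84, 130]),
  (1004, [27, 130]),
  (1115, [3, 108, 130]),
  (1145, [93, 135]),
  (1116, [3, 108, 134]),
  (1007, [27, 130]),
  (1008, [135]),
  (1117, [3, 111]),
  (1150, [77]),
  (1151, [93])]

/-- The moves by letter 11, a part. -/
def certMoves11Part32 : List (ℕ × List ℕ) := [
  (1152, [77, 135]),
  (1153, [93, 135]),
  (1203, [3, 106]),
  (1204, [3, 97, 135]),
  (1157, [92]),
  (1156, [84]),
  (1121, [3, 97]),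
  (1025, []),
  (1122, [3, 106, 135]),
  (1026, []),
  (1205, [3, 100]),
  (1164, [103, 130]),
  (1163, [103, 130]),
  (1206, [3, 106]),
  (1167, [104, 130]),
  (1166, [104, 130]),
  (1125, [3, 97]),
  (1039, []),
  (1170, [91, 130]),
  (1171, [91, 130]),
  (1173, [109, 134]),
  (1172, [109, 134]),
  (1174, [89, 135]),
  (1175, [89, 135]),
  (1176, [89, 135]),
  (1178, [106, 130]),
  (1177, [97, 130]),
  (1179, [135]),
  (1180, [91, 130]),
  (1181, [91, 130]),
  (1209, [3, 98, 135]),
  (1184, [97, 135]),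
  (1183, [106, 135]),
  (1186, []),
  (1185, []),
  (1210, [3, 98, 135])]

/-- The moves by letter 11, a part. -/
def certMoves11Part33 : List (ℕ × List ℕ) := [
  (1211, [3, 98, 135]),
  (1194, [107, 135]),
  (1212, [3, 98, 135]),
  (1192, [107, 135]),
  (1191, [107, 135]),
  (1195, []),
  (1189, [107, 135]),
  (1193, []),
  (1136, [3, 108, 135]),
  (1077, []),
  (1198, [91]),
  (1199, [135]),
  (1200, [89, 135]),
  (1201, [91]),
  (1139, [3, 99]),
  (1154, [3, 100, 135]),
  (1155, [3, 99]),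
  (1162, [3, 98, 135]),
  (1165, [3, 100, 135]),
  (1207, [27, 135]),
  (1208, [27, 135]),
  (1182, [3, 100]),
  (1187, [3, 100]),
  (1188, [3, 100]),
  (1190, [3, 100]),
  (1213, [91]),
  (1214, [27]),
  (1216, [91, 130]),
  (1215, [91, 130]),
  (1217, [27]),
  (1244, [3, 106]),
  (1221, [91, 134]),
  (1222, [92]),
  (1219, [91, 134]),
  (1220, [84]),
  (1224, [])]

/-- The moves by letter 11, a part. -/
def certMoves11Part34 : List (ℕ × List ℕ) := [
  (1223, []),
  (1226, [105]),
  (1225, [103]),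
  (1227, [89, 135]),
  (1228, [89, 135]),
  (1229, [135]),
  (1230, [89, 135]),
  (1231, [89, 135]),
  (1233, [101, 134]),
  (1232, [101, 134]),
  (1246, [3, 98, 135]),
  (1240, [107, 135]),
  (1236, [77]),
  (1238, [102, 135]),
  (1237, [102, 135]),
  (1241, []),
  (1235, [107, 135]),
  (1239, []),
  (1242, [27]),
  (1243, [27]),
  (1218, [3, 100, 135]),
  (1245, [27, 135]),
  (1234, [3, 100]),
  (1247, [95]),
  (1249, [27, 130]),
  (1248, [27, 130]),
  (1250, [89, 135]),
  (1251, [89, 135]),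
  (1252, [77]),
  (1254, [102, 135]),
  (1253, [102, 135]),
  (1255, [77]),
  (1256, [77]),
  (1257, [95]),
  (1258, [77]),
  (1259, [77])]

/-- The moves by letter 11, in equal parts. -/
def certMoves11C : List (List (ℕ × List ℕ)) := [certMoves11Part0, certMoves11Part1, certMoves11Part2, certMoves11Part3, certMoves11Part4, certMoves11Part5, certMoves11Part6, certMoves11Part7, certMoves11Part8, certMoves11Part9, certMoves11Part10, certMoves11Part11, certMoves11Part12, certMoves11Part13, certMoves11Part14, certMoves11Part15, certMoves11Part16, certMoves11Part17, certMoves11Part18, certMoves11Part19, certMoves11Part20, certMoves11Part21, certMoves11Part22, certMoves11Part23, certMoves11Part24, certMoves11Part25, certMoves11Part26, certMoves11Part27, certMoves11Part28, certMoves11Part29, certMoves11Part30, certMoves11Part31, certMoves11Part32, certMoves11Part33, certMoves11Part34]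

/-- The moves by letter 11. -/
def certMoves11 : List (ℕ × List ℕ) := certMoves11C.flatten

/-- The moves by letter 12, a part. -/
def certMoves12Part0 : List (ℕ × List ℕ) := [
  (1, [3]),
  (0, [3]),
  (5, [3]),
  (6, [3]),
  (7, [7, 31, 42, 67, 98, 130]),
  (2, [3]),
  (3, [3]),
  (4, [0, 3]),
  (8, [94, 130]),
  (15, [3]),
  (16, [7, 31, 42, 67, 98, 130]),
  (11, [86, 134]),
  (12, [86, 134]),
  (18, [7, 31, 42, 67, 98, 130]),
  (14, [94, 130]),
  (9, [3]),
  (10, [0, 3]),
  (17, [86, 134]),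
  (13, [0, 3]),
  (19, [86, 134]),
  (20, [94, 130]),
  (21, [94, 130]),
  (22, [86, 134]),
  (35, [3, 95, 135]),
  (24, [86, 134]),
  (34, [7, 31, 42, 67, 98, 130]),
  (38, [3]),
  (27, [86, 134]),
  (39, [3, 89, 134]),
  (29, [86, 134]),
  (30, [86, 134]),
  (31, [94, 130]),
  (32, [111, 135]),
  (33, [86, 134]),
  (25, [0, 3]),
  (23, [3, 95, 135])]

/-- The moves by letter 12, a part. -/
def certMoves12Part1 : List (ℕ × List ℕ) := [
  (36, [86, 134]),
  (37, [86]),
  (26, [3]),
  (28, [3, 88]),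
  (40, [91]),
  (61, [3, 92, 130]),
  (42, [91]),
  (43, [94, 130]),
  (64, [3, 87, 134]),
  (65, [3]),
  (46, [86, 134]),
  (67, [3, 87, 134]),
  (66, [7, 31, 42, 67, 91, 130]),
  (68, [3, 89, 134]),
  (50, [86, 134]),
  (51, [86, 134]),
  (69, [3]),
  (98, [86]),
  (55, [86]),
  (54, [86]),
  (71, [3, 89, 134]),
  (58, [86]),
  (57, [86]),
  (59, [91]),
  (60, [111, 135]),
  (41, [3, 92, 130]),
  (62, [91]),
  (63, [86]),
  (44, [3, 87, 134]),
  (45, [3]),
  (48, [0, 3, 95, 135]),
  (47, [3, 87, 134]),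
  (49, [3, 88]),
  (52, [3]),
  (97, [3]),
  (56, [3, 88])]

/-- The moves by letter 12, a part. -/
def certMoves12Part2 : List (ℕ × List ℕ) := [
  (72, [77, 135]),
  (73, [94, 130]),
  (74, [27]),
  (106, [3, 92, 130]),
  (76, [77, 135]),
  (105, [7, 31, 42, 67, 90, 134]),
  (78, [95]),
  (79, [27]),
  (80, [27]),
  (110, [3, 95, 135]),
  (109, [7, 31, 42, 67, 107, 134]),
  (111, [3]),
  (143, [86]),
  (86, [86]),
  (85, [86]),
  (113, [3, 87, 134]),
  (151, [107, 130]),
  (90, [107, 130]),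
  (89, [107, 130]),
  (115, [3, 89, 134]),
  (93, [86]),
  (92, [86]),
  (157, []),
  (99, [86]),
  (158, []),
  (70, [3]),
  (53, [86]),
  (95, [86]),
  (101, [86]),
  (100, [86]),
  (102, [90, 130]),
  (103, [77, 135]),
  (104, [94, 130]),
  (77, [0, 3, 92, 130]),
  (75, [3, 92, 130]),
  (107, [77, 135])]

/-- The moves by letter 12, a part. -/
def certMoves12Part3 : List (ℕ × List ℕ) := [
  (108, [77]),
  (82, [0, 3, 87, 134]),
  (81, [3, 95, 135]),
  (83, [3]),
  (142, [3]),
  (87, [3, 87, 134]),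
  (150, [3, 87, 134]),
  (91, [3, 88]),
  (156, [3]),
  (159, [3, 88]),
  (118, [77, 135]),
  (162, [3, 92, 130]),
  (120, [77, 135]),
  (121, [94, 130]),
  (122, [108, 134]),
  (123, [94, 130]),
  (124, [85, 130]),
  (125, [77, 135]),
  (165, [7, 31, 42, 67, 90, 134]),
  (127, [77, 135]),
  (168, [3, 99]),
  (129, [77, 135]),
  (130, [77, 135]),
  (131, [95]),
  (132, [78]),
  (133, [95]),
  (170, [3, 95, 135]),
  (213, []),
  (137, [103, 135]),
  (136, [103, 135]),
  (218, []),
  (139, [95, 135]),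
  (144, [86]),
  (221, []),
  (112, [3]),
  (84, [86])]

/-- The moves by letter 12, a part. -/
def certMoves12Part4 : List (ℕ × List ℕ) := [
  (140, [86]),
  (145, [84, 130]),
  (228, [107, 130]),
  (148, [107, 130]),
  (147, [107, 130]),
  (230, []),
  (114, [3, 87, 134]),
  (88, [107, 130]),
  (153, [86]),
  (152, [86]),
  (233, []),
  (234, []),
  (116, [3]),
  (94, []),
  (96, []),
  (117, [3, 89, 134]),
  (160, [109, 134]),
  (161, [77, 135]),
  (119, [3, 92, 130]),
  (163, [94, 130]),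
  (164, [109, 135]),
  (126, [0, 3, 92, 130]),
  (166, [77, 135]),
  (167, [77, 135]),
  (128, [3, 97, 135]),
  (169, [77]),
  (134, [3, 95, 135]),
  (212, [3, 95, 135]),
  (217, [3]),
  (173, [95, 135]),
  (222, [3, 88]),
  (175, [84, 130]),
  (227, [3, 87, 134]),
  (231, [3, 97, 135]),
  (235, [3]),
  (236, [3, 88])]

/-- The moves by letter 12, a part. -/
def certMoves12Part5 : List (ℕ × List ℕ) := [
  (238, [3, 92, 130]),
  (181, [77, 135]),
  (239, [3, 92, 130]),
  (270, [109, 134]),
  (185, [109, 134]),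
  (184, [109, 134]),
  (186, [108, 134]),
  (242, [3, 27]),
  (188, [94, 130]),
  (189, [108, 134]),
  (190, [108, 134]),
  (191, [98, 134]),
  (192, [85, 130]),
  (193, [77, 135]),
  (245, [3, 99]),
  (195, [77, 135]),
  (196, [77, 135]),
  (246, [3, 86, 134]),
  (247, [3, 99]),
  (199, [77, 135]),
  (248, [3, 99]),
  (202, [135]),
  (201, [135]),
  (203, [77, 135]),
  (204, [95]),
  (205, [78]),
  (206, [84, 130]),
  (307, [94, 135]),
  (208, [95, 135]),
  (210, [94, 135]),
  (209, [85, 135]),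
  (310, []),
  (171, [3, 95, 135]),
  (135, []),
  (314, []),
  (254, [3, 108])]

/-- The moves by letter 12, a part. -/
def certMoves12Part6 : List (ℕ × List ℕ) := [
  (318, []),
  (172, [3]),
  (138, []),
  (219, [95, 135]),
  (220, [95, 135]),
  (141, []),
  (174, [3, 89, 134]),
  (223, [110, 134]),
  (224, [84, 130]),
  (326, []),
  (226, [110, 134]),
  (176, [3, 87, 134]),
  (146, [107, 130]),
  (229, [92, 130]),
  (149, []),
  (177, [3, 99]),
  (331, [86]),
  (154, []),
  (155, []),
  (178, [3]),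
  (179, [3, 89, 134]),
  (237, [109, 134]),
  (180, [3, 92, 130]),
  (182, [3, 92, 130]),
  (269, [3, 92, 130]),
  (241, [109, 135]),
  (187, [3, 27]),
  (243, [109, 135]),
  (244, [77, 135]),
  (194, [3, 97, 135]),
  (197, [3, 86, 134]),
  (198, [3, 97, 135]),
  (200, [3, 97, 135]),
  (249, [84, 130]),
  (306, [3, 95, 135]),
  (251, [95, 135])]

/-- The moves by letter 12, a part. -/
def certMoves12Part7 : List (ℕ × List ℕ) := [
  (311, [3, 95, 135]),
  (319, [3]),
  (215, [3, 99, 135]),
  (320, [3, 88]),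
  (256, [105, 135]),
  (327, [3, 97, 135]),
  (258, [105, 135]),
  (332, [3, 88]),
  (333, [3, 92, 130]),
  (369, [130]),
  (263, [130]),
  (262, [130]),
  (335, [3, 86, 134]),
  (378, []),
  (337, [3, 27]),
  (271, [109, 134]),
  (382, []),
  (240, [3, 92, 130]),
  (183, [109, 134]),
  (267, [109, 134]),
  (272, [108, 134]),
  (390, [100, 135]),
  (274, [110, 134]),
  (275, [108, 134]),
  (276, [108, 134]),
  (342, [3, 27]),
  (279, [100, 135]),
  (278, [100, 135]),
  (280, [108, 134]),
  (281, [108, 134]),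
  (343, [3, 86, 134]),
  (344, [3, 99]),
  (284, [91]),
  (285, [77, 135]),
  (286, [77, 135]),
  (346, [3, 99])]

/-- The moves by letter 12, a part. -/
def certMoves12Part8 : List (ℕ × List ℕ) := [
  (289, [102, 134]),
  (288, [102, 134]),
  (412, [103, 130]),
  (292, [103, 130]),
  (291, [103, 130]),
  (348, [3, 99]),
  (415, [109, 134]),
  (296, [107, 130]),
  (295, [107, 130]),
  (298, [78]),
  (297, [78]),
  (299, [110, 134]),
  (300, [91]),
  (301, [84, 130]),
  (302, [92, 130]),
  (427, []),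
  (353, [3, 108]),
  (305, [110, 134]),
  (250, [3, 95, 135]),
  (207, [85, 135]),
  (308, [95, 135]),
  (309, [78, 135]),
  (211, []),
  (252, [3, 95, 135]),
  (355, [3, 108]),
  (437, [86]),
  (214, []),
  (357, [3, 99]),
  (317, [100, 135]),
  (316, [100, 135]),
  (216, []),
  (253, [3]),
  (255, [3, 89, 134]),
  (321, [110, 134]),
  (447, []),
  (323, [110, 134])]

/-- The moves by letter 12, a part. -/
def certMoves12Part9 : List (ℕ × List ℕ) := [
  (324, [110, 134]),
  (325, [110, 134]),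
  (225, []),
  (257, [3, 99]),
  (328, [110, 134]),
  (329, [110, 134]),
  (330, [86]),
  (232, [86]),
  (259, [3, 89, 134]),
  (260, [3, 92, 130]),
  (368, [3, 92, 130]),
  (264, [3, 86, 134]),
  (377, [3, 92, 130]),
  (266, [3, 27]),
  (383, [3, 97, 135]),
  (339, [109, 135]),
  (389, [3, 27]),
  (341, [105, 135]),
  (277, [3, 27]),
  (282, [3, 86, 134]),
  (283, [3, 97, 135]),
  (345, [91]),
  (287, [3, 97, 135]),
  (411, [3, 86, 134]),
  (293, [3, 97, 135]),
  (416, [3, 97, 135]),
  (350, [105, 135]),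
  (351, [91]),
  (428, [3, 88]),
  (304, [3, 99, 135]),
  (354, [105, 135]),
  (312, [3, 99, 135]),
  (439, [3, 88]),
  (315, [3, 97, 135]),
  (358, [105, 135]),
  (446, [3, 108, 130])]

/-- The moves by letter 12, a part. -/
def certMoves12Part10 : List (ℕ × List ℕ) := [
  (360, [105, 135]),
  (361, [134]),
  (454, [3, 86, 134]),
  (495, [130]),
  (364, [94, 130]),
  (366, [130]),
  (365, [130]),
  (500, []),
  (334, [3, 92, 130]),
  (261, [130]),
  (506, [101, 130]),
  (371, [86, 134]),
  (373, [101, 130]),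
  (372, [109, 130]),
  (512, []),
  (516, [100, 135]),
  (517, [100, 135]),
  (336, [3, 92, 130]),
  (265, []),
  (463, [3, 27]),
  (381, [100, 135]),
  (380, [100, 135]),
  (268, []),
  (338, [3, 99]),
  (524, []),
  (385, [110, 134]),
  (386, [108, 134]),
  (531, []),
  (533, []),
  (340, [3, 27]),
  (273, [100, 135]),
  (391, [110, 134]),
  (392, [108, 134]),
  (393, [110, 134]),
  (395, [100, 135]),
  (394, [100, 135])]

/-- The moves by letter 12, a part. -/
def certMoves12Part11 : List (ℕ × List ℕ) := [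
  (539, [103, 130]),
  (397, [86, 134]),
  (399, [103, 130]),
  (398, [103, 130]),
  (470, [3, 99]),
  (401, [95]),
  (550, [109, 134]),
  (404, [135]),
  (403, [135]),
  (405, [27]),
  (406, [27]),
  (408, [102, 134]),
  (407, [102, 134]),
  (553, []),
  (474, [3, 99]),
  (347, [3, 86, 134]),
  (290, [103, 130]),
  (559, [100, 135]),
  (417, [107, 130]),
  (294, [109, 134]),
  (349, [3, 99]),
  (414, [107, 130]),
  (418, [110, 134]),
  (419, [95]),
  (570, []),
  (421, [110, 134]),
  (422, [99, 134]),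
  (423, [27]),
  (424, [27]),
  (479, [3, 108]),
  (426, [110, 134]),
  (303, []),
  (352, [3, 89, 134]),
  (429, [95]),
  (431, [111]),
  (430, [102])]

/-- The moves by letter 12, a part. -/
def certMoves12Part12 : List (ℕ × List ℕ) := [
  (432, [110, 134]),
  (433, [110, 134]),
  (482, [3, 99]),
  (438, [78]),
  (436, [86]),
  (313, [86]),
  (435, [78]),
  (356, [3, 89, 134]),
  (484, [3, 99]),
  (442, [98, 134]),
  (441, [98, 134]),
  (592, []),
  (444, [110, 134]),
  (595, [105, 135]),
  (359, [3, 102]),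
  (322, []),
  (448, [110, 134]),
  (596, [110, 134]),
  (450, [110, 134]),
  (451, [110, 134]),
  (452, [86]),
  (453, [86]),
  (362, [3, 86, 134]),
  (494, [3, 92, 130]),
  (456, [94, 130]),
  (501, [3, 92]),
  (505, [3, 86, 134]),
  (459, [86, 134]),
  (519, [3, 92, 130]),
  (515, [3, 27]),
  (518, [3, 99, 135]),
  (379, [3, 27]),
  (525, [3, 99, 135]),
  (465, [105, 135]),
  (530, [3, 27]),
  (534, [3, 97, 135])]

/-- The moves by letter 12, a part. -/
def certMoves12Part13 : List (ℕ × List ℕ) := [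
  (538, [3, 86, 134]),
  (469, [86, 134]),
  (400, [3, 97, 135]),
  (471, [77]),
  (551, [3, 97, 135]),
  (554, [3, 97, 135]),
  (410, [3, 97, 135]),
  (560, [3, 97, 135]),
  (476, [105, 135]),
  (477, [77]),
  (569, [3, 102]),
  (425, [3, 99, 135]),
  (480, [105, 135]),
  (481, [77]),
  (434, [3, 97, 135]),
  (483, [134]),
  (440, [3, 97, 135]),
  (591, [3, 108, 134]),
  (594, [3, 108, 130]),
  (597, [3, 87, 134]),
  (644, []),
  (599, [3]),
  (499, [105, 130]),
  (651, []),
  (492, [108, 134]),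
  (657, [87, 130]),
  (455, [3, 92, 130]),
  (363, [130]),
  (496, [94, 130]),
  (497, [94, 130]),
  (498, [85, 130]),
  (490, [105, 130]),
  (367, []),
  (457, [3, 95, 134]),
  (663, []),
  (605, [3, 89, 134])]

/-- The moves by letter 12, a part. -/
def certMoves12Part14 : List (ℕ × List ℕ) := [
  (670, [92, 134]),
  (458, [3, 86, 134]),
  (370, [109, 130]),
  (507, [86, 134]),
  (508, [86, 134]),
  (509, [88, 134]),
  (676, []),
  (679, [109, 134]),
  (374, []),
  (683, [87]),
  (611, [3, 89, 134]),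
  (461, [3, 27]),
  (375, [100, 135]),
  (376, [100, 135]),
  (462, [3, 108]),
  (460, [3, 92, 130]),
  (521, [87]),
  (520, [87]),
  (688, []),
  (691, [87]),
  (384, []),
  (464, [3, 108]),
  (526, [90, 130]),
  (527, [110, 134]),
  (528, [110, 134]),
  (697, []),
  (466, [3, 27]),
  (387, []),
  (700, []),
  (388, []),
  (467, [3, 99]),
  (704, []),
  (618, [3, 89, 134]),
  (619, [3, 99]),
  (468, [3, 86, 134]),
  (396, [103, 130])]

/-- The moves by letter 12, a part. -/
def certMoves12Part15 : List (ℕ × List ℕ) := [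
  (540, [86, 134]),
  (541, [86, 134]),
  (542, [88, 134]),
  (543, [95]),
  (718, [87, 130]),
  (546, [78]),
  (545, [78]),
  (623, [3, 89, 134]),
  (548, [78]),
  (549, [95]),
  (402, [109, 134]),
  (472, [3, 99]),
  (624, [3, 99]),
  (409, []),
  (473, [3, 99]),
  (625, [3, 99]),
  (557, [101, 134]),
  (556, [101, 134]),
  (731, [87, 130]),
  (413, [100, 135]),
  (475, [3, 99]),
  (561, [95]),
  (737, [92, 134]),
  (563, [110, 134]),
  (564, [110, 134]),
  (629, [3, 108]),
  (566, [78]),
  (567, [95]),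
  (745, [105, 135]),
  (478, [3, 108, 130]),
  (420, []),
  (571, [95]),
  (573, [110, 134]),
  (572, [110, 134]),
  (750, [110, 134]),
  (575, [110, 134])]

/-- The moves by letter 12, a part. -/
def certMoves12Part16 : List (ℕ × List ℕ) := [
  (576, [110, 134]),
  (577, [95]),
  (578, [95]),
  (579, [78]),
  (634, [3, 99]),
  (581, [27, 135]),
  (583, [104, 130]),
  (582, [104, 130]),
  (584, [86]),
  (585, [86]),
  (586, [95]),
  (588, [108, 134]),
  (587, [108, 134]),
  (766, [84, 130]),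
  (767, [91, 135]),
  (485, [3, 109, 135]),
  (443, []),
  (639, [3, 89, 134]),
  (486, [3, 102]),
  (445, [105, 135]),
  (449, [110, 134]),
  (487, [3, 87, 134]),
  (643, [3, 86, 134]),
  (489, [3]),
  (652, [3, 92]),
  (601, [109, 135]),
  (658, [3, 104]),
  (603, [94, 130]),
  (664, [3, 99, 135]),
  (503, [3, 88]),
  (671, [3, 90, 130]),
  (607, [86, 134]),
  (677, [3, 99, 135]),
  (680, [3, 99, 135]),
  (682, [3, 27]),
  (514, [3, 88])]

/-- The moves by letter 12, a part. -/
def certMoves12Part17 : List (ℕ × List ℕ) := [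
  (693, [3, 99, 135]),
  (692, [3, 108, 134]),
  (614, [86, 130]),
  (698, [3, 88]),
  (701, [3, 97, 135]),
  (705, [3, 97, 135]),
  (536, [3, 88]),
  (537, [3, 97, 135]),
  (620, [86, 134]),
  (621, [77]),
  (719, [3, 104]),
  (547, [3, 88]),
  (552, [3, 97, 135]),
  (555, [3, 97, 135]),
  (732, [3, 88, 134]),
  (627, [77]),
  (738, [3, 108, 130]),
  (565, [3, 99, 135]),
  (744, [3, 102]),
  (631, [77]),
  (751, [3, 95, 135]),
  (633, [77]),
  (580, [3, 97, 135]),
  (635, [89, 135]),
  (636, [77]),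
  (765, [3, 108, 134]),
  (768, [3, 108, 130]),
  (593, [3, 88]),
  (822, []),
  (827, [99, 135]),
  (829, [99, 135]),
  (598, [3, 86, 134]),
  (488, []),
  (775, [3]),
  (776, [3]),
  (648, [99, 135])]

/-- The moves by letter 12, a part. -/
def certMoves12Part18 : List (ℕ × List ℕ) := [
  (647, [99, 135]),
  (649, [108, 134]),
  (842, [109, 134]),
  (491, []),
  (600, [3, 95, 134]),
  (653, [108, 134]),
  (849, [130]),
  (655, [108, 134]),
  (656, [98, 134]),
  (493, [87, 130]),
  (602, [3, 99, 130]),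
  (659, [94, 130]),
  (660, [85, 130]),
  (781, [3, 89, 134]),
  (856, [103, 130]),
  (502, []),
  (604, [3, 108]),
  (783, [3, 89, 134]),
  (862, [27, 134]),
  (668, [106, 130]),
  (667, [97, 130]),
  (865, [92, 134]),
  (504, [92, 134]),
  (606, [3, 88, 130]),
  (672, [86, 134]),
  (673, [88, 134]),
  (868, []),
  (787, [3, 89, 134]),
  (510, []),
  (608, [3, 108]),
  (678, [109, 134]),
  (511, [109, 134]),
  (609, [3, 108]),
  (789, [3, 89, 134]),
  (610, [3, 27]),
  (513, [87])]

/-- The moves by letter 12, a part. -/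
def certMoves12Part19 : List (ℕ × List ℕ) := [
  (790, [3, 89, 134]),
  (686, [100, 134]),
  (685, [100, 134]),
  (884, [87]),
  (522, []),
  (888, [87]),
  (690, [87]),
  (523, [87]),
  (613, [3, 109, 135]),
  (612, [3, 108]),
  (694, [90, 130]),
  (695, [87, 130]),
  (894, []),
  (529, []),
  (615, [3, 89, 134]),
  (795, [3, 89, 134]),
  (532, []),
  (616, [3, 99]),
  (796, [3, 89, 134]),
  (797, [3, 99]),
  (535, []),
  (617, [3, 99]),
  (798, [3, 89, 134]),
  (707, [95]),
  (709, [90]),
  (708, [90]),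
  (800, [3, 99]),
  (712, [91, 135]),
  (711, [91, 135]),
  (713, [86, 134]),
  (714, [88, 134]),
  (801, [3, 89, 134]),
  (716, [95]),
  (916, [100, 135]),
  (544, [87, 130]),
  (622, [3, 99, 130])]

/-- The moves by letter 12, a part. -/
def certMoves12Part20 : List (ℕ × List ℕ) := [
  (720, [95]),
  (803, [3, 89, 134]),
  (723, [102, 134]),
  (722, [102, 134]),
  (804, [3, 99]),
  (925, [90]),
  (727, [90]),
  (726, [90]),
  (728, [95]),
  (730, [103, 130]),
  (729, [103, 130]),
  (558, [87, 130]),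
  (626, [3, 88, 134]),
  (807, [3, 108]),
  (734, [95]),
  (932, [92, 134]),
  (934, [84, 130]),
  (562, [92, 134]),
  (628, [3, 102]),
  (739, [95]),
  (810, [3, 108]),
  (742, [100, 135]),
  (741, [100, 135]),
  (939, []),
  (630, [3, 108, 130]),
  (568, [105, 135]),
  (746, [95]),
  (813, [3, 100]),
  (748, [95]),
  (749, [95]),
  (574, [110, 134]),
  (632, [3, 95, 135]),
  (814, [3, 99]),
  (753, [95]),
  (754, [78]),
  (755, [95])]

/-- The moves by letter 12, a part. -/
def certMoves12Part21 : List (ℕ × List ℕ) := [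
  (756, [27, 135]),
  (758, [103]),
  (757, [105]),
  (759, [27, 135]),
  (760, [91, 135]),
  (761, [95]),
  (762, [95]),
  (953, [91, 135]),
  (818, [3, 89, 134]),
  (637, [3, 109, 135]),
  (589, [84, 130]),
  (590, [91, 135]),
  (638, [3, 102]),
  (819, [3, 89, 134]),
  (771, [93]),
  (770, [93]),
  (831, [3, 86, 134]),
  (826, [3]),
  (830, [3, 92]),
  (645, [3]),
  (646, [3]),
  (777, [109, 135]),
  (843, [3, 85, 134]),
  (779, [109, 135]),
  (848, [3, 101, 135]),
  (661, [3, 88]),
  (857, [3, 27, 134]),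
  (665, [3, 88]),
  (863, [3, 109]),
  (866, [3, 89, 135]),
  (869, [3, 88]),
  (675, [3, 88]),
  (788, [103, 130]),
  (681, [3, 88]),
  (684, [3, 88]),
  (885, [3, 88])]

/-- The moves by letter 12, a part. -/
def certMoves12Part22 : List (ℕ × List ℕ) := [
  (889, [3, 108, 134]),
  (793, [27, 134]),
  (895, [3, 88]),
  (699, [3, 88]),
  (702, [3, 88]),
  (703, [3, 97, 135]),
  (706, [3, 88]),
  (799, [77]),
  (710, [3, 97, 135]),
  (715, [3, 88]),
  (917, [3, 91, 130]),
  (721, [3, 88]),
  (724, [3, 97, 135]),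
  (924, [3, 97, 135]),
  (806, [77]),
  (733, [3, 99, 135]),
  (935, [3, 108, 130]),
  (933, [3, 106, 134]),
  (740, [3, 99, 135]),
  (938, [3, 101, 135]),
  (812, [77]),
  (747, [3, 98, 135]),
  (752, [3, 97, 135]),
  (815, [77]),
  (816, [89, 135]),
  (954, [3, 102]),
  (764, [3, 88]),
  (769, [3, 88]),
  (1005, []),
  (1009, [103, 130]),
  (640, []),
  (1014, []),
  (1016, [99, 135]),
  (825, [108, 134]),
  (773, [3]),
  (641, [99, 135])]

/-- The moves by letter 12, a part. -/
def certMoves12Part23 : List (ℕ × List ℕ) := [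
  (1019, [99, 135]),
  (642, [99, 135]),
  (774, [3, 95, 134]),
  (772, [3, 86, 134]),
  (965, [3]),
  (836, [99, 135]),
  (835, [99, 135]),
  (834, [99, 135]),
  (833, [99, 135]),
  (837, [108, 134]),
  (1028, [92]),
  (839, [108, 134]),
  (840, [108, 134]),
  (841, [109, 134]),
  (650, [109, 134]),
  (778, [3, 84, 134]),
  (1034, []),
  (845, [108, 134]),
  (846, [108, 134]),
  (1036, [130]),
  (780, [3, 98, 134]),
  (654, [130]),
  (971, [3, 89, 134]),
  (1040, [87]),
  (853, [110, 134]),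
  (852, [110, 134]),
  (1044, [103, 130]),
  (855, [103, 130]),
  (662, [103, 130]),
  (782, [3, 87]),
  (1049, [27, 134]),
  (860, [87]),
  (859, [87]),
  (1051, [27, 134]),
  (666, [27, 134]),
  (784, [3, 97, 130])]

/-- The moves by letter 12, a part. -/
def certMoves12Part24 : List (ℕ × List ℕ) := [
  (864, [108, 134]),
  (669, [92, 134]),
  (785, [3, 91, 135]),
  (978, [3, 89, 134]),
  (674, []),
  (786, [3, 89, 134]),
  (979, [3, 89, 134]),
  (1063, [97, 134]),
  (873, [97, 134]),
  (872, [97, 134]),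
  (874, [109, 134]),
  (875, [101, 134]),
  (981, [3, 89, 134]),
  (878, [91, 134]),
  (877, [91, 134]),
  (1069, [97, 135]),
  (881, [100, 134]),
  (880, [100, 134]),
  (1073, [87]),
  (883, [87]),
  (687, [87]),
  (791, [3, 89, 134]),
  (985, [3, 89, 134]),
  (887, [87]),
  (689, [87]),
  (792, [3, 109, 135]),
  (890, [87]),
  (891, [87]),
  (987, [3, 89, 134]),
  (893, [110, 134]),
  (696, []),
  (794, [3, 89, 134]),
  (897, [108, 134]),
  (896, [108, 134]),
  (989, [3, 89, 134]),
  (899, [95])]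

/-- The moves by letter 12, a part. -/
def certMoves12Part25 : List (ℕ × List ℕ) := [
  (905, [108, 134]),
  (991, [3, 99]),
  (1092, [77, 134]),
  (904, [77, 134]),
  (903, [93, 134]),
  (900, [108, 134]),
  (907, [90]),
  (906, [90]),
  (908, [95]),
  (909, [78]),
  (911, [103, 130]),
  (910, [103, 130]),
  (993, [3, 89, 134]),
  (994, [3, 94]),
  (915, [108, 135]),
  (914, [98, 135]),
  (717, [100, 135]),
  (802, [3, 88, 135]),
  (919, [78, 130]),
  (918, [95, 130]),
  (1100, [90]),
  (921, [95]),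
  (923, [90]),
  (922, [90]),
  (805, [3, 99]),
  (725, [90]),
  (926, [95]),
  (927, [95]),
  (997, [3, 108]),
  (930, [109, 130]),
  (929, [101, 130]),
  (1106, []),
  (735, [92, 134]),
  (809, [3, 111, 135]),
  (736, [84, 130]),
  (808, [3, 102])]

/-- The moves by letter 12, a part. -/
def certMoves12Part26 : List (ℕ × List ℕ) := [
  (937, [109, 130]),
  (936, [101, 130]),
  (811, [3, 98, 134]),
  (743, []),
  (999, [3, 99]),
  (941, [95]),
  (943, [97, 134]),
  (942, [97, 134]),
  (944, [95]),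
  (946, [106, 135]),
  (945, [97, 135]),
  (947, [91]),
  (948, [78]),
  (949, [27, 135]),
  (950, [91, 135]),
  (951, [78]),
  (1001, [3, 94]),
  (763, [91, 135]),
  (817, [3, 108, 130]),
  (956, [84, 134]),
  (955, [84, 134]),
  (958, [93]),
  (957, [93]),
  (1006, [3, 99, 135]),
  (1010, [3, 92]),
  (1013, [3]),
  (1015, [3]),
  (963, [109, 135]),
  (1020, [3, 103, 134]),
  (832, [3]),
  (966, [109, 135]),
  (1027, [3, 98, 134]),
  (968, [103, 130]),
  (1033, [3, 101, 135]),
  (1035, [3, 101, 135]),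
  (850, [3, 88])]

/-- The moves by letter 12, a part. -/
def certMoves12Part27 : List (ℕ × List ℕ) := [
  (1041, [3, 112, 134]),
  (1045, [3, 27, 134]),
  (974, [109, 134]),
  (1050, [3, 88]),
  (1052, [3, 109]),
  (977, [109, 135]),
  (867, [3, 88]),
  (870, [3, 88]),
  (1062, [3, 88]),
  (876, [3, 88]),
  (1068, [3, 27]),
  (1074, [3, 27]),
  (984, [27, 134]),
  (886, [3, 88]),
  (986, [27, 134]),
  (892, [3, 88]),
  (988, [105, 135]),
  (898, [3, 88]),
  (990, [77]),
  (901, [3, 97, 135]),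
  (1091, [3, 97, 135]),
  (912, [3, 88]),
  (913, [3, 93, 134]),
  (1099, [3, 97, 135]),
  (996, [77]),
  (928, [3, 99, 135]),
  (1105, [3, 106, 134]),
  (940, [3, 97, 135]),
  (1000, [91]),
  (952, [3, 93, 134]),
  (1140, []),
  (1141, []),
  (1004, [108, 134]),
  (820, []),
  (959, [3, 108]),
  (1146, [103, 130])]

/-- The moves by letter 12, a part. -/
def certMoves12Part28 : List (ℕ × List ℕ) := [
  (1008, [103, 130]),
  (821, [103, 130]),
  (960, [3, 95, 134]),
  (1151, []),
  (1012, [108, 134]),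
  (961, [3]),
  (823, []),
  (962, [3]),
  (824, [99, 135]),
  (1017, [108, 134]),
  (1018, [108, 134]),
  (828, [99, 135]),
  (964, [3, 111, 130]),
  (1022, [99, 135]),
  (1021, [99, 135]),
  (1157, []),
  (1024, [108, 134]),
  (1158, [94, 130]),
  (1160, [94, 130]),
  (967, [3, 101, 135]),
  (838, [84]),
  (1029, [108, 134]),
  (1030, [109, 134]),
  (1031, [101, 134]),
  (1164, [109, 135]),
  (969, [3, 98, 134]),
  (844, []),
  (970, [3, 98, 134]),
  (847, [130]),
  (1166, [87]),
  (1042, [110, 134]),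
  (1168, [86, 134]),
  (851, [87]),
  (972, [3, 104, 135]),
  (1038, [110, 134]),
  (1043, [103, 130])]

/-- The moves by letter 12, a part. -/
def certMoves12Part29 : List (ℕ × List ℕ) := [
  (854, [103, 130]),
  (973, [3, 87]),
  (1046, [103, 130]),
  (1047, [103, 130]),
  (1172, [27, 134]),
  (858, [27, 134]),
  (975, [3, 89, 134]),
  (861, [27, 134]),
  (976, [3, 97, 130]),
  (1053, [108, 134]),
  (1054, [108, 134]),
  (1128, [3, 89, 134]),
  (1178, []),
  (1058, [88, 134]),
  (1057, [88, 134]),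
  (1181, [107, 130]),
  (1061, [97, 134]),
  (1060, [97, 134]),
  (980, [3, 89, 134]),
  (871, [97, 134]),
  (1184, []),
  (1185, [112, 135]),
  (1067, [87]),
  (1066, [87]),
  (982, [3, 27]),
  (879, [106, 135]),
  (1133, [3, 89, 134]),
  (1071, [87]),
  (1072, [110, 134]),
  (882, [87]),
  (983, [3, 27]),
  (1075, [87]),
  (1076, [87]),
  (1077, [86, 134]),
  (1079, [108, 130]),
  (1078, [98, 130])]

/-- The moves by letter 12, a part. -/
def certMoves12Part30 : List (ℕ × List ℕ) := [
  (1080, [87]),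
  (1081, [87]),
  (1199, []),
  (1085, []),
  (1084, [110, 134]),
  (1083, []),
  (1086, [110, 134]),
  (1094, [108, 134]),
  (1088, [95]),
  (1089, [78]),
  (1093, [77, 134]),
  (992, [3, 99]),
  (902, [93, 134]),
  (1090, [93, 134]),
  (1087, [108, 134]),
  (1097, [111, 134]),
  (1098, [101, 130]),
  (1095, [111, 134]),
  (1096, [109, 130]),
  (995, [3, 99]),
  (920, [90]),
  (1101, [95]),
  (1102, [78]),
  (1104, [102]),
  (1103, [111]),
  (998, [3, 111, 135]),
  (931, []),
  (1108, [107, 130]),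
  (1107, [107, 130]),
  (1109, [27]),
  (1110, [27]),
  (1112, [91]),
  (1111, [91]),
  (1145, [3, 99, 135]),
  (1142, [3, 99, 135]),
  (1115, [109, 135])]

/-- The moves by letter 12, a part. -/
def certMoves12Part31 : List (ℕ × List ℕ) := [
  (1147, [3, 86, 134]),
  (1117, [109, 134]),
  (1150, [3]),
  (1119, [109, 135]),
  (1156, [3, 98, 134]),
  (1159, [3, 105, 134]),
  (1161, [3, 107, 130]),
  (1163, [3, 101, 135]),
  (1167, [3, 88]),
  (1169, [3, 102, 130]),
  (1126, [109, 134]),
  (1173, [3, 89, 134]),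
  (1055, [3, 88]),
  (1177, [3, 88]),
  (1180, [3, 87, 134]),
  (1183, [3, 27]),
  (1186, [3, 95]),
  (1070, [3, 88]),
  (1134, [27, 134]),
  (1135, [105, 135]),
  (1136, [86, 134]),
  (1200, [3, 84]),
  (1214, []),
  (1139, [108, 134]),
  (1002, []),
  (1003, []),
  (1114, [3, 108]),
  (1143, [108, 134]),
  (1144, [108, 134]),
  (1113, [3, 108]),
  (1007, [103, 130]),
  (1116, [3, 86, 134]),
  (1148, [103, 130]),
  (1149, [103, 130]),
  (1118, [3]),
  (1011, [])]

/-- The moves by letter 12, a part. -/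
def certMoves12Part32 : List (ℕ × List ℕ) := [
  (1152, [108, 134]),
  (1153, [108, 134]),
  (1219, [94, 130]),
  (1220, [94, 130]),
  (1120, [3, 101, 135]),
  (1023, []),
  (1025, [94, 130]),
  (1121, [3, 102, 130]),
  (1026, [94, 130]),
  (1122, [3, 111, 134]),
  (1223, [90, 130]),
  (1123, [3, 98, 134]),
  (1032, [109, 135]),
  (1225, [86, 134]),
  (1037, [87]),
  (1124, [3, 89, 134]),
  (1039, [86, 134]),
  (1125, [3, 105, 134]),
  (1170, [103, 130]),
  (1171, [103, 130]),
  (1048, [27, 134]),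
  (1127, [3, 88]),
  (1229, []),
  (1230, [109, 134]),
  (1179, [88, 134]),
  (1129, [3, 89, 134]),
  (1056, []),
  (1176, [88, 134]),
  (1130, [3, 87, 134]),
  (1059, [107, 130]),
  (1182, [110, 134]),
  (1131, [3, 27]),
  (1064, []),
  (1065, [112, 135]),
  (1132, [3, 93]),
  (1187, [86, 134])]

/-- The moves by letter 12, a part. -/
def certMoves12Part33 : List (ℕ × List ℕ) := [
  (1237, [86]),
  (1194, [88, 134]),
  (1190, [90, 130]),
  (1191, [87]),
  (1192, [87]),
  (1193, [110, 134]),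
  (1189, [88, 134]),
  (1195, [99, 134]),
  (1196, [86, 134]),
  (1197, [88, 134]),
  (1242, []),
  (1082, []),
  (1137, [3, 78, 134]),
  (1217, [3, 99, 135]),
  (1202, [109, 135]),
  (1221, [3, 98, 134]),
  (1222, [3, 101, 135]),
  (1224, [3, 104, 134]),
  (1226, [3, 88]),
  (1228, [3, 87, 134]),
  (1231, [3, 77, 134]),
  (1209, [105, 135]),
  (1210, [86, 134]),
  (1238, [3, 95]),
  (1212, [86, 130]),
  (1243, [3, 84]),
  (1138, []),
  (1215, [108, 134]),
  (1216, [108, 134]),
  (1201, [3, 108]),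
  (1248, [109, 134]),
  (1154, [94, 130]),
  (1155, [94, 130]),
  (1203, [3, 101, 135]),
  (1204, [3, 98, 134]),
  (1162, [90, 130])]

/-- The moves by letter 12, a part. -/
def certMoves12Part34 : List (ℕ × List ℕ) := [
  (1205, [3, 109, 130]),
  (1165, [86, 134]),
  (1206, [3, 89, 134]),
  (1227, [110, 134]),
  (1207, [3, 87, 134]),
  (1174, []),
  (1175, [109, 134]),
  (1208, [3, 85]),
  (1232, [110, 134]),
  (1233, [99, 134]),
  (1234, [86]),
  (1235, [86, 134]),
  (1255, [86]),
  (1188, [86]),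
  (1211, [3, 93]),
  (1239, [90, 130]),
  (1240, [86, 134]),
  (1241, [87, 130]),
  (1198, []),
  (1213, [3, 78, 134]),
  (1249, [3, 95, 130]),
  (1245, [105, 135]),
  (1246, [134]),
  (1256, [3, 95]),
  (1218, [109, 134]),
  (1244, [3, 94, 135]),
  (1250, [110, 134]),
  (1251, [110, 134]),
  (1252, [86]),
  (1253, [86]),
  (1254, [88]),
  (1236, [86]),
  (1247, [3, 93]),
  (1257, [134]),
  (1258, [86]),
  (1259, [88])]

/-- The moves by letter 12, in equal parts. -/
def certMoves12C : List (List (ℕ × List ℕ)) := [certMoves12Part0, certMoves12Part1, certMoves12Part2, certMoves12Part3, certMoves12Part4, certMoves12Part5, certMoves12Part6, certMoves12Part7, certMoves12Part8, certMoves12Part9, certMoves12Part10, certMoves12Part11, certMoves12Part12, certMoves12Part13, certMoves12Part14, certMoves12Part15, certMoves12Part16, certMoves12Part17, certMoves12Part18, certMoves12Part19, certMoves12Part20, certMoves12Part21, certMoves12Part22, certMoves12Part23, certMoves12Part24, certMoves12Part25,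 certMoves12Part26, certMoves12Part27, certMoves12Part28, certMoves12Part29, certMoves12Part30, certMoves12Part31, certMoves12Part32, certMoves12Part33, certMoves12Part34]

/-- The moves by letter 12. -/
def certMoves12 : List (ℕ × List ℕ) := certMoves12C.flatten

/-- The moves by letter 13, a part. -/
def certMoves13Part0 : List (ℕ × List ℕ) := [
  (0, [94, 130]),
  (1, [94, 130]),
  (5, [3, 94, 130]),
  (3, [94, 130]),
  (4, [94, 130]),
  (2, [3, 94, 130]),
  (6, [94, 130]),
  (7, [111, 135]),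
  (14, [3, 94, 130]),
  (15, [3, 94, 130]),
  (16, [7, 31, 42, 67, 101]),
  (11, [91]),
  (12, [91]),
  (13, [94, 130]),
  (8, [3, 94, 130]),
  (9, [3, 94, 130]),
  (10, [0, 3, 111, 135]),
  (17, [91]),
  (18, [111, 135]),
  (19, [91]),
  (31, [3, 94, 130]),
  (32, [7, 31, 42, 67, 27, 135]),
  (22, [90, 134]),
  (23, [90, 134]),
  (24, [90, 134]),
  (34, [7, 31, 42, 67, 101]),
  (26, [94, 130]),
  (27, [27]),
  (28, [95]),
  (29, [27]),
  (30, [27]),
  (20, [3, 94, 130]),
  (21, [0, 3, 94, 130]),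
  (33, [90, 134]),
  (25, [0, 3, 111, 135]),
  (35, [90, 134])]

/-- The moves by letter 13, a part. -/
def certMoves13Part1 : List (ℕ × List ℕ) := [
  (36, [90, 134]),
  (37, [90, 130]),
  (38, [94, 130]),
  (39, [77]),
  (40, [90, 134]),
  (41, [90, 134]),
  (42, [90, 134]),
  (60, [7, 31, 42, 67, 27, 135]),
  (64, [3, 94, 130]),
  (65, [3, 94, 130]),
  (46, [87, 134]),
  (67, [3, 94, 130]),
  (48, [90, 134]),
  (68, [3, 95, 134]),
  (50, [87, 134]),
  (51, [87, 134]),
  (52, [94, 130]),
  (53, [108, 134]),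
  (54, [94, 130]),
  (55, [85, 130]),
  (56, [95]),
  (57, [78]),
  (58, [95]),
  (59, [90, 134]),
  (43, [0, 3, 94, 130]),
  (61, [90, 134]),
  (62, [90, 134]),
  (63, [91, 130]),
  (44, [3, 94, 130]),
  (45, [3, 94, 130]),
  (66, [91, 130]),
  (47, [3, 94, 130]),
  (49, [3, 92]),
  (69, [94, 130]),
  (70, [109, 135]),
  (71, [77])]

/-- The moves by letter 13, a part. -/
def certMoves13Part2 : List (ℕ × List ℕ) := [
  (103, [3, 94, 130]),
  (104, [3, 94, 130]),
  (74, [90, 134]),
  (106, [3, 95, 135]),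
  (107, [3, 94, 130]),
  (77, [90, 134]),
  (108, [3, 95, 134]),
  (79, [90, 134]),
  (80, [90, 134]),
  (81, [90, 134]),
  (109, [7, 31, 42, 67, 102, 130]),
  (111, [3, 94, 130]),
  (143, [104, 134]),
  (86, [95, 130]),
  (85, [78, 130]),
  (113, [3, 94, 130]),
  (150, [102, 134]),
  (90, [102, 134]),
  (89, [102, 134]),
  (115, [3, 95, 134]),
  (93, [85]),
  (92, [94]),
  (94, [108, 134]),
  (95, [94, 130]),
  (96, [108, 134]),
  (97, [108, 134]),
  (98, [98, 134]),
  (99, [85, 130]),
  (100, [95]),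
  (101, [78]),
  (102, [91, 130]),
  (72, [3, 94, 130]),
  (73, [3, 94, 130]),
  (105, [91, 130]),
  (75, [3, 95, 135]),
  (76, [3, 94, 130])]

/-- The moves by letter 13, a part. -/
def certMoves13Part3 : List (ℕ × List ℕ) := [
  (78, [3, 92]),
  (82, [0, 3, 112]),
  (110, [90, 134]),
  (83, [3, 94, 130]),
  (142, [3, 109, 135]),
  (87, [3, 94, 130]),
  (151, [3, 94, 130]),
  (91, [3, 92]),
  (116, [109, 135]),
  (117, [109, 135]),
  (161, [3, 87, 134]),
  (119, [90, 134]),
  (160, [7, 31, 42, 67, 27, 135]),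
  (163, [3, 94, 130]),
  (191, [27, 130]),
  (124, [27, 130]),
  (123, [27, 130]),
  (166, [3, 87, 134]),
  (165, [7, 31, 42, 67]),
  (167, [3, 94, 130]),
  (202, [104, 134]),
  (130, [104, 134]),
  (129, [107, 134]),
  (169, [3, 95, 134]),
  (133, [91, 130]),
  (132, [91, 130]),
  (134, [90, 134]),
  (171, [3, 95, 134]),
  (136, [90, 134]),
  (137, [87, 134]),
  (218, [108, 134]),
  (173, [3, 93, 135]),
  (144, [95, 130]),
  (221, [108, 134]),
  (112, [3, 108, 134]),
  (84, [107, 134])]

/-- The moves by letter 13, a part. -/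
def certMoves13Part4 : List (ℕ × List ℕ) := [
  (140, [78, 130]),
  (175, [3, 93, 135]),
  (227, [102, 134]),
  (148, [102, 134]),
  (147, [102, 134]),
  (231, []),
  (88, [102, 134]),
  (114, [3, 94, 130]),
  (153, [94]),
  (152, [85]),
  (154, [108, 134]),
  (155, [110, 134]),
  (156, [108, 134]),
  (157, [108, 134]),
  (158, [108, 134]),
  (159, [108, 134]),
  (120, [0, 3, 94, 130]),
  (118, [3, 87, 134]),
  (162, [90, 134]),
  (121, [3, 94, 130]),
  (190, [3, 94, 130]),
  (126, [0, 3, 85]),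
  (125, [3, 87, 134]),
  (127, [3, 94, 130]),
  (201, [3, 94, 130]),
  (131, [3, 92]),
  (170, [90, 134]),
  (135, [3, 92]),
  (217, [3, 109, 135]),
  (139, [3, 93, 135]),
  (222, [3, 110, 135]),
  (145, [3, 93, 135]),
  (228, [3, 94, 130]),
  (230, [3, 97, 135]),
  (178, [109, 135]),
  (179, [105, 135])]

/-- The moves by letter 13, a part. -/
def certMoves13Part5 : List (ℕ × List ℕ) := [
  (238, [3, 95, 135]),
  (237, [7, 31, 42, 67, 107, 134]),
  (182, [90, 134]),
  (240, [3, 95, 134]),
  (184, [90, 134]),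
  (185, [87, 134]),
  (276, []),
  (242, [3, 93, 135]),
  (192, [27, 130]),
  (280, []),
  (164, [3, 94, 130]),
  (122, [27, 130]),
  (188, [27, 130]),
  (244, [3, 87, 134]),
  (289, []),
  (196, [104, 134]),
  (195, [107, 134]),
  (246, [3, 93, 135]),
  (296, []),
  (203, [104, 134]),
  (297, []),
  (168, [3, 94, 130]),
  (128, [107, 134]),
  (199, [107, 134]),
  (205, [91, 130]),
  (204, [91, 130]),
  (249, [3, 93, 135]),
  (250, [3, 95, 134]),
  (251, [3, 93, 135]),
  (209, [90, 134]),
  (210, [90, 134]),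
  (252, [3, 95, 134]),
  (213, [130]),
  (212, [130]),
  (314, [108, 134]),
  (317, [])]

/-- The moves by letter 13, a part. -/
def certMoves13Part6 : List (ℕ × List ℕ) := [
  (318, [110, 134]),
  (172, [3, 108, 134]),
  (138, [108, 134]),
  (220, [110]),
  (219, [99]),
  (141, [108, 134]),
  (174, [3, 98]),
  (324, []),
  (229, [88, 135]),
  (327, []),
  (328, [87, 130]),
  (146, [102, 134]),
  (176, [3, 94, 130]),
  (224, [88, 135]),
  (177, [3, 99]),
  (149, []),
  (232, [110, 134]),
  (233, [108, 134]),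
  (234, [110, 134]),
  (235, [108, 134]),
  (236, [110, 134]),
  (181, [0, 3, 87, 134]),
  (180, [3, 95, 135]),
  (239, [90, 134]),
  (183, [3, 92]),
  (275, [3, 94, 130]),
  (187, [3, 93, 135]),
  (281, [3, 84]),
  (193, [3, 87, 134]),
  (288, [3, 87, 134]),
  (197, [3, 93, 135]),
  (295, [3, 94, 130]),
  (298, [3, 110, 135]),
  (206, [3, 93, 135]),
  (207, [3, 92]),
  (208, [3, 93, 135])]

/-- The moves by letter 13, a part. -/
def certMoves13Part7 : List (ℕ × List ℕ) := [
  (211, [3, 92]),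
  (319, [3, 109, 135]),
  (316, [3, 93, 135]),
  (320, [3, 106, 135]),
  (323, [3, 93, 135]),
  (326, [3, 97, 135]),
  (329, [3, 100, 130]),
  (259, [105, 135]),
  (333, [3, 95, 135]),
  (368, [90, 135]),
  (263, [90, 135]),
  (262, [90, 135]),
  (335, [3, 93, 135]),
  (336, [3, 95, 134]),
  (337, [3, 93, 135]),
  (267, [90, 134]),
  (338, [3, 95, 134]),
  (270, [112, 130]),
  (269, [100, 130]),
  (271, [87, 134]),
  (386, []),
  (389, [106]),
  (391, []),
  (241, [3, 94, 130]),
  (186, []),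
  (277, [95, 135]),
  (279, [106]),
  (278, [106]),
  (189, []),
  (243, [3, 78, 134]),
  (282, [84, 130]),
  (404, [111, 130]),
  (284, [84, 130]),
  (286, [111, 130]),
  (285, [102, 130]),
  (407, [])]

/-- The moves by letter 13, a part. -/
def certMoves13Part8 : List (ℕ × List ℕ) := [
  (245, [3, 87, 134]),
  (194, []),
  (412, [84, 135]),
  (292, [110]),
  (291, [99]),
  (414, []),
  (415, [88]),
  (247, [3, 94, 130]),
  (198, []),
  (200, []),
  (248, [3, 98]),
  (422, [88, 135]),
  (300, [90, 134]),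
  (302, [88, 135]),
  (301, [88, 135]),
  (352, [3, 95, 134]),
  (431, [88, 135]),
  (432, [102, 135]),
  (307, [94, 134]),
  (306, [94, 134]),
  (309, [88, 135]),
  (308, [88, 135]),
  (311, [130]),
  (310, [130]),
  (435, []),
  (437, [101, 134]),
  (214, [108, 134]),
  (441, []),
  (254, [3, 93, 135]),
  (215, []),
  (216, [110, 134]),
  (253, [3, 108, 134]),
  (255, [3, 110]),
  (444, []),
  (446, [90]),
  (256, [3, 93, 135])]

/-- The moves by letter 13, a part. -/
def certMoves13Part9 : List (ℕ × List ℕ) := [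
  (223, []),
  (450, [102, 135]),
  (257, [3, 99]),
  (225, []),
  (226, [87, 130]),
  (258, [3, 103]),
  (330, [90, 130]),
  (331, [110, 134]),
  (332, [110, 134]),
  (260, [3, 95, 135]),
  (369, [3, 95, 135]),
  (264, [3, 93, 135]),
  (265, [3, 92]),
  (266, [3, 93, 135]),
  (268, [3, 92]),
  (392, [3, 94, 130]),
  (390, [3, 93, 135]),
  (393, [3, 92]),
  (342, [95, 135]),
  (343, [84, 130]),
  (403, [3, 87, 134]),
  (345, [84, 130]),
  (408, [3, 87, 134]),
  (411, [3, 97, 130]),
  (417, [3, 94, 130]),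
  (416, [3, 86]),
  (421, [3, 93, 135]),
  (351, [90, 134]),
  (303, [3, 92]),
  (430, [3, 93, 135]),
  (433, [3, 84]),
  (438, [3, 106, 135]),
  (439, [3, 106, 135]),
  (442, [3, 92]),
  (448, [3, 93, 135]),
  (447, [3, 97, 135])]

/-- The moves by letter 13, a part. -/
def certMoves13Part10 : List (ℕ × List ℕ) := [
  (451, [3, 91, 135]),
  (361, [86, 130]),
  (362, [84, 130]),
  (494, [90, 135]),
  (364, [84, 130]),
  (366, [90, 135]),
  (365, [90, 135]),
  (501, []),
  (261, [90, 135]),
  (334, [3, 95, 135]),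
  (506, [88, 135]),
  (371, [90, 134]),
  (373, [97]),
  (372, [97]),
  (460, [3, 95, 134]),
  (515, [106]),
  (517, [91, 130]),
  (378, [90, 135]),
  (377, [90, 135]),
  (379, [95, 135]),
  (381, [106]),
  (380, [106]),
  (383, [98, 134]),
  (382, [98, 134]),
  (525, []),
  (527, [91, 130]),
  (272, []),
  (466, [3, 108]),
  (534, []),
  (273, [106]),
  (340, [3, 93, 135]),
  (274, []),
  (339, [3, 94, 130]),
  (341, [3, 95, 134]),
  (394, [95, 135]),
  (395, [95, 135])]

/-- The moves by letter 13, a part. -/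
def certMoves13Part11 : List (ℕ × List ℕ) := [
  (396, [110, 134]),
  (469, [3, 87, 134]),
  (398, [84, 130]),
  (399, [92, 130]),
  (545, []),
  (401, [110, 134]),
  (402, [110, 134]),
  (344, [3, 87, 134]),
  (283, [102, 130]),
  (405, [84, 130]),
  (406, [92, 130]),
  (287, []),
  (346, [3, 87, 134]),
  (553, [110, 134]),
  (556, [91, 135]),
  (347, [3, 109]),
  (290, [92, 135]),
  (559, [91, 130]),
  (293, []),
  (294, [88]),
  (349, [3, 134]),
  (348, [3, 94, 130]),
  (563, []),
  (477, [3, 95, 134]),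
  (478, [3, 95, 134]),
  (350, [3, 93, 135]),
  (299, [88, 135]),
  (423, [90, 134]),
  (424, [90, 134]),
  (572, []),
  (575, [87, 130]),
  (428, [95]),
  (427, [95]),
  (481, [3, 95, 134]),
  (353, [3, 93, 135]),
  (304, [88, 135])]

/-- The moves by letter 13, a part. -/
def certMoves13Part12 : List (ℕ × List ℕ) := [
  (305, [102, 135]),
  (354, [3, 78, 134]),
  (582, [86, 135]),
  (312, []),
  (436, [91, 130]),
  (313, [101, 134]),
  (355, [3, 110]),
  (356, [3, 110]),
  (587, []),
  (315, []),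
  (357, [3, 95, 134]),
  (591, [86, 135]),
  (321, []),
  (594, [90]),
  (322, [90]),
  (359, [3, 99]),
  (358, [3, 93, 135]),
  (449, [91, 130]),
  (325, [102, 135]),
  (360, [3, 89, 135]),
  (452, [90, 130]),
  (453, [87, 130]),
  (454, [84, 130]),
  (495, [3, 95, 135]),
  (456, [84, 130]),
  (500, [3, 92]),
  (505, [3, 97, 130]),
  (459, [90, 134]),
  (374, [3, 92]),
  (516, [3, 93, 135]),
  (518, [3, 84]),
  (463, [95, 135]),
  (524, [3, 99, 135]),
  (528, [3, 92]),
  (387, [3, 99, 135]),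
  (533, [3, 97, 135])]

/-- The moves by letter 13, a part. -/
def certMoves13Part13 : List (ℕ × List ℕ) := [
  (468, [105, 135]),
  (397, [3, 87, 134]),
  (546, [3, 110, 135]),
  (471, [105, 135]),
  (472, [105, 135]),
  (554, [3, 86]),
  (557, [3, 86, 130]),
  (560, [3, 86]),
  (564, [3, 84]),
  (419, [3, 92]),
  (420, [3, 92]),
  (573, [3, 84]),
  (576, [3, 112, 130]),
  (429, [3, 92]),
  (583, [3, 92]),
  (483, [86, 135]),
  (588, [3, 84]),
  (592, [3, 97, 135]),
  (595, [3, 93, 130]),
  (487, [86, 135]),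
  (488, [110, 134]),
  (599, [3, 95, 135]),
  (490, [84, 130]),
  (652, []),
  (492, [110, 134]),
  (493, [110, 134]),
  (363, [90, 135]),
  (455, [3, 95, 135]),
  (496, [91]),
  (497, [92, 130]),
  (498, [84, 130]),
  (499, [92, 130]),
  (457, [3, 95, 134]),
  (367, []),
  (663, [110, 134]),
  (605, [3, 95, 134])]

/-- The moves by letter 13, a part. -/
def certMoves13Part14 : List (ℕ × List ℕ) := [
  (606, [3, 95, 134]),
  (458, [3, 109]),
  (370, [88, 135]),
  (507, [91]),
  (508, [87, 134]),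
  (509, [90, 134]),
  (677, []),
  (679, [88]),
  (519, [90, 135]),
  (610, [3, 108]),
  (611, [3, 95, 134]),
  (375, [106]),
  (461, [3, 93, 135]),
  (376, [91, 130]),
  (462, [3, 78, 134]),
  (512, [90, 135]),
  (520, [95, 135]),
  (521, [78, 135]),
  (612, [3, 108]),
  (692, [86, 135]),
  (464, [3, 108]),
  (384, []),
  (526, [91, 130]),
  (385, [91, 130]),
  (465, [3, 95, 134]),
  (615, [3, 99]),
  (531, [106]),
  (530, [106]),
  (701, []),
  (467, [3, 99]),
  (388, []),
  (535, [110, 134]),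
  (709, []),
  (712, []),
  (538, [110, 134]),
  (539, [99, 134])]

/-- The moves by letter 13, a part. -/
def certMoves13Part15 : List (ℕ × List ℕ) := [
  (620, [3, 87, 134]),
  (542, [111, 130]),
  (541, [102, 130]),
  (543, [110, 134]),
  (544, [110, 134]),
  (400, []),
  (470, [3, 98]),
  (723, []),
  (548, [110, 134]),
  (549, [110, 134]),
  (550, [110, 134]),
  (551, [110, 134]),
  (727, [86, 135]),
  (409, [110, 134]),
  (473, [3, 134]),
  (729, [91, 135]),
  (410, [91, 135]),
  (474, [3, 87, 130]),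
  (558, [91, 130]),
  (413, [91, 130]),
  (475, [3, 134]),
  (627, [3, 95, 134]),
  (628, [3, 95, 134]),
  (418, []),
  (476, [3, 78, 134]),
  (741, [91, 130]),
  (567, [86, 135]),
  (566, [86, 135]),
  (630, [3, 95, 134]),
  (570, [99, 135]),
  (569, [99, 135]),
  (631, [3, 95, 134]),
  (425, []),
  (479, [3, 78, 134]),
  (750, [88]),
  (426, [87, 130])]

/-- The moves by letter 13, a part. -/
def certMoves13Part16 : List (ℕ × List ℕ) := [
  (480, [3, 105]),
  (633, [3, 95, 134]),
  (579, [91, 130]),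
  (578, [91, 130]),
  (757, [86, 135]),
  (581, [86, 135]),
  (434, [86, 135]),
  (482, [3, 95, 134]),
  (584, [91, 130]),
  (585, [27, 130]),
  (636, [3, 95, 134]),
  (440, []),
  (484, [3, 78, 134]),
  (765, [86, 135]),
  (590, [86, 135]),
  (443, [86, 135]),
  (485, [3, 99]),
  (639, [3, 95, 134]),
  (445, [90]),
  (486, [3, 92, 135]),
  (596, [91, 130]),
  (597, [27, 130]),
  (598, [105, 135]),
  (489, [3, 95, 135]),
  (651, [3, 92]),
  (601, [105, 135]),
  (602, [105, 135]),
  (603, [91]),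
  (664, [3, 84]),
  (503, [3, 92]),
  (504, [3, 92]),
  (607, [91]),
  (676, [3, 99, 135]),
  (680, [3, 84]),
  (513, [3, 99, 135]),
  (514, [3, 92])]

/-- The moves by letter 13, a part. -/
def certMoves13Part17 : List (ℕ × List ℕ) := [
  (522, [3, 99, 135]),
  (691, [3, 98, 130]),
  (614, [86, 135]),
  (529, [3, 97, 135]),
  (700, [3, 97, 135]),
  (617, [105, 135]),
  (708, [3, 87, 134]),
  (711, [3, 97]),
  (540, [3, 87, 134]),
  (621, [105, 135]),
  (622, [105, 135]),
  (722, [3, 108, 130]),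
  (726, [3, 97]),
  (730, [3, 84, 134]),
  (626, [86, 135]),
  (561, [3, 92]),
  (562, [3, 92]),
  (742, [3, 84]),
  (568, [3, 92]),
  (571, [3, 92]),
  (751, [3, 102, 134]),
  (577, [3, 92]),
  (758, [3, 77, 135]),
  (635, [91, 130]),
  (586, [3, 92]),
  (766, [3, 109, 134]),
  (638, [91, 130]),
  (593, [3, 92]),
  (640, [110, 134]),
  (826, [108]),
  (830, []),
  (643, [110, 134]),
  (644, [110, 134]),
  (645, [95, 135]),
  (776, [3, 95, 135]),
  (648, [108])]

/-- The moves by letter 13, a part. -/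
def certMoves13Part18 : List (ℕ × List ℕ) := [
  (647, [108]),
  (649, [110, 134]),
  (650, [110, 134]),
  (600, [3, 95, 134]),
  (491, []),
  (653, [95]),
  (848, [89, 134]),
  (655, [99, 134]),
  (656, [110, 134]),
  (657, [110, 134]),
  (658, [110, 134]),
  (659, [27]),
  (660, [27]),
  (781, [3, 95, 134]),
  (782, [3, 95, 134]),
  (502, [110, 134]),
  (604, [3, 78, 134]),
  (665, [95]),
  (863, [91, 130]),
  (668, [100, 130]),
  (667, [112, 130]),
  (785, [3, 95, 134]),
  (671, [91, 130]),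
  (670, [91, 130]),
  (672, [27]),
  (673, [27]),
  (786, [3, 108]),
  (787, [3, 95, 134]),
  (608, [3, 108]),
  (510, []),
  (874, [87, 130]),
  (511, [88]),
  (609, [3, 78, 134]),
  (681, [95]),
  (683, [104]),
  (682, [107])]

/-- The moves by letter 13, a part. -/
def certMoves13Part19 : List (ℕ × List ℕ) := [
  (790, [3, 95, 134]),
  (686, [97, 134]),
  (685, [97, 134]),
  (791, [3, 99]),
  (693, []),
  (889, [86, 135]),
  (690, [86, 135]),
  (613, [3, 111]),
  (523, [86, 135]),
  (688, []),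
  (694, [91, 130]),
  (695, [91, 130]),
  (794, [3, 99]),
  (698, [99, 134]),
  (697, [99, 134]),
  (795, [3, 95, 134]),
  (616, [3, 99]),
  (532, []),
  (900, []),
  (903, [91, 135]),
  (704, [110, 134]),
  (705, [110, 134]),
  (907, []),
  (707, [110, 134]),
  (618, [3, 87, 134]),
  (536, []),
  (911, [107, 134]),
  (619, [3, 112, 135]),
  (537, []),
  (714, [111, 130]),
  (713, [102, 130]),
  (915, []),
  (716, [110, 134]),
  (916, [110, 134]),
  (718, [110, 134]),
  (719, [110, 134])]

/-- The moves by letter 13, a part. -/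
def certMoves13Part20 : List (ℕ × List ℕ) := [
  (720, [110, 134]),
  (919, [103, 135]),
  (623, [3, 102]),
  (547, []),
  (923, [86, 135]),
  (725, [86, 135]),
  (624, [3, 112, 135]),
  (552, [86, 135]),
  (806, [3, 95, 134]),
  (555, [91, 135]),
  (625, [3, 85, 134]),
  (731, [91, 130]),
  (732, [27, 130]),
  (929, [88, 135]),
  (739, [89]),
  (808, [3, 95, 134]),
  (934, [99]),
  (738, [99]),
  (737, [110]),
  (734, [89]),
  (936, [91, 130]),
  (565, [91, 130]),
  (629, [3, 78, 134]),
  (939, [108, 134]),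
  (745, [92]),
  (744, [84]),
  (812, [3, 95, 134]),
  (943, []),
  (749, [90, 134]),
  (748, [90, 134]),
  (574, [88]),
  (632, [3, 104, 130]),
  (946, []),
  (754, [88, 135]),
  (753, [88, 135]),
  (815, [3, 95, 134])]

/-- The moves by letter 13, a part. -/
def certMoves13Part21 : List (ℕ × List ℕ) := [
  (756, [86, 135]),
  (580, [86, 135]),
  (634, [3, 77, 135]),
  (759, [86, 135]),
  (760, [86, 135]),
  (762, [89]),
  (761, [89]),
  (763, [86, 135]),
  (818, [3, 95, 134]),
  (589, [86, 135]),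
  (637, [3, 105, 130]),
  (767, [86, 135]),
  (768, [86, 135]),
  (769, [95]),
  (771, [91]),
  (770, [91]),
  (772, [105, 135]),
  (827, [3, 95, 135]),
  (829, [3, 102]),
  (775, [95, 135]),
  (646, [3, 95, 135]),
  (777, [105, 135]),
  (778, [105, 135]),
  (779, [77]),
  (849, [3, 102]),
  (661, [3, 92]),
  (662, [3, 92]),
  (783, [77]),
  (862, [3, 111, 135]),
  (669, [3, 92]),
  (674, [3, 99, 135]),
  (675, [3, 92]),
  (875, [3, 93, 135]),
  (789, [77]),
  (684, [3, 92]),
  (687, [3, 97, 135])]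

/-- The moves by letter 13, a part. -/
def certMoves13Part22 : List (ℕ × List ℕ) := [
  (888, [3, 98, 130]),
  (793, [91, 130]),
  (696, [3, 97, 135]),
  (699, [3, 92]),
  (905, [3, 110, 135]),
  (904, [3, 111]),
  (906, [3, 87, 134]),
  (799, [105, 135]),
  (910, [3, 97]),
  (914, [3, 111]),
  (917, [3, 90, 134]),
  (918, [3, 108, 130]),
  (922, [3, 97]),
  (805, [91, 130]),
  (728, [3, 92]),
  (930, [3, 84]),
  (735, [3, 92]),
  (933, [3, 92]),
  (937, [3, 78, 134]),
  (938, [3, 89]),
  (746, [3, 92]),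
  (942, [3, 92]),
  (945, [3, 77, 135]),
  (755, [3, 92]),
  (816, [91, 130]),
  (817, [91, 130]),
  (764, [3, 92]),
  (819, [77]),
  (1006, []),
  (1010, []),
  (822, [110, 134]),
  (961, [3, 108]),
  (1015, [108]),
  (825, [110, 134]),
  (641, [108]),
  (773, [3, 95, 135])]

/-- The moves by letter 13, a part. -/
def certMoves13Part23 : List (ℕ × List ℕ) := [
  (1020, [103, 135]),
  (774, [3, 108, 130]),
  (642, []),
  (831, [110, 134]),
  (832, [95, 135]),
  (833, [95, 135]),
  (835, [108]),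
  (834, [108]),
  (836, [95, 135]),
  (837, [95]),
  (1027, [85, 135]),
  (839, [110, 134]),
  (840, [110, 134]),
  (1030, [100, 135]),
  (842, [110, 134]),
  (843, [110, 134]),
  (969, [3, 108]),
  (845, [78]),
  (846, [95]),
  (1035, [89, 134]),
  (654, [89, 134]),
  (780, [3, 108, 130]),
  (850, [95]),
  (1041, [88, 135]),
  (853, [108, 134]),
  (852, [108, 134]),
  (973, [3, 95, 134]),
  (1046, [99, 135]),
  (857, [99, 135]),
  (856, [99, 135]),
  (975, [3, 108]),
  (859, [78]),
  (860, [95]),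
  (1052, [91, 130]),
  (784, [3, 106, 134]),
  (666, [91, 130])]

/-- The moves by letter 13, a part. -/
def certMoves13Part24 : List (ℕ × List ℕ) := [
  (1053, [85, 130]),
  (866, [88, 135]),
  (865, [88, 135]),
  (867, [95]),
  (869, [98, 134]),
  (868, [98, 134]),
  (979, [3, 95, 134]),
  (1062, [100, 134]),
  (873, [100, 134]),
  (872, [100, 134]),
  (678, [87, 130]),
  (788, [3, 93, 135]),
  (876, [95]),
  (877, [95]),
  (878, [78]),
  (1068, [100]),
  (881, [97, 134]),
  (880, [97, 134]),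
  (983, [3, 99]),
  (883, [27, 135]),
  (885, [111, 134]),
  (884, [111, 134]),
  (985, [3, 95, 134]),
  (887, [86, 135]),
  (792, [3, 111]),
  (689, [86, 135]),
  (890, [86, 135]),
  (891, [86, 135]),
  (892, [95]),
  (893, [95]),
  (895, [99, 134]),
  (894, [99, 134]),
  (897, [110, 134]),
  (896, [110, 134]),
  (1087, []),
  (899, [110, 134])]

/-- The moves by letter 13, a part. -/
def certMoves13Part25 : List (ℕ × List ℕ) := [
  (702, []),
  (1090, [91, 135]),
  (1092, [92, 130]),
  (703, [91, 135]),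
  (797, [3, 98, 130]),
  (796, [3, 98]),
  (798, [3, 87, 134]),
  (706, []),
  (908, [110, 134]),
  (909, [110, 134]),
  (800, [3, 112, 135]),
  (710, [104, 134]),
  (1095, [92, 130]),
  (1096, [92, 130]),
  (801, [3, 98, 130]),
  (715, []),
  (717, [110, 134]),
  (802, [3, 90, 134]),
  (803, [3, 102]),
  (721, [103, 135]),
  (920, [86, 135]),
  (996, [3, 95, 134]),
  (804, [3, 112, 135]),
  (724, [86, 135]),
  (924, [86, 135]),
  (925, [86, 135]),
  (927, [86, 134]),
  (926, [86, 134]),
  (1103, [87, 134]),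
  (733, [88, 135]),
  (807, [3, 78, 134]),
  (1106, [103, 130]),
  (935, [99]),
  (809, [3, 95, 134]),
  (736, [110]),
  (932, [110])]

/-- The moves by letter 13, a part. -/
def certMoves13Part26 : List (ℕ × List ℕ) := [
  (740, [91, 130]),
  (810, [3, 84]),
  (811, [3, 89]),
  (743, [108, 134]),
  (1108, []),
  (944, [90, 134]),
  (813, [3, 95, 134]),
  (747, []),
  (941, [90, 134]),
  (814, [3, 77, 135]),
  (752, []),
  (947, [90, 134]),
  (951, [90, 134]),
  (949, [86, 135]),
  (950, [86, 135]),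
  (948, [90, 134]),
  (952, [90, 134]),
  (953, [86, 135]),
  (954, [88, 135]),
  (956, [90, 134]),
  (955, [90, 134]),
  (957, [78]),
  (958, [78]),
  (1005, [3, 99, 135]),
  (1009, [3, 106, 134]),
  (823, [3, 99, 135]),
  (1016, [3, 95, 135]),
  (963, [105, 135]),
  (1019, [3, 102]),
  (965, [95, 135]),
  (966, [77]),
  (1028, [3, 98, 130]),
  (1031, [3, 78, 135]),
  (844, [3, 99, 135]),
  (1036, [3, 102]),
  (971, [77])]

/-- The moves by letter 13, a part. -/
def certMoves13Part27 : List (ℕ × List ℕ) := [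
  (1040, [3, 112, 130]),
  (854, [3, 92]),
  (1047, [3, 92]),
  (858, [3, 99, 135]),
  (1051, [3, 111, 135]),
  (1054, [3, 109, 134]),
  (978, [77]),
  (870, [3, 92]),
  (1063, [3, 92]),
  (981, [77]),
  (1069, [3, 77, 135]),
  (882, [3, 97, 135]),
  (984, [89, 135]),
  (886, [3, 92]),
  (986, [91, 130]),
  (987, [77]),
  (988, [77]),
  (1094, [3, 110, 135]),
  (990, [105, 135]),
  (1093, [3, 111]),
  (1091, [3, 108, 134]),
  (1097, [3, 111]),
  (1098, [3, 108, 130]),
  (995, [91, 130]),
  (921, [3, 92]),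
  (1104, [3, 84]),
  (1105, [3, 92]),
  (1107, [3, 94, 130]),
  (1000, [90, 134]),
  (1001, [90, 134]),
  (1113, [3, 108]),
  (1142, []),
  (1004, [110, 134]),
  (959, [3, 108]),
  (820, []),
  (1147, [85])]

/-- The moves by letter 13, a part. -/
def certMoves13Part28 : List (ℕ × List ℕ) := [
  (1148, [92, 134]),
  (960, [3, 111, 135]),
  (821, []),
  (1118, [3, 108]),
  (1012, [95]),
  (1014, [108]),
  (1013, [108]),
  (824, [108]),
  (962, [3, 95, 135]),
  (1017, [110, 134]),
  (1018, [110, 134]),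
  (964, [3, 108, 130]),
  (828, [103, 135]),
  (1021, [95, 135]),
  (1022, [95, 135]),
  (1120, [3, 108]),
  (1024, [95]),
  (1159, [92, 130]),
  (1161, [92, 130]),
  (838, [94, 135]),
  (967, [3, 111]),
  (1029, [95]),
  (841, [100, 135]),
  (968, [3, 78, 135]),
  (1123, [3, 108]),
  (1034, [89, 134]),
  (1033, [89, 134]),
  (847, [89, 134]),
  (970, [3, 108, 130]),
  (1124, [3, 108]),
  (1038, [95]),
  (1169, [87, 134]),
  (972, [3, 105]),
  (851, [88, 135]),
  (1042, [95]),
  (1170, [99, 135])]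

/-- The moves by letter 13, a part. -/
def certMoves13Part29 : List (ℕ × List ℕ) := [
  (1045, [99, 135]),
  (1044, [99, 135]),
  (855, [99, 135]),
  (974, [3, 95, 134]),
  (1127, [3, 108]),
  (1050, [97]),
  (1049, [97]),
  (976, [3, 106, 134]),
  (861, [91, 130]),
  (864, [85, 130]),
  (977, [3, 105, 130]),
  (1055, [95]),
  (1129, [3, 100]),
  (1057, [95]),
  (1058, [95]),
  (1180, [102, 134]),
  (1061, [100, 134]),
  (1060, [100, 134]),
  (871, [100, 134]),
  (980, [3, 95, 134]),
  (1131, [3, 99]),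
  (1132, [3, 99]),
  (1066, [95]),
  (1067, [78]),
  (879, [112]),
  (982, [3, 77, 135]),
  (1070, [95]),
  (1071, [27, 135]),
  (1072, [95]),
  (1074, [109]),
  (1073, [101]),
  (1075, [27, 135]),
  (1076, [91, 135]),
  (1077, [90, 134]),
  (1079, [99, 130]),
  (1078, [110, 130])]

/-- The moves by letter 13, a part. -/
def certMoves13Part30 : List (ℕ × List ℕ) := [
  (1080, [86, 135]),
  (1081, [86, 135]),
  (1137, [3, 99]),
  (1083, [95]),
  (1084, [95]),
  (1085, [95]),
  (1086, [95]),
  (898, []),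
  (1088, [110, 134]),
  (1089, [110, 134]),
  (901, [91, 135]),
  (992, [3, 109, 135]),
  (902, [92, 130]),
  (991, [3, 98, 130]),
  (989, [3, 98]),
  (912, [92, 130]),
  (913, [92, 130]),
  (993, [3, 98, 130]),
  (994, [3, 102]),
  (1099, [86, 135]),
  (1100, [86, 135]),
  (1102, [112]),
  (1101, [100]),
  (928, [87, 134]),
  (997, [3, 78, 134]),
  (998, [3, 95, 134]),
  (931, [103, 130]),
  (999, [3, 94, 130]),
  (940, []),
  (1109, [90, 134]),
  (1110, [90, 134]),
  (1111, [90, 134]),
  (1112, [90, 134]),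
  (1002, [3, 99, 135]),
  (1141, [3, 99, 135]),
  (1115, [105, 135])]

/-- The moves by letter 13, a part. -/
def certMoves13Part31 : List (ℕ × List ℕ) := [
  (1146, [3, 106, 134]),
  (1149, [3, 102]),
  (1011, [3, 99, 135]),
  (1119, [77]),
  (1023, [3, 99, 135]),
  (1158, [3, 107, 134]),
  (1160, [3, 105, 130]),
  (1032, [3, 99, 135]),
  (1037, [3, 99, 135]),
  (1168, [3, 101, 130]),
  (1171, [3, 92]),
  (1048, [3, 99, 135]),
  (1128, [77]),
  (1056, [3, 98, 135]),
  (1181, [3, 94, 130]),
  (1064, [3, 97, 135]),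
  (1065, [3, 97, 135]),
  (1133, [77]),
  (1134, [89, 135]),
  (1135, [77]),
  (1136, [90, 134]),
  (1082, [3, 97, 135]),
  (1201, [3, 108]),
  (1139, [95]),
  (1145, []),
  (1114, [3, 108]),
  (1003, []),
  (1143, [110, 134]),
  (1144, [110, 134]),
  (1140, []),
  (1116, [3, 111, 135]),
  (1007, [94]),
  (1008, [92, 134]),
  (1117, [3, 108, 130]),
  (1151, [108]),
  (1150, [108])]

/-- The moves by letter 13, a part. -/
def certMoves13Part32 : List (ℕ × List ℕ) := [
  (1152, [95]),
  (1153, [78]),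
  (1203, [3, 108]),
  (1204, [3, 98, 135]),
  (1157, [94, 135]),
  (1156, [85, 135]),
  (1121, [3, 101, 130]),
  (1025, [92, 130]),
  (1122, [3, 109, 134]),
  (1026, [92, 130]),
  (1205, [3, 99]),
  (1164, [101, 130]),
  (1163, [109, 130]),
  (1206, [3, 108]),
  (1167, [103, 134]),
  (1166, [105, 134]),
  (1125, [3, 107, 134]),
  (1039, [87, 134]),
  (1043, [99, 135]),
  (1126, [3, 95, 134]),
  (1173, [105, 134]),
  (1172, [103, 134]),
  (1207, [3, 99]),
  (1208, [3, 99]),
  (1176, [95]),
  (1178, [100, 134]),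
  (1177, [100, 134]),
  (1179, [95]),
  (1059, [102, 134]),
  (1130, [3, 94, 130]),
  (1182, [95]),
  (1184, [112]),
  (1183, [100]),
  (1186, [95, 135]),
  (1185, [95, 135]),
  (1187, [91])]

/-- The moves by letter 13, a part. -/
def certMoves13Part33 : List (ℕ × List ℕ) := [
  (1211, [3, 99]),
  (1189, [78]),
  (1190, [91]),
  (1191, [27, 135]),
  (1192, [91, 135]),
  (1193, [78]),
  (1194, [78]),
  (1195, [78]),
  (1196, [87, 134]),
  (1197, [90, 134]),
  (1213, [3, 99]),
  (1200, [108, 134]),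
  (1199, [108, 134]),
  (1138, [3, 99, 135]),
  (1202, [77]),
  (1154, [3, 99, 135]),
  (1155, [3, 100]),
  (1162, [3, 97, 135]),
  (1165, [3, 99, 135]),
  (1174, [3, 97, 135]),
  (1175, [3, 97, 135]),
  (1209, [77]),
  (1210, [91]),
  (1188, [3, 97, 135]),
  (1212, [91]),
  (1198, [3, 97, 135]),
  (1217, []),
  (1215, [95]),
  (1216, [78]),
  (1214, []),
  (1244, [3, 99]),
  (1221, [134]),
  (1222, [85]),
  (1219, [134]),
  (1220, [94]),
  (1224, [91])]

/-- The moves by letter 13, a part. -/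
def certMoves13Part34 : List (ℕ × List ℕ) := [
  (1223, [91]),
  (1226, [104]),
  (1225, [107]),
  (1227, [95]),
  (1229, [102, 134]),
  (1228, [102, 134]),
  (1231, [95, 134]),
  (1230, [78, 134]),
  (1232, [95]),
  (1233, [78]),
  (1234, [27, 135]),
  (1235, [27]),
  (1247, [3, 99]),
  (1238, [103]),
  (1237, [105]),
  (1239, [27]),
  (1240, [27]),
  (1241, [27]),
  (1243, [108, 134]),
  (1242, [108, 134]),
  (1218, [3, 97, 135]),
  (1245, [77]),
  (1246, [89, 135]),
  (1236, [3, 97, 135]),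
  (1249, [78, 130]),
  (1248, [95, 130]),
  (1250, [95]),
  (1251, [78]),
  (1252, [27, 135]),
  (1253, [27, 135]),
  (1254, [91, 135]),
  (1256, [103]),
  (1255, [105]),
  (1257, [89, 135]),
  (1258, [27, 135]),
  (1259, [91, 135])]

/-- The moves by letter 13, in equal parts. -/
def certMoves13C : List (List (ℕ × List ℕ)) := [certMoves13Part0, certMoves13Part1, certMoves13Part2, certMoves13Part3, certMoves13Part4, certMoves13Part5, certMoves13Part6, certMoves13Part7, certMoves13Part8, certMoves13Part9, certMoves13Part10, certMoves13Part11, certMoves13Part12, certMoves13Part13, certMoves13Part14, certMoves13Part15, certMoves13Part16, certMoves13Part17, certMoves13Part18, certMoves13Part19, certMoves13Part20, certMoves13Part21, certMoves13Part22, certMoves13Part23, certMoves13Part24, certMoves13Part25, certMoves13Part26, certMoves13Part27, certMoves13Part28, certMoves13Part29, certMoves13Part30, certMoves13Part31, certMoves13Part32, certMoves13Part33, certMoves13Part34]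

/-- The moves by letter 13. -/
def certMoves13 : List (ℕ × List ℕ) := certMoves13C.flatten

/-- The moves by letter 14, a part. -/
def certMoves14Part0 : List (ℕ × List ℕ) := [
  (0, [86, 134]),
  (1, [86, 134]),
  (2, [86, 134]),
  (6, [3, 86, 134]),
  (4, [86, 134]),
  (5, [86, 134]),
  (3, [3, 86, 134]),
  (7, [86]),
  (8, [91]),
  (15, [3, 86, 134]),
  (10, [86, 134]),
  (17, [3, 86, 134]),
  (19, [3, 86, 134]),
  (18, [7, 31, 42, 67, 104, 135]),
  (14, [91]),
  (9, [3, 86, 134]),
  (16, [86]),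
  (11, [3, 86, 134]),
  (13, [0, 3, 86]),
  (12, [3, 86, 134]),
  (20, [84, 130]),
  (21, [27]),
  (33, [3, 86, 134]),
  (23, [84, 130]),
  (36, [3, 86, 134]),
  (34, [7, 31, 42, 67, 104, 135]),
  (38, [3, 86, 134]),
  (37, [7, 31, 42, 67, 108, 135]),
  (58, []),
  (30, [88]),
  (29, [88]),
  (31, [84, 130]),
  (32, [90, 130]),
  (22, [3, 86, 134]),
  (25, [0, 3, 86]),
  (35, [84, 130])]

/-- The moves by letter 14, a part. -/
def certMoves14Part1 : List (ℕ × List ℕ) := [
  (24, [3, 86, 134]),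
  (27, [0, 3, 88, 134]),
  (26, [3, 86, 134]),
  (57, [3, 88, 134]),
  (40, [84, 130]),
  (61, [3, 86, 134]),
  (42, [84, 130]),
  (43, [92, 130]),
  (44, [84, 130]),
  (65, [3, 86, 134]),
  (63, [7, 31, 42, 67, 108, 135]),
  (47, [84, 130]),
  (48, [84, 130]),
  (93, []),
  (51, [88]),
  (50, [88]),
  (52, [86, 134]),
  (97, [89, 134]),
  (55, [134]),
  (54, [134]),
  (100, []),
  (39, [3, 88, 134]),
  (28, []),
  (59, [84, 130]),
  (60, [110, 134]),
  (41, [3, 86, 134]),
  (62, [84, 130]),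
  (46, [0, 3, 88, 134]),
  (64, [84, 130]),
  (45, [3, 86, 134]),
  (66, [110, 134]),
  (67, [84, 130]),
  (92, [3, 88, 134]),
  (69, [86, 134]),
  (98, [3, 88, 134]),
  (101, [3, 88, 134])]

/-- The moves by letter 14, a part. -/
def certMoves14Part2 : List (ℕ × List ℕ) := [
  (103, [3, 86, 134]),
  (73, [84, 130]),
  (74, [84, 130]),
  (106, [3, 86, 134]),
  (107, [3, 86, 134]),
  (105, [7, 31, 42, 67, 85, 130]),
  (78, [110, 134]),
  (79, [84, 130]),
  (80, [92, 130]),
  (81, [84, 130]),
  (82, [84, 130]),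
  (83, [86, 134]),
  (142, [89, 134]),
  (86, [134]),
  (85, [134]),
  (113, [3, 95, 135]),
  (88, [110, 134]),
  (89, [84, 130]),
  (90, [92, 130]),
  (152, []),
  (68, [3, 88, 134]),
  (49, []),
  (116, [3, 89, 134]),
  (95, [86, 134]),
  (159, []),
  (53, [89, 134]),
  (70, [3, 88, 134]),
  (99, [86, 134]),
  (56, []),
  (71, [3, 88, 134]),
  (102, [110, 134]),
  (72, [3, 86, 134]),
  (104, [84, 130]),
  (77, [0, 3, 106, 135]),
  (75, [3, 86, 134]),
  (76, [3, 86, 134])]

/-- The moves by letter 14, a part. -/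
def certMoves14Part3 : List (ℕ × List ℕ) := [
  (108, [105, 135]),
  (109, [110, 134]),
  (110, [84, 130]),
  (111, [86, 134]),
  (143, [3, 88, 134]),
  (87, [3, 95, 135]),
  (114, [105, 135]),
  (153, [3, 88, 134]),
  (94, [3, 88]),
  (158, [3, 88]),
  (161, [3, 86, 134]),
  (162, [3, 86, 134]),
  (160, [7, 31, 42, 67, 93]),
  (121, [91]),
  (122, [110, 134]),
  (123, [92, 130]),
  (124, [84, 130]),
  (166, [3, 86, 134]),
  (165, [7, 31, 42, 67, 85, 130]),
  (167, [3, 92, 130]),
  (201, [101, 130]),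
  (130, [101, 130]),
  (129, [109, 130]),
  (131, [110, 134]),
  (132, [110, 134]),
  (133, [110, 134]),
  (170, [3, 87, 134]),
  (135, [110, 134]),
  (136, [84, 130]),
  (137, [84, 130]),
  (172, [3, 89, 134]),
  (139, [91]),
  (140, [86, 134]),
  (222, []),
  (84, [89, 134]),
  (112, [3, 88, 134])]

/-- The moves by letter 14, a part. -/
def certMoves14Part4 : List (ℕ × List ℕ) := [
  (144, [86, 134]),
  (175, [3, 95, 135]),
  (228, [94, 135]),
  (148, [100]),
  (147, [112]),
  (149, [110, 134]),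
  (150, [110, 134]),
  (151, [99, 134]),
  (91, []),
  (115, [3, 88, 134]),
  (178, [3, 89, 134]),
  (179, [3, 89, 134]),
  (157, [89, 134]),
  (156, [89, 134]),
  (117, [3, 89, 134]),
  (96, []),
  (120, [0, 3, 105, 134]),
  (118, [3, 86, 134]),
  (119, [3, 86, 134]),
  (163, [91]),
  (164, [105, 135]),
  (126, [0, 3, 106, 135]),
  (125, [3, 86, 134]),
  (127, [3, 92, 130]),
  (202, [3, 88, 134]),
  (169, [105, 135]),
  (134, [3, 87, 134]),
  (171, [105, 135]),
  (138, [3, 88]),
  (173, [91]),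
  (221, [3, 88]),
  (145, [3, 95, 135]),
  (227, [3, 98, 130]),
  (177, [105, 135]),
  (154, [3, 88]),
  (155, [3, 88])]

/-- The moves by letter 14, a part. -/
def certMoves14Part5 : List (ℕ × List ℕ) := [
  (238, [3, 86, 134]),
  (237, [7, 31, 42, 67, 103, 134]),
  (182, [77, 135]),
  (269, [105, 130]),
  (185, [103, 130]),
  (184, [103, 130]),
  (186, [95]),
  (187, [86, 134]),
  (188, [27]),
  (189, [110, 134]),
  (190, [99, 134]),
  (191, [110, 134]),
  (192, [27]),
  (244, [3, 92, 130]),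
  (289, [78]),
  (196, [105, 134]),
  (195, [103, 134]),
  (246, [3, 92, 130]),
  (296, [78]),
  (203, [105, 134]),
  (298, []),
  (128, [109, 130]),
  (168, [3, 88, 134]),
  (199, [103, 134]),
  (204, [110, 134]),
  (205, [110, 134]),
  (249, [3, 87, 134]),
  (307, [107, 130]),
  (208, [77, 135]),
  (210, [27, 134]),
  (209, [27, 134]),
  (211, [110, 134]),
  (212, [110, 134]),
  (213, [110, 134]),
  (253, [3, 89, 134]),
  (215, [95])]

/-- The moves by letter 14, a part. -/
def certMoves14Part6 : List (ℕ × List ℕ) := [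
  (255, [3, 89, 134]),
  (218, [89, 134]),
  (217, [89, 134]),
  (219, [27]),
  (220, [27]),
  (174, [3, 89, 134]),
  (141, []),
  (324, [78]),
  (229, [87, 135]),
  (326, [110, 134]),
  (328, [92, 130]),
  (176, [3, 111]),
  (146, [85, 135]),
  (224, [87, 135]),
  (230, [110, 134]),
  (231, [110, 134]),
  (259, [3, 89, 134]),
  (235, [89, 134]),
  (236, []),
  (233, [89, 134]),
  (234, []),
  (181, [0, 3, 135]),
  (180, [3, 86, 134]),
  (239, [77, 135]),
  (270, [3, 88, 134]),
  (241, [77]),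
  (242, [86, 134]),
  (243, [105, 135]),
  (193, [3, 92, 130]),
  (288, [3, 85, 134]),
  (197, [3, 92, 130]),
  (295, [3, 90, 130]),
  (297, [3, 110, 135]),
  (206, [3, 87, 134]),
  (306, [3, 111]),
  (251, [77, 135])]

/-- The moves by letter 14, a part. -/
def certMoves14Part7 : List (ℕ × List ℕ) := [
  (252, [105, 135]),
  (214, [3, 88]),
  (254, [77]),
  (216, [3, 88]),
  (323, [3, 135]),
  (327, [3, 86]),
  (329, [3, 98, 130]),
  (232, [3, 88]),
  (260, [77, 135]),
  (368, [105, 130]),
  (263, [93, 134]),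
  (262, [77, 134]),
  (264, [77, 135]),
  (336, [3, 99]),
  (337, [3, 87, 134]),
  (267, [77, 135]),
  (383, []),
  (183, [105, 130]),
  (240, [3, 88, 134]),
  (271, [77, 135]),
  (272, [95]),
  (340, [3, 89, 134]),
  (274, [95]),
  (275, [78]),
  (276, [95]),
  (277, [86, 134]),
  (278, [86, 134]),
  (279, [88, 134]),
  (280, [110, 134]),
  (281, [110, 134]),
  (343, [3, 92, 130]),
  (403, [105, 134]),
  (284, [90, 134]),
  (286, [105, 134]),
  (285, [103, 134]),
  (407, [78])]

/-- The moves by letter 14, a part. -/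
def certMoves14Part8 : List (ℕ × List ℕ) := [
  (245, [3, 84, 134]),
  (194, [78]),
  (411, [101, 134]),
  (292, [109, 134]),
  (291, [109, 134]),
  (414, [78]),
  (416, []),
  (247, [3, 88, 130]),
  (198, [78]),
  (248, [3, 98]),
  (200, []),
  (422, [107, 130]),
  (300, [77, 135]),
  (302, [78, 134]),
  (301, [95, 134]),
  (427, [110, 134]),
  (353, [3, 99]),
  (432, [92, 130]),
  (250, [3, 98, 130]),
  (207, [107, 130]),
  (308, [93, 135]),
  (309, [77, 135]),
  (310, [110, 134]),
  (311, [110, 134]),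
  (312, [95]),
  (356, [3, 89, 134]),
  (319, [89, 134]),
  (315, [95]),
  (316, [78]),
  (317, [95]),
  (320, []),
  (314, [89, 134]),
  (318, []),
  (444, [78]),
  (447, [110, 134]),
  (256, [3, 27, 135])]

/-- The moves by letter 14, a part. -/
def certMoves14Part9 : List (ℕ × List ℕ) := [
  (223, [78]),
  (450, [103, 135]),
  (225, [110, 134]),
  (257, [3, 134]),
  (226, [92, 130]),
  (258, [3, 111]),
  (330, [86, 134]),
  (332, [86]),
  (331, [86]),
  (333, [77, 135]),
  (369, [3, 104]),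
  (335, [77, 135]),
  (265, [3, 97, 135]),
  (266, [3, 87, 134]),
  (382, [3, 97, 135]),
  (339, [77]),
  (273, [3, 88]),
  (341, [77]),
  (342, [86, 134]),
  (282, [3, 92, 130]),
  (404, [3, 84, 130]),
  (345, [90, 134]),
  (408, [3, 85, 134]),
  (412, [3, 84, 130]),
  (417, [3, 90, 130]),
  (415, [3, 88, 134]),
  (421, [3, 103]),
  (351, [77, 135]),
  (428, [3, 106, 135]),
  (304, [3, 97, 135]),
  (433, [3, 106, 135]),
  (355, [77]),
  (313, [3, 88]),
  (357, [77]),
  (448, [3, 135]),
  (446, [3, 90, 134])]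

/-- The moves by letter 14, a part. -/
def certMoves14Part10 : List (ℕ × List ℕ) := [
  (451, [3, 78, 135]),
  (361, [86, 134]),
  (362, [77, 135]),
  (455, [3, 99]),
  (456, [3, 94, 130]),
  (365, [77, 135]),
  (366, [93, 135]),
  (501, [98, 134]),
  (261, [105, 130]),
  (334, [3, 99, 130]),
  (458, [3, 99]),
  (459, [3, 87, 134]),
  (372, [77, 135]),
  (373, [77, 135]),
  (460, [3, 99]),
  (515, [91, 134]),
  (462, [3, 99]),
  (378, [105, 130]),
  (377, [105, 130]),
  (463, [3, 87, 134]),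
  (381, [111, 130]),
  (380, [102, 130]),
  (338, [3, 99]),
  (268, []),
  (464, [3, 89, 134]),
  (385, [95]),
  (386, [95]),
  (466, [3, 89, 134]),
  (467, [3, 89, 134]),
  (390, [110, 130]),
  (389, [99, 130]),
  (391, [95]),
  (392, [78]),
  (393, [95]),
  (394, [86, 134]),
  (395, [88, 134])]

/-- The moves by letter 14, a part. -/
def certMoves14Part11 : List (ℕ × List ℕ) := [
  (538, [101, 134]),
  (397, [90, 134]),
  (399, [109, 134]),
  (398, [109, 134]),
  (546, []),
  (471, [3, 95, 134]),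
  (551, []),
  (283, [103, 134]),
  (344, [3, 84, 130]),
  (405, [90, 134]),
  (406, [90, 134]),
  (287, [78]),
  (346, [3, 84, 134]),
  (554, []),
  (556, [93, 135]),
  (290, [101, 134]),
  (347, [3, 84, 130]),
  (560, []),
  (293, [78]),
  (349, [3, 88, 134]),
  (294, []),
  (348, [3, 88, 130]),
  (563, [98, 134]),
  (477, [3, 99]),
  (570, [110, 134]),
  (350, [3, 100, 130]),
  (299, [107, 130]),
  (423, [77, 135]),
  (424, [93, 135]),
  (479, [3, 99]),
  (575, [103, 135]),
  (303, [110, 134]),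
  (352, [3, 110]),
  (481, [3, 99]),
  (431, [105]),
  (430, [103])]

/-- The moves by letter 14, a part. -/
def certMoves14Part12 : List (ℕ × List ℕ) := [
  (305, [92, 130]),
  (354, [3, 110]),
  (434, [95]),
  (435, [95]),
  (436, [86, 134]),
  (439, [86]),
  (438, [95]),
  (437, [86]),
  (484, [3, 108]),
  (441, [95]),
  (442, [95]),
  (592, [110, 134]),
  (321, [78]),
  (445, [110, 134]),
  (359, [3, 90, 134]),
  (322, [110, 134]),
  (358, [3, 27, 135]),
  (487, [3, 95, 135]),
  (325, [103, 135]),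
  (360, [3, 78, 135]),
  (452, [86, 134]),
  (453, [86, 134]),
  (454, [77, 135]),
  (363, [3, 97, 135]),
  (364, [3, 94, 130]),
  (500, [3, 97, 135]),
  (370, [3, 97, 135]),
  (371, [3, 87, 134]),
  (374, [3, 97, 135]),
  (516, [3, 103]),
  (376, [3, 97, 135]),
  (379, [3, 87, 134]),
  (384, [3, 88]),
  (465, [77]),
  (387, [3, 88]),
  (388, [3, 88])]

/-- The moves by letter 14, a part. -/
def certMoves14Part13 : List (ℕ × List ℕ) := [
  (539, [3, 84, 130]),
  (469, [90, 134]),
  (545, [3, 110, 135]),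
  (401, [3, 92]),
  (550, [3, 88, 134]),
  (553, [3, 97, 135]),
  (557, [3, 84, 130]),
  (559, [3, 89, 135]),
  (564, [3, 106, 135]),
  (419, [3, 97, 135]),
  (569, [3, 78, 135]),
  (425, [3, 97, 135]),
  (576, [3, 90, 134]),
  (429, [3, 97, 135]),
  (482, [77]),
  (483, [86, 134]),
  (440, [3, 99, 135]),
  (591, [3, 87, 130]),
  (486, [105, 135]),
  (449, [3, 95, 135]),
  (598, [3, 99]),
  (599, [3, 94, 130]),
  (490, [77, 135]),
  (600, [3, 99]),
  (656, [102, 134]),
  (602, [3, 99]),
  (495, [103]),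
  (494, [105]),
  (603, [3, 94, 130]),
  (498, [111, 134]),
  (497, [111, 134]),
  (499, [77, 135]),
  (457, [3, 99]),
  (367, [98, 134]),
  (604, [3, 99]),
  (668, [107, 130])]

/-- The moves by letter 14, a part. -/
def certMoves14Part14 : List (ℕ × List ℕ) := [
  (606, [3, 99]),
  (506, [89, 135]),
  (505, [89, 135]),
  (607, [3, 87, 134]),
  (509, [104, 130]),
  (508, [104, 130]),
  (677, [98, 134]),
  (609, [3, 99]),
  (519, [105, 130]),
  (682, [91, 134]),
  (685, [88, 134]),
  (375, [91, 134]),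
  (461, [3, 100, 130]),
  (518, [97, 135]),
  (517, [106, 135]),
  (512, [105, 130]),
  (521, [27, 134]),
  (520, [27, 134]),
  (612, [3, 89, 134]),
  (613, [3, 89, 134]),
  (525, [98, 134]),
  (524, [98, 134]),
  (526, [91]),
  (527, [78]),
  (528, [95]),
  (615, [3, 89, 134]),
  (531, [91, 134]),
  (530, [91, 134]),
  (701, [99, 134]),
  (534, [99, 134]),
  (533, [99, 134]),
  (705, []),
  (618, [3, 95, 134]),
  (711, [93, 135]),
  (396, [101, 134]),
  (468, [3, 84, 130])]

/-- The moves by letter 14, a part. -/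
def certMoves14Part15 : List (ℕ × List ℕ) := [
  (540, [91]),
  (541, [87, 134]),
  (542, [90, 134]),
  (621, [3, 95, 134]),
  (719, [130]),
  (470, [3, 98]),
  (400, []),
  (623, [3, 95, 134]),
  (549, [89, 130]),
  (548, [89, 130]),
  (472, [3, 88, 134]),
  (402, []),
  (727, [85, 135]),
  (473, [3, 99]),
  (409, []),
  (730, [101, 134]),
  (410, [93, 135]),
  (474, [3, 84, 130]),
  (626, [3, 92, 130]),
  (475, [3, 91, 135]),
  (413, []),
  (627, [3, 99]),
  (737, [105]),
  (418, [98, 134]),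
  (476, [3, 110]),
  (629, [3, 99]),
  (567, [104, 130]),
  (566, [104, 130]),
  (568, [110, 134]),
  (478, [3, 78, 135]),
  (420, [110, 134]),
  (631, [3, 99]),
  (573, [108, 134]),
  (572, [108, 134]),
  (632, [3, 87, 134]),
  (426, [103, 135])]

/-- The moves by letter 14, a part. -/
def certMoves14Part16 : List (ℕ × List ℕ) := [
  (480, [3, 90, 134]),
  (633, [3, 108]),
  (579, [106, 135]),
  (578, [97, 135]),
  (634, [3, 108]),
  (581, [91]),
  (582, [78]),
  (583, [95]),
  (584, [86, 134]),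
  (585, [86, 134]),
  (636, [3, 108]),
  (588, [110, 134]),
  (587, [110, 134]),
  (589, [110, 134]),
  (638, [3, 95, 135]),
  (485, [3, 86, 130]),
  (443, [110, 134]),
  (770, [101, 134]),
  (594, [110, 134]),
  (595, [110, 134]),
  (597, [105, 135]),
  (596, [105, 135]),
  (488, [3, 97, 135]),
  (489, [3, 94, 130]),
  (491, [3, 97, 135]),
  (655, [3, 85, 130]),
  (493, [3, 97, 135]),
  (496, [3, 94, 130]),
  (502, [3, 97, 135]),
  (667, [3, 90, 134]),
  (504, [3, 97, 135]),
  (507, [3, 87, 134]),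
  (676, [3, 88]),
  (511, [3, 97, 135]),
  (683, [3, 90, 134]),
  (686, [3, 107, 130])]

/-- The moves by letter 14, a part. -/
def certMoves14Part17 : List (ℕ × List ℕ) := [
  (522, [3, 88]),
  (523, [3, 88]),
  (614, [91]),
  (529, [3, 88]),
  (700, [3, 88]),
  (704, [3, 97, 135]),
  (536, [3, 92]),
  (712, [3, 110, 135]),
  (620, [91]),
  (543, [3, 92]),
  (718, [3, 103, 134]),
  (547, [3, 92]),
  (726, [3, 110]),
  (729, [3, 110]),
  (558, [3, 92, 130]),
  (561, [3, 97, 135]),
  (738, [3, 90, 134]),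
  (565, [3, 97, 135]),
  (630, [105, 135]),
  (571, [3, 97, 135]),
  (574, [3, 87, 134]),
  (577, [3, 99, 135]),
  (580, [3, 99, 135]),
  (635, [91]),
  (586, [3, 99, 135]),
  (637, [105, 135]),
  (590, [3, 95, 135]),
  (771, [3, 112, 130]),
  (772, [3, 99]),
  (827, [95, 130]),
  (774, [3, 99]),
  (644, [101, 134]),
  (643, [101, 134]),
  (775, [3, 94, 130]),
  (646, [94, 130]),
  (648, [104, 134])]

/-- The moves by letter 14, a part. -/
def certMoves14Part18 : List (ℕ × List ℕ) := [
  (647, [107, 134]),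
  (839, []),
  (778, [3, 99]),
  (652, [98, 134]),
  (651, [98, 134]),
  (846, []),
  (849, [98, 135]),
  (601, [3, 85, 130]),
  (492, [102, 134]),
  (658, [87]),
  (657, [87]),
  (660, [111, 134]),
  (659, [111, 134]),
  (852, []),
  (782, [3, 99]),
  (664, [95]),
  (663, [95]),
  (860, []),
  (863, [97, 135]),
  (605, [3, 90, 134]),
  (503, [107, 130]),
  (866, [100, 135]),
  (671, [106, 135]),
  (670, [97, 135]),
  (673, [104, 130]),
  (672, [104, 130]),
  (869, []),
  (873, [105]),
  (608, [3, 89, 134]),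
  (510, [98, 134]),
  (678, [77, 135]),
  (680, [104, 134]),
  (679, [107, 134]),
  (877, [88, 134]),
  (513, [91, 134]),
  (610, [3, 90, 134])]

/-- The moves by letter 14, a part. -/
def certMoves14Part19 : List (ℕ × List ℕ) := [
  (881, [102]),
  (514, [88, 134]),
  (611, [3, 111, 134]),
  (791, [3, 89, 134]),
  (693, [98, 134]),
  (889, [101, 130]),
  (690, [86, 134]),
  (692, [112, 130]),
  (691, [100, 130]),
  (688, [98, 134]),
  (694, [27]),
  (695, [27]),
  (895, []),
  (698, []),
  (697, []),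
  (896, []),
  (616, [3, 89, 134]),
  (532, [99, 134]),
  (796, [3, 95, 134]),
  (904, [130]),
  (617, [3, 99]),
  (535, []),
  (706, [95]),
  (799, [3, 95, 134]),
  (709, [92]),
  (708, [84]),
  (911, [101, 134]),
  (537, [93, 135]),
  (619, [3, 98]),
  (713, [27]),
  (714, [27]),
  (801, [3, 95, 134]),
  (720, [89]),
  (802, [3, 92, 130]),
  (622, [3, 111, 130]),
  (544, [130])]

/-- The moves by letter 14, a part. -/
def certMoves14Part20 : List (ℕ × List ℕ) := [
  (716, [89]),
  (721, [95]),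
  (723, [105, 134]),
  (722, [103, 134]),
  (922, [93, 135]),
  (805, [3, 92, 130]),
  (624, [3, 106, 135]),
  (552, [94, 135]),
  (728, [110, 134]),
  (625, [3, 106, 135]),
  (555, [101, 134]),
  (732, [85, 134]),
  (731, [85, 134]),
  (807, [3, 99]),
  (739, [108, 134]),
  (735, [110, 134]),
  (809, [3, 87, 134]),
  (562, [103]),
  (628, [3, 90, 134]),
  (734, [108, 134]),
  (740, [95]),
  (742, [97, 135]),
  (741, [106, 135]),
  (938, [108]),
  (744, [110, 134]),
  (745, [110, 134]),
  (812, [3, 108]),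
  (747, [77, 135]),
  (749, [105]),
  (748, [103]),
  (751, [105, 135]),
  (750, [105, 135]),
  (814, [3, 108]),
  (754, [101, 130]),
  (753, [109, 130]),
  (815, [3, 108])]

/-- The moves by letter 14, a part. -/
def certMoves14Part21 : List (ℕ × List ℕ) := [
  (756, [89, 135]),
  (758, [102]),
  (757, [111]),
  (759, [27]),
  (760, [27]),
  (762, [110, 134]),
  (761, [110, 134]),
  (954, [99, 134]),
  (955, [100, 135]),
  (765, [99, 134]),
  (766, [110, 134]),
  (768, [107]),
  (767, [104]),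
  (957, [101, 134]),
  (593, [101, 134]),
  (639, [3, 105]),
  (640, [3, 97, 135]),
  (826, [3, 109, 135]),
  (642, [3, 97, 135]),
  (645, [3, 94, 130]),
  (776, [94, 130]),
  (840, [3, 106, 135]),
  (650, [3, 97, 135]),
  (845, [3, 85, 130]),
  (848, [3, 89]),
  (853, [3, 106, 135]),
  (662, [3, 97, 135]),
  (859, [3, 90, 134]),
  (862, [3, 91]),
  (865, [3, 111, 130]),
  (868, [3, 88]),
  (872, [3, 134]),
  (788, [77, 135]),
  (878, [3, 90, 134]),
  (880, [3, 134]),
  (687, [3, 88])]

/-- The moves by letter 14, a part. -/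
def certMoves14Part22 : List (ℕ × List ℕ) := [
  (888, [3, 90, 134]),
  (793, [86, 134]),
  (894, [3, 88]),
  (897, [3, 110, 135]),
  (702, [3, 92]),
  (903, [3, 110]),
  (798, [77]),
  (707, [3, 92]),
  (910, [3, 110]),
  (715, [3, 92]),
  (717, [3, 92, 130]),
  (803, [77]),
  (923, [3, 112, 134]),
  (725, [3, 92, 130]),
  (806, [105, 135]),
  (733, [3, 97, 135]),
  (808, [105, 135]),
  (736, [3, 87, 134]),
  (810, [77]),
  (939, [3, 88]),
  (746, [3, 99, 135]),
  (813, [77, 135]),
  (752, [3, 99, 135]),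
  (755, [3, 99, 135]),
  (816, [27, 135]),
  (953, [3, 78]),
  (956, [3, 112, 134]),
  (958, [3, 112, 130]),
  (1005, [108, 134]),
  (960, [3, 99]),
  (831, [101, 134]),
  (1014, [108, 134]),
  (824, [108, 134]),
  (1017, [85, 130]),
  (773, [3, 108, 134]),
  (641, [78, 130])]

/-- The moves by letter 14, a part. -/
def certMoves14Part23 : List (ℕ × List ℕ) := [
  (1020, [87, 130]),
  (830, [95, 130]),
  (829, [78, 130]),
  (822, [101, 134]),
  (832, [94, 130]),
  (836, [104, 134]),
  (834, [94, 130]),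
  (835, [85, 130]),
  (833, [107, 134]),
  (1024, []),
  (1028, [102, 134]),
  (649, []),
  (777, [3, 110]),
  (841, [77, 135]),
  (843, [77]),
  (842, [77]),
  (1034, [108, 134]),
  (779, [3, 85, 130]),
  (653, []),
  (847, [108, 134]),
  (780, [3, 89]),
  (654, [108, 135]),
  (1038, []),
  (1041, [107, 130]),
  (661, []),
  (781, [3, 110]),
  (1045, [111]),
  (855, [77, 135]),
  (857, [78, 130]),
  (856, [95, 130]),
  (1050, []),
  (783, [3, 90, 134]),
  (665, []),
  (976, [3, 89, 134]),
  (784, [3, 91]),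
  (666, [106, 135])]

/-- The moves by letter 14, a part. -/
def certMoves14Part24 : List (ℕ × List ℕ) := [
  (864, [110, 134]),
  (785, [3, 103, 134]),
  (669, [100, 135]),
  (1058, []),
  (786, [3, 89, 134]),
  (674, []),
  (1060, [88, 134]),
  (980, [3, 87, 134]),
  (787, [3, 86]),
  (675, [103]),
  (874, [77, 135]),
  (875, [77, 135]),
  (1067, [91, 134]),
  (681, [88, 134]),
  (789, [3, 90, 134]),
  (1068, [91, 134]),
  (790, [3, 86]),
  (684, [111]),
  (1074, [91, 134]),
  (883, [86, 134]),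
  (885, [87]),
  (884, [87]),
  (1078, [91, 134]),
  (887, [27, 134]),
  (792, [3, 90, 134]),
  (689, [109, 130]),
  (890, [86, 134]),
  (891, [88, 134]),
  (1083, []),
  (1084, []),
  (794, [3, 89, 134]),
  (696, []),
  (699, []),
  (795, [3, 98]),
  (898, [95]),
  (990, [3, 95, 134])]

/-- The moves by letter 14, a part. -/
def certMoves14Part25 : List (ℕ × List ℕ) := [
  (905, [110, 134]),
  (1090, [93, 135]),
  (992, [3, 92, 130]),
  (797, [3, 106, 135]),
  (703, [130]),
  (900, [110, 134]),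
  (906, [78]),
  (907, [95]),
  (909, [110, 135]),
  (908, [110, 135]),
  (800, [3, 106, 135]),
  (710, [101, 134]),
  (912, [95]),
  (913, [90, 134]),
  (915, [110, 135]),
  (914, [110, 135]),
  (917, [98, 130]),
  (916, [108, 130]),
  (918, [78]),
  (919, [95]),
  (1099, [105, 130]),
  (921, [110, 134]),
  (724, [93, 135]),
  (804, [3, 104, 135]),
  (925, [108, 130]),
  (924, [98, 130]),
  (926, [110, 134]),
  (927, [99, 134]),
  (928, [95]),
  (930, [104, 130]),
  (929, [104, 130]),
  (1105, [99, 130]),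
  (932, [99, 134]),
  (934, [105]),
  (933, [103]),
  (935, [110, 134])]

/-- The moves by letter 14, a part. -/
def certMoves14Part26 : List (ℕ × List ℕ) := [
  (936, [78]),
  (937, [95]),
  (743, [108]),
  (811, [3, 89, 134]),
  (999, [3, 108]),
  (944, [102]),
  (942, [93, 135]),
  (943, [77, 135]),
  (941, [111]),
  (946, [112, 135]),
  (945, [112, 135]),
  (947, [89, 135]),
  (951, [111]),
  (949, [135]),
  (950, [89, 135]),
  (948, [102]),
  (1111, [87, 130]),
  (817, [3, 77]),
  (763, [99, 134]),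
  (764, [100, 135]),
  (818, [3, 104, 135]),
  (769, [101, 134]),
  (819, [3, 105]),
  (1006, [3, 86]),
  (821, [3, 97, 135]),
  (1013, [3, 109, 135]),
  (962, [109, 135]),
  (1018, [3, 101, 134]),
  (1019, [3, 91, 135]),
  (965, [94, 130]),
  (1029, [3, 106, 135]),
  (1027, [3, 85, 130]),
  (968, [77, 135]),
  (1033, [3, 89]),
  (970, [109, 135]),
  (1042, [3, 106, 135])]

/-- The moves by letter 14, a part. -/
def certMoves14Part27 : List (ℕ × List ℕ) := [
  (1040, [3, 90, 134]),
  (1044, [3, 84, 130]),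
  (974, [77, 135]),
  (1049, [3, 91]),
  (861, [3, 88]),
  (977, [105, 135]),
  (1057, [3, 134]),
  (1061, [3, 102, 130]),
  (871, [3, 87, 134]),
  (1066, [3, 134]),
  (1069, [3, 109]),
  (1073, [3, 90, 134]),
  (984, [86, 134]),
  (1079, [3, 109]),
  (986, [87]),
  (1085, [3, 88]),
  (1086, [3, 99, 135]),
  (989, [77]),
  (899, [3, 92]),
  (1093, [3, 104]),
  (902, [3, 92, 130]),
  (993, [77]),
  (994, [90, 134]),
  (1100, [3, 94, 135]),
  (996, [105, 135]),
  (997, [77]),
  (1106, [3, 87, 134]),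
  (940, [3, 99, 135]),
  (1000, [27, 135]),
  (1112, [3, 94, 135]),
  (1140, [108, 134]),
  (1003, [108, 134]),
  (1143, [101, 135]),
  (820, [108, 134]),
  (959, [3, 134]),
  (1147, [101, 134])]

/-- The moves by letter 14, a part. -/
def certMoves14Part28 : List (ℕ × List ℕ) := [
  (1008, [77, 135]),
  (1010, [87, 135]),
  (1009, [87, 135]),
  (1011, [108, 134]),
  (1152, [85, 130]),
  (961, [3, 108, 134]),
  (823, [108, 134]),
  (1015, [108, 134]),
  (1016, [98, 134]),
  (825, [85, 130]),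
  (963, [3, 103, 130]),
  (964, [3, 89, 135]),
  (828, [87, 130]),
  (1021, [94, 130]),
  (1022, [85, 130]),
  (1157, [108, 134]),
  (837, []),
  (1025, [108, 134]),
  (1122, [3, 94, 130]),
  (967, [3, 85, 130]),
  (838, [102, 134]),
  (966, [3, 110]),
  (1030, [77, 135]),
  (1031, [77, 135]),
  (1032, [108, 134]),
  (969, [3, 89]),
  (844, [108, 134]),
  (1035, [108, 134]),
  (1036, [98, 134]),
  (1167, []),
  (850, []),
  (1125, [3, 89, 134]),
  (972, [3, 90, 134]),
  (851, [107, 130]),
  (971, [3, 110]),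
  (1043, [109, 134])]

/-- The moves by letter 14, a part. -/
def certMoves14Part29 : List (ℕ × List ℕ) := [
  (973, [3, 84, 130]),
  (854, [102]),
  (1046, [77, 135]),
  (1047, [93, 135]),
  (1127, [3, 89, 134]),
  (975, [3, 91]),
  (858, []),
  (1052, [98, 130]),
  (1051, [108, 130]),
  (1053, [110, 134]),
  (1054, [110, 134]),
  (1176, [88, 134]),
  (1129, [3, 87, 134]),
  (978, [3, 86]),
  (867, []),
  (1180, [90]),
  (870, [88, 134]),
  (979, [3, 105, 134]),
  (1063, [107, 134]),
  (1062, [104, 134]),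
  (1183, [91, 134]),
  (1185, [27, 130]),
  (981, [3, 86]),
  (876, [91, 134]),
  (879, [91, 134]),
  (982, [3, 97, 130]),
  (1189, [91, 134]),
  (1071, [27, 134]),
  (1193, [27, 130]),
  (983, [3, 90, 134]),
  (882, [91, 134]),
  (1075, [86, 134]),
  (1076, [86, 134]),
  (1077, [27, 134]),
  (886, [91, 134]),
  (985, [3, 97, 130])]

/-- The moves by letter 14, a part. -/
def certMoves14Part30 : List (ℕ × List ℕ) := [
  (1080, [27, 134]),
  (1081, [91, 134]),
  (1199, [110, 134]),
  (892, []),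
  (893, []),
  (987, [3, 89, 134]),
  (988, [3, 108]),
  (1087, [95]),
  (1089, [105, 134]),
  (1088, [103, 134]),
  (901, [93, 135]),
  (1092, [109, 135]),
  (1091, [109, 135]),
  (991, [3, 99, 130]),
  (1094, [95]),
  (1095, [95]),
  (1096, [90, 134]),
  (1097, [78]),
  (1098, [87, 134]),
  (920, [105, 130]),
  (995, [3, 95, 130]),
  (1101, [110, 134]),
  (1102, [99, 134]),
  (1103, [95]),
  (1104, [95]),
  (931, [110, 130]),
  (998, [3, 87, 134]),
  (1108, [101, 130]),
  (1107, [109, 130]),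
  (1109, [89, 135]),
  (1110, [135]),
  (952, [87, 130]),
  (1001, [3, 95, 130]),
  (1145, [3, 86]),
  (1114, [109, 135]),
  (1144, [3, 77, 130])]

/-- The moves by letter 14, a part. -/
def certMoves14Part31 : List (ℕ × List ℕ) := [
  (1146, [3, 84, 130]),
  (1117, [77, 135]),
  (1118, [109, 135]),
  (1153, [3, 109, 135]),
  (1156, [3, 85, 130]),
  (1121, [109, 135]),
  (1026, [3, 94, 130]),
  (1123, [109, 135]),
  (1166, [3, 90, 134]),
  (1039, [3, 88]),
  (1126, [103, 130]),
  (1048, [3, 88]),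
  (1179, [3, 88]),
  (1056, [3, 87, 134]),
  (1181, [3, 112, 134]),
  (1184, [3, 88]),
  (1186, [3, 102, 135]),
  (1194, [3, 90, 134]),
  (1134, [87]),
  (1195, [3, 102, 135]),
  (1136, [87]),
  (1200, [3, 99, 135]),
  (1138, [108, 134]),
  (1215, [101, 135]),
  (1002, [108, 134]),
  (1141, [108, 134]),
  (1142, [108, 134]),
  (1004, [101, 135]),
  (1115, [3, 84, 135]),
  (1113, [3, 134]),
  (1116, [3, 84, 130]),
  (1007, [101, 134]),
  (1148, [77, 135]),
  (1149, [93, 135]),
  (1150, [108, 134]),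
  (1151, [108, 134])]

/-- The moves by letter 14, a part. -/
def certMoves14Part32 : List (ℕ × List ℕ) := [
  (1012, [85, 130]),
  (1119, [3, 108, 134]),
  (1154, [108, 134]),
  (1204, [3, 94, 130]),
  (1120, [3, 85, 130]),
  (1023, [108, 134]),
  (1158, [108, 134]),
  (1159, [108, 134]),
  (1161, [111, 134]),
  (1160, [111, 134]),
  (1162, [110, 134]),
  (1163, [108, 134]),
  (1164, [108, 134]),
  (1206, [3, 89, 134]),
  (1124, [3, 90, 134]),
  (1037, []),
  (1169, [106, 134]),
  (1168, [106, 134]),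
  (1170, [109, 134]),
  (1171, [101, 134]),
  (1173, [87]),
  (1172, [87]),
  (1228, [90]),
  (1230, [88]),
  (1055, [88, 134]),
  (1178, [90]),
  (1177, [90]),
  (1128, [3, 89, 134]),
  (1059, [90]),
  (1130, [3, 104, 135]),
  (1232, [102, 135]),
  (1064, [91, 134]),
  (1131, [3, 89, 134]),
  (1065, [27, 130]),
  (1132, [3, 97, 134]),
  (1187, [27, 134])]

/-- The moves by letter 14, a part. -/
def certMoves14Part33 : List (ℕ × List ℕ) := [
  (1237, [101, 134]),
  (1070, [91, 134]),
  (1190, [91, 130]),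
  (1191, [27, 134]),
  (1192, [27, 134]),
  (1072, [27, 130]),
  (1133, [3, 90, 134]),
  (1135, [3, 97, 134]),
  (1196, [27, 134]),
  (1197, [27, 134]),
  (1198, [110, 134]),
  (1082, [110, 134]),
  (1137, [3, 108]),
  (1201, [109, 135]),
  (1216, [3, 85, 130]),
  (1203, [109, 135]),
  (1155, [3, 94, 130]),
  (1205, [105, 135]),
  (1165, [3, 88]),
  (1229, [3, 88]),
  (1231, [3, 109, 130]),
  (1233, [3, 102, 135]),
  (1210, [87]),
  (1238, [3, 102, 135]),
  (1212, [86, 135]),
  (1213, [105, 135]),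
  (1214, [108, 134]),
  (1139, [101, 135]),
  (1202, [3, 85, 130]),
  (1217, [108, 134]),
  (1218, [110, 134]),
  (1219, [108, 134]),
  (1222, [98, 134]),
  (1221, [108, 134]),
  (1220, [98, 134]),
  (1223, [110, 134])]

/-- The moves by letter 14, a part. -/
def certMoves14Part34 : List (ℕ × List ℕ) := [
  (1224, [110, 134]),
  (1226, [86, 134]),
  (1225, [86, 134]),
  (1250, [87, 130]),
  (1174, [90]),
  (1207, [3, 89, 134]),
  (1175, [88]),
  (1208, [3, 104, 134]),
  (1182, [102, 135]),
  (1209, [3, 97, 134]),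
  (1234, [91, 130]),
  (1235, [27, 134]),
  (1236, [110, 134]),
  (1188, [101, 134]),
  (1211, [3, 97, 134]),
  (1239, [91, 130]),
  (1240, [27, 134]),
  (1241, [91, 130]),
  (1242, [110, 134]),
  (1243, [110, 134]),
  (1244, [105, 135]),
  (1251, [3, 100, 130]),
  (1246, [86, 135]),
  (1247, [105, 135]),
  (1248, [110, 134]),
  (1249, [110, 134]),
  (1227, [87, 130]),
  (1245, [3, 103]),
  (1252, [90, 130]),
  (1253, [91, 130]),
  (1254, [91, 130]),
  (1255, [110, 134]),
  (1256, [99, 134]),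
  (1257, [86, 130]),
  (1258, [90, 130]),
  (1259, [87, 130])]

/-- The moves by letter 14, in equal parts. -/
def certMoves14C : List (List (ℕ × List ℕ)) := [certMoves14Part0, certMoves14Part1, certMoves14Part2, certMoves14Part3, certMoves14Part4, certMoves14Part5, certMoves14Part6, certMoves14Part7, certMoves14Part8, certMoves14Part9, certMoves14Part10, certMoves14Part11, certMoves14Part12, certMoves14Part13, certMoves14Part14, certMoves14Part15, certMoves14Part16, certMoves14Part17, certMoves14Part18, certMoves14Part19, certMoves14Part20, certMoves14Part21, certMoves14Part22, certMoves14Part23, certMoves14Part24, certMoves14Part25, certMoves14Part26, certMoves14Part27, certMoves14Part28, certMoves14Part29, certMoves14Part30, certMoves14Part31, certMoves14Part32, certMoves14Part33, certMoves14Part34]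

/-- The moves by letter 14. -/
def certMoves14 : List (ℕ × List ℕ) := certMoves14C.flatten

/-- The moves by letter 15, a part. -/
def certMoves15Part0 : List (ℕ × List ℕ) := [
  (0, [27]),
  (1, [27]),
  (2, [87, 134]),
  (3, [92, 130]),
  (4, [91]),
  (5, [87, 134]),
  (6, [92, 130]),
  (7, [87, 130]),
  (8, [87, 134]),
  (15, [3, 77, 135]),
  (10, [90, 134]),
  (11, [92, 130]),
  (12, [92, 130]),
  (13, [84, 130]),
  (14, [87, 134]),
  (9, [3, 77, 135]),
  (16, [27, 130]),
  (17, [92, 130]),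
  (18, [99, 134]),
  (19, [92, 130]),
  (31, [3, 77, 135]),
  (21, [87, 134]),
  (33, [3, 77, 135]),
  (35, [3, 77, 135]),
  (36, [3, 77, 135]),
  (34, [7, 31, 42, 67, 100, 134]),
  (26, [92, 130]),
  (27, [92, 130]),
  (28, [99, 134]),
  (29, [92, 130]),
  (30, [84, 130]),
  (20, [3, 77, 135]),
  (32, [27, 130]),
  (22, [3, 77, 135]),
  (25, [0, 3, 109, 134]),
  (23, [3, 77, 135])]

/-- The moves by letter 15, a part. -/
def certMoves15Part1 : List (ℕ × List ℕ) := [
  (24, [3, 77, 135]),
  (37, [99, 134]),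
  (38, [92, 130]),
  (39, [103, 135]),
  (59, [3, 77, 135]),
  (61, [3, 77, 135]),
  (62, [3, 77, 135]),
  (60, [7, 31, 42, 67, 86, 130]),
  (64, [3, 77, 135]),
  (65, [3, 77, 135]),
  (63, [7, 31, 42, 67, 102, 134]),
  (67, [3, 77, 135]),
  (66, [7, 31, 42, 67, 89, 130]),
  (93, [99, 134]),
  (51, [77, 130]),
  (50, [93, 130]),
  (52, [27]),
  (53, [99, 134]),
  (54, [84, 130]),
  (55, [92, 130]),
  (56, [99, 134]),
  (57, [99, 134]),
  (58, [99, 134]),
  (40, [3, 77, 135]),
  (43, [0, 3, 92]),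
  (41, [3, 77, 135]),
  (42, [3, 77, 135]),
  (46, [0, 3, 109]),
  (44, [3, 77, 135]),
  (45, [3, 77, 135]),
  (48, [0, 3, 92, 134]),
  (47, [3, 77, 135]),
  (92, [3, 97, 130]),
  (69, [27]),
  (70, [103, 135]),
  (71, [103, 135])]

/-- The moves by letter 15, a part. -/
def certMoves15Part2 : List (ℕ × List ℕ) := [
  (103, [3, 77, 135]),
  (104, [3, 77, 135]),
  (102, [7, 31, 42, 67, 90]),
  (75, [92, 130]),
  (107, [3, 77, 135]),
  (105, [7, 31, 42, 67, 27]),
  (133, []),
  (80, [27, 130]),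
  (79, [27, 130]),
  (110, [3, 77, 135]),
  (109, [7, 31, 42, 67, 99, 135]),
  (83, [87, 134]),
  (142, [99]),
  (86, [92, 135]),
  (85, [84, 135]),
  (87, [87, 134]),
  (151, [86, 135]),
  (90, [99]),
  (89, [110]),
  (152, [99, 134]),
  (68, [3, 109]),
  (49, [99, 134]),
  (94, [78]),
  (95, [91]),
  (96, [99, 134]),
  (97, [110, 134]),
  (98, [99, 134]),
  (99, [91]),
  (100, [99, 134]),
  (101, [99, 134]),
  (74, [0, 3, 77, 135]),
  (72, [3, 77, 135]),
  (73, [3, 77, 135]),
  (77, [0, 3, 77, 130]),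
  (106, [92, 130]),
  (76, [3, 77, 135])]

/-- The moves by letter 15, a part. -/
def certMoves15Part3 : List (ℕ × List ℕ) := [
  (132, [3, 77, 135]),
  (82, [0, 3, 110, 130]),
  (81, [3, 77, 135]),
  (111, [87, 134]),
  (143, [3, 97, 130]),
  (113, [87, 134]),
  (150, [3, 112, 130]),
  (153, [3, 97, 130]),
  (116, [93]),
  (117, [103, 135]),
  (118, [92, 130]),
  (162, [3, 77, 135]),
  (160, [7, 31, 42, 67, 86, 130]),
  (121, [87, 134]),
  (190, [86, 135]),
  (124, [86, 135]),
  (123, [86, 135]),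
  (125, [92, 130]),
  (126, [84, 130]),
  (127, [87, 134]),
  (201, [86, 135]),
  (130, [97]),
  (129, [97]),
  (204, []),
  (108, [3, 77, 135]),
  (78, []),
  (170, [3, 85, 130]),
  (213, [95]),
  (137, [104, 135]),
  (136, [104, 135]),
  (172, [3, 78, 134]),
  (139, [87, 134]),
  (140, [90, 134]),
  (222, [99, 134]),
  (84, [110]),
  (112, [3, 109])]

/-- The moves by letter 15, a part. -/
def certMoves15Part4 : List (ℕ × List ℕ) := [
  (144, [90, 134]),
  (145, [87, 134]),
  (176, [3, 78, 134]),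
  (147, [90, 134]),
  (148, [87, 134]),
  (230, [108, 134]),
  (114, [3, 105]),
  (88, [86, 135]),
  (91, [99, 134]),
  (115, [3, 109]),
  (154, [78]),
  (155, [78]),
  (156, [95]),
  (157, [78]),
  (158, [99, 134]),
  (159, [99, 134]),
  (120, [0, 3, 92]),
  (161, [92, 130]),
  (119, [3, 77, 135]),
  (163, [87, 134]),
  (191, [3, 77, 135]),
  (165, [99, 134]),
  (166, [92, 130]),
  (167, [87, 134]),
  (202, [3, 97, 130]),
  (205, [3, 77, 135]),
  (134, [3, 85, 130]),
  (212, [3, 91, 135]),
  (138, [3, 84]),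
  (173, [87, 134]),
  (221, [3, 97, 135]),
  (175, [87, 134]),
  (146, [3, 84]),
  (231, [3, 84]),
  (178, [93]),
  (179, [93])]

/-- The moves by letter 15, a part. -/
def certMoves15Part5 : List (ℕ × List ℕ) := [
  (180, [92, 130]),
  (181, [92, 130]),
  (239, [3, 85, 130]),
  (269, [84, 135]),
  (185, [110]),
  (184, [99]),
  (241, [3, 78, 134]),
  (187, [87, 134]),
  (188, [87, 134]),
  (281, []),
  (122, [86, 135]),
  (164, [3, 77, 135]),
  (192, [87, 134]),
  (244, [3, 78, 135]),
  (194, [99, 134]),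
  (195, [92, 130]),
  (196, [84, 130]),
  (197, [87, 134]),
  (247, [3, 78, 134]),
  (199, [87, 134]),
  (298, [99, 134]),
  (128, [86, 135]),
  (168, [3, 109]),
  (203, [90, 134]),
  (131, []),
  (169, [3, 77, 135]),
  (249, [3, 85, 130]),
  (306, [78, 130]),
  (251, [3, 85, 130]),
  (210, [95, 130]),
  (209, [78, 130]),
  (310, [95]),
  (171, [3, 89, 135]),
  (135, [95]),
  (253, [3, 78, 134]),
  (254, [3, 78, 134])]

/-- The moves by letter 15, a part. -/
def certMoves15Part6 : List (ℕ × List ℕ) := [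
  (255, [3, 78, 134]),
  (218, [95, 134]),
  (217, [78, 134]),
  (219, [87, 134]),
  (220, [90, 134]),
  (174, [3, 99]),
  (141, [99, 134]),
  (256, [3, 78, 134]),
  (224, [87, 134]),
  (257, [3, 78, 134]),
  (258, [3, 78, 134]),
  (228, [100, 130]),
  (227, [112, 130]),
  (229, [87, 134]),
  (149, [108, 134]),
  (177, [3, 78, 134]),
  (232, [78]),
  (233, [78]),
  (234, [78]),
  (235, [95]),
  (236, [78]),
  (237, [99, 134]),
  (238, [92, 130]),
  (182, [3, 85, 130]),
  (270, [3, 97, 130]),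
  (186, [3, 84]),
  (242, [87, 134]),
  (280, [3, 84]),
  (193, [3, 78, 135]),
  (245, [103, 135]),
  (246, [87, 134]),
  (198, [3, 84]),
  (297, [3, 84]),
  (206, [3, 85, 130]),
  (307, [3, 85, 130]),
  (208, [3, 85, 130])]

/-- The moves by letter 15, a part. -/
def certMoves15Part7 : List (ℕ × List ℕ) := [
  (311, [3, 91, 135]),
  (214, [3, 84]),
  (215, [3, 84]),
  (216, [3, 84]),
  (223, [3, 84]),
  (225, [3, 84]),
  (226, [3, 84]),
  (259, [93]),
  (333, [3, 90, 134]),
  (261, [99, 134]),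
  (262, [84, 130]),
  (263, [92, 130]),
  (335, [3, 85, 130]),
  (378, [95]),
  (337, [3, 85, 130]),
  (271, [111, 134]),
  (383, [99, 134]),
  (183, [92, 135]),
  (240, [3, 109]),
  (267, [111, 134]),
  (339, [3, 78, 134]),
  (340, [3, 78, 134]),
  (341, [3, 78, 134]),
  (276, [86, 135]),
  (275, [86, 135]),
  (277, [27]),
  (278, [90, 134]),
  (279, [87, 134]),
  (243, [3, 78, 134]),
  (189, []),
  (343, [3, 78, 135]),
  (404, [90, 135]),
  (345, [3, 78, 135]),
  (286, [98]),
  (285, [98]),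
  (287, [99, 134])]

/-- The moves by letter 15, a part. -/
def certMoves15Part8 : List (ℕ × List ℕ) := [
  (288, [99, 134]),
  (289, [99, 134]),
  (347, [3, 78, 134]),
  (291, [90, 134]),
  (292, [87, 134]),
  (348, [3, 78, 134]),
  (349, [3, 78, 134]),
  (296, [86, 135]),
  (295, [86, 135]),
  (248, [3, 78, 134]),
  (200, [99, 134]),
  (421, [91, 130]),
  (351, [3, 85, 130]),
  (302, [91, 130]),
  (301, [91, 130]),
  (428, []),
  (430, [91, 130]),
  (433, []),
  (207, [95, 130]),
  (250, [3, 85, 130]),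
  (309, [91, 130]),
  (308, [91, 130]),
  (211, [95]),
  (252, [3, 89, 135]),
  (355, [3, 78, 134]),
  (356, [3, 78, 134]),
  (319, [78, 134]),
  (357, [3, 78, 134]),
  (317, [91, 130]),
  (316, [91, 130]),
  (320, [78]),
  (314, [95, 134]),
  (318, [78]),
  (358, [3, 78, 134]),
  (359, [3, 78, 134]),
  (324, [91, 130])]

/-- The moves by letter 15, a part. -/
def certMoves15Part9 : List (ℕ × List ℕ) := [
  (323, [91, 130]),
  (360, [3, 78, 134]),
  (327, [108, 134]),
  (326, [108, 134]),
  (329, [99, 135]),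
  (328, [99, 135]),
  (330, [27]),
  (331, [95]),
  (332, [78]),
  (260, [3, 90, 134]),
  (334, [103, 135]),
  (264, [3, 85, 130]),
  (377, [3, 86, 130]),
  (266, [3, 85, 130]),
  (382, [3, 88]),
  (272, [3, 84]),
  (273, [3, 84]),
  (274, [3, 84]),
  (342, [27]),
  (282, [3, 78, 135]),
  (403, [3, 108, 130]),
  (284, [3, 78, 135]),
  (346, [103, 135]),
  (290, [3, 84]),
  (293, [3, 84]),
  (294, [3, 84]),
  (422, [3, 85, 130]),
  (300, [3, 85, 130]),
  (427, [3, 88]),
  (431, [3, 85, 130]),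
  (432, [3, 109, 134]),
  (312, [3, 84]),
  (313, [3, 84]),
  (315, [3, 84]),
  (321, [3, 84]),
  (322, [3, 84])]

/-- The moves by letter 15, a part. -/
def certMoves15Part10 : List (ℕ × List ℕ) := [
  (325, [3, 84]),
  (361, [27]),
  (454, [3, 90, 134]),
  (494, [111, 130]),
  (456, [3, 90, 134]),
  (366, [95, 134]),
  (365, [78, 134]),
  (367, [99, 134]),
  (368, [110, 134]),
  (369, [99, 134]),
  (505, [104, 134]),
  (459, [3, 85, 130]),
  (373, [107, 134]),
  (372, [104, 134]),
  (512, [95]),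
  (516, [91, 130]),
  (518, []),
  (336, [3, 87, 130]),
  (265, [95]),
  (379, [93, 135]),
  (381, [104, 134]),
  (380, [107, 134]),
  (338, [3, 89, 134]),
  (268, [99, 134]),
  (464, [3, 78, 134]),
  (465, [3, 78, 134]),
  (392, [86, 135]),
  (387, [78]),
  (467, [3, 78, 134]),
  (390, [108, 130]),
  (389, [98, 130]),
  (393, [89]),
  (386, [86, 135]),
  (391, [89]),
  (394, [91]),
  (395, [91])]

/-- The moves by letter 15, a part. -/
def certMoves15Part11 : List (ℕ × List ℕ) := [
  (539, [90, 135]),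
  (469, [3, 78, 135]),
  (399, [112]),
  (398, [100]),
  (545, [99, 134]),
  (549, []),
  (550, [85]),
  (344, [3, 102]),
  (283, [90, 135]),
  (406, [90, 135]),
  (405, [90, 135]),
  (407, [99, 134]),
  (408, [99, 134]),
  (473, [3, 78, 134]),
  (474, [3, 78, 134]),
  (412, [112, 130]),
  (411, [100, 130]),
  (475, [3, 78, 134]),
  (417, [86, 135]),
  (416, [94]),
  (415, [85]),
  (414, [86, 135]),
  (564, []),
  (567, []),
  (569, [108, 135]),
  (299, [91, 130]),
  (350, [3, 85, 130]),
  (424, [91, 130]),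
  (423, [91, 130]),
  (573, []),
  (576, [102, 134]),
  (352, [3, 89, 134]),
  (303, []),
  (578, [90, 134]),
  (304, [91, 130]),
  (353, [3, 85, 130])]

/-- The moves by letter 15, a part. -/
def certMoves15Part12 : List (ℕ × List ℕ) := [
  (354, [3, 105, 130]),
  (305, []),
  (482, [3, 78, 134]),
  (438, [98, 134]),
  (436, [87, 134]),
  (439, [94]),
  (435, [98, 134]),
  (437, [85]),
  (588, []),
  (442, [89]),
  (441, [89]),
  (485, [3, 78, 134]),
  (448, [91, 130]),
  (595, [87, 130]),
  (447, [103, 134]),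
  (446, [105, 134]),
  (444, [91, 130]),
  (449, [87, 134]),
  (451, [105, 134]),
  (450, [103, 134]),
  (452, [91]),
  (453, [91]),
  (362, [3, 90, 134]),
  (495, [3, 102]),
  (364, [3, 90, 134]),
  (457, [103, 135]),
  (506, [3, 85, 130]),
  (371, [3, 85, 130]),
  (519, [3, 86, 130]),
  (515, [3, 107, 135]),
  (517, [3, 93, 135]),
  (463, [93, 135]),
  (384, [3, 84]),
  (385, [3, 84]),
  (466, [93]),
  (388, [3, 84])]

/-- The moves by letter 15, a part. -/
def certMoves15Part13 : List (ℕ × List ℕ) := [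
  (538, [3, 110, 130]),
  (397, [3, 78, 135]),
  (546, [3, 84]),
  (548, [3, 78, 135]),
  (551, [3, 84]),
  (409, [3, 84]),
  (410, [3, 84]),
  (413, [3, 84]),
  (563, [3, 84]),
  (566, [3, 85, 130]),
  (570, [3, 88]),
  (572, [3, 84]),
  (575, [3, 93, 130]),
  (579, [3, 85, 130]),
  (434, [3, 84]),
  (483, [87, 134]),
  (587, [3, 84]),
  (443, [3, 84]),
  (594, [3, 85, 134]),
  (487, [87, 134]),
  (644, [95]),
  (599, [3, 90, 134]),
  (499, [107, 130]),
  (652, [99, 134]),
  (655, [107, 130]),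
  (657, [84, 130]),
  (363, [102, 130]),
  (455, [3, 108, 130]),
  (496, [93, 135]),
  (498, [107, 130]),
  (497, [107, 130]),
  (490, [107, 130]),
  (500, [99, 134]),
  (501, [99, 134]),
  (664, []),
  (667, [102, 134])]

/-- The moves by letter 15, a part. -/
def certMoves15Part14 : List (ℕ × List ℕ) := [
  (670, [90, 134]),
  (370, [107, 134]),
  (458, [3, 85, 130]),
  (507, [93, 135]),
  (509, [102, 134]),
  (508, [102, 134]),
  (676, [110, 134]),
  (680, []),
  (374, [95]),
  (610, [3, 110]),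
  (686, [90, 134]),
  (461, [3, 100, 134]),
  (375, [91, 130]),
  (462, [3, 93, 135]),
  (376, []),
  (460, [3, 87, 130]),
  (520, [77, 135]),
  (521, [93, 135]),
  (522, [78]),
  (613, [3, 78, 134]),
  (525, [110, 134]),
  (524, [110, 134]),
  (526, [87, 134]),
  (528, [27, 130]),
  (527, [27, 130]),
  (529, [78]),
  (530, [95]),
  (531, [78]),
  (700, [108, 134]),
  (534, [108, 134]),
  (533, [108, 134]),
  (704, [108, 134]),
  (709, [99, 134]),
  (712, [99, 134]),
  (468, [3, 107]),
  (396, [90, 135])]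

/-- The moves by letter 15, a part. -/
def certMoves15Part15 : List (ℕ × List ℕ) := [
  (540, [92, 130]),
  (542, [98]),
  (541, [98]),
  (716, []),
  (718, [105, 135]),
  (400, [99, 134]),
  (470, [3, 78, 134]),
  (723, [99, 134]),
  (471, [3, 78, 135]),
  (401, []),
  (402, [94]),
  (472, [3, 78, 134]),
  (624, [3, 78, 134]),
  (554, [108, 134]),
  (553, [108, 134]),
  (730, [88]),
  (557, [85]),
  (556, [94]),
  (558, [87, 134]),
  (560, [77, 130]),
  (559, [93, 130]),
  (734, []),
  (738, [102, 134]),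
  (476, [3, 78, 134]),
  (418, []),
  (742, []),
  (477, [3, 85, 130]),
  (419, []),
  (745, [102, 135]),
  (420, [98, 135]),
  (478, [3, 89, 134]),
  (749, []),
  (479, [3, 78, 134]),
  (425, []),
  (632, [3, 85, 130]),
  (480, [3, 92, 135])]

/-- The moves by letter 15, a part. -/
def certMoves15Part16 : List (ℕ × List ℕ) := [
  (426, [102, 134]),
  (754, [27, 130]),
  (429, [90, 134]),
  (481, [3, 85, 130]),
  (758, [27, 130]),
  (581, [87, 134]),
  (583, [88, 135]),
  (582, [88, 135]),
  (584, [90, 134]),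
  (585, [90, 134]),
  (761, []),
  (484, [3, 78, 134]),
  (440, []),
  (766, [102, 135]),
  (590, [87, 134]),
  (592, [107, 130]),
  (591, [107, 130]),
  (770, [88]),
  (486, [3, 84, 134]),
  (445, [87, 130]),
  (596, [90, 134]),
  (597, [87, 134]),
  (643, [3, 92, 134]),
  (489, [3, 90, 134]),
  (651, [3, 99, 135]),
  (656, [3, 90, 134]),
  (658, [3, 102]),
  (603, [93, 135]),
  (663, [3, 99, 135]),
  (668, [3, 85, 130]),
  (671, [3, 85, 130]),
  (607, [93, 135]),
  (677, [3, 84]),
  (679, [3, 84, 134]),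
  (513, [3, 106, 135]),
  (685, [3, 105, 130])]

/-- The moves by letter 15, a part. -/
def certMoves15Part17 : List (ℕ × List ℕ) := [
  (612, [93]),
  (523, [3, 84]),
  (614, [87, 134]),
  (615, [93]),
  (701, [3, 84]),
  (705, [3, 84]),
  (708, [3, 108, 130]),
  (711, [3, 86, 135]),
  (620, [92, 130]),
  (720, [3, 84]),
  (719, [3, 78, 135]),
  (722, [3, 87, 134]),
  (552, [3, 84]),
  (729, [3, 92, 135]),
  (626, [87, 134]),
  (739, [3, 84]),
  (737, [3, 95, 134]),
  (741, [3, 93, 135]),
  (744, [3, 104]),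
  (748, [3, 95, 134]),
  (574, [3, 85, 130]),
  (753, [3, 95, 134]),
  (757, [3, 94, 130]),
  (635, [87, 134]),
  (762, [3, 84]),
  (765, [3, 94, 130]),
  (638, [87, 134]),
  (771, [3, 85, 134]),
  (822, [95]),
  (826, [95, 134]),
  (830, [99, 134]),
  (598, [3, 94, 134]),
  (488, [95]),
  (645, [93, 135]),
  (646, [92, 130]),
  (648, [111, 130])]

/-- The moves by letter 15, a part. -/
def certMoves15Part18 : List (ℕ × List ℕ) := [
  (647, [102, 130]),
  (840, []),
  (842, [107, 134]),
  (600, [3, 108]),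
  (491, [99, 134]),
  (779, [3, 110]),
  (848, [99]),
  (492, [107, 130]),
  (601, [3, 90, 134]),
  (493, [84, 130]),
  (602, [3, 108, 130]),
  (659, [93, 135]),
  (660, [93, 135]),
  (853, []),
  (856, [102, 130]),
  (604, [3, 108]),
  (502, []),
  (783, [3, 110]),
  (862, [100]),
  (503, [102, 134]),
  (605, [3, 85, 130]),
  (866, [27, 130]),
  (504, [90, 134]),
  (606, [3, 85, 130]),
  (672, [93, 135]),
  (673, [93, 135]),
  (786, [3, 110]),
  (872, [101]),
  (510, [110, 134]),
  (608, [3, 78, 134]),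
  (788, [3, 85, 130]),
  (609, [3, 85, 134]),
  (511, []),
  (789, [3, 110]),
  (683, [109]),
  (682, [101])]

/-- The moves by letter 15, a part. -/
def certMoves15Part19 : List (ℕ × List ℕ) := [
  (880, [107]),
  (611, [3, 109, 134]),
  (514, [90, 134]),
  (687, [78]),
  (688, [78]),
  (888, [103, 134]),
  (690, [87, 134]),
  (692, [106, 130]),
  (691, [97, 130]),
  (693, [78]),
  (694, [87, 134]),
  (695, [87, 134]),
  (794, [3, 98]),
  (697, [78]),
  (698, [78]),
  (897, []),
  (532, [108, 134]),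
  (616, [3, 78, 134]),
  (900, [99, 134]),
  (903, [100, 130]),
  (535, [108, 134]),
  (617, [3, 78, 134]),
  (706, [99, 134]),
  (908, [84, 130]),
  (618, [3, 102]),
  (536, [99, 134]),
  (710, [99, 134]),
  (619, [3, 27, 130]),
  (537, [99, 134]),
  (713, [92, 130]),
  (714, [84, 130]),
  (915, [99, 134]),
  (543, []),
  (802, [3, 78, 135]),
  (544, [105, 135]),
  (622, [3, 78, 135])]

/-- The moves by letter 15, a part. -/
def certMoves15Part20 : List (ℕ × List ℕ) := [
  (621, [3, 78, 134]),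
  (721, [99, 134]),
  (623, [3, 87, 134]),
  (547, [99, 134]),
  (922, [106, 130]),
  (725, [87, 134]),
  (727, [103, 134]),
  (726, [105, 134]),
  (926, [87, 130]),
  (625, [3, 93, 130]),
  (555, [88]),
  (731, [87, 134]),
  (732, [87, 134]),
  (930, []),
  (561, []),
  (932, [90, 134]),
  (809, [3, 85, 130]),
  (628, [3, 92]),
  (562, [102, 134]),
  (627, [3, 78, 134]),
  (810, [3, 78, 134]),
  (629, [3, 93, 135]),
  (565, []),
  (938, [95, 134]),
  (630, [3, 99, 130]),
  (568, [102, 135]),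
  (941, [90, 134]),
  (813, [3, 85, 130]),
  (631, [3, 92]),
  (571, []),
  (751, [109]),
  (750, [101]),
  (945, [27, 130]),
  (633, [3, 92]),
  (577, [27, 130]),
  (948, [27, 130])]

/-- The moves by letter 15, a part. -/
def certMoves15Part21 : List (ℕ × List ℕ) := [
  (756, [27, 130]),
  (634, [3, 94, 130]),
  (580, [27, 130]),
  (759, [87, 134]),
  (760, [87, 134]),
  (586, []),
  (636, [3, 78, 134]),
  (763, [27, 130]),
  (955, [27, 130]),
  (637, [3, 94, 130]),
  (589, [102, 135]),
  (767, [87, 134]),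
  (768, [90, 134]),
  (769, [99, 134]),
  (593, [88]),
  (639, [3, 84, 134]),
  (831, [3, 92, 134]),
  (827, [3, 102]),
  (829, [3, 95, 135]),
  (775, [93, 135]),
  (776, [92, 130]),
  (839, [3, 106, 135]),
  (843, [3, 90, 134]),
  (653, [3, 106, 135]),
  (849, [3, 95, 135]),
  (852, [3, 106, 135]),
  (857, [3, 95, 134]),
  (665, [3, 106, 135]),
  (863, [3, 93, 135]),
  (865, [3, 95, 134]),
  (674, [3, 106, 135]),
  (873, [3, 95, 134]),
  (678, [3, 85, 130]),
  (681, [3, 106, 135]),
  (881, [3, 95, 134]),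
  (791, [93])]

/-- The moves by letter 15, a part. -/
def certMoves15Part22 : List (ℕ × List ℕ) := [
  (889, [3, 94, 130]),
  (793, [87, 134]),
  (696, [3, 110, 135]),
  (896, [3, 110, 135]),
  (905, [3, 84]),
  (904, [3, 78, 135]),
  (798, [103, 135]),
  (909, [3, 108, 130]),
  (800, [103, 135]),
  (914, [3, 78, 135]),
  (717, [3, 78, 135]),
  (803, [103, 135]),
  (923, [3, 94, 130]),
  (805, [87, 134]),
  (927, [3, 92, 135]),
  (929, [3, 85, 130]),
  (935, [3, 100, 130]),
  (736, [3, 85, 130]),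
  (740, [3, 84]),
  (939, [3, 97, 135]),
  (944, [3, 92]),
  (747, [3, 85, 130]),
  (946, [3, 84]),
  (951, [3, 94, 130]),
  (816, [88, 135]),
  (817, [88, 135]),
  (956, [3, 94, 130]),
  (819, [103, 135]),
  (1006, [99, 134]),
  (1010, [99, 134]),
  (640, [95]),
  (961, [3, 110]),
  (824, [99, 134]),
  (1018, [84, 130]),
  (641, [78, 134]),
  (773, [3, 108, 130])]

/-- The moves by letter 15, a part. -/
def certMoves15Part23 : List (ℕ × List ℕ) := [
  (828, [99, 134]),
  (774, [3, 95, 135]),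
  (642, [99, 134]),
  (772, [3, 94, 134]),
  (832, [27]),
  (833, [77, 135]),
  (834, [84, 130]),
  (835, [92, 130]),
  (836, [77, 135]),
  (966, [3, 110]),
  (1027, [107, 130]),
  (777, [3, 110]),
  (649, []),
  (968, [3, 90, 134]),
  (650, [104, 134]),
  (778, [3, 90, 134]),
  (969, [3, 110]),
  (846, [107, 130]),
  (845, [107, 130]),
  (847, [99, 134]),
  (654, [110]),
  (780, [3, 95, 135]),
  (971, [3, 110]),
  (1040, [102, 134]),
  (781, [3, 110]),
  (661, []),
  (1045, [90, 134]),
  (974, [3, 85, 130]),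
  (662, [111, 130]),
  (782, [3, 92]),
  (975, [3, 110]),
  (860, [102, 134]),
  (859, [102, 134]),
  (976, [3, 78, 134]),
  (666, [112]),
  (784, [3, 93, 135])]

/-- The moves by letter 15, a part. -/
def certMoves15Part24 : List (ℕ × List ℕ) := [
  (1054, [102, 135]),
  (785, [3, 92]),
  (669, [27, 130]),
  (978, [3, 110]),
  (869, [110, 134]),
  (868, [110, 134]),
  (1061, [90, 134]),
  (980, [3, 85, 130]),
  (675, [109]),
  (787, [3, 92]),
  (875, [135]),
  (874, [135]),
  (981, [3, 98]),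
  (878, [100]),
  (877, [112]),
  (1069, [27, 130]),
  (684, [104]),
  (790, [3, 92]),
  (983, [3, 98]),
  (883, [27]),
  (884, [95]),
  (885, [78]),
  (1079, [27, 130]),
  (887, [27, 130]),
  (689, [105, 134]),
  (792, [3, 94, 130]),
  (890, [90, 134]),
  (891, [87, 134]),
  (987, [3, 98]),
  (988, [3, 98]),
  (895, [108, 134]),
  (894, [108, 134]),
  (795, [3, 98]),
  (699, []),
  (898, [99, 134]),
  (1088, [105, 135])]

/-- The moves by letter 15, a part. -/
def certMoves15Part25 : List (ℕ × List ℕ) := [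
  (702, [99, 134]),
  (901, [99, 134]),
  (992, [3, 78, 135]),
  (703, [112, 130]),
  (797, [3, 78, 135]),
  (796, [3, 78, 134]),
  (906, [99, 134]),
  (907, [99, 134]),
  (707, [84, 130]),
  (799, [3, 102]),
  (910, [110, 134]),
  (911, [99, 134]),
  (912, [99, 134]),
  (994, [3, 78, 135]),
  (801, [3, 78, 135]),
  (715, [99, 134]),
  (917, [105, 135]),
  (916, [105, 135]),
  (918, [99, 134]),
  (919, [99, 134]),
  (920, [27, 130]),
  (1101, [102, 135]),
  (724, [97, 130]),
  (804, [3, 94, 130]),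
  (924, [90, 134]),
  (925, [87, 134]),
  (728, [87, 130]),
  (806, [3, 93, 130]),
  (997, [3, 78, 134]),
  (807, [3, 85, 130]),
  (733, []),
  (1105, [86, 135]),
  (735, [90, 134]),
  (934, [109, 135]),
  (933, [109, 135]),
  (808, [3, 103])]

/-- The moves by letter 15, a part. -/
def certMoves15Part26 : List (ℕ × List ℕ) := [
  (937, [86, 135]),
  (936, [86, 135]),
  (743, [78, 134]),
  (811, [3, 99]),
  (1107, [86, 135]),
  (746, [90, 134]),
  (943, [86, 135]),
  (942, [86, 135]),
  (812, [3, 95, 134]),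
  (752, [27, 130]),
  (814, [3, 78, 134]),
  (947, [27, 130]),
  (755, [27, 130]),
  (949, [27, 130]),
  (950, [27, 130]),
  (815, [3, 94, 130]),
  (952, [27, 130]),
  (953, [27, 130]),
  (954, [27, 130]),
  (764, [27, 130]),
  (818, [3, 94, 130]),
  (957, [99, 134]),
  (958, [99, 134]),
  (1005, [3, 92]),
  (1009, [3, 88, 130]),
  (823, [3, 106, 135]),
  (962, [103, 135]),
  (1017, [3, 102, 134]),
  (964, [103, 135]),
  (965, [27]),
  (837, [3, 106, 135]),
  (1028, [3, 90, 134]),
  (841, [3, 90, 134]),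
  (844, [3, 106, 135]),
  (970, [103, 135]),
  (850, [3, 106, 135])]

/-- The moves by letter 15, a part. -/
def certMoves15Part27 : List (ℕ × List ℕ) := [
  (1041, [3, 85, 130]),
  (1044, [3, 99, 134]),
  (855, [3, 85, 130]),
  (858, [3, 106, 135]),
  (861, [3, 84]),
  (1053, [3, 27, 130]),
  (867, [3, 106, 135]),
  (1060, [3, 101, 130]),
  (871, [3, 85, 130]),
  (876, [3, 110, 135]),
  (1068, [3, 111, 135]),
  (882, [3, 110, 135]),
  (984, [27]),
  (1078, [3, 111, 135]),
  (986, [88, 135]),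
  (892, [3, 110, 135]),
  (893, [3, 110, 135]),
  (989, [103, 135]),
  (1089, [3, 78, 135]),
  (991, [103, 135]),
  (902, [3, 78, 135]),
  (993, [103, 135]),
  (913, [3, 78, 135]),
  (995, [88, 135]),
  (1102, [3, 94, 130]),
  (928, [3, 84]),
  (1106, [3, 98, 135]),
  (1108, [3, 84]),
  (1000, [88, 135]),
  (1001, [88, 135]),
  (1113, [3, 110]),
  (1003, [99, 134]),
  (1144, [105, 135]),
  (959, [3, 95, 134]),
  (820, [99, 134]),
  (1007, [99, 134])]

/-- The moves by letter 15, a part. -/
def certMoves15Part28 : List (ℕ × List ℕ) := [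
  (1117, [3, 90, 134]),
  (960, [3, 90, 130]),
  (821, [99, 134]),
  (1011, [78]),
  (1119, [3, 110]),
  (1014, [99]),
  (1013, [110]),
  (1015, [110, 134]),
  (1016, [99, 134]),
  (963, [3, 104, 130]),
  (825, [84, 130]),
  (1019, [99, 134]),
  (1020, [99, 134]),
  (1021, [91]),
  (1022, [91]),
  (1120, [3, 110]),
  (1029, []),
  (1025, [99, 134]),
  (1122, [3, 90, 134]),
  (838, [107, 130]),
  (967, [3, 90, 134]),
  (1024, []),
  (1031, [104, 134]),
  (1030, [107, 134]),
  (1032, [78]),
  (1034, [95, 134]),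
  (1033, [78, 134]),
  (1035, [110, 134]),
  (1036, [99, 134]),
  (1124, [3, 110]),
  (1042, []),
  (1125, [3, 78, 134]),
  (851, [102, 134]),
  (972, [3, 85, 130]),
  (1038, []),
  (1171, [86, 135])]

/-- The moves by letter 15, a part. -/
def certMoves15Part29 : List (ℕ × List ℕ) := [
  (973, [3, 105, 135]),
  (854, [90, 134]),
  (1047, [101]),
  (1046, [109]),
  (1048, [78]),
  (1050, [112]),
  (1049, [100]),
  (1052, [99, 130]),
  (1051, [110, 130]),
  (977, [3, 86, 135]),
  (864, [102, 135]),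
  (1128, [3, 98]),
  (1056, [93, 135]),
  (1058, [109]),
  (1057, [101]),
  (1181, [86, 135]),
  (979, [3, 107, 134]),
  (870, [90, 134]),
  (1063, [102, 130]),
  (1062, [111, 130]),
  (1131, [3, 98]),
  (1132, [3, 98]),
  (1067, [105, 134]),
  (1066, [103, 134]),
  (982, [3, 106, 134]),
  (879, [27, 130]),
  (1133, [3, 98]),
  (1071, [135]),
  (1135, [3, 98]),
  (1074, [104]),
  (1073, [107]),
  (1075, [91]),
  (1076, [91]),
  (1077, [27, 130]),
  (985, [3, 106, 134]),
  (886, [27, 130])]

/-- The moves by letter 15, a part. -/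
def certMoves15Part30 : List (ℕ × List ℕ) := [
  (1080, [91, 130]),
  (1081, [27, 130]),
  (1137, [3, 98]),
  (1085, [108, 134]),
  (1086, [89]),
  (1083, [108, 134]),
  (1084, [89]),
  (1087, [99, 134]),
  (899, [105, 135]),
  (990, [3, 78, 135]),
  (1090, [110, 134]),
  (1092, [112, 130]),
  (1091, [100, 130]),
  (1093, [99, 134]),
  (1094, [99, 134]),
  (1095, [99, 134]),
  (1098, [99, 134]),
  (1097, [99, 134]),
  (1096, [99, 134]),
  (1099, [91, 130]),
  (1100, [27, 130]),
  (921, [102, 135]),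
  (996, [3, 94, 130]),
  (1104, [87, 134]),
  (1103, [87, 134]),
  (931, [86, 135]),
  (998, [3, 100]),
  (940, [86, 135]),
  (999, [3, 78, 134]),
  (1109, [27, 130]),
  (1110, [27, 130]),
  (1111, [27, 130]),
  (1112, [27, 130]),
  (1002, [3, 106, 135]),
  (1114, [103, 135]),
  (1143, [3, 91, 130])]

/-- The moves by letter 15, a part. -/
def certMoves15Part31 : List (ℕ × List ℕ) := [
  (1116, [103, 135]),
  (1008, [3, 90, 134]),
  (1118, [93]),
  (1012, [3, 106, 135]),
  (1023, [3, 106, 135]),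
  (1121, [103, 135]),
  (1026, [3, 90, 134]),
  (1123, [93]),
  (1037, [3, 106, 135]),
  (1039, [3, 84]),
  (1170, [3, 109, 130]),
  (1127, [93]),
  (1055, [3, 110, 135]),
  (1129, [93, 135]),
  (1180, [3, 112, 130]),
  (1064, [3, 110, 135]),
  (1065, [3, 110, 135]),
  (1070, [3, 110, 135]),
  (1134, [91, 135]),
  (1072, [3, 110, 135]),
  (1136, [88, 135]),
  (1082, [3, 110, 135]),
  (1138, [78]),
  (1202, [3, 110]),
  (1145, [78]),
  (1141, [99, 134]),
  (1142, [99, 134]),
  (1115, [3, 88, 135]),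
  (1004, [105, 135]),
  (1140, [78]),
  (1146, [110, 134]),
  (1147, [99, 134]),
  (1149, [99, 130]),
  (1148, [110, 130]),
  (1150, [95]),
  (1151, [78])]

/-- The moves by letter 15, a part. -/
def certMoves15Part32 : List (ℕ × List ℕ) := [
  (1153, [88, 135]),
  (1152, [88, 135]),
  (1154, [78]),
  (1155, [93, 135]),
  (1157, [86, 135]),
  (1156, [86, 135]),
  (1158, [99, 134]),
  (1159, [99, 134]),
  (1161, [107, 130]),
  (1160, [107, 130]),
  (1162, [78]),
  (1163, [95]),
  (1164, [78]),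
  (1165, [78]),
  (1167, [102, 134]),
  (1166, [102, 134]),
  (1169, [100, 134]),
  (1168, [100, 134]),
  (1126, [3, 104, 134]),
  (1043, [86, 135]),
  (1172, [95]),
  (1173, [78]),
  (1207, [3, 98]),
  (1208, [3, 98]),
  (1179, [104]),
  (1177, [77, 135]),
  (1178, [93, 135]),
  (1176, [107]),
  (1130, [3, 105]),
  (1059, [86, 135]),
  (1209, [3, 98]),
  (1184, [97]),
  (1183, [97]),
  (1186, [135]),
  (1185, [135]),
  (1187, [135])]

/-- The moves by letter 15, a part. -/
def certMoves15Part33 : List (ℕ × List ℕ) := [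
  (1211, [3, 98]),
  (1194, [107]),
  (1190, [135]),
  (1191, [89, 135]),
  (1192, [135]),
  (1195, [135]),
  (1189, [104]),
  (1193, [135]),
  (1196, [27, 130]),
  (1197, [27, 130]),
  (1198, [78]),
  (1200, [99, 134]),
  (1199, [99, 134]),
  (1201, [93]),
  (1139, [3, 106, 135]),
  (1203, [93]),
  (1204, [93, 135]),
  (1205, [93]),
  (1206, [93]),
  (1174, [3, 110, 135]),
  (1175, [3, 110, 135]),
  (1182, [3, 110, 135]),
  (1210, [91, 135]),
  (1188, [3, 110, 135]),
  (1212, [91, 135]),
  (1213, [93]),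
  (1214, [78]),
  (1216, [78, 134]),
  (1215, [95, 134]),
  (1217, [78]),
  (1218, [78]),
  (1219, [78]),
  (1220, [93, 135]),
  (1221, [95]),
  (1222, [77, 135]),
  (1223, [78])]

/-- The moves by letter 15, a part. -/
def certMoves15Part34 : List (ℕ × List ℕ) := [
  (1224, [78]),
  (1225, [78]),
  (1226, [78]),
  (1245, [3, 98]),
  (1229, [103, 134]),
  (1228, [105, 134]),
  (1231, [89, 134]),
  (1230, [89, 134]),
  (1233, [109, 130]),
  (1232, [101, 130]),
  (1234, [135]),
  (1235, [135]),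
  (1236, [78]),
  (1238, [111]),
  (1237, [102]),
  (1239, [135]),
  (1240, [89, 135]),
  (1241, [135]),
  (1242, [78]),
  (1243, [78]),
  (1244, [93]),
  (1227, [3, 110, 135]),
  (1246, [91, 135]),
  (1247, [93]),
  (1248, [95]),
  (1249, [78]),
  (1251, [130]),
  (1250, [130]),
  (1252, [27]),
  (1253, [89, 135]),
  (1254, [135]),
  (1255, [95]),
  (1256, [95]),
  (1257, [27]),
  (1258, [91]),
  (1259, [91])]

/-- The moves by letter 15, in equal parts. -/
def certMoves15C : List (List (ℕ × List ℕ)) := [certMoves15Part0, certMoves15Part1, certMoves15Part2, certMoves15Part3, certMoves15Part4, certMoves15Part5, certMoves15Part6, certMoves15Part7, certMoves15Part8, certMoves15Part9, certMoves15Part10, certMoves15Part11, certMoves15Part12, certMoves15Part13, certMoves15Part14, certMoves15Part15, certMoves15Part16, certMoves15Part17, certMoves15Part18, certMoves15Part19, certMoves15Part20, certMoves15Part21, certMoves15Part22, certMoves15Part23, certMoves15Part24, certMoves15Part25,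 certMoves15Part26, certMoves15Part27, certMoves15Part28, certMoves15Part29, certMoves15Part30, certMoves15Part31, certMoves15Part32, certMoves15Part33, certMoves15Part34]

/-- The moves by letter 15. -/
def certMoves15 : List (ℕ × List ℕ) := certMoves15C.flatten

end CfsgLib.CoTwoRec
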