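import Cfsg.Agent.Lib.Rigid.Bits

/-!
# Several bit vectors of at most twenty four bits moved by columns at the same time
-/

set_option autoImplicit false

namespace CfsgLib.CoTwoRec

open CfsgLib.Rigid

/-- Vectors in consecutive slots of twenty four bits. -/
def packV : List ℕ → ℕ
  | [] => 0
  | v :: vs => v + 2 ^ 24 * packV vs

/-- The lowest bit of every slot. -/
def onesV : ℕ → ℕ
  | 0 => 0
  | k + 1 => 1 + 2 ^ 24 * onesV k

/-- The image of all slots under columns. -/
noncomputable def imgs (A : List ℕ) (ones : ℕ) : ℕ → ℕ :=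
  List.rec (fun _ => 0) (fun a _ r P => Nat.xor (Nat.mul (Nat.land P ones) a) (r (Nat.shiftRight P 1))) A

theorem imgs_cons (a : ℕ) (A : List ℕ) (ones P : ℕ) :
    imgs (a :: A) ones P = ((P &&& ones) * a) ^^^ imgs A ones (P >>> 1) := rfl

theorem xor_slot {x x' : ℕ} (hx : x < 2 ^ 24) (hx' : x' < 2 ^ 24) (y y' : ℕ) :
    (x + 2 ^ 24 * y) ^^^ (x' + 2 ^ 24 * y') = (x ^^^ x') + 2 ^ 24 * (y ^^^ y') := by
  refine Nat.eq_of_testBit_eq fun i => ?_
  rw [Nat.testBit_xor, add_comm x, add_comm x', add_comm (x ^^^ x'),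
    Nat.testBit_two_pow_mul_add _ hx, Nat.testBit_two_pow_mul_add _ hx',
    Nat.testBit_two_pow_mul_add _ (Nat.xor_lt_two_pow hx hx'), Nat.testBit_xor, Nat.testBit_xor]
  split_ifs <;> rfl

theorem ones_slot {v s : ℕ} (hv : v < 2 ^ 24) (hs : s < 24) (Q k : ℕ) :
    ((v + 2 ^ 24 * Q) >>> s) &&& onesV (k + 1) = (v >>> s) % 2 + 2 ^ 24 * ((Q >>> s) &&& onesV k) := by
  refine Nat.eq_of_testBit_eq fun i => ?_
  have h1 : onesV (k + 1) = 2 ^ 24 * onesV k + 1 := by rw [onesV, add_comm]
  have h2 : (v >>> s) % 2 < 2 ^ 24 := lt_of_lt_of_le (Nat.mod_lt _ (by norm_num)) (by norm_num)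
  rw [Nat.testBit_and, Nat.testBit_shiftRight, h1, Nat.testBit_two_pow_mul_add _ (by norm_num : 1 < 2 ^ 24),
    add_comm v, Nat.testBit_two_pow_mul_add _ hv, add_comm ((v >>> s) % 2), Nat.testBit_two_pow_mul_add _ h2]
  by_cases hi : i < 24
  · rw [if_pos hi, if_pos hi]
    rcases Nat.eq_zero_or_pos i with rfl | hpos
    · rw [Nat.add_zero, if_pos hs]
      simp [Nat.testBit_zero]
    · have e1 : Nat.testBit 1 i = false := Nat.testBit_lt_two_pow (Nat.one_lt_two_pow (by omega))
      have e2 : ((v >>> s) % 2).testBit i = false :=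
        Nat.testBit_lt_two_pow (lt_of_lt_of_le (Nat.mod_lt _ (by norm_num)) (Nat.le_self_pow (by omega) 2))
      rw [e1, e2, Bool.and_false]
  · rw [if_neg hi, if_neg hi, if_neg (by omega), Nat.testBit_and, Nat.testBit_shiftRight]
    congr 2
    omega

theorem cert_img_lt : ∀ {A : List ℕ} {p : ℕ}, (∀ a ∈ A, a < 2 ^ 23) → img A p < 2 ^ 23
  | [], p, _ => by rw [img_nil]; norm_num
  | a :: A, p, h => by
    rw [img_cons]
    refine Nat.xor_lt_two_pow ?_ (cert_img_lt fun b hb => h b (List.mem_cons_of_mem _ hb))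
    rcases Nat.mod_two_eq_zero_or_one p with e | e <;> rw [e]
    · simp
    · simpa using h a List.mem_cons_self

theorem imgs_zero : ∀ (A : List ℕ) (ones : ℕ), imgs A ones 0 = 0
  | [], _ => rfl
  | a :: A, ones => by simp [imgs_cons, imgs_zero A]

theorem imgs_slot : ∀ {A : List ℕ} {v : ℕ} {s : ℕ}, (∀ a ∈ A, a < 2 ^ 23) → v < 2 ^ 24 → A.length + s ≤ 24 →
    ∀ (Q k : ℕ), imgs A (onesV (k + 1)) ((v + 2 ^ 24 * Q) >>> s) =
      img A (v >>> s) + 2 ^ 24 * imgs A (onesV k) (Q >>> s)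
  | [], v, s, _, _, _, Q, k => by simp [imgs, img_nil]
  | a :: A, v, s, hA, hv, hs, Q, k => by
    have hA' : ∀ b ∈ A, b < 2 ^ 23 := fun b hb => hA b (List.mem_cons_of_mem _ hb)
    have ha := hA a List.mem_cons_self
    simp only [List.length_cons] at hs
    have h24 : (2 : ℕ) ^ 23 < 2 ^ 24 := by norm_num
    have hm : (v >>> s) % 2 * a < 2 ^ 24 := by
      rcases Nat.mod_two_eq_zero_or_one (v >>> s) with e | e <;> rw [e] <;> omega
    rw [imgs_cons, ← Nat.shiftRight_add, ones_slot hv (by omega), imgs_slot hA' hv (by omega) Q k, add_mul, mul_assoc,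
      xor_slot hm ((cert_img_lt hA').trans h24), img_cons, imgs_cons, ← Nat.shiftRight_add Q, ← Nat.shiftRight_one,
      ← Nat.shiftRight_add]

/-- All slots are moved. -/
theorem imgs_packV {A : List ℕ} (hA : ∀ a ∈ A, a < 2 ^ 23) (hlen : A.length ≤ 24) :
    ∀ {vs : List ℕ}, (∀ v ∈ vs, v < 2 ^ 24) → imgs A (onesV vs.length) (packV vs) = packV (vs.map (img A))
  | [], _ => by simp [packV, onesV, imgs_zero]
  | v :: vs, h => by
    have e := imgs_slot hA (h v List.mem_cons_self) (s := 0) (by omega) (packV vs) vs.length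
    simp only [Nat.shiftRight_zero] at e
    rw [List.length_cons, packV, e, imgs_packV hA hlen fun u hu => h u (List.mem_cons_of_mem _ hu)]
    rfl

theorem packV_inj : ∀ {u v : List ℕ}, u.length = v.length → (∀ a ∈ u, a < 2 ^ 24) → (∀ a ∈ v, a < 2 ^ 24) →
    packV u = packV v → u = v
  | [], [], _, _, _, _ => rfl
  | a :: u, b :: v, hl, hu, hv, h => by
    simp only [packV] at h
    have ha := hu a List.mem_cons_self
    have hb := hv b List.mem_cons_self
    have e1 : a = b := by omega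
    have e2 : packV u = packV v := by omega
    rw [e1, packV_inj (by simpa using hl) (fun c hc => hu c (List.mem_cons_of_mem _ hc))
      (fun c hc => hv c (List.mem_cons_of_mem _ hc)) e2]

end CfsgLib.CoTwoRec
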