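import Cfsg.Agent.Lib.CoTwoRec.Basic
import Cfsg.Agent.Lib.CoTwoRec.CertPack
import Cfsg.Agent.Lib.CoTwoRec.CertChain
import Cfsg.Agent.Lib.CoTwoRec.CertDataLetters

/-!
# Evaluation of words in the extended letters of the certificate

The further letters are products of earlier ones; their codes are checked.
-/

set_option autoImplicit false
set_option maxRecDepth 100000
set_option Elab.async false

namespace CfsgLib.CoTwoRec

open CfsgLib.Rigid
open CfsgLib.CoThreeRec (cv)

/-- All codes of the letters of the certificate. -/
def certAllCodes : List (List ℕ) := codes.take 16 ++ certCodes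

/-- A word applied to packed vectors. -/
noncomputable def evalP (cs : List (List ℕ)) (ones : ℕ) (w : List ℕ) (P : ℕ) : ℕ :=
  w.foldr (fun l x => imgs (cs.getD l []) ones x) P

/-- The unit vectors, packed. -/
def startP : ℕ := packV Co2.data.one

/-- The code of a word, packed. -/
noncomputable def packW (cs : List (List ℕ)) (w : List ℕ) : ℕ := evalP cs (onesV 23) w startP

/-- The further elements are products of earlier ones. -/
def buildEls {C : Type*} [Group C] : List C → List (List ℕ) → List C
  | acc, [] => acc
  | acc, w :: ws => buildEls (acc ++ [(w.map fun i => acc.getD i 1).prod]) ws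

/-- The codes of the further elements are those of the products. -/
noncomputable def buildB : List (List ℕ) → List (List ℕ) → List (List ℕ) → Bool
  | _, [], [] => true
  | cs, w :: ws, c :: rest =>
    w.all (fun i => Nat.blt i cs.length) && Nat.beq (packW cs w) (packV c) &&
      Nat.beq c.length 23 && c.all (fun a => Nat.blt a (2 ^ 23)) && buildB (cs ++ [c]) ws rest
  | _, _, _ => false

/-- The elements of the letters of the certificate. -/
noncomputable def cxList : List Cm := buildEls ((List.range 16).map xm) certSlp

/-- A letter of the certificate. -/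
noncomputable def cx (l : ℕ) : Cm := cxList.getD l 1

theorem certOne_ok : Co2.data.one.length = 23 ∧ (Co2.data.one.all fun v => Nat.blt v (2 ^ 24)) = true ∧
    (codes.take 16).length = 16 ∧ ((codes.take 16).all fun c => Nat.beq c.length 23 &&
      c.all fun a => Nat.blt a (2 ^ 23)) = true := by decide +kernel

theorem build_ok : buildB (codes.take 16) certSlp certCodes = true := by decide +kernel

theorem code_eq (g : CoG) : code g = Co2.data.one.map (img (code g)) := by
  conv_lhs => rw [← mul_one g, code_mul, code_one]
  rfl

/-- The columns are short. -/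
def Short (cs : List (List ℕ)) : Prop := ∀ c ∈ cs, c.length = 23 ∧ ∀ a ∈ c, a < 2 ^ 23

/-- The codes of a list of elements. -/
def CodesOf (es : List Cm) (cs : List (List ℕ)) : Prop :=
  es.length = cs.length ∧ ∀ i < cs.length, code (es.getD i 1 : CoG) = cs.getD i []

theorem code_lt {es : List Cm} {cs : List (List ℕ)} (hs : Short cs) (hc : CodesOf es cs) {w : List ℕ}
    (h : ∀ i ∈ w, i < cs.length) :
    ∀ a ∈ code (((w.map fun i => es.getD i 1).prod : Cm) : CoG), a < 2 ^ 24 := by
  induction w with
  | nil =>
    intro a ha
    rw [List.map_nil, List.prod_nil, OneMemClass.coe_one, code_one] at ha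
    simpa using List.all_eq_true.1 certOne_ok.2.1 a ha
  | cons i w _ =>
    intro a ha
    have hi := h i List.mem_cons_self
    rw [List.map_cons, List.prod_cons, Subgroup.coe_mul, code_mul, hc.2 i hi] at ha
    obtain ⟨b, -, rfl⟩ := List.mem_map.1 ha
    refine lt_trans (cert_img_lt (hs _ ?_).2) (Nat.pow_lt_pow_right (by omega) (by omega))
    rw [List.getD_eq_getElem _ _ hi]; exact List.getElem_mem hi

theorem evalP_nil (cs : List (List ℕ)) (ones P : ℕ) : evalP cs ones [] P = P := rfl

theorem evalP_cons (cs : List (List ℕ)) (ones P i : ℕ) (w : List ℕ) :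
    evalP cs ones (i :: w) P = imgs (cs.getD i []) ones (evalP cs ones w P) := rfl

theorem packW_nil (cs : List (List ℕ)) : packW cs [] = startP := evalP_nil cs (onesV 23) startP

theorem packW_cons (cs : List (List ℕ)) (i : ℕ) (w : List ℕ) :
    packW cs (i :: w) = imgs (cs.getD i []) (onesV 23) (packW cs w) := evalP_cons cs (onesV 23) startP i w

theorem startP_eq : startP = packV Co2.data.one := rfl

theorem evalP_spec {es : List Cm} {cs : List (List ℕ)} (hs : Short cs) (hc : CodesOf es cs) {w : List ℕ}
    (h : ∀ i ∈ w, i < cs.length) :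
    packW cs w = packV (code (((w.map fun i => es.getD i 1).prod : Cm) : CoG)) := by
  induction w with
  | nil => rw [packW_nil, startP_eq, List.map_nil, List.prod_nil, OneMemClass.coe_one, code_one]
  | cons i w ih =>
    have hi := h i List.mem_cons_self
    have hw : ∀ j ∈ w, j < cs.length := fun j hj => h j (List.mem_cons_of_mem _ hj)
    have hsi := hs (cs.getD i []) (by rw [List.getD_eq_getElem _ _ hi]; exact List.getElem_mem hi)
    have hlt := code_lt hs hc hw
    rw [packW_cons, ih hw, List.map_cons, List.prod_cons, Subgroup.coe_mul, code_mul, hc.2 i hi]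
    generalize hu : code (((w.map fun j => es.getD j 1).prod : Cm) : CoG) = u at hlt
    have hlen : u.length = 23 := by rw [← hu, code_eq, List.length_map]; exact certOne_ok.1
    rw [← hlen, imgs_packV hsi.2 (by omega) hlt]
    rfl

theorem buildEls_spec : ∀ {ws cs' : List (List ℕ)} {es : List Cm} {cs : List (List ℕ)},
    Short cs → CodesOf es cs → buildB cs ws cs' = true →
    Short (cs ++ cs') ∧ CodesOf (buildEls es ws) (cs ++ cs') ∧ ∀ i < cs.length, (buildEls es ws).getD i 1 = es.getD i 1
  | [], [], es, cs, hs, hc, _ => by simpa [buildEls] using ⟨hs, hc⟩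
  | [], _ :: _, _, _, _, _, h => by simp [buildB] at h
  | _ :: _, [], _, _, _, _, h => by simp [buildB] at h
  | w :: ws, c :: rest, es, cs, hs, hc, h => by
    simp only [buildB, Bool.and_eq_true, List.all_eq_true, Nat.blt_eq, Nat.beq_eq] at h
    obtain ⟨⟨⟨⟨hw, he⟩, hl⟩, hlt⟩, hrec⟩ := h
    rw [evalP_spec hs hc hw] at he
    have hcode : code (((w.map fun i => es.getD i 1).prod : Cm) : CoG) = c :=
      packV_inj (by rw [code_eq, List.length_map, certOne_ok.1, hl]) (code_lt hs hc hw)
        (fun a ha => lt_trans (hlt a ha) (by norm_num)) he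
    have hs' : Short (cs ++ [c]) := fun x hx => by
      rcases List.mem_append.1 hx with hx | hx
      · exact hs x hx
      · rw [List.mem_singleton.1 hx]; exact ⟨hl, hlt⟩
    have hc' : CodesOf (es ++ [(w.map fun i => es.getD i 1).prod]) (cs ++ [c]) := by
      refine ⟨by simp [hc.1], fun i hi => ?_⟩
      simp only [List.length_append, List.length_singleton] at hi
      rcases (by omega : i < cs.length ∨ i = cs.length) with hi | rfl
      · rw [List.getD_append _ _ _ _ (by rw [hc.1]; exact hi), List.getD_append _ _ _ _ hi]; exact hc.2 i hi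
      · rw [List.getD_append_right _ _ _ _ (by rw [hc.1]), List.getD_append_right _ _ _ _ le_rfl, hc.1,
          Nat.sub_self]
        exact hcode
    obtain ⟨r1, r2, r3⟩ := buildEls_spec hs' hc' hrec
    rw [List.append_assoc, List.singleton_append] at r1 r2
    refine ⟨r1, r2, fun i hi => ?_⟩
    show (buildEls (es ++ [_]) ws).getD i 1 = _
    rw [r3 i (by simp; omega), List.getD_append _ _ _ _ (by rw [hc.1]; exact hi)]

theorem cx_spec : Short certAllCodes ∧ CodesOf cxList certAllCodes ∧ ∀ l < 16, cx l = xm l := by
  obtain ⟨-, -, h16, hall⟩ := certOne_ok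
  simp only [List.all_eq_true, Bool.and_eq_true, Nat.beq_eq, Nat.blt_eq] at hall
  have hc : CodesOf ((List.range 16).map xm) (codes.take 16) := by
    refine ⟨by rw [List.length_map, List.length_range, h16], fun i hi => ?_⟩
    rw [h16] at hi
    rw [List.getD_eq_getElem _ _ (by simpa using hi), List.getElem_map, List.getElem_range, coe_xm hi,
      code_letter (by omega), List.getD_eq_getElem (codes.take 16) _ (by omega), List.getElem_take,
      List.getD_eq_getElem]
  obtain ⟨r1, r2, r3⟩ := buildEls_spec (fun c hc => hall c hc) hc build_ok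
  refine ⟨r1, r2, fun l hl => ?_⟩
  rw [cx, cxList, r3 l (by omega), List.getD_eq_getElem _ _ (by simpa using hl), List.getElem_map,
    List.getElem_range]

/-- Equal elements. -/
noncomputable def certEqB (u v : List ℕ) : Bool :=
  (u.all fun l => Nat.blt l certAllCodes.length) && (v.all fun l => Nat.blt l certAllCodes.length) &&
    Nat.beq (packW certAllCodes u) (packW certAllCodes v)

theorem certEqB_spec {u v : List ℕ} (h : certEqB u v = true) : (u.map cx).prod = (v.map cx).prod := by
  simp only [certEqB, Bool.and_eq_true, List.all_eq_true, Nat.blt_eq, Nat.beq_eq] at h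
  obtain ⟨⟨hu, hv⟩, he⟩ := h
  obtain ⟨hs, hc, -⟩ := cx_spec
  rw [evalP_spec hs hc hu, evalP_spec hs hc hv] at he
  refine Subtype.ext (code_injective ?_)
  exact packV_inj (by rw [code_eq, List.length_map, code_eq (((v.map cx).prod : Cm) : CoG), List.length_map])
    (code_lt hs hc hu) (code_lt hs hc hv) he

/-- The action on bit vectors. -/
noncomputable def actV (c : Cm) (p : ℕ) : ℕ := img (code (c : CoG)) p

theorem actV_mul (g h : Cm) (a : ℕ) : actV (g * h) a = actV g (actV h a) := by
  rw [actV, Subgroup.coe_mul, code_mul, img_mulF]; rfl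

/-- A word applied to one vector. -/
noncomputable def evalV (w : List ℕ) (p : ℕ) : ℕ :=
  (w.filter fun l => Nat.blt l certAllCodes.length).foldr (fun l x => img (certAllCodes.getD l []) x)
    (img Co2.data.one p)

theorem evalV_spec (w : List ℕ) (p : ℕ) : actV ((w.map cx).prod) p = evalV w p := by
  induction w with
  | nil => rw [List.map_nil, List.prod_nil, actV, OneMemClass.coe_one, code_one, evalV, List.filter_nil, List.foldr_nil]
  | cons l w ih =>
    obtain ⟨-, hc, -⟩ := cx_spec
    rw [List.map_cons, List.prod_cons]
    by_cases hl : l < certAllCodes.length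
    · rw [actV_mul, ih]
      simp only [evalV, List.filter_cons_of_pos (p := fun l => Nat.blt l certAllCodes.length)
        (by simpa [Nat.blt_eq] using hl), List.foldr_cons, actV]
      exact congrArg (fun A => img A _) (hc.2 l hl)
    · have e1 : cx l = 1 := List.getD_eq_default _ _ (by rw [hc.1]; omega)
      rw [e1, one_mul, ih]
      simp only [evalV, List.filter_cons_of_neg (p := fun l => Nat.blt l certAllCodes.length)
        (by simpa [Nat.blt_eq] using hl)]

end CfsgLib.CoTwoRec
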