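import Cfsg.Agent.Lib.CoTwoRec.CertEval
import Cfsg.Agent.Lib.CoTwoRec.CertDataSteps
import Cfsg.Agent.Lib.CoTwoRec.CertDataTable

/-!
# The system of the certificate and the run of its steps
-/

set_option autoImplicit false
set_option maxRecDepth 100000
set_option Elab.async false

namespace CfsgLib.CoTwoRec

open CfsgLib.CoThreeRec (Sys Ident Step Hop runB movesB coverB hopB stabWord)

/-- The system of the certificate. -/
def certSys : Sys := ⟨certRels, certBase, certPairs0 ++ certDeriv.map fun e => (e.2.1, e.2.2)⟩

/-- The identities of the certificate. -/
def certIdents : List Ident := certIds.map fun e => ⟨e.1, e.2.1, e.2.2.1, e.2.2.2⟩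

theorem deriv_ok : derivB certEqB certPairs0 certDeriv = true := by decide +kernel

theorem certBase_ok : certBase.length = 5 ∧ certBase.getD 0 [] = [] := by decide +kernel

theorem reps_ok : certReps.getD 0 [] = [] ∧ certReps.length = 1260 := by decide +kernel

/-- The outcome of the steps, as plain data. -/
noncomputable def runTup : Option (List (ℕ × List ℕ × ℕ × List ℕ) × List (ℕ × List ℕ)) :=
  (runB certEqB certSys [] [] certSteps).map fun o => (o.1.map fun f => (f.j, f.c, f.k, f.e), o.2)

/-- The outcome is the recorded one. -/
noncomputable def runTupB : Bool :=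
  match runTup with
  | some o => decide (o.1 = certIds) && decide (o.2 = certSts)
  | none => false

theorem runTupB_ok : runTupB = true := by decide +kernel

theorem certRun : runB certEqB certSys [] [] certSteps = some (certIdents, certSts) := by
  have h := runTupB_ok
  unfold runTupB at h
  split at h
  · rename_i o ho
    simp only [Bool.and_eq_true, decide_eq_true_eq] at h
    simp only [runTup, Option.map_eq_some_iff] at ho
    obtain ⟨⟨ids, sts⟩, ho, rfl⟩ := ho
    rw [ho]
    obtain ⟨h1, h2⟩ := h
    simp only at h1 h2
    rw [← h2]
    congr 2
    simp [certIdents, ← h1, List.map_map, Function.comp_def]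
  · exact absurd h (by simp)

end CfsgLib.CoTwoRec
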