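import Cfsg.Agent.Lib.CoTwoRec.CoordsBase
import Cfsg.Agent.Lib.CoTwoRec.AxisKill
import Mathlib.GroupTheory.SemidirectProduct

/-!
# The centraliser with the spin module is that of the model, unless lifts are fused with their multiples

The elements acting on the two-group as the complement of the model form a central extension of the symplectic
group.  If the lifts of two commuting transvections commute, seven commuting transvections with trivial product show
that they are involutions, the relations can be normalised and the extension splits; otherwise a lift of a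
transvection, and of a product of three in a line, is conjugate to its multiple by the central involution.
-/

set_option autoImplicit false
set_option maxRecDepth 100000
set_option linter.unusedSectionVars false

namespace CfsgLib.CoTwoRec

open Cfsg CfsgLib.Rigid CfsgLib.ExtraNine CfsgLib.Schur.Tails.SpSix CfsgLib.ThType.Perm CfsgLib.ThType.Coords Subgroup

/-- The transvections of the table, as products. -/
def tgW (i : ℕ) : List (Fin 8) :=
  if i < 7 then sevenU.getD i [] ++ [0] ++ (sevenU.getD i []).reverse else [Fin.ofNat 8 (i - 7)]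

/-- The edges of the tree, directed from the middle. -/
def treeEdges : List (ℕ × ℕ) := [(4, 6), (6, 3), (4, 7), (7, 5), (5, 2), (4, 1)]

/-- The long relator. -/
def longRel : List ℕ := (List.replicate 9 [7, 6, 5, 4, 3, 2, 1]).flatten

/-- The checks of the tables in the symplectic group. -/
noncomputable def coordsB : Bool :=
  pairMoves.all (fun e => sameB (e.2.2 ++ [0] ++ e.2.2.reverse) (tgW e.1) &&
    sameB (e.2.2 ++ [1] ++ e.2.2.reverse) (tgW e.2.1)) &&
  ((List.range 7).all fun i => (List.range 7).all fun j => decide (j ≤ i) || pairMoves.any fun e =>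
    e.1 == i && e.2.1 == j) &&
  ((List.range 8).all fun k => (List.range 8).all fun l => decide (l ≤ k) || adj (Fin.ofNat 8 k) (Fin.ofNat 8 l) ||
    pairMoves.any fun e => e.1 == 7 + k && e.2.1 == 7 + l) &&
  sameB (((List.range 7).map tgW).flatten) [] && sameB (longRel.map (Fin.ofNat 8)) [] &&
  treeEdges.all fun e => sameB [Fin.ofNat 8 e.1, Fin.ofNat 8 e.2, Fin.ofNat 8 e.1, Fin.ofNat 8 e.2,
    Fin.ofNat 8 e.1, Fin.ofNat 8 e.2] []

/-- The shapes of the relators. -/
def relShapeB (w : List ℕ) : Bool :=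
  ((List.range 7).any fun k => decide (w = [k + 1, k + 1])) || decide (w = longRel) ||
  ((List.range 7).any fun a => (List.range 7).any fun b =>
    (decide (a ≠ b) && !(adj (Fin.ofNat 8 (a + 1)) (Fin.ofNat 8 (b + 1))) &&
      decide (w = [a + 1, b + 1, a + 1, b + 1])) ||
    ((treeEdges.contains (a + 1, b + 1) || treeEdges.contains (b + 1, a + 1)) &&
      decide (w = [a + 1, b + 1, a + 1, b + 1, a + 1, b + 1])))

theorem coords_ok : coordsB = true := by decide +kernel

theorem shapes_ok : spRelWords.all relShapeB = true := by decide +kernel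

theorem list_sq {M : Type*} [Monoid M] {c : M} : ∀ l : List M, (∀ x ∈ l, x * x = c) →
    (∀ x ∈ l, ∀ y ∈ l, Commute x y) → l.prod * l.prod = c ^ l.length
  | [], _, _ => by simp
  | a :: l, h1, h2 => by
    have ih := list_sq l (fun x hx => h1 x (List.mem_cons_of_mem _ hx))
      (fun x hx y hy => h2 x (List.mem_cons_of_mem _ hx) y (List.mem_cons_of_mem _ hy))
    have hc : Commute a l.prod :=
      Commute.list_prod_right l a fun x hx => h2 a List.mem_cons_self x (List.mem_cons_of_mem _ hx)
    rw [List.prod_cons, List.length_cons, pow_succ', ← ih, ← h1 a List.mem_cons_self]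
    calc a * l.prod * (a * l.prod) = a * (l.prod * a) * l.prod := by simp only [mul_assoc]
      _ = a * a * (l.prod * l.prod) := by rw [← hc.eq]; simp only [mul_assoc]

theorem ev_mul_central {M : Type*} [Group M] {c : M} (hc : ∀ x, c * x = x * c) (f : ℕ → M) :
    ∀ w : List ℕ, ev (fun l => f l * c) w = ev f w * c ^ w.length
  | [] => by simp [ev]
  | a :: w => by
    rw [show ev (fun l => f l * c) (a :: w) = f a * c * ev (fun l => f l * c) w by simp [ev],
      show ev f (a :: w) = f a * ev f w by simp [ev], ev_mul_central hc f w, List.length_cons, pow_succ',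
      mul_assoc (f a) c, ← mul_assoc c, hc (ev f w)]
    simp only [mul_assoc]

variable {G : Type*} [Group G] [Finite G] {V : Type*} [AddCommGroup V] {N : Nine G V} {A : Act Sp2 V}
  {Sp : SpinChart N.S A} (P : Copy Sp)

/-- An element of the centraliser acts on the two-group as an element of the complement of the model. -/
def Acts (g : ↥(centralizer ({N.z} : Set G))) (s : Sp2) : Prop :=
  N.ρ g = A.σ s ∧ ∀ q : ↥N.Q, P.ν ⟨g * q * (g : G)⁻¹, N.conj_mem g.2 q⟩ = cmY s * P.ν q * (cmY s)⁻¹

/-- The elements acting as the complement. -/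
def ext : Subgroup (↥(centralizer ({N.z} : Set G)) × Sp2) where
  carrier := {p | Acts P p.1 p.2}
  one_mem' := by
    refine ⟨by rw [Prod.fst_one, Prod.snd_one, map_one, map_one], fun q => ?_⟩
    rw [Prod.snd_one, map_one, one_mul, inv_one, mul_one]
    exact congrArg P.ν (Subtype.ext (by simp))
  mul_mem' := by
    rintro ⟨g, s⟩ ⟨g', s'⟩ ⟨h1, h2⟩ ⟨h1', h2'⟩
    refine ⟨by simp only [Prod.mk_mul_mk, map_mul, h1, h1'], fun q => ?_⟩
    have e := h2 ⟨(g' : G) * q * (g' : G)⁻¹, N.conj_mem g'.2 q⟩
    rw [h2' q] at e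
    simp only [Prod.mk_mul_mk, map_mul]
    rw [show cmY s * cmY s' * P.ν q * (cmY s * cmY s')⁻¹ = cmY s * (cmY s' * P.ν q * (cmY s')⁻¹) * (cmY s)⁻¹ by
      group, ← e]
    exact congrArg P.ν (Subtype.ext (by simp [mul_assoc]))
  inv_mem' := by
    rintro ⟨g, s⟩ ⟨h1, h2⟩
    refine ⟨by simp only [Prod.inv_mk, map_inv, h1], fun q => ?_⟩
    have e := h2 ⟨((g⁻¹ : ↥(centralizer ({N.z} : Set G))) : G) * q * ((g⁻¹ : ↥(centralizer ({N.z} : Set G))) : G)⁻¹,
      N.conj_mem (g⁻¹).2 q⟩
    have e' : P.ν q = cmY s * P.ν ⟨((g⁻¹ : ↥(centralizer ({N.z} : Set G))) : G) * q *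
        ((g⁻¹ : ↥(centralizer ({N.z} : Set G))) : G)⁻¹, N.conj_mem (g⁻¹).2 q⟩ * (cmY s)⁻¹ := by
      rw [← e]
      exact congrArg P.ν (Subtype.ext (by simp [mul_assoc]))
    simp only [Prod.inv_mk, map_inv]
    rw [e']
    group

/-- The central involution in the extension. -/
def zeta : ↥(ext P) :=
  ⟨(⟨N.z, mem_centralizer_singleton_iff.2 rfl⟩, 1), by
    refine ⟨?_, fun q => ?_⟩
    · rw [map_one]; exact (N.ρ_eq_one_iff _).2 N.z_mem
    · rw [map_one, one_mul, inv_one, mul_one]
      refine congrArg P.ν (Subtype.ext ?_)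
      show N.z * (q : G) * N.z⁻¹ = q
      rw [← N.z_comm q.2, mul_inv_cancel_right]⟩

/-- The map to the symplectic group. -/
def toSp2 : ↥(ext P) →* Sp2 := (MonoidHom.snd _ _).comp (ext P).subtype

theorem zeta_sq : zeta P * zeta P = 1 := Subtype.ext (Prod.ext (Subtype.ext N.zz) (one_mul 1))

theorem zeta_ne : zeta P ≠ 1 := fun e => N.z_ne (congrArg (fun p : ↥(ext P) => ((p.1.1 : G))) e)

theorem zeta_comm (x : ↥(ext P)) : zeta P * x = x * zeta P :=
  Subtype.ext (Prod.ext (Subtype.ext (mem_centralizer_singleton_iff.1 x.1.1.2).symm)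
    ((one_mul _).trans (mul_one _).symm))

theorem two_cases {x : ↥(ext P)} (h : toSp2 P x = 1) : x = 1 ∨ x = zeta P := by
  obtain ⟨⟨g, s⟩, h1, h2⟩ := x
  change s = 1 at h
  subst h
  have hc : (g : G) ∈ centralizer (N.Q : Set G) := by
    rw [mem_centralizer_iff]
    intro y hy
    have e := h2 ⟨y, hy⟩
    rw [map_one, one_mul, inv_one, mul_one] at e
    have e' := congrArg Subtype.val (P.inj e)
    exact (mul_inv_eq_iff_eq_mul.1 e').symm
  rw [N.F.self] at hc
  obtain ⟨c, hc', e⟩ := hc
  have hz : (c : G) ∈ zpowers N.z := N.F.centre ▸ ⟨c, hc', rfl⟩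
  rw [Subgroup.coe_subtype] at e
  rw [e] at hz
  rcases LargeExtra.zpowers_two_cases N.F.ord _ hz with h' | h'
  · exact Or.inl (Subtype.ext (Prod.ext (Subtype.ext h') rfl))
  · exact Or.inr (Subtype.ext (Prod.ext (Subtype.ext h') rfl))

theorem same_over {x y : ↥(ext P)} (h : toSp2 P x = toSp2 P y) : y = x ∨ y = x * zeta P := by
  rcases two_cases P (x := x⁻¹ * y) (by rw [map_mul, map_inv, h, inv_mul_cancel]) with e | e
  · exact Or.inl (inv_mul_eq_one.1 e).symm
  · exact Or.inr (by rw [← e, mul_inv_cancel_left])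

theorem exists_bits (m : ℕ) (hm : m < 256) :
    ∃ y : ↥N.Q, N.π y = Sp.c m ∧ P.ν y = ev xm (pBits m) := by
  have c0 : Sp.c 0 = 0 := by
    have h := Sp.xor 0 0
    rw [Nat.xor_self] at h
    exact add_eq_left.1 h.symm
  have key : ∀ n ≤ 8, ∃ y : ↥N.Q, N.π y = Sp.c (linN (fun U => 2 ^ U) n m) ∧
      P.ν y = ev xm (((List.range n).filter m.testBit).map (8 + ·)) := by
    intro n
    induction n with
    | zero => exact fun _ => ⟨1, by rw [linN, c0]; exact N.π_one, by simp [ev]⟩
    | succ n ih =>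
      intro hn
      obtain ⟨y, h1, h2⟩ := ih (by omega)
      rw [linN, List.range_succ, List.filter_append, List.map_append, ev_append, ← h2]
      by_cases hb : m.testBit n = true
      · refine ⟨y * P.a n, by rw [N.π_mul, h1, P.π_a n (by omega), if_pos hb, Sp.xor], ?_⟩
        rw [map_mul, P.ν_a n (by omega)]
        simp [hb, ev]
      · refine ⟨y, by rw [h1, if_neg hb, Nat.xor_zero], ?_⟩
        simp [hb, ev]
  obtain ⟨y, h1, h2⟩ := key 8 le_rfl
  have eid : ∀ m < 256, linN (fun U => 2 ^ U) 8 m = m := by decide +kernel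
  rw [eid m hm] at h1
  exact ⟨y, h1, h2⟩

theorem exists_lift_tv (hr : A.σ.range = N.ρ.range) (k : Fin 8) : ∃ x : ↥(ext P), toSp2 P x = tv k := by
  classical
  obtain ⟨g0, hg0⟩ : A.σ (tv k) ∈ N.ρ.range := hr ▸ ⟨tv k, rfl⟩
  set zQ : ↥N.Q := ⟨N.z, N.z_mem⟩
  have hlt : ∀ U < 8, 2 ^ U < 256 := fun U hU => (Nat.pow_lt_pow_right (by norm_num) hU : 2 ^ U < 2 ^ 8)
  have hf : ∀ k : Fin 8, ∀ U < 8, fT k (2 ^ U) < 256 := by decide +kernel
  have zc : ∀ x : ↥N.Q, zQ * x = x * zQ := fun x => Subtype.ext (N.z_comm x.2).symm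
  let cf : ℕ → ↥N.Q := fun U => ⟨(g0 : G) * P.a U * (g0 : G)⁻¹, N.conj_mem g0.2 _⟩
  have hflag : ∀ U < 8, ∃ b : Bool,
      P.ν (cf U * if b then zQ else 1) = cmY (tv k) * P.ν (P.a U) * (cmY (tv k))⁻¹ := by
    intro U hU
    obtain ⟨y, h1, h2⟩ := exists_bits P _ (hf k U hU)
    have hT : cmY (tv k) * P.ν (P.a U) * (cmY (tv k))⁻¹ =
        P.ν (y * if pSigns.getD (8 * k.val + U) false then zQ else 1) := by
      rw [cmY_tv, P.ν_a U hU, inv_eq_of_mul_eq_one_right (xm_sq (show k.val < 16 by omega)), p_conj hU k, pW,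
        ev_append, map_mul, h2]
      split_ifs
      · rw [P.ν_z]; rfl
      · rw [map_one]; rfl
    have hπ : N.π y = N.π (cf U) := by
      rw [h1, show N.π (cf U) = N.ρ g0 (N.π (P.a U)) from (N.ρ_π g0 _).symm, P.π_a U hU, hg0,
        Sp.act k _ (hlt U hU)]
    rw [hT]
    rcases N.π_eq hπ with e | e
    · exact ⟨pSigns.getD (8 * k.val + U) false, congrArg P.ν (by rw [Subtype.ext e (a2 := y)])⟩
    · refine ⟨!pSigns.getD (8 * k.val + U) false, congrArg P.ν ?_⟩
      rw [Subtype.ext e (a2 := y * zQ), mul_assoc]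
      have z2 : zQ * zQ = 1 := Subtype.ext N.zz
      cases pSigns.getD (8 * k.val + U) false <;> simp [z2]
  choose! fl hfl using hflag
  let R : ℕ → ↥N.Q := fun n => ((List.range n).map fun i => if fl i then P.a (7 - i) else 1).prod
  have hanti : ∀ W < 8, ∀ U < 8, P.a W * P.a U * (P.a W)⁻¹ = P.a U * if W + U = 7 then zQ else 1 := by
    intro W hW U hU
    rw [mul_inv_eq_iff_eq_mul]
    refine P.inj ?_
    have e := p_anti hW hU
    by_cases h7 : W + U = 7
    · rw [if_pos h7] at e ⊢
      rw [mul_assoc, zc, ← mul_assoc, map_mul, map_mul, map_mul, P.ν_a W hW, P.ν_a U hU, P.ν_z]; exact e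
    · rw [if_neg h7, mul_one] at e ⊢
      rw [map_mul, map_mul, P.ν_a W hW, P.ν_a U hU]; exact e
  have hR : ∀ n ≤ 8, ∀ U < 8, R n * P.a U * (R n)⁻¹ = P.a U * if U < n ∧ fl U = true then zQ else 1 := by
    intro n
    induction n with
    | zero => intro _ U _; simp [R]
    | succ n ih =>
      intro hn U hU
      have eR : R (n + 1) = R n * if fl n then P.a (7 - n) else 1 := by
        simp [R, List.range_succ, List.map_append, List.prod_append]
      rw [eR]
      have ih' := ih (by omega) U hU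
      by_cases hb : fl n = true
      · rw [if_pos hb, show R n * P.a (7 - n) * P.a U * (R n * P.a (7 - n))⁻¹ =
          R n * (P.a (7 - n) * P.a U * (P.a (7 - n))⁻¹) * (R n)⁻¹ by group, hanti _ (by omega) U hU]
        by_cases hUn : U = n
        · subst hUn
          rw [if_pos (show 7 - U + U = 7 by omega), if_pos ⟨Nat.lt_succ_self _, hb⟩,
            show R U * (P.a U * zQ) * (R U)⁻¹ = R U * P.a U * (zQ * (R U)⁻¹) by group, zc, ← mul_assoc, ih',
            if_neg (by simp), mul_one]
        · rw [if_neg (show ¬ 7 - n + U = 7 by omega), mul_one, ih']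
          exact congrArg (P.a U * ·) (if_congr (by constructor <;> rintro ⟨h1, h2⟩ <;> exact ⟨by omega, h2⟩) rfl rfl)
      · rw [if_neg hb, mul_one, ih']
        refine congrArg (P.a U * ·) (if_congr ⟨fun ⟨h1, h2⟩ => ⟨by omega, h2⟩, fun ⟨h1, h2⟩ => ⟨?_, h2⟩⟩ rfl rfl)
        rcases Nat.lt_succ_iff_lt_or_eq.1 h1 with h | h
        · exact h
        · exact absurd (h ▸ h2) hb
  set g1 : ↥(centralizer ({N.z} : Set G)) := g0 * ⟨(R 8 : G), N.F.le (R 8).2⟩ with hg1
  have hρ : N.ρ g1 = A.σ (tv k) := by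
    rw [hg1, map_mul, (N.ρ_eq_one_iff ⟨(R 8 : G), N.F.le (R 8).2⟩).2 (R 8).2, mul_one, hg0]
  let f1 : ↥N.Q →* Cm := MonoidHom.mk' (fun q => P.ν ⟨g1 * q * (g1 : G)⁻¹, N.conj_mem g1.2 q⟩) fun a b => by
    rw [← map_mul]
    exact congrArg P.ν (Subtype.ext (by simp [mul_assoc]))
  let f2 : ↥N.Q →* Cm := (MulAut.conj (cmY (tv k))).toMonoidHom.comp P.ν
  have hf12 : f1 = f2 := MonoidHom.eq_of_eqOn_dense P.gen <| by
    rintro q (rfl | ⟨U, hU, rfl⟩)
    · show P.ν _ = cmY (tv k) * P.ν _ * (cmY (tv k))⁻¹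
      rw [P.ν_z, ← tm_central, mul_inv_cancel_right, ← P.ν_z]
      exact congrArg P.ν (Subtype.ext (N.conj_z g1.2))
    · show P.ν _ = cmY (tv k) * P.ν _ * (cmY (tv k))⁻¹
      rw [← hfl U hU]
      refine congrArg P.ν (Subtype.ext ?_)
      have e := congrArg Subtype.val (hR 8 le_rfl U hU)
      simp only [Subgroup.coe_mul, Subgroup.coe_inv] at e
      show (g0 : G) * (R 8 : G) * (P.a U : G) * ((g0 : G) * (R 8 : G))⁻¹ = _
      rw [show (g0 : G) * (R 8 : G) * (P.a U : G) * ((g0 : G) * (R 8 : G))⁻¹ =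
        (g0 : G) * ((R 8 : G) * (P.a U : G) * (R 8 : G)⁻¹) * (g0 : G)⁻¹ by group, e, Subgroup.coe_mul]
      by_cases hb : fl U = true
      · simp only [hU, hb, and_self, if_true]
        show (g0 : G) * ((P.a U : G) * N.z) * (g0 : G)⁻¹ = (g0 : G) * P.a U * (g0 : G)⁻¹ * N.z
        rw [show (g0 : G) * ((P.a U : G) * N.z) * (g0 : G)⁻¹ =
          (g0 : G) * P.a U * (g0 : G)⁻¹ * ((g0 : G) * N.z * (g0 : G)⁻¹) by group, N.conj_z g0.2]
      · simp [hb, cf]
  exact ⟨⟨(g1, tv k), hρ, fun q => DFunLike.congr_fun hf12 q⟩, rfl⟩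

theorem toSp2_surjective (hr : A.σ.range = N.ρ.range) : Function.Surjective (toSp2 P) := by
  rw [← MonoidHom.range_eq_top, eq_top_iff, ← tv_generate, closure_le]
  rintro _ ⟨k, rfl⟩
  exact exists_lift_tv P hr k

/-- Lifts of the two classes are fused with their multiples. -/
def Fused : Prop :=
  ∀ s : Sp2, IsConj (tv 0) s ∨ IsConj (tvW [0, 1, 6]) s → ∀ x : ↥(ext P), toSp2 P x = s →
    ∃ h : ↥(ext P), h * x * h⁻¹ = x * zeta P

theorem fused_of_conj (hr : A.σ.range = N.ρ.range) {s s' : Sp2} (hs : IsConj s s') {x0 h0 : ↥(ext P)}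
    (hx0 : toSp2 P x0 = s) (hh : h0 * x0 * h0⁻¹ = x0 * zeta P) (x : ↥(ext P)) (hx : toSp2 P x = s') :
    ∃ h : ↥(ext P), h * x * h⁻¹ = x * zeta P := by
  obtain ⟨u, hu⟩ := isConj_iff.1 hs
  obtain ⟨g, rfl⟩ := toSp2_surjective P hr u
  refine ⟨g * h0 * g⁻¹, ?_⟩
  have key : g * h0 * g⁻¹ * (g * x0 * g⁻¹) * (g * h0 * g⁻¹)⁻¹ = g * x0 * g⁻¹ * zeta P := by
    rw [show g * h0 * g⁻¹ * (g * x0 * g⁻¹) * (g * h0 * g⁻¹)⁻¹ = g * (h0 * x0 * h0⁻¹) * g⁻¹ by group, hh,
      mul_assoc g, mul_assoc x0, zeta_comm]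
    group
  rcases same_over P (x := g * x0 * g⁻¹) (y := x)
    (by rw [map_mul, map_mul, map_inv, hx0, hu, hx]) with e | e
  · rw [e]; exact key
  · rw [e, show g * h0 * g⁻¹ * (g * x0 * g⁻¹ * zeta P) * (g * h0 * g⁻¹)⁻¹ =
      g * h0 * g⁻¹ * (g * x0 * g⁻¹) * (zeta P * (g * h0 * g⁻¹)⁻¹) by group, zeta_comm, ← mul_assoc, key]

/-- Commuting of lifts does not depend on their choice. -/
theorem commute_iff {x x' y y' : ↥(ext P)} (hx : toSp2 P x = toSp2 P x') (hy : toSp2 P y = toSp2 P y')
    (h : Commute x y) : Commute x' y' := by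
  have hz : ∀ w, Commute (zeta P) w := zeta_comm P
  rcases same_over P hx with e | e <;> rcases same_over P hy with e' | e' <;> rw [e, e']
  · exact h
  · exact h.mul_right (hz x).symm
  · exact h.mul_left (hz y)
  · exact (h.mul_right (hz x).symm).mul_left ((hz y).mul_right (Commute.refl _))

theorem tgW_seven_len : ((List.range 7).map tgW).length = 7 := by simp

/-- Either the extension splits or the lifts are fused. -/
theorem section_or_fused (hr : A.σ.range = N.ρ.range) :
    (∃ ψ : Sp2 →* ↥(ext P), ∀ s, toSp2 P (ψ s) = s) ∨ Fused P := by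
  classical
  have hsurj := toSp2_surjective P hr
  choose lf hlf using hsurj
  have hB := coords_ok
  simp only [coordsB, Bool.and_eq_true, List.all_eq_true, List.any_eq_true, List.mem_range,
    Bool.or_eq_true, decide_eq_true_eq, beq_iff_eq] at hB
  obtain ⟨⟨⟨⟨⟨hmoves, hseven⟩, hletters⟩, hprod⟩, hlong⟩, htree⟩ := hB
  have hrev : ∀ (w : List (Fin 8)) (k : Fin 8), tvW (w ++ [k] ++ w.reverse) = tvW w * tv k * (tvW w)⁻¹ :=
    fun w k => by rw [tvW_append, tvW_append, tvW_rev, tvW_single]
  have hpair : ∀ e ∈ pairMoves, ∃ g, toSp2 P (g * lf (tv 0) * g⁻¹) = tvW (tgW e.1) ∧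
      toSp2 P (g * lf (tv 1) * g⁻¹) = tvW (tgW e.2.1) := fun e he => by
    obtain ⟨h1, h2⟩ := hmoves e he
    refine ⟨lf (tvW e.2.2), ?_, ?_⟩
    · rw [map_mul, map_mul, map_inv, hlf, hlf, ← hrev, tvW_eq h1]
    · rw [map_mul, map_mul, map_inv, hlf, hlf, ← hrev, tvW_eq h2]
  have tgk : ∀ k : Fin 8, tvW (tgW (7 + k.val)) = tv k := fun k => by
    rw [tgW, if_neg (by omega), tvW_single]
    exact congrArg tv (Fin.ext (by simp [Nat.mod_eq_of_lt k.isLt]))
  have hk2 : ∀ k l : Fin 8, k < l → adj k l = false →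
      ∃ e ∈ pairMoves, tvW (tgW e.1) = tv k ∧ tvW (tgW e.2.1) = tv l := fun k l hkl ha => by
    rcases hletters k.val k.isLt l.val l.isLt with (h | h) | ⟨e, he, h1, h2⟩
    · exact absurd hkl (not_lt.2 h)
    · rw [show Fin.ofNat 8 k.val = k from Fin.ext (Nat.mod_eq_of_lt k.isLt),
        show Fin.ofNat 8 l.val = l from Fin.ext (Nat.mod_eq_of_lt l.isLt), ha] at h
      exact absurd h (by decide)
    · exact ⟨e, he, by rw [h1, tgk], by rw [h2, tgk]⟩
  by_cases hε : Commute (lf (tv 0)) (lf (tv 1))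
  · left
    have hc : ∀ e ∈ pairMoves, ∀ x y, toSp2 P x = tvW (tgW e.1) → toSp2 P y = tvW (tgW e.2.1) →
        Commute x y := fun e he x y hx hy => by
      obtain ⟨g, h1, h2⟩ := hpair e he
      refine commute_iff P (h1.trans hx.symm) (h2.trans hy.symm) ?_
      have := hε.map (MulAut.conj g).toMonoidHom
      simpa using this
    have hcl : ∀ k l : Fin 8, adj k l = false → ∀ x y, toSp2 P x = tv k → toSp2 P y = tv l → Commute x y := by
      intro k l ha x y hx hy
      rcases lt_trichotomy k l with h | h | h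
      · obtain ⟨e, he, e1, e2⟩ := hk2 k l h ha
        exact hc e he x y (hx.trans e1.symm) (hy.trans e2.symm)
      · subst h
        exact commute_iff P rfl (hx.trans hy.symm) (Commute.refl x)
      · have ha' : adj l k = false := by
          have : ∀ k l : Fin 8, adj k l = adj l k := by decide +kernel
          rw [← this]; exact ha
        obtain ⟨e, he, e1, e2⟩ := hk2 l k h ha'
        exact (hc e he y x (hy.trans e1.symm) (hx.trans e2.symm)).symm
    -- the seven lifts in a plane
    have hy0 : lf (tv 0) * lf (tv 0) = 1 := by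
      rcases two_cases P (x := lf (tv 0) * lf (tv 0)) (by rw [map_mul, hlf, tv_sq]) with e | e
      · exact e
      exfalso
      let L : ℕ → ↥(ext P) := fun i =>
        lf (tvW (sevenU.getD i [])) * lf (tv 0) * (lf (tvW (sevenU.getD i [])))⁻¹
      have hL : ∀ i < 7, toSp2 P (L i) = tvW (tgW i) := fun i hi => by
        show toSp2 P (_ * _ * _⁻¹) = _
        rw [map_mul, map_mul, map_inv, hlf, hlf, tgW, if_pos hi, hrev]
      have hcomm : ∀ x ∈ (List.range 7).map L, ∀ y ∈ (List.range 7).map L, Commute x y := by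
        intro x hx y hy
        obtain ⟨i, hi, rfl⟩ := List.mem_map.1 hx
        obtain ⟨j, hj, rfl⟩ := List.mem_map.1 hy
        rw [List.mem_range] at hi hj
        rcases lt_trichotomy i j with h | rfl | h
        · rcases hseven i hi j hj with h' | ⟨e, he, e1, e2⟩
          · omega
          · exact hc e he _ _ (by rw [e1]; exact hL i hi) (by rw [e2]; exact hL j hj)
        · exact Commute.refl _
        · rcases hseven j hj i hi with h' | ⟨e, he, e1, e2⟩
          · omega
          · exact (hc e he _ _ (by rw [e1]; exact hL j hj) (by rw [e2]; exact hL i hi)).symm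
      have hsq : ∀ x ∈ (List.range 7).map L, x * x = zeta P := fun x hx => by
        obtain ⟨i, -, rfl⟩ := List.mem_map.1 hx
        set g := lf (tvW (sevenU.getD i []))
        show g * lf (tv 0) * g⁻¹ * (g * lf (tv 0) * g⁻¹) = zeta P
        rw [show g * lf (tv 0) * g⁻¹ * (g * lf (tv 0) * g⁻¹) = g * (lf (tv 0) * lf (tv 0)) * g⁻¹ by group, e,
          ← zeta_comm, mul_inv_cancel_right]
      have hP := list_sq _ hsq hcomm
      have hπ : toSp2 P ((List.range 7).map L).prod = 1 := by
        have e' := tvW_eq hprod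
        rw [tvW, List.map_flatten, List.prod_flatten, List.map_map, List.map_map] at e'
        rw [map_list_prod, List.map_map, List.map_congr_left (f := toSp2 P ∘ L) (g := fun i => tvW (tgW i))
          fun i hi => hL i (List.mem_range.1 hi)]
        exact e'
      have h1 : ((List.range 7).map L).prod * ((List.range 7).map L).prod = 1 := by
        rcases two_cases P hπ with h | h <;> rw [h]
        · exact one_mul 1
        · exact zeta_sq P
      rw [h1] at hP
      refine zeta_ne P ?_
      rw [hP, List.length_map, List.length_range]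
      calc zeta P = zeta P * ((zeta P * zeta P) * (zeta P * zeta P) * (zeta P * zeta P)) := by
            rw [zeta_sq, one_mul, one_mul, mul_one]
        _ = zeta P ^ 7 := by simp only [pow_succ', pow_zero, mul_one, mul_assoc]
    have hinv : ∀ (k : Fin 8) (x : ↥(ext P)), toSp2 P x = tv k → x * x = 1 := by
      intro k x hx
      have : ∀ k : Fin 8, ∃ u ∈ toW, tvW u * tv 0 * (tvW u)⁻¹ = tv k := fun k =>
        ⟨toW.getD k.val [], by
          have : ∀ k : Fin 8, toW.getD k.val [] ∈ toW := by decide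
          exact this k, toW_conj k⟩
      obtain ⟨u, -, hu⟩ := this k
      set g := lf (tvW u)
      have hg : g * lf (tv 0) * g⁻¹ * (g * lf (tv 0) * g⁻¹) = 1 := by
        rw [show g * lf (tv 0) * g⁻¹ * (g * lf (tv 0) * g⁻¹) = g * (lf (tv 0) * lf (tv 0)) * g⁻¹ by group,
          hy0, mul_one, mul_inv_cancel]
      rcases same_over P (x := g * lf (tv 0) * g⁻¹) (y := x)
        (by rw [map_mul, map_mul, map_inv, hlf, hlf, hu, hx]) with rfl | rfl
      · exact hg
      · rw [show g * lf (tv 0) * g⁻¹ * zeta P * (g * lf (tv 0) * g⁻¹ * zeta P) =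
          g * lf (tv 0) * g⁻¹ * (zeta P * (g * lf (tv 0) * g⁻¹)) * zeta P by group, zeta_comm, ← mul_assoc, hg,
          one_mul, zeta_sq]
    -- the signs along the tree
    let fix3 : ↥(ext P) → ↥(ext P) → ↥(ext P) := fun a b => if (a * b) ^ 3 = 1 then b else b * zeta P
    let Y : ℕ → ↥(ext P) := fun l => lf (tv (Fin.ofNat 8 l))
    let f4 := Y 4
    let f6 := fix3 f4 (Y 6)
    let f7 := fix3 f4 (Y 7)
    let f5 := fix3 f7 (Y 5)
    let f : ℕ → ↥(ext P) := fun l =>
      if l = 4 then f4 else if l = 6 then f6 else if l = 7 then f7 else if l = 5 then f5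
      else if l = 3 then fix3 f6 (Y 3) else if l = 1 then fix3 f4 (Y 1) else if l = 2 then fix3 f5 (Y 2) else Y l
    have hfix : ∀ a b, toSp2 P (fix3 a b) = toSp2 P b := fun a b => by
      show toSp2 P (if _ then b else b * zeta P) = _
      split_ifs
      · rfl
      · rw [map_mul, show toSp2 P (zeta P) = 1 from rfl, mul_one]
    have hfπ : ∀ l, toSp2 P (f l) = tv (Fin.ofNat 8 l) := fun l => by
      simp only [f, f4, f5, f6, f7]
      split_ifs with h1 h2 h3 h4 h5 h6 h7
      all_goals first | subst h1 | subst h2 | subst h3 | subst h4 | subst h5 | subst h6 | subst h7 | skip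
      all_goals simp only [hfix, Y, hlf]
    have hbraid : ∀ p ∈ treeEdges, (f p.1 * f p.2) ^ 3 = 1 := by
      intro p hp
      have hpi : (toSp2 P) ((f p.1 * f p.2) ^ 3) = 1 := by
        rw [map_pow, map_mul, hfπ, hfπ, ← tvW_single, ← tvW_single, ← tvW_append]
        have e' := tvW_eq (htree p hp)
        rw [show tvW ([] : List (Fin 8)) = 1 from rfl] at e'
        rw [← e', pow_succ, pow_two, ← tvW_append, ← tvW_append]
        rfl
      have key : ∀ a b, toSp2 P ((a * b) ^ 3) = 1 → (a * fix3 a b) ^ 3 = 1 := fun a b hab => by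
        show (a * if _ then b else b * zeta P) ^ 3 = 1
        split_ifs with h
        · exact h
        · rw [← mul_assoc, (show Commute (a * b) (zeta P) from (zeta_comm P _).symm).mul_pow,
            (two_cases P hab).resolve_left h, pow_succ (zeta P), pow_two, zeta_sq, one_mul, zeta_sq]
      have hY : ∀ a c, toSp2 P ((a * fix3 a c) ^ 3) = toSp2 P ((a * c) ^ 3) := fun a c => by
        simp only [map_pow, map_mul, hfix]
      simp only [treeEdges, List.mem_cons, List.not_mem_nil, or_false] at hp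
      rcases hp with rfl | rfl | rfl | rfl | rfl | rfl
      all_goals
        simp only [f, f4, f5, f6, f7, if_true, Nat.reduceEqDiff, if_false] at hpi ⊢
        rw [hY] at hpi
        exact key _ _ hpi
    obtain ⟨F, hFπ, hFb, hFW⟩ : ∃ F : ℕ → ↥(ext P), (∀ l, toSp2 P (F l) = tv (Fin.ofNat 8 l)) ∧
        (∀ p ∈ treeEdges, (F p.1 * F p.2) ^ 3 = 1) ∧ ev F longRel = 1 := by
      have hπW : toSp2 P (ev f longRel) = 1 := by
        rw [map_ev, funext hfπ]
        have e' := tvW_eq hlong
        rw [show tvW ([] : List (Fin 8)) = 1 from rfl, tvW, List.map_map] at e'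
        exact e'
      rcases two_cases P hπW with e | e
      · exact ⟨f, hfπ, hbraid, e⟩
      · refine ⟨fun l => f l * zeta P, fun l => ?_, fun p hp => ?_, ?_⟩
        · rw [map_mul, show toSp2 P (zeta P) = 1 from rfl, mul_one, hfπ]
        · rw [show f p.1 * zeta P * (f p.2 * zeta P) = f p.1 * (zeta P * f p.2) * zeta P by group, zeta_comm,
            ← mul_assoc, mul_assoc _ (zeta P) (zeta P), zeta_sq, mul_one]
          exact hbraid p hp
        · rw [ev_mul_central (zeta_comm P), e, show longRel.length = 63 from rfl,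
            show (63 : ℕ) = 2 * 31 + 1 from rfl, pow_succ, pow_mul, pow_two (zeta P), zeta_sq, one_pow, one_mul,
            zeta_sq]
    have hrel : ∀ w ∈ spRelWords, ev F w = 1 := by
      intro w hw
      have hs := List.all_eq_true.1 shapes_ok w hw
      simp only [relShapeB, Bool.or_eq_true, List.any_eq_true, List.mem_range, decide_eq_true_eq, Bool.and_eq_true,
        Bool.not_eq_true', List.contains_iff_mem] at hs
      rcases hs with (⟨k, hk, rfl⟩ | rfl) | ⟨a, ha, b, hb, ⟨⟨-, hadj⟩, rfl⟩ | ⟨hed, rfl⟩⟩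
      · simpa [ev] using hinv _ _ (hFπ (k + 1))
      · exact hFW
      · have hc' := hcl _ _ hadj _ _ (hFπ (a + 1)) (hFπ (b + 1))
        have e1 := hinv _ _ (hFπ (a + 1))
        have e2 := hinv _ _ (hFπ (b + 1))
        simp only [ev, List.map_cons, List.map_nil, List.prod_cons, List.prod_nil, mul_one]
        rw [← mul_assoc (F (b + 1)), ← hc'.eq, mul_assoc (F (a + 1)), e2, mul_one, e1]
      · have e' : (F (a + 1) * F (b + 1)) ^ 3 = 1 := by
          rcases hed with h | h
          · exact hFb _ h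
          · have h3 := hFb _ h
            rw [show F (a + 1) * F (b + 1) = F (a + 1) * (F (b + 1) * F (a + 1)) * (F (a + 1))⁻¹ by group,
              conj_pow, h3, mul_one, mul_inv_cancel]
        simpa [ev, pow_succ, mul_assoc] using e'
    obtain ⟨ψ, hψ⟩ := exists_hom_sp hrel
    refine ⟨ψ, fun s => ?_⟩
    suffices h : (toSp2 P).comp ψ = MonoidHom.id Sp2 from DFunLike.congr_fun h s
    refine MonoidHom.eq_of_eqOn_dense tv_rest_generate ?_
    rintro _ ⟨k, rfl⟩
    show toSp2 P (ψ _) = _
    rw [hψ _ (Fin.succ_ne_zero k), hFπ]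
    exact congrArg tv (Fin.ext (Nat.mod_eq_of_lt k.succ.isLt))
  · right
    have hdiff : ∀ e ∈ pairMoves, ∀ x y, toSp2 P x = tvW (tgW e.1) → toSp2 P y = tvW (tgW e.2.1) →
        ¬ Commute x y := fun e he x y hx hy hxy => hε <| by
      obtain ⟨g, h1, h2⟩ := hpair e he
      have := (commute_iff P (hx.trans h1.symm) (hy.trans h2.symm) hxy).map (MulAut.conj g⁻¹).toMonoidHom
      simpa [mul_assoc] using this
    have hflip : ∀ k l : Fin 8, adj k l = false → k ≠ l →
        lf (tv k) * lf (tv l) * (lf (tv k))⁻¹ = lf (tv l) * zeta P := by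
      intro k l ha hne
      have hπ : toSp2 P (lf (tv l)) = toSp2 P (lf (tv k) * lf (tv l) * (lf (tv k))⁻¹) := by
        rw [map_mul, map_mul, map_inv, hlf, hlf, tv_comm ha, mul_inv_cancel_right]
      refine (same_over P hπ).resolve_left fun e => ?_
      have hc : Commute (lf (tv k)) (lf (tv l)) := mul_inv_eq_iff_eq_mul.1 e
      rcases lt_or_gt_of_ne hne with h | h
      · obtain ⟨p, hp, e1, e2⟩ := hk2 k l h ha
        exact hdiff p hp _ _ ((hlf _).trans e1.symm) ((hlf _).trans e2.symm) hc
      · have ha' : adj l k = false := by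
          have : ∀ k l : Fin 8, adj k l = adj l k := by decide +kernel
          rw [← this]; exact ha
        obtain ⟨p, hp, e1, e2⟩ := hk2 l k h ha'
        exact hdiff p hp _ _ ((hlf _).trans e1.symm) ((hlf _).trans e2.symm) hc.symm
    intro s hs x hx
    rcases hs with hs | hs
    · exact fused_of_conj P hr hs (hlf (tv 0)) (hflip 1 0 (by decide +kernel) (by decide)) x hx
    · refine fused_of_conj P hr hs (x0 := lf (tv 0) * lf (tv 1) * lf (tv 6)) ?_ (h0 := lf (tv 2)) ?_ x hx
      · rw [map_mul, map_mul, hlf, hlf, hlf]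
        simp [tvW, mul_assoc]
      · set h := lf (tv 2)
        rw [show h * (lf (tv 0) * lf (tv 1) * lf (tv 6)) * h⁻¹ =
          h * lf (tv 0) * h⁻¹ * (h * lf (tv 1) * h⁻¹) * (h * lf (tv 6) * h⁻¹) by group,
          hflip 2 0 (by decide +kernel) (by decide), hflip 2 1 (by decide +kernel) (by decide),
          hflip 2 6 (by decide +kernel) (by decide),
          show lf (tv 0) * zeta P * (lf (tv 1) * zeta P) = lf (tv 0) * (zeta P * lf (tv 1)) * zeta P by group,
          zeta_comm, ← mul_assoc (lf (tv 0)) (lf (tv 1)) (zeta P), mul_assoc _ (zeta P) (zeta P), zeta_sq, mul_one,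
          ← mul_assoc]

/-- The coordinates agree with the copy of the two-group and with the complement. -/
structure Good (co : Coord N.z) : Prop where
  q_eq : ∀ q : ↥N.Q, co.iota (P.ν q) = q
  y_acts : ∀ s, ∀ h : co.iota (cmY s) ∈ centralizer ({N.z} : Set G), Acts P ⟨co.iota (cmY s), h⟩ s

/-- The coordinates from a splitting. -/
theorem coord_of_section (hr : A.σ.range = N.ρ.range) (hinj : Function.Injective A.σ)
    {ψ : Sp2 →* ↥(ext P)} (hψ : ∀ s, toSp2 P (ψ s) = s) :
    (∃ co : Coord N.z, Good P co) ∧ Nat.card Cm = 743178240 := by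
  classical
  let gC : Sp2 →* ↥(centralizer ({N.z} : Set G)) := (MonoidHom.fst _ _).comp ((ext P).subtype.comp ψ)
  have hg : ∀ s, Acts P (gC s) s := fun s => by
    have h := (ψ s).2
    have e : (ψ s).1.2 = s := hψ s
    show Acts P (ψ s).1.1 s
    conv => arg 3; rw [← e]
    exact h
  let φ : Sp2 →* MulAut ↥N.Q :=
    { toFun := fun s =>
        { toFun := fun q => ⟨(gC s : G) * q * (gC s : G)⁻¹, N.conj_mem (gC s).2 q⟩
          invFun := fun q => ⟨((gC s)⁻¹ : ↥(centralizer ({N.z} : Set G))) * (q : G) *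
            (((gC s)⁻¹ : ↥(centralizer ({N.z} : Set G))) : G)⁻¹, N.conj_mem ((gC s)⁻¹).2 q⟩
          left_inv := fun q => Subtype.ext (by simp [mul_assoc])
          right_inv := fun q => Subtype.ext (by simp [mul_assoc])
          map_mul' := fun a b => Subtype.ext (by simp [mul_assoc]) }
      map_one' := MulEquiv.ext fun q => Subtype.ext (by simp)
      map_mul' := fun s s' => MulEquiv.ext fun q => Subtype.ext (by simp [mul_assoc]) }
  let fC : ↥N.Q ⋊[φ] Sp2 →* Cm := SemidirectProduct.lift P.ν cmY fun s => by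
    refine MonoidHom.ext fun q => ?_
    exact (hg s).2 q
  let fG : ↥N.Q ⋊[φ] Sp2 →* G :=
    SemidirectProduct.lift N.Q.subtype ((centralizer ({N.z} : Set G)).subtype.comp gC) fun s =>
      MonoidHom.ext fun q => rfl
  have hGi : Function.Injective fG := by
    rw [injective_iff_map_eq_one]
    intro x hx
    change (x.left : G) * (gC x.right : G) = 1 at hx
    have hmem : (gC x.right : G) ∈ N.Q := by
      rw [eq_inv_of_mul_eq_one_right hx]; exact N.Q.inv_mem x.left.2
    have h1 : A.σ x.right = 1 := by rw [← (hg x.right).1]; exact (N.ρ_eq_one_iff _).2 hmem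
    have hs : x.right = 1 := hinj (h1.trans (map_one _).symm)
    rw [hs, map_one, OneMemClass.coe_one, mul_one] at hx
    exact SemidirectProduct.ext (Subtype.ext hx) hs
  have hCi : Function.Injective fC := by
    rw [injective_iff_map_eq_one]
    intro x hx
    change P.ν x.left * cmY x.right = 1 at hx
    have e1 : cmY x.right = (P.ν x.left)⁻¹ := eq_inv_of_mul_eq_one_right hx
    have hc : (x.left : G) * (gC x.right : G) ∈ centralizer (N.Q : Set G) := by
      rw [mem_centralizer_iff]
      intro y hy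
      have e := (hg x.right).2 ⟨y, hy⟩
      rw [e1, inv_inv, ← map_inv, ← map_mul, ← map_mul] at e
      have e' := congrArg Subtype.val (P.inj e)
      simp only [Subgroup.coe_mul, Subgroup.coe_inv] at e'
      calc y * ((x.left : G) * (gC x.right : G)) = (x.left : G) * ((x.left : G)⁻¹ * y * x.left) * gC x.right := by
            group
        _ = (x.left : G) * ((gC x.right : G) * y * (gC x.right : G)⁻¹) * gC x.right := by rw [← e']
        _ = _ := by group
    rw [N.F.self] at hc
    obtain ⟨c, hc', ec⟩ := hc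
    have hmem : (gC x.right : G) ∈ N.Q := by
      have : (x.left : G)⁻¹ * (c : G) ∈ N.Q := N.Q.mul_mem (N.Q.inv_mem x.left.2) c.2
      rw [Subgroup.coe_subtype] at ec
      rwa [ec, inv_mul_cancel_left] at this
    have hs : x.right = 1 := hinj ((show A.σ x.right = 1 by
      rw [← (hg x.right).1]; exact (N.ρ_eq_one_iff _).2 hmem).trans (map_one _).symm)
    rw [hs, map_one, mul_one] at hx
    exact SemidirectProduct.ext (P.inj (hx.trans (map_one _).symm)) hs
  have hCs : Function.Surjective fC := by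
    intro y
    suffices h : ∀ y, ∀ hy : y ∈ Cm, (⟨y, hy⟩ : Cm) ∈ fC.range from h y.1 y.2
    intro y hy
    induction hy using Subgroup.closure_induction with
    | mem y hy =>
      obtain ⟨l, rfl⟩ := hy
      have e : (⟨letter l, Subgroup.subset_closure ⟨l, rfl⟩⟩ : Cm) = xm l := Subtype.ext (coe_xm l.isLt).symm
      rw [e]
      by_cases hl : l.val < 8
      · refine ⟨SemidirectProduct.inr (tv ⟨l, hl⟩), ?_⟩
        rw [SemidirectProduct.lift_inr]
        exact cmY_tv _
      · refine ⟨SemidirectProduct.inl (P.a (l.val - 8)), ?_⟩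
        rw [SemidirectProduct.lift_inl, P.ν_a _ (by omega), show 8 + (l.val - 8) = l.val by omega]
    | one => exact fC.range.one_mem
    | mul a b ha hb h1 h2 => exact fC.range.mul_mem h1 h2
    | inv a ha h1 => exact fC.range.inv_mem h1
  let eC := MulEquiv.ofBijective fC ⟨hCi, hCs⟩
  have hz : fG (eC.symm tm) = N.z := by
    rw [show eC.symm tm = SemidirectProduct.inl ⟨N.z, N.z_mem⟩ from (MulEquiv.symm_apply_eq _).2 (by
      show tm = fC _
      rw [SemidirectProduct.lift_inl, P.ν_z]), SemidirectProduct.lift_inl]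
    rfl
  refine ⟨⟨⟨fG.comp eC.symm.toMonoidHom, hGi.comp eC.symm.injective, ?_, hz⟩, fun q => ?_, fun s h => ?_⟩, ?_⟩
  rotate_left
  · show fG (eC.symm (P.ν q)) = q
    rw [show eC.symm (P.ν q) = SemidirectProduct.inl q from (MulEquiv.symm_apply_eq _).2 (by
      show P.ν q = fC _
      rw [SemidirectProduct.lift_inl]), SemidirectProduct.lift_inl]
    rfl
  · have e : fG (eC.symm (cmY s)) = (gC s : G) := by
      rw [show eC.symm (cmY s) = SemidirectProduct.inr s from (MulEquiv.symm_apply_eq _).2 (by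
        show cmY s = fC _
        rw [SemidirectProduct.lift_inr]), SemidirectProduct.lift_inr]
      rfl
    convert hg s using 1
    exact Subtype.ext e
  rotate_left
  · refine le_antisymm ?_ fun g hgC => ?_
    · rintro _ ⟨x, rfl⟩
      exact mul_mem (N.F.le (eC.symm x).left.2) (gC (eC.symm x).right).2
    · obtain ⟨s, hs⟩ : N.ρ ⟨g, hgC⟩ ∈ A.σ.range := hr ▸ ⟨_, rfl⟩
      have hq : ((gC s : G))⁻¹ * g ∈ N.Q := (N.ρ_eq_iff _ ⟨g, hgC⟩).1 ((hg s).1.trans hs)
      refine ⟨eC (SemidirectProduct.inr s * SemidirectProduct.inl ⟨_, hq⟩), ?_⟩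
      show fG (eC.symm (eC _)) = g
      rw [MulEquiv.symm_apply_apply, map_mul, SemidirectProduct.lift_inr, SemidirectProduct.lift_inl]
      exact mul_inv_cancel_left _ _
  · rw [← Nat.card_congr eC.toEquiv, SemidirectProduct.card, N.card, card_sp2]

/-- The coordinates, unless the lifts of the two classes are fused. -/
theorem coord_or_fused (hr : A.σ.range = N.ρ.range) (hinj : Function.Injective A.σ) :
    ((∃ co : Coord N.z, Good P co) ∧ Nat.card Cm = 743178240) ∨ Fused P := by
  rcases section_or_fused P hr with ⟨ψ, hψ⟩ | h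
  · exact Or.inl (coord_of_section P hr hinj hψ)
  · exact Or.inr h

end CfsgLib.CoTwoRec
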