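import Cfsg.Agent.Lib.CoTwoRec.SpWords

/-!
# Tables for the coordinates: signs, seven commuting transvections, moves of commuting pairs
-/

set_option autoImplicit false
set_option maxRecDepth 100000

namespace CfsgLib.CoTwoRec

/-- The signs of the action of the lifts on the factors, at the place eight times the lift plus the factor. -/
def pSigns : List Bool := [false, false, false, false, false, false, true, false, true, false, false, false, false, true, false, false, false, false, false, true, false, false, false, false, false, false, false, true, false, false, false, false, false, false, false, false, false, false, false, false, false, false, false, false, false, false, true, false, false, false, false, false, true, true, true, false, false, true, false, true,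 false, true, false, false]

/-- Conjugating products carrying the first transvection to those of seven vectors of a plane. -/
def sevenU : List (List (Fin 8)) := [
  [],
  [4, 6, 1, 4, 3, 6, 0, 3],
  [5, 7, 2, 5, 4, 7, 6, 4, 3, 6, 0, 3],
  [3, 6, 0, 3],
  [3, 6, 4, 7, 1, 4, 6, 3],
  [4, 7, 6, 4, 3, 6, 0, 3],
  [4, 7, 1, 4, 3, 6, 0, 3]]

/-- A part of the table of moves. -/
def pairMoves0 : List (ℕ × ℕ × List (Fin 8)) := [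
  (0, 1, []),
  (0, 2, [5, 7, 2, 5, 4, 7, 1, 4]),
  (0, 3, [4, 6, 1, 4]),
  (0, 4, [5, 7, 2, 5, 4, 7, 6, 4]),
  (0, 5, [4, 7, 1, 4]),
  (0, 6, [4, 7, 6, 4]),
  (0, 8, []),
  (0, 9, [5, 7, 2, 5, 4, 7, 1, 4]),
  (0, 11, [1, 4]),
  (0, 12, [7, 5, 4, 7, 1, 4]),
  (0, 13, [4, 6, 1, 4]),
  (0, 14, [4, 7, 1, 4]),
  (1, 2, [4, 6, 5, 1, 4, 7, 3, 6, 2, 5, 4, 7, 1, 4, 0, 3]),
  (1, 3, [4, 6, 1, 4, 3, 6, 0, 3]),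
  (1, 4, [4, 3, 6, 1, 4, 7, 0, 3, 6, 4, 0, 3]),
  (1, 5, [5, 7, 4, 6, 1, 4, 7, 3, 6, 5, 4, 7, 1, 4, 0, 3]),
  (1, 6, [4, 3, 6, 1, 4, 7, 3, 6, 1, 4, 0, 3]),
  (1, 7, [4, 3, 6, 1, 4, 0, 3, 6, 1, 4, 0, 3]),
  (1, 9, [4, 6, 5, 1, 4, 7, 3, 6, 2, 5, 4, 7, 1, 4, 0, 3]),
  (1, 10, [4, 6, 1, 4, 3, 6, 1, 4, 0, 3])]

/-- A part of the table of moves. -/
def pairMoves1 : List (ℕ × ℕ × List (Fin 8)) := [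
  (1, 12, [4, 6, 1, 4, 7, 3, 6, 5, 4, 7, 1, 4, 0, 3]),
  (1, 13, [4, 6, 1, 4, 3, 6, 0, 3]),
  (1, 14, [5, 7, 4, 6, 1, 4, 7, 3, 6, 5, 4, 7, 1, 4, 0, 3]),
  (2, 3, [5, 7, 3, 6, 2, 5, 4, 7, 6, 4, 3, 6, 1, 4, 0, 3]),
  (2, 4, [5, 7, 2, 5, 4, 7, 6, 4, 3, 6, 0, 3]),
  (2, 5, [5, 7, 4, 6, 1, 4, 7, 3, 6, 5, 4, 7, 1, 4, 6, 3]),
  (2, 6, [5, 7, 3, 6, 2, 5, 4, 7, 6, 4, 0, 3, 6, 4, 0, 3]),
  (2, 7, [5, 7, 2, 5, 4, 7, 3, 6, 4, 0, 3, 6, 1, 4, 0, 3]),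
  (2, 8, [4, 6, 5, 1, 4, 7, 3, 6, 2, 5, 4, 7, 6, 4, 3, 6, 1, 4, 0, 3]),
  (2, 10, [5, 7, 2, 5, 4, 7, 6, 4, 3, 6, 1, 4, 0, 3]),
  (2, 11, [6, 5, 4, 7, 3, 6, 2, 5, 4, 7, 6, 4, 3, 6, 1, 4, 0, 3]),
  (2, 13, [5, 7, 3, 6, 2, 5, 4, 7, 6, 4, 3, 6, 1, 4, 0, 3]),
  (2, 14, [5, 7, 4, 6, 1, 4, 7, 3, 6, 5, 4, 7, 1, 4, 6, 3]),
  (3, 4, [3, 6, 4, 7, 0, 3, 6, 4]),
  (3, 5, [3, 6, 4, 7, 1, 4, 0, 3]),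
  (3, 6, [5, 7, 3, 6, 2, 5, 4, 7, 0, 3, 6, 4]),
  (3, 7, [3, 6, 4, 0, 3, 6, 1, 4]),
  (3, 8, [3, 6, 0, 3]),
  (3, 9, [5, 7, 3, 6, 2, 5, 4, 7, 1, 4, 0, 3]),
  (3, 12, [7, 3, 6, 5, 4, 7, 1, 4, 0, 3])]

/-- A part of the table of moves. -/
def pairMoves2 : List (ℕ × ℕ × List (Fin 8)) := [
  (3, 14, [3, 6, 4, 7, 1, 4, 0, 3]),
  (4, 5, [3, 6, 4, 7, 1, 4, 6, 3]),
  (4, 6, [4, 3, 6, 1, 4, 7, 1, 4, 3, 6, 4, 3]),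
  (4, 7, [5, 7, 2, 5, 4, 7, 3, 6, 1, 4, 0, 3, 6, 1, 4, 3]),
  (4, 8, [4, 3, 6, 1, 4, 7, 1, 4, 6, 1, 4, 3]),
  (4, 9, [5, 7, 2, 5, 4, 7, 1, 4, 3, 6, 0, 3]),
  (4, 11, [3, 6, 4, 7, 1, 4, 6, 1, 4, 3]),
  (4, 13, [3, 6, 4, 7, 6, 1, 4, 3, 6, 1, 4, 3]),
  (4, 14, [3, 6, 4, 7, 1, 4, 6, 3]),
  (5, 6, [4, 7, 6, 4, 3, 6, 0, 3]),
  (5, 7, [4, 7, 3, 6, 4, 0, 3, 6, 1, 4, 0, 3]),
  (5, 8, [4, 7, 6, 5, 4, 7, 3, 6, 2, 5, 4, 7, 0, 3, 6, 4]),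
  (5, 9, [4, 7, 6, 5, 4, 7, 3, 6, 2, 5, 4, 7, 1, 4, 0, 3]),
  (5, 10, [4, 7, 6, 4, 3, 6, 1, 4, 0, 3]),
  (5, 13, [3, 6, 4, 7, 6, 4, 3, 6, 1, 4, 0, 3]),
  (6, 7, [4, 7, 3, 6, 1, 4, 0, 3, 6, 1, 4, 3]),
  (6, 8, [4, 3, 6, 1, 4, 7, 4, 6, 1, 4, 0, 3]),
  (6, 9, [5, 7, 3, 6, 2, 5, 4, 7, 1, 4, 6, 3]),
  (6, 13, [5, 7, 3, 6, 2, 5, 4, 7, 6, 1, 4, 3, 6, 1, 4, 3]),
  (6, 14, [4, 7, 1, 4, 3, 6, 0, 3])]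

/-- A part of the table of moves. -/
def pairMoves3 : List (ℕ × ℕ × List (Fin 8)) := [
  (7, 8, []),
  (7, 9, [5, 7, 2, 5, 4, 7, 1, 4]),
  (7, 11, [1, 4]),
  (7, 12, [7, 5, 4, 7, 1, 4]),
  (7, 13, [4, 6, 1, 4]),
  (7, 14, [4, 7, 1, 4]),
  (8, 9, [4, 6, 5, 1, 4, 7, 3, 6, 2, 5, 4, 7, 1, 4, 0, 3]),
  (8, 10, [4, 6, 1, 4, 3, 6, 1, 4, 0, 3]),
  (8, 12, [4, 6, 1, 4, 7, 3, 6, 5, 4, 7, 1, 4, 0, 3]),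
  (8, 13, [4, 6, 1, 4, 3, 6, 0, 3]),
  (8, 14, [5, 7, 4, 6, 1, 4, 7, 3, 6, 5, 4, 7, 1, 4, 0, 3]),
  (9, 10, [5, 7, 2, 5, 4, 7, 6, 4, 3, 6, 1, 4, 0, 3]),
  (9, 11, [6, 5, 4, 7, 3, 6, 2, 5, 4, 7, 6, 4, 3, 6, 1, 4, 0, 3]),
  (9, 13, [5, 7, 3, 6, 2, 5, 4, 7, 6, 4, 3, 6, 1, 4, 0, 3]),
  (9, 14, [5, 7, 4, 6, 1, 4, 7, 3, 6, 5, 4, 7, 1, 4, 6, 3]),
  (10, 11, [1, 4, 0, 3]),
  (10, 12, [7, 5, 4, 7, 1, 4, 0, 3]),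
  (10, 14, [4, 7, 1, 4, 0, 3]),
  (11, 12, [6, 4, 7, 3, 6, 5, 4, 7, 1, 4, 0, 3]),
  (12, 13, [7, 3, 6, 5, 4, 7, 6, 4, 3, 6, 1, 4, 0, 3])]

/-- A part of the table of moves. -/
def pairMoves4 : List (ℕ × ℕ × List (Fin 8)) := [
  (13, 14, [3, 6, 4, 7, 1, 4, 0, 3])]

/-- Moves of the first commuting pair to the commuting pairs of the targets. -/
def pairMoves : List (ℕ × ℕ × List (Fin 8)) := pairMoves0 ++ pairMoves1 ++ pairMoves2 ++ pairMoves3 ++ pairMoves4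

end CfsgLib.CoTwoRec
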