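import Cfsg.Agent.Lib.CoTwoRec.SpGen

/-!
# Relations among the eight transvections
-/

set_option autoImplicit false
set_option maxRecDepth 100000

namespace CfsgLib.CoTwoRec

open CfsgLib.Schur.Tails.SpSix CfsgLib.LeechPSU

/-- The product of transvections of the list, the first one applied last. -/
def tvW (w : List (Fin 8)) : Sp2 := (w.map tv).prod

/-- The image of a point under a product. -/
noncomputable def evalT (w : List (Fin 8)) (a : ℕ) : ℕ :=
  w.foldr (fun k x => fieldAt (tvCodes.getD k.val 0) x) a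

/-- Two products act equally on the points. -/
noncomputable def sameB (u w : List (Fin 8)) : Bool :=
  (List.range 63).all fun a => Nat.beq (evalT u a) (evalT w a)

theorem phi_tvW_apply : ∀ (w : List (Fin 8)) (a : Fin 63), ((phi (tvW w)) a : ℕ) = evalT w a
  | [], a => by simp [tvW, evalT]
  | k :: w, a => by
    have e : phi (tvW (k :: w)) a = phi (tv k) (phi (tvW w) a) := by
      rw [tvW, List.map_cons, List.prod_cons, map_mul, Equiv.Perm.mul_apply]; rfl
    rw [e, isCode_tv k, phi_tvW_apply w a]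
    rfl

theorem tvW_eq {u w : List (Fin 8)} (h : sameB u w = true) : tvW u = tvW w := by
  simp only [sameB, List.all_eq_true, List.mem_range, Nat.beq_eq] at h
  exact phi_injective (Equiv.ext fun a => Fin.ext (by rw [phi_tvW_apply, phi_tvW_apply]; exact h a.val a.isLt))

theorem tvW_append (u w : List (Fin 8)) : tvW (u ++ w) = tvW u * tvW w := by simp [tvW]

theorem tvW_single (k : Fin 8) : tvW [k] = tv k := by simp [tvW]

theorem tvW_pair (k l : Fin 8) : tvW [k, l] = tv k * tv l := by simp [tvW]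

/-- The vectors of two transvections of the list are not orthogonal. -/
def adj (k l : Fin 8) : Bool := decide (bx (tvVecs.getD k.val 0) (tvVecs.getD l.val 0) = 1)

/-- A product that carries the first pair to a given one. -/
def conjW (k l : Fin 8) : List (Fin 8) :=
  match k.val, l.val with
  | 1, 4 => [6, 4, 3, 6, 1, 4, 0, 3, 6, 0, 3, 0]
  | 2, 5 => [7, 5, 4, 7, 6, 2, 5, 4, 7, 3, 6, 4, 0, 3, 6, 0, 3, 0]
  | 3, 0 => [0, 3, 0]
  | 3, 6 => [0, 3, 6]
  | 4, 1 => [6, 4, 3, 6, 1, 4, 0, 3, 6]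
  | 4, 6 => [3, 6, 4, 0, 3, 6, 0, 3, 0]
  | 4, 7 => [6, 4, 7, 3, 6, 4, 0, 3, 6]
  | 5, 2 => [7, 5, 4, 7, 6, 2, 5, 4, 7, 3, 6, 4, 0, 3, 6]
  | 5, 7 => [4, 7, 6, 5, 4, 7, 3, 6, 4, 0, 3, 6, 0, 3, 0]
  | 6, 3 => [0, 3, 6, 0, 3, 0]
  | 6, 4 => [3, 6, 4, 0, 3, 6]
  | 7, 4 => [6, 4, 7, 3, 6, 4, 0, 3, 6, 0, 3, 0]
  | 7, 5 => [4, 7, 6, 5, 4, 7, 3, 6, 4, 0, 3, 6]
  | _, _ => []

/-- A product permuting the three planes cyclically. -/
def cycW : List (Fin 8) := [2, 5, 7, 4, 1, 6, 3, 4, 6, 7, 5, 4, 7, 0, 3, 6, 2, 5, 4, 7, 2, 5, 2]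

theorem sq_test : ∀ k : Fin 8, sameB [k, k] [] = true := by decide +kernel

theorem pair_test : ∀ k l : Fin 8, (if adj k l then
    sameB (conjW k l ++ [0, 3] ++ (conjW k l).reverse) [k, l]
    else sameB [k, l] [l, k]) = true := by decide +kernel

theorem cube_test : sameB [0, 3, 0, 3, 0, 3] [] = true := by decide +kernel

theorem tv_sq (k : Fin 8) : tv k * tv k = 1 := by
  rw [← tvW_pair, tvW_eq (sq_test k)]; rfl

theorem tvW_rev : ∀ w : List (Fin 8), tvW w.reverse = (tvW w)⁻¹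
  | [] => by simp [tvW]
  | k :: w => by
    rw [List.reverse_cons, tvW_append, tvW_rev w, show k :: w = [k] ++ w from rfl, tvW_append, mul_inv_rev,
      tvW_single, inv_eq_of_mul_eq_one_right (tv_sq k)]

theorem tv_comm {k l : Fin 8} (h : adj k l = false) : tv k * tv l = tv l * tv k := by
  have e := pair_test k l
  rw [h] at e
  rw [← tvW_pair, ← tvW_pair, tvW_eq e]

theorem tv_conj {k l : Fin 8} (h : adj k l = true) :
    tvW (conjW k l) * (tv 0 * tv 3) * (tvW (conjW k l))⁻¹ = tv k * tv l := by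
  have e := pair_test k l
  rw [h, if_pos rfl] at e
  rw [← tvW_pair, ← tvW_pair, ← tvW_rev, ← tvW_append, ← tvW_append, tvW_eq e]

theorem tv_cube : tv 0 * tv 3 * (tv 0 * tv 3) * (tv 0 * tv 3) = 1 := by
  rw [← tvW_pair, ← tvW_append, ← tvW_append]
  exact tvW_eq cube_test

end CfsgLib.CoTwoRec
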