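import Cfsg.Agent.Lib.CoTwoRec.Basic
import Cfsg.Agent.Lib.CoTwoRec.SpWords
import Cfsg.Agent.Lib.CoTwoRec.SpPresData
import Cfsg.Agent.Lib.PresCert.Bound

/-!
# A presentation of the symplectic group of dimension six over two elements by seven transvections

The chain of subgroups generated by the first transvections of a path is bounded by checked coset enumerations,
so elements with the relations of the transvections are the images of a homomorphism.
-/

set_option autoImplicit false
set_option maxRecDepth 100000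

namespace CfsgLib.CoTwoRec

open CfsgLib.PresCert CfsgLib.Schur.Tails.SpSix CfsgLib.LeechPSU

/-- The certificate of a stage. -/
def spC (j : ℕ) : Data := spCerts.getD j spCert1

/-- The relators of a stage. -/
def spR (j : ℕ) : List (List ℕ) := spRels.getD j []

/-- The generator with a number in the chain. -/
def spG {M : Type*} (f : ℕ → M) (i : ℕ) : M := f (spOrder.getD i 0)

/-- The first numbers as words. -/
def spSub (j : ℕ) : List (List ℕ) := (List.range j).map fun i => [i]

/-- The defining words in the eight letters, read from the left. -/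
def spRelWords : List (List ℕ) :=
  ((List.range 7).flatMap fun j => (spR j).map fun w => (w.map fun i => spOrder.getD i 0).reverse) ++
    (List.range 7).map fun k => [k + 1, k + 1]

/-- The checks of a stage. -/
noncomputable def spStageB (j : ℕ) : Bool :=
  decide ((spC j).ng = j + 1) && decide ((spC j).N ≤ 1000) && decide ((spC j).n ≤ 1000) &&
    shapeOk (spC j) && block (spC j) 0 &&
    (spSub (j + 1)).all (fun w => w.all fun g => Nat.blt g (spC j).ng) &&
    closedBlock (spC j) (spSub (j + 1)) 0 &&
    relsOk (spC j) (spR j) && subsOk (spC j) (spSub j) (16 * (spC j).words.length)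

theorem sp_stage_ok : ((List.range 7).all spStageB &&
    decide (((List.range 7).map fun j => (spC j).n).prod = 1451520)) = true := by
  decide +kernel

variable {M : Type*} [Group M]

theorem act_eq_ev (g : ℕ → M) : ∀ w : List ℕ, act g w = ev g w.reverse
  | [] => by simp [act_nil, ev]
  | a :: w => by rw [act_cons, act_eq_ev g w]; simp [ev]

/-- The bound along the chain. -/
theorem sp_chain_card {f : ℕ → M} (h : ∀ w ∈ spRelWords, ev f w = 1) : ∀ j, j ≤ 7 →
    Finite (genGrp (spSub j) (spG f)) ∧
      Nat.card (genGrp (spSub j) (spG f)) ≤ ((List.range j).map fun i => (spC i).n).prod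
  | 0, _ => by
    have e : genGrp (spSub 0) (spG f) = ⊥ := by
      rw [genGrp, Subgroup.closure_eq_bot_iff]
      rintro x ⟨w, hw, -⟩
      simp [spSub] at hw
    rw [e]
    exact ⟨inferInstance, by simp⟩
  | j + 1, hj => by
    obtain ⟨hfin, hle⟩ := sp_chain_card h j (by omega)
    have hs := Bool.and_eq_true_iff.1 sp_stage_ok
    have hs' := List.all_eq_true.1 hs.1 j (List.mem_range.2 (by omega))
    simp only [spStageB, Bool.and_eq_true, decide_eq_true_eq] at hs'
    obtain ⟨⟨⟨⟨⟨⟨⟨⟨hng, hN⟩, hn⟩, hshape⟩, hblock⟩, hwords⟩, hclosed⟩, hr⟩, hsubs⟩ := hs'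
    have V : Closed (spC j) (spSub (j + 1)) :=
      ⟨⟨hshape, fun b hb => by rw [show b = 0 by omega]; exact hblock⟩, hwords,
        fun b hb => by rw [show b = 0 by omega]; exact hclosed⟩
    have hsq : ∀ g, g < (spC j).ng → spG f g * spG f g = 1 := fun g hg => by
      obtain ⟨k, hk, e⟩ : ∃ k < 7, spOrder.getD g 0 = k + 1 := by
        have : ∀ g < 7, ∃ k < 7, spOrder.getD g 0 = k + 1 := by decide
        exact this g (by omega)
      simp only [spG, e]
      simpa [ev] using h [k + 1, k + 1] (List.mem_append_right _ (List.mem_map.2 ⟨k, List.mem_range.2 hk, rfl⟩))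
    have hrels : ∀ w ∈ spR j, act (spG f) w = 1 := fun w hw => by
      rw [act_eq_ev]
      have := h _ (List.mem_append_left _ (List.mem_flatMap.2
        ⟨j, List.mem_range.2 (show j < 7 by omega), List.mem_map.2 ⟨w, hw, rfl⟩⟩))
      rw [ev, List.map_reverse, List.map_map] at this
      rw [ev, List.map_reverse]
      exact this
    have H := hyp_of_checks (x₀ := ((1 : M) : M ⧸ genGrp (spSub j) (spG f))) hsq hrels (fun w hw => by
      rw [MulAction.Quotient.smul_coe, smul_eq_mul, mul_one, QuotientGroup.eq, mul_one]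
      exact (genGrp _ _).inv_mem (Subgroup.subset_closure ⟨w, hw, rfl⟩)) hr hsubs
    obtain ⟨h1, h2⟩ := card_le V H
    refine ⟨h1, h2.trans ?_⟩
    rw [List.range_succ, List.map_append, List.prod_append, List.map_singleton, List.prod_singleton,
      mul_comm]
    exact Nat.mul_le_mul_right _ hle

/-- The first transvection in the other seven. -/
def zeroWord : List (Fin 8) :=
  [3, 6, 4, 7, 5, 1, 4, 7, 6, 2, 5, 4, 7, 3, 6, 4, 1, 4, 6, 3, 7, 4, 5, 2, 6, 7, 4, 1, 5, 7, 4, 6, 3]

theorem zeroWord_ok : (sameB zeroWord [0] && zeroWord.all fun k => k != 0) = true := by decide +kernel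

theorem tv_rest_generate : Subgroup.closure (Set.range fun k : Fin 7 => tv k.succ) = ⊤ := by
  rw [eq_top_iff, ← tv_generate, Subgroup.closure_le]
  rintro _ ⟨k, rfl⟩
  have hmem : ∀ l : Fin 8, l ≠ 0 → tv l ∈ Subgroup.closure (Set.range fun k : Fin 7 => tv k.succ) :=
    fun l hl => Subgroup.subset_closure ⟨l.pred hl, by simp⟩
  by_cases hk : k = 0
  · have h := zeroWord_ok
    simp only [Bool.and_eq_true, List.all_eq_true, bne_iff_ne] at h
    rw [hk, ← tvW_single, ← tvW_eq h.1]
    refine Subgroup.list_prod_mem _ fun x hx => ?_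
    obtain ⟨l, hl, rfl⟩ := List.mem_map.1 hx
    exact hmem l (h.2 l hl)
  · exact hmem k hk

/-- Elements with the relations of the transvections are the images of a homomorphism. -/
theorem exists_hom_sp {f : ℕ → M} (h : ∀ w ∈ spRelWords, ev f w = 1) :
    ∃ φ : Sp2 →* M, ∀ k : Fin 8, k ≠ 0 → φ (tv k) = f k := by
  classical
  let g : ℕ → Sp2 × M := fun k => (if hk : k < 8 then tv ⟨k, hk⟩ else 1, f k)
  have hT : ∀ w ∈ spRelWords, ev g w = 1 := by
    have hB : (spRelWords.all fun w => w.all (fun a => Nat.blt a 8) &&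
        sameB (w.map (Fin.ofNat 8)) []) = true := by decide +kernel
    intro w hw
    have hw' := List.all_eq_true.1 hB w hw
    simp only [Bool.and_eq_true, List.all_eq_true, Nat.blt_eq] at hw'
    refine Prod.ext ?_ ?_
    · have e := tvW_eq hw'.2
      rw [show tvW ([] : List (Fin 8)) = 1 from rfl, tvW, List.map_map] at e
      rw [ev, ← MonoidHom.coe_fst, map_list_prod, List.map_map]
      refine Eq.trans (congrArg List.prod (List.map_congr_left fun a ha => ?_)) e
      simp only [Function.comp_apply, MonoidHom.coe_fst, g, dif_pos (hw'.1 a ha)]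
      exact congrArg tv (Fin.ext (Nat.mod_eq_of_lt (hw'.1 a ha)).symm)
    · rw [ev, ← MonoidHom.coe_snd, map_list_prod, List.map_map]
      exact h w hw
  obtain ⟨hfin, hle⟩ := sp_chain_card hT 7 le_rfl
  have hs := Bool.and_eq_true_iff.1 sp_stage_ok
  rw [of_decide_eq_true hs.2] at hle
  set X := genGrp (spSub 7) (spG g) with hX
  have hmem : ∀ k : Fin 8, k ≠ 0 → g k ∈ X := fun k hk0 => by
    have hk : ∀ k : Fin 8, k ≠ 0 → ∃ i < 7, spOrder.getD i 0 = k.val := by decide
    obtain ⟨i, hi, e⟩ := hk k hk0
    refine Subgroup.subset_closure ⟨[i], List.mem_map.2 ⟨i, List.mem_range.2 hi, rfl⟩, ?_⟩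
    rw [act_cons, act_nil, one_mul, spG, e]
  let π : X →* Sp2 := (MonoidHom.fst Sp2 M).comp X.subtype
  have hsurj : Function.Surjective π := by
    rw [← MonoidHom.range_eq_top, eq_top_iff, ← tv_rest_generate, Subgroup.closure_le]
    rintro _ ⟨k, rfl⟩
    refine ⟨⟨g k.succ.val, hmem _ (Fin.succ_ne_zero k)⟩, ?_⟩
    show (g k.succ.val).1 = tv k.succ
    simp only [g, dif_pos k.succ.isLt]
  have hinj : Function.Injective π := by
    have h1 := Nat.card_le_card_of_surjective π hsurj
    rw [card_sp2] at h1
    exact ((Nat.bijective_iff_surjective_and_card π).2 ⟨hsurj, by rw [card_sp2]; omega⟩).1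
  let ψ : Sp2 ≃* X := (MulEquiv.ofBijective π ⟨hinj, hsurj⟩).symm
  refine ⟨(MonoidHom.snd Sp2 M).comp (X.subtype.comp ψ.toMonoidHom), fun k hk => ?_⟩
  have e : ψ (tv k) = ⟨g k, hmem k hk⟩ := by
    rw [MulEquiv.symm_apply_eq]
    show tv k = (g k).1
    simp [g]
  show (ψ (tv k) : Sp2 × M).2 = f k
  rw [e]

end CfsgLib.CoTwoRec
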