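import Cfsg.Agent.Lib.CoTwoRec.SpWords
import Cfsg.Agent.Lib.ThType.Coords.Clifford
import Cfsg.Agent.Lib.ThType.Perm.Pieces

/-!
# The spin module of the symplectic group of dimension six over two elements

If the product of two non-commuting transvections fixes no nonzero vector, the transvections plus one satisfy
the relations of creation and annihilation, so they and the form are known.
-/

set_option autoImplicit false
set_option maxRecDepth 100000

namespace CfsgLib.CoTwoRec

open CfsgLib.ExtraNine CfsgLib.Schur.Tails.SpSix CfsgLib.ThType.Perm CfsgLib.ThType.Coords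

/-- A transvection on the combinations. -/
def fT (k : Fin 8) (u : ℕ) : ℕ :=
  match k.val with
  | 0 => la 0 u ^^^ u
  | 1 => la 1 u ^^^ u
  | 2 => la 2 u ^^^ u
  | 3 => lb 0 u ^^^ u
  | 4 => lb 1 u ^^^ u
  | 5 => lb 2 u ^^^ u
  | 6 => la 0 u ^^^ la 1 u ^^^ u
  | _ => la 1 u ^^^ la 2 u ^^^ u

/-- The quadratic form on combinations. -/
def qT (m : ℕ) : Bool :=
  (List.range 4).foldl (fun acc U => acc ^^ (m.testBit U && m.testBit (7 - U))) false

/-- The coordinates of the spin module. -/
structure SpinChart {V : Type*} [AddCommGroup V] (S : QV V) (A : Act Sp2 V) where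
  /-- The vector of a combination. -/
  c : ℕ → V
  xor : ∀ m n, c (m ^^^ n) = c m + c n
  inj : ∀ m < 256, ∀ n < 256, c m = c n → m = n
  surj : ∀ x, ∃ m < 256, c m = x
  act : ∀ k, ∀ m < 256, A.σ (tv k) (c m) = c (fT k m)
  form : ∀ m < 256, S.q (c m) = if qT m then 1 else 0
  polar : ∀ m < 256, ∀ n < 256, S.B (c m) (c n) = if beta m n then 1 else 0

theorem qT_polar : ∀ U : Fin 8, ((List.range 256).all fun m =>
    qT (m ^^^ 2 ^ U.val) == ((qT m ^^ qT (2 ^ U.val)) ^^ beta m (2 ^ U.val))) = true := by decide +kernel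

theorem qT_inv : ∀ k : Fin 8, ((List.range 256).all fun m => qT (fT k m) == qT m) = true := by decide +kernel

theorem fT_lt : ∀ k : Fin 8, ((List.range 256).all fun m => Nat.blt (fT k m) 256) = true := by decide +kernel

theorem moved_ok : ∀ U : Fin 8, ∃ k : Fin 8, ∃ W : Fin 8, fT k (2 ^ W.val) ^^^ 2 ^ W.val = 2 ^ U.val := by
  decide +kernel

variable {V : Type*} [AddCommGroup V] {S : QV V} (A : Act Sp2 V)

theorem a_tv_sq (k : Fin 8) : A.a (tv k) * A.a (tv k) = 1 := by rw [← A.a_mul, tv_sq, A.a_one]

variable (hfree : ∀ f, A.σ (tv 0 * tv 3) f = f → f = 0)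
include hfree

theorem anti_adj {k l : Fin 8} (h : adj k l = true) :
    A.a (tv k) * A.a (tv l) + A.a (tv l) * A.a (tv k) = 1 := by
  have hk : ∀ f, A.σ (tv k * tv l) f = f → f = 0 := fun f hf => by
    rw [← tv_conj h] at hf
    have h0 := hfree (A.σ (tvW (conjW k l))⁻¹ f) (by
      conv_rhs => rw [← hf]
      simp only [map_mul, map_inv, Equiv.Perm.mul_apply]
      simp)
    have e : A.σ (tvW (conjW k l)) 0 = 0 := map_zero (A.a _)
    rw [← e, ← h0, map_inv]
    simp
  have hg : tv k * tv l * (tv k * tv l) * (tv k * tv l) = 1 := by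
    rw [← tv_conj h]
    calc _ = tvW (conjW k l) * (tv 0 * tv 3 * (tv 0 * tv 3) * (tv 0 * tv 3)) * (tvW (conjW k l))⁻¹ := by group
      _ = 1 := by rw [tv_cube, mul_one, mul_inv_cancel]
  have hinv : tv l * tv k = tv k * tv l * (tv k * tv l) := by
    have e1 : tv k * tv l * (tv k * tv l) = (tv k * tv l)⁻¹ := eq_inv_of_mul_eq_one_left hg
    rw [e1, mul_inv_rev, inv_eq_of_mul_eq_one_right (tv_sq k), inv_eq_of_mul_eq_one_right (tv_sq l)]
  rw [← A.a_mul (tv k) (tv l), ← A.a_mul (tv l) (tv k), hinv, A.a_mul (tv k * tv l)]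
  set M := A.a (tv k * tv l) with hM
  refine AddMonoidHom.ext fun v => ?_
  have h3 : M (M (M v)) = v := DFunLike.congr_fun (A.a_cube hg) v
  have h0 : M v + M (M v) + v = 0 := hk _ (by
    show M (M v + M (M v) + v) = M v + M (M v) + v
    rw [map_add, map_add, h3]; abel)
  show M v + M (M v) = v
  calc M v + M (M v) = M v + M (M v) + (v + v) := by rw [A.two, add_zero]
    _ = (M v + M (M v) + v) + v := by abel
    _ = v := by rw [h0, zero_add]

omit hfree in
theorem anti_comm {k l : Fin 8} (h : adj k l = false) :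
    A.a (tv k) * A.a (tv l) + A.a (tv l) * A.a (tv k) = 0 := by
  rw [← A.a_mul, ← A.a_mul, tv_comm h, A.two']

/-- A transvection plus one. -/
def Op (k : Fin 8) : AddMonoid.End V := A.a (tv k) + 1

omit hfree in
theorem op_sq (k : Fin 8) : Op A k * Op A k = 0 := by
  simp only [Op, add_mul, mul_add, one_mul, mul_one, a_tv_sq]
  calc (1 : AddMonoid.End V) + A.a (tv k) + (A.a (tv k) + 1)
      = (1 + 1) + (A.a (tv k) + A.a (tv k)) := by abel
    _ = 0 := by rw [A.two', A.two', add_zero]

theorem op_anti (k l : Fin 8) : Op A k * Op A l + Op A l * Op A k = if adj k l then 1 else 0 := by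
  have e : Op A k * Op A l + Op A l * Op A k = A.a (tv k) * A.a (tv l) + A.a (tv l) * A.a (tv k) := by
    simp only [Op, add_mul, mul_add, one_mul, mul_one]
    calc _ = (A.a (tv k) * A.a (tv l) + A.a (tv l) * A.a (tv k)) +
          ((A.a (tv k) + A.a (tv k)) + (A.a (tv l) + A.a (tv l)) + (1 + 1)) := by abel
      _ = _ := by simp only [A.two', add_zero]
  rw [e]
  split_ifs with h
  · exact anti_adj A hfree h
  · exact anti_comm A (by simpa using h)

theorem op_swap (k l : Fin 8) (w : V) :
    Op A k (Op A l w) = Op A l (Op A k w) + if adj k l then w else 0 := by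
  have e := DFunLike.congr_fun (op_anti A hfree k l) w
  change Op A k (Op A l w) + Op A l (Op A k w) = _ at e
  calc Op A k (Op A l w) = Op A k (Op A l w) + (Op A l (Op A k w) + Op A l (Op A k w)) := by rw [A.two, add_zero]
    _ = Op A l (Op A k w) + (Op A k (Op A l w) + Op A l (Op A k w)) := by abel
    _ = _ := by rw [e]; split_ifs <;> rfl

omit hfree

/-- The creators. -/
def Cra (k : Fin 3) : AddMonoid.End V := Op A (k.castLE (by norm_num))

/-- The annihilators. -/
def Ann (k : Fin 3) : AddMonoid.End V := Op A ⟨k.val + 3, by omega⟩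

theorem adj_table : ∀ k l : Fin 3, adj (k.castLE (by norm_num)) (l.castLE (by norm_num)) = false ∧
    adj ⟨k.val + 3, by omega⟩ ⟨l.val + 3, by omega⟩ = false ∧
    adj ⟨k.val + 3, by omega⟩ (l.castLE (by norm_num)) = decide (k = l) := by decide +kernel

theorem adj_67 : ∀ l : Fin 3, adj 6 (l.castLE (by norm_num)) = false ∧
    adj 6 ⟨l.val + 3, by omega⟩ = (decide (l = 0) ^^ decide (l = 1)) ∧ adj 7 (l.castLE (by norm_num)) = false ∧
    adj 7 ⟨l.val + 3, by omega⟩ = (decide (l = 1) ^^ decide (l = 2)) := by decide +kernel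

theorem op_adjoint (hiso : ∀ g, A.σ g ∈ S.Iso) (k : Fin 8) (u w : V) :
    S.B (Op A k u) w = S.B u (Op A k w) := by
  show S.B (A.σ (tv k) u + u) w = S.B u (A.σ (tv k) w + w)
  have e := (QV.iso_B (hiso (tv k)) (A.σ (tv k) u) w).symm
  rw [← Equiv.Perm.mul_apply, ← map_mul, tv_sq, map_one] at e
  rw [S.B_add_left, S.B_add_right, e]
  rfl

include hfree

theorem spinPairs (hiso : ∀ g, A.σ g ∈ S.Iso) : Pairs S (Cra A) (Ann A) := by
  refine ⟨fun k l w => ?_, fun k w => DFunLike.congr_fun (op_sq A _) w, fun k l w => ?_,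
    fun k w => DFunLike.congr_fun (op_sq A _) w, fun k l w => ?_, fun k => op_adjoint A hiso _,
    fun k => op_adjoint A hiso _⟩
  · rw [Cra, Cra, op_swap A hfree, (adj_table k l).1]; simp
  · rw [Ann, Ann, op_swap A hfree, (adj_table k l).2.1]; simp
  · rw [Ann, Cra, op_swap A hfree, (adj_table k l).2.2]; simp

/-- A transvection of the form of two creators agrees with them. -/
theorem op_two (hiso : ∀ g, A.σ g ∈ S.Iso) (hcard : Nat.card V = 256) {v : V} (hv0 : v ≠ 0)
    (hv : ∀ k, Ann A k v = 0) (g : Fin 8) (i j : Fin 3)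
    (hga : ∀ l : Fin 3, adj g (l.castLE (by norm_num)) = false)
    (hgb : ∀ l : Fin 3, adj g ⟨l.val + 3, by omega⟩ = (decide (l = i) ^^ decide (l = j))) (x : V) :
    Op A g x = Cra A i x + Cra A j x := by
  have P := spinPairs A hfree hiso
  let D : AddMonoid.End V := Op A g + Cra A i + Cra A j
  have Da : ∀ l y, D (Cra A l y) = Cra A l (D y) := fun l y => by
    show Op A g (Cra A l y) + Cra A i (Cra A l y) + Cra A j (Cra A l y) =
      Cra A l (Op A g y + Cra A i y + Cra A j y)
    have e : Op A g (Cra A l y) = Cra A l (Op A g y) := by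
      rw [Cra, op_swap A hfree, hga l]; simp
    rw [map_add, map_add, e, P.aa i l, P.aa j l]
  have Db : ∀ l y, D (Ann A l y) = Ann A l (D y) := fun l y => by
    show Op A g (Ann A l y) + Cra A i (Ann A l y) + Cra A j (Ann A l y) =
      Ann A l (Op A g y + Cra A i y + Cra A j y)
    have e : Op A g (Ann A l y) = Ann A l (Op A g y) +
        if (decide (l = i) ^^ decide (l = j)) then y else 0 := by
      rw [Ann, op_swap A hfree, hgb l]
    rw [map_add, map_add, e, P.ba l i, P.ba l j]
    by_cases h1 : l = i <;> by_cases h2 : l = j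
    · subst h1; subst h2
      simp
      have := A.two y
      calc _ = Ann A l (Op A g y) + Cra A l (Ann A l y) + Cra A l (Ann A l y) + (y + y) := by
            rw [this, add_zero]
        _ = _ := by abel
    · subst h1
      simp [h2]
      abel
    · subst h2
      simp [h1]
      abel
    · simp [h1, h2]
  have Dv : D v = 0 := by
    obtain ⟨m, hm, em⟩ := P.phi_surj hv hv0 hcard (D v)
    have hmb : ∀ k, lb k m = 0 := fun k => P.phi_inj hv hv0 (lb_lt k m) (by norm_num) (by
      rw [phi_zero, ← P.b_phi hv, em, ← Db, hv, map_zero])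
    have h01 := List.all_eq_true.1 vac_ok m (List.mem_range.2 hm)
    simp only [hmb, Nat.beq_refl, Bool.and_self, Bool.not_true, Bool.or_false, decide_eq_true_eq] at h01
    rcases Nat.le_one_iff_eq_zero_or_eq_one.1 h01 with rfl | rfl
    · rw [← em, phi_zero]
    exfalso
    have ev : D v = v := by rw [← em, phi_one]
    apply hv0
    have h1 : Op A g v = v + Cra A i v + Cra A j v := by
      calc Op A g v = Op A g v + (Cra A i v + Cra A i v) + (Cra A j v + Cra A j v) := by
            simp only [A.two, add_zero]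
        _ = D v + Cra A i v + Cra A j v := by
            show _ = Op A g v + Cra A i v + Cra A j v + Cra A i v + Cra A j v
            abel
        _ = _ := by rw [ev]
    have h2 : Op A g (Op A g v) = 0 := DFunLike.congr_fun (op_sq A g) v
    have e1 : ∀ l, Op A g (Cra A l v) = Cra A l (Op A g v) := fun l => by
      rw [Cra, op_swap A hfree, hga l]; simp
    rw [h1, map_add, map_add, e1, e1, h1] at h2
    simp only [map_add, P.a2] at h2
    rw [P.aa j i] at h2
    calc v = v + ((Cra A i v + Cra A i v) + (Cra A j v + Cra A j v) +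
          (Cra A i (Cra A j v) + Cra A i (Cra A j v))) := by simp only [A.two, add_zero]
      _ = _ := by rw [← h2]; abel
  have all : ∀ m < 256, D (phi (Cra A) v m) = 0 := fun m _ => by
    have hb : ∀ U, D (bas (Cra A) v U) = 0 := fun U => by
      unfold bas
      split_ifs <;> simp [Da, Dv]
    have : ∀ n, D (lin (bas (Cra A) v) n m) = 0 := by
      intro n
      induction n with
      | zero => simp [lin]
      | succ n ih => rw [lin, map_add, ih, zero_add]; split_ifs <;> simp [hb]
    exact this 8
  obtain ⟨m, hm, rfl⟩ := P.phi_surj hv hv0 hcard x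
  have e : Op A g (phi (Cra A) v m) + Cra A i (phi (Cra A) v m) + Cra A j (phi (Cra A) v m) = 0 := all m hm
  calc _ = Op A g (phi (Cra A) v m) + Cra A i (phi (Cra A) v m) + Cra A j (phi (Cra A) v m) +
        (Cra A i (phi (Cra A) v m) + Cra A j (phi (Cra A) v m)) := by
          conv_lhs => rw [← add_zero (Op A g _), ← A.two (Cra A i (phi (Cra A) v m) + Cra A j (phi (Cra A) v m))]
          abel
    _ = _ := by rw [e, zero_add]

/-- A product of two non-commuting transvections without fixed vectors gives the spin module. -/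
theorem exists_spinChart (hiso : ∀ g, A.σ g ∈ S.Iso) (hcard : Nat.card V = 256) :
    Nonempty (SpinChart S A) := by
  haveI : Finite V := Nat.finite_of_card_ne_zero (by rw [hcard]; norm_num)
  haveI : Nontrivial V := by rw [← Finite.one_lt_card_iff_nontrivial, hcard]; norm_num
  have P := spinPairs A hfree hiso
  obtain ⟨v, hv0, hv⟩ := P.exists_vac
  set c : ℕ → V := phi (Cra A) v with hc
  have cx : ∀ m n, c (m ^^^ n) = c m + c n := phi_xor S v
  have t6 := op_two A hfree hiso hcard hv0 hv 6 0 1 (fun l => (adj_67 l).1) (fun l => (adj_67 l).2.1)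
  have t7 := op_two A hfree hiso hcard hv0 hv 7 1 2 (fun l => (adj_67 l).2.2.1)
    (fun l => (adj_67 l).2.2.2)
  have hact : ∀ k, ∀ m < 256, A.σ (tv k) (c m) = c (fT k m) := fun k m hm => by
    have e : A.σ (tv k) (c m) = Op A k (c m) + c m := by
      show _ = A.σ (tv k) (c m) + c m + c m
      rw [add_assoc, A.two, add_zero]
    rw [e]
    fin_cases k <;> simp only [fT, cx] <;> simp only [hc, ← P.a_phi hv, ← P.b_phi hv]
    · rfl
    · rfl
    · rfl
    · rfl
    · rfl
    · rfl
    · exact congrArg (· + _) (t6 _)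
    · exact congrArg (· + _) (t7 _)
  have hpol : ∀ m < 256, ∀ n < 256, S.B (c m) (c n) = if beta m n then 1 else 0 := fun m hm n hn =>
    P.B_phi hv hv0 hcard hm hn
  let δ : ℕ → ZMod 2 := fun m => S.q (c m) + if qT m then 1 else 0
  have hpow : ∀ U < 8, 2 ^ U < 256 := fun U hU => by
    calc 2 ^ U < 2 ^ 8 := Nat.pow_lt_pow_right (by norm_num) hU
      _ = 256 := by norm_num
  have δadd : ∀ m < 256, ∀ U < 8, δ (m ^^^ 2 ^ U) = δ m + δ (2 ^ U) := fun m hm U hU => by
    have h := List.all_eq_true.1 (qT_polar ⟨U, hU⟩) m (List.mem_range.2 hm)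
    rw [beq_iff_eq] at h
    simp only at h
    have hB := hpol m hm _ (hpow U hU)
    rw [QV.B] at hB
    simp only [δ, cx, h]
    revert hB
    generalize S.q (c m + c (2 ^ U)) = a
    generalize S.q (c m) = b
    generalize S.q (c (2 ^ U)) = d
    generalize qT m = x
    generalize qT (2 ^ U) = y
    generalize beta m (2 ^ U) = z
    revert a b d
    cases x <;> cases y <;> cases z <;> decide
  have δinv : ∀ k, ∀ m < 256, δ (fT k m) = δ m := fun k m hm => by
    have h := List.all_eq_true.1 (qT_inv k) m (List.mem_range.2 hm)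
    rw [beq_iff_eq] at h
    simp only [δ, h, ← hact k m hm]
    rw [(hiso (tv k)).2]
  have δbas : ∀ U < 8, δ (2 ^ U) = 0 := fun U hU => by
    obtain ⟨k, W, e⟩ := moved_ok ⟨U, hU⟩
    simp only at e
    have hf : fT k (2 ^ W.val) < 256 := by
      simpa using List.all_eq_true.1 (fT_lt k) _ (List.mem_range.2 (hpow W W.isLt))
    have := δadd _ hf W W.isLt
    rwa [e, δinv k _ (hpow W W.isLt), CharTwo.add_self_eq_zero] at this
  have δall : ∀ m < 256, δ m = 0 := fun m hm => by
    have key : ∀ n ≤ 8, linN (fun U => 2 ^ U) n m < 256 ∧ δ (linN (fun U => 2 ^ U) n m) = 0 := by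
      intro n
      induction n with
      | zero =>
        intro _
        refine ⟨by simp [linN], ?_⟩
        show S.q (c 0) + _ = 0
        rw [hc, phi_zero, S.q_zero, linN, show qT 0 = false by decide +kernel]
        simp
      | succ n ih =>
        intro hn
        obtain ⟨h1, h2⟩ := ih (by omega)
        rw [linN]
        by_cases hb : m.testBit n = true
        · rw [if_pos hb]
          exact ⟨Nat.xor_lt_two_pow (n := 8) h1 (hpow n (by omega)), by
            rw [δadd _ h1 n (by omega), h2, δbas n (by omega), add_zero]⟩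
        · rw [if_neg hb, Nat.xor_zero]; exact ⟨h1, h2⟩
    have e : ∀ m < 256, linN (fun U => 2 ^ U) 8 m = m := by decide +kernel
    have := (key 8 le_rfl).2
    rwa [e m hm] at this
  exact ⟨⟨c, cx, fun m hm n hn => P.phi_inj hv hv0 hm hn, P.phi_surj hv hv0 hcard, hact,
    fun m hm => CharTwo.add_eq_zero.1 (δall m hm), hpol⟩⟩

end CfsgLib.CoTwoRec
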