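import Cfsg.Agent.Lib.CoTwoRec.Basic
import Cfsg.Agent.Lib.CoTwoRec.SpinModule
import Cfsg.Agent.Lib.ExtraNine.Pair
import Cfsg.Agent.Lib.CoTwoRec.SpPres
import Cfsg.Agent.Lib.CoTwoRec.CoordsTables

/-!
# The complement and the two-group in the model, and the copy of the two-group of the chart

The pairs of the factors of the model and of lifts of the basis of the chart generate a group of order at most
`512`, so it is the graph of an embedding of the two-group into the centraliser of the model.
-/

set_option autoImplicit false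
set_option maxRecDepth 100000

namespace CfsgLib.CoTwoRec

open Cfsg CfsgLib.Rigid CfsgLib.ExtraNine CfsgLib.Schur.Tails.SpSix CfsgLib.ThType.Perm CfsgLib.ThType.Coords

theorem ev_append {M : Type*} [Monoid M] (f : ℕ → M) (u w : List ℕ) : ev f (u ++ w) = ev f u * ev f w := by
  simp [ev]

theorem map_ev {M N : Type*} [Monoid M] [Monoid N] (φ : M →* N) (f : ℕ → M) (w : List ℕ) :
    φ (ev f w) = ev (fun l => φ (f l)) w := by
  rw [ev, map_list_prod, List.map_map]; rfl

/-- The factors of a combination. -/
def pBits (m : ℕ) : List ℕ := ((List.range 8).filter m.testBit).map (8 + ·)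

/-- The image of a factor under a lift. -/
def pW (k : Fin 8) (U : ℕ) : List ℕ :=
  pBits (fT k (2 ^ U)) ++ if pSigns.getD (8 * k.val + U) false then tWord else []

/-- The checks in the model. -/
noncomputable def baseB : Bool :=
  ((List.range 8).all fun k => (List.range 8).all fun U =>
    sameC [k, 8 + U, k] (pW (Fin.ofNat 8 k) U) && (pW (Fin.ofNat 8 k) U).all fun l => Nat.blt l 16) &&
  ((List.range 8).all fun U => (List.range 8).all fun W =>
    sameC [8 + U, 8 + W] ([8 + W, 8 + U] ++ if U + W == 7 then tWord else [])) &&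
  ((List.range 16).all fun l => sameC (tWord ++ [l]) ([l] ++ tWord)) &&
  sameC (tWord ++ tWord) [] && !(eqL (cEv tWord) Co2.data.one) &&
  spRelWords.all (fun w => sameC w [] && w.all fun l => Nat.blt l 8) &&
  sameC (zeroWord.map Fin.val) [0] && tWord.all (fun l => Nat.blt l 16) &&
  (List.range 16).all fun l => sameC [l, l] []

theorem base_ok : baseB = true := by decide +kernel

theorem tWord_lt : ∀ l ∈ tWord, l < 16 := by decide

theorem xm_sq {l : ℕ} (hl : l < 16) : xm l * xm l = 1 :=
  Subtype.ext (by rw [Subgroup.coe_mul, coe_xm hl]; exact letter_mul_self (by omega))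

theorem tm_comm_letter {l : ℕ} (hl : l < 16) : tm * xm l = xm l * tm := by
  have h := base_ok
  simp only [baseB, Bool.and_eq_true, List.all_eq_true, List.mem_range] at h
  have hall : ∀ m, m ∈ tWord ∨ m = l → m < 16 := fun m hm => hm.elim (tWord_lt m) (fun e => e ▸ hl)
  have e := ev_xm_eq (u := tWord ++ [l]) (w := [l] ++ tWord)
    (fun m hm => hall m (by simpa using hm)) (fun m hm => hall m (by simpa [or_comm] using hm)) (h.1.1.1.1.1.1.2 l hl)
  rw [ev_append, ev_append] at e
  simpa [tm, ev] using e

theorem tm_central (x : Cm) : tm * x = x * tm := by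
  have key : ∀ x, ∀ hx : x ∈ Cm, tm * (⟨x, hx⟩ : Cm) = ⟨x, hx⟩ * tm := by
    intro x hx
    induction hx using Subgroup.closure_induction with
    | mem x hx =>
      obtain ⟨l, rfl⟩ := hx
      have e : (⟨letter l, Subgroup.subset_closure ⟨l, rfl⟩⟩ : Cm) = xm l :=
        Subtype.ext (coe_xm l.isLt).symm
      rw [e]; exact tm_comm_letter l.isLt
    | one => exact Commute.one_right tm
    | mul a b ha hb h1 h2 => exact Commute.mul_right (show Commute tm (⟨a, ha⟩ : Cm) from h1) h2
    | inv a ha h1 => exact Commute.inv_right (show Commute tm (⟨a, ha⟩ : Cm) from h1)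
  exact key x.1 x.2

theorem tm_sq : tm * tm = 1 := by
  have h := base_ok
  simp only [baseB, Bool.and_eq_true] at h
  have e := ev_xm_eq (u := tWord ++ tWord) (w := []) (fun m hm => tWord_lt m (by simpa using hm)) (by simp) h.1.1.1.1.1.2
  rw [ev_append] at e
  exact e

theorem tm_ne : tm ≠ 1 := fun e => by
  have h := base_ok
  simp only [baseB, Bool.and_eq_true, Bool.not_eq_true'] at h
  have e' : code (ev letter tWord) = code 1 := by
    rw [← coe_ev_xm tWord_lt, show ev xm tWord = tm from rfl, e]; rfl
  rw [code_ev (fun l hl => (tWord_lt l hl).trans (by norm_num)), code_one] at e'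
  have h' := h.1.1.1.1.2
  rw [e', (eqL_iff _ _).2 rfl] at h'
  exact Bool.noConfusion h'

theorem p_anti {U W : ℕ} (hU : U < 8) (hW : W < 8) :
    xm (8 + U) * xm (8 + W) = xm (8 + W) * xm (8 + U) * if U + W = 7 then tm else 1 := by
  have h := base_ok
  simp only [baseB, Bool.and_eq_true, List.all_eq_true, List.mem_range] at h
  have e := ev_xm_eq (u := [8 + U, 8 + W]) (w := [8 + W, 8 + U] ++ if U + W == 7 then tWord else [])
    (by intro l hl; simp at hl; omega)
    (fun l hl => by
      rcases List.mem_append.1 hl with hl | hl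
      · simp at hl; omega
      · split at hl
        · exact tWord_lt l hl
        · simp at hl)
    (h.1.1.1.1.1.1.1.2 U hU W hW)
  rw [ev_append] at e
  by_cases h7 : U + W = 7 <;> simpa [h7, ev, tm, mul_assoc] using e

theorem pW_lt {U : ℕ} (hU : U < 8) (k : Fin 8) : ∀ l ∈ pW k U, l < 16 := by
  have h := base_ok
  simp only [baseB, Bool.and_eq_true, List.all_eq_true, List.mem_range, Nat.blt_eq] at h
  have := (h.1.1.1.1.1.1.1.1 k.val k.isLt U hU).2
  rwa [show Fin.ofNat 8 k.val = k from Fin.ext (Nat.mod_eq_of_lt k.isLt)] at this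

theorem p_conj {U : ℕ} (hU : U < 8) (k : Fin 8) :
    xm k.val * xm (8 + U) * xm k.val = ev xm (pW k U) := by
  have h := base_ok
  simp only [baseB, Bool.and_eq_true, List.all_eq_true, List.mem_range] at h
  have h1 := (h.1.1.1.1.1.1.1.1 k.val k.isLt U hU).1
  rw [show Fin.ofNat 8 k.val = k from Fin.ext (Nat.mod_eq_of_lt k.isLt)] at h1
  have e := ev_xm_eq (u := [k.val, 8 + U, k.val]) (w := pW k U)
    (by intro l hl; simp at hl; omega) (pW_lt hU k) h1
  rw [← e]
  simp [ev, mul_assoc]

theorem exists_cmY : ∃ φ : Sp2 →* Cm, ∀ k : Fin 8, φ (tv k) = xm k := by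
  have h := base_ok
  simp only [baseB, Bool.and_eq_true, List.all_eq_true, Nat.blt_eq] at h
  obtain ⟨φ, hφ⟩ := exists_hom_sp (f := fun l => xm l) fun w hw => by
    obtain ⟨h1, h2⟩ := h.1.1.1.2 w hw
    exact ev_xm_eq (fun l hl => (h2 l hl).trans (by norm_num)) (by simp) h1
  refine ⟨φ, fun k => ?_⟩
  by_cases hk : k = 0
  · subst hk
    have hz := zeroWord_ok
    simp only [Bool.and_eq_true, List.all_eq_true, bne_iff_ne] at hz
    rw [← tvW_single, ← tvW_eq hz.1, tvW, map_list_prod, List.map_map]
    have e := ev_xm_eq (u := zeroWord.map Fin.val) (w := [0])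
      (fun l hl => by obtain ⟨a, -, rfl⟩ := List.mem_map.1 hl; omega) (by simp) h.1.1.2
    rw [show ev xm [0] = xm 0 by simp [ev]] at e
    rw [show ((0 : Fin 8) : ℕ) = 0 from rfl, ← e, ev, List.map_map]
    exact congrArg List.prod (List.map_congr_left fun a ha => hφ a (hz.2 a ha))
  · exact hφ k hk

/-- The complement of the model. -/
noncomputable def cmY : Sp2 →* Cm := exists_cmY.choose

theorem cmY_tv (k : Fin 8) : cmY (tv k) = xm k := exists_cmY.choose_spec k

/-- Involutions commuting up to a central involution generate a small group. -/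
theorem card_closure_invol {M : Type*} [Group M] {z : M} (hz : z * z = 1) : ∀ l : List M,
    (∀ x ∈ l, x * x = 1 ∧ z * x = x * z) → (∀ x ∈ l, ∀ y ∈ l, x * y = y * x ∨ x * y = y * x * z) →
    Finite (Subgroup.closure ({m | m = z ∨ m ∈ l})) ∧
      Nat.card (Subgroup.closure ({m | m = z ∨ m ∈ l})) ≤ 2 ^ (l.length + 1)
  | [], _, _ => by
    have e : ({m | m = z ∨ m ∈ ([] : List M)}) = {z} := by ext m; simp
    rw [e, ← Subgroup.zpowers_eq_closure]
    have hfo : IsOfFinOrder z := isOfFinOrder_iff_pow_eq_one.2 ⟨2, two_pos, by rw [pow_two]; exact hz⟩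
    refine ⟨Nat.finite_of_card_ne_zero ?_, ?_⟩
    · rw [Nat.card_zpowers]; exact hfo.orderOf_pos.ne'
    · rw [Nat.card_zpowers]
      exact (orderOf_le_of_pow_eq_one two_pos (by rw [pow_two]; exact hz)).trans (by simp)
  | a :: l, h1, h2 => by
    obtain ⟨hf, hc⟩ := card_closure_invol hz l (fun x hx => h1 x (List.mem_cons_of_mem _ hx))
      (fun x hx y hy => h2 x (List.mem_cons_of_mem _ hx) y (List.mem_cons_of_mem _ hy))
    set H := Subgroup.closure ({m | m = z ∨ m ∈ l}) with hH
    have ha := h1 a List.mem_cons_self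
    have hzH : z ∈ H := Subgroup.subset_closure (Or.inl rfl)
    have hconj : ∀ x ∈ H, a * x * a ∈ H := fun x hx => by
      induction hx using Subgroup.closure_induction with
      | mem x hx =>
        rcases hx with rfl | hx
        · rw [← ha.2, mul_assoc, ha.1, mul_one]; exact hzH
        · rcases h2 a List.mem_cons_self x (List.mem_cons_of_mem _ hx) with e | e
          · rw [e, mul_assoc, ha.1, mul_one]; exact Subgroup.subset_closure (Or.inr hx)
          · rw [e, mul_assoc _ z a, ha.2, ← mul_assoc, mul_assoc x a a, ha.1, mul_one]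
            exact H.mul_mem (Subgroup.subset_closure (Or.inr hx)) hzH
      | one => rw [mul_one, ha.1]; exact H.one_mem
      | mul x y _ _ hx hy =>
        rw [show a * (x * y) * a = (a * x * a) * (a * y * a) by
          calc a * (x * y) * a = a * x * (a * a) * (y * a) := by rw [ha.1]; group
            _ = _ := by group]
        exact H.mul_mem hx hy
      | inv x _ hx =>
        rw [show a * x⁻¹ * a = (a * x * a)⁻¹ by
          rw [mul_inv_rev, mul_inv_rev, inv_eq_of_mul_eq_one_right ha.1, mul_assoc]]
        exact H.inv_mem hx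
    let K : Subgroup M :=
      { carrier := {x | x ∈ H ∨ a * x ∈ H}
        one_mem' := Or.inl H.one_mem
        mul_mem' := by
          rintro x y (hx | hx) (hy | hy)
          · exact Or.inl (H.mul_mem hx hy)
          · refine Or.inr ?_
            rw [show a * (x * y) = (a * x * a) * (a * y) by
              calc a * (x * y) = a * x * ((a * a) * y) := by rw [ha.1, one_mul, mul_assoc]
                _ = _ := by group]
            exact H.mul_mem (hconj x hx) hy
          · refine Or.inr ?_
            rw [← mul_assoc]; exact H.mul_mem hx hy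
          · refine Or.inl ?_
            rw [show x * y = (a * (a * x) * a) * (a * y) by
              calc x * y = (a * a) * x * ((a * a) * y) := by rw [ha.1, one_mul, one_mul]
                _ = _ := by group]
            exact H.mul_mem (hconj _ hx) hy
        inv_mem' := by
          rintro x (hx | hx)
          · exact Or.inl (H.inv_mem hx)
          · refine Or.inr ?_
            rw [show a * x⁻¹ = a * (a * x)⁻¹ * a by
              rw [mul_inv_rev]
              calc a * x⁻¹ = a * x⁻¹ * (a⁻¹ * a) := by group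
                _ = _ := by group]
            exact hconj _ (H.inv_mem hx) }
    have hle : Subgroup.closure ({m | m = z ∨ m ∈ a :: l}) ≤ K := (Subgroup.closure_le _).2 <| by
      rintro x (rfl | hx)
      · exact Or.inl hzH
      · rcases List.mem_cons.1 hx with rfl | hx
        · exact Or.inr (by rw [ha.1]; exact H.one_mem)
        · exact Or.inl (Subgroup.subset_closure (Or.inr hx))
    classical
    let ψ : K → Bool × H := fun x => if hx : (x : M) ∈ H then (true, ⟨x, hx⟩) else
      (false, ⟨a * x, x.2.resolve_left hx⟩)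
    have hψ : Function.Injective ψ := by
      intro x y e
      simp only [ψ] at e
      split_ifs at e with hx hy hy
      · exact Subtype.ext (congrArg (fun p : Bool × H => (p.2 : M)) e)
      · exact Bool.noConfusion (congrArg Prod.fst e)
      · exact Bool.noConfusion (congrArg Prod.fst e)
      · exact Subtype.ext (mul_left_cancel (congrArg (fun p : Bool × H => (p.2 : M)) e))
    have : Finite K := Finite.of_injective ψ hψ
    refine ⟨Finite.of_injective _ (Subgroup.inclusion_injective hle), ?_⟩
    calc _ ≤ Nat.card K := Nat.card_le_card_of_injective _ (Subgroup.inclusion_injective hle)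
      _ ≤ Nat.card (Bool × H) := Nat.card_le_card_of_injective ψ hψ
      _ ≤ _ := by
        rw [Nat.card_prod, List.length_cons, pow_succ']
        rw [Nat.card_eq_fintype_card (α := Bool), Fintype.card_bool]
        exact Nat.mul_le_mul_left 2 hc

variable {G : Type*} [Group G] {V : Type*} [AddCommGroup V] {N : Nine G V}

/-- The two-group in the centraliser of the model, matching lifts of the basis of the chart. -/
structure Copy {A : Act Sp2 V} (Sp : SpinChart N.S A) where
  a : ℕ → ↥N.Q
  π_a : ∀ U < 8, N.π (a U) = Sp.c (2 ^ U)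
  ν : ↥N.Q →* Cm
  inj : Function.Injective ν
  ν_a : ∀ U < 8, ν (a U) = xm (8 + U)
  ν_z : ν ⟨N.z, N.z_mem⟩ = tm
  gen : Subgroup.closure (insert (⟨N.z, N.z_mem⟩ : ↥N.Q) {x | ∃ U < 8, a U = x}) = ⊤

theorem exists_copy [Finite G] {A : Act Sp2 V} (Sp : SpinChart N.S A) : Nonempty (Copy Sp) := by
  classical
  have hp : ∀ i : ℕ, ∃ a : ↥N.Q, N.π a = Sp.c (2 ^ i) := fun i => N.surj _
  choose a ha using hp
  have hlt : ∀ U < 8, 2 ^ U < 256 := fun U hU => (Nat.pow_lt_pow_right (by norm_num) hU : 2 ^ U < 2 ^ 8)
  have c0 : Sp.c 0 = 0 := by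
    have h := Sp.xor 0 0
    rw [Nat.xor_self] at h
    exact add_eq_left.1 h.symm
  set zQ : ↥N.Q := ⟨N.z, N.z_mem⟩ with hzQ
  have zc : ∀ x : ↥N.Q, zQ * x = x * zQ := fun x => Subtype.ext (N.z_comm x.2).symm
  have z2 : zQ * zQ = 1 := Subtype.ext N.zz
  have asq : ∀ U < 8, a U * a U = 1 := fun U hU => Subtype.ext (by
    rw [Subgroup.coe_mul, N.sq, ha, Sp.form _ (hlt U hU)]
    have : ∀ U < 8, qT (2 ^ U) = false := by decide +kernel
    simp [this U hU])
  have aanti : ∀ U < 8, ∀ W < 8, a U * a W = a W * a U * if U + W = 7 then zQ else 1 := by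
    intro U hU W hW
    have e := N.comm (a U) (a W)
    rw [ha, ha, Sp.polar _ (hlt U hU) _ (hlt W hW), beta_table U hU W hW] at e
    apply Subtype.ext
    by_cases h7 : U + W = 7
    · simp only [h7, decide_true, if_true, if_neg (show (1 : ZMod 2) ≠ 0 by decide)] at e ⊢
      have e' : (a U : G) * a W = N.z * ((a W : G) * a U) := by rw [← e]; group
      show (a U : G) * a W = (a W : G) * a U * N.z
      rw [e']; exact (N.z_comm (a W * a U : ↥N.Q).2).symm
    · simp only [h7, decide_false, if_false, Bool.false_eq_true, if_true] at e ⊢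
      show (a U : G) * a W = (a W : G) * a U * 1
      rw [mul_one]
      exact mul_inv_eq_iff_eq_mul.1 (mul_inv_eq_one.1 e)
  set zp : Cm × ↥N.Q := (tm, zQ) with hzp
  set gens : List (Cm × ↥N.Q) := (List.range 8).map fun U => (xm (8 + U), a U) with hgens
  set D := Subgroup.closure ({m | m = zp ∨ m ∈ gens}) with hD
  obtain ⟨hfin, hcard⟩ := card_closure_invol (z := zp) (Prod.ext tm_sq z2) gens
    (fun x hx => by
      obtain ⟨U, hU, rfl⟩ := List.mem_map.1 hx
      rw [List.mem_range] at hU
      exact ⟨Prod.ext (xm_sq (by omega)) (asq U hU), Prod.ext (tm_central _) (zc _)⟩)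
    (fun x hx y hy => by
      obtain ⟨U, hU, rfl⟩ := List.mem_map.1 hx
      obtain ⟨W, hW, rfl⟩ := List.mem_map.1 hy
      rw [List.mem_range] at hU hW
      have e1 := p_anti hU hW
      have e2 := aanti U hU W hW
      by_cases h7 : U + W = 7
      · rw [if_pos h7] at e1 e2; exact Or.inr (Prod.ext e1 e2)
      · rw [if_neg h7, mul_one] at e1 e2; exact Or.inl (Prod.ext e1 e2))
  rw [← hD] at hcard hfin
  rw [hgens, List.length_map, List.length_range] at hcard
  let S := Subgroup.closure (insert zQ {x | ∃ U < 8, a U = x})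
  have hS : S = ⊤ := by
    rw [eq_top_iff]
    intro x _
    obtain ⟨m, hm, e⟩ := Sp.surj (N.π x)
    have key : ∀ n ≤ 8, ∃ y ∈ S, N.π y = Sp.c (linN (fun U => 2 ^ U) n m) := by
      intro n
      induction n with
      | zero => exact fun _ => ⟨1, S.one_mem, by rw [linN, c0]; exact N.π_one⟩
      | succ n ih =>
        intro hn
        obtain ⟨y, hy, e⟩ := ih (by omega)
        rw [linN]
        by_cases hb : m.testBit n = true
        · exact ⟨y * a n, S.mul_mem hy (Subgroup.subset_closure (Or.inr ⟨n, by omega, rfl⟩)),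
            by rw [N.π_mul, e, ha, if_pos hb, Sp.xor]⟩
        · exact ⟨y, hy, by rw [e, if_neg hb, Nat.xor_zero]⟩
    obtain ⟨y, hy, e'⟩ := key 8 le_rfl
    have eid : ∀ m < 256, linN (fun U => 2 ^ U) 8 m = m := by decide +kernel
    rw [eid m hm, e] at e'
    rcases N.π_eq e' with h | h
    · rwa [Subtype.ext h]
    · rw [show x = y * zQ from Subtype.ext h]
      exact S.mul_mem hy (Subgroup.subset_closure (Or.inl rfl))
  let π2 : D →* ↥N.Q := (MonoidHom.snd Cm ↥N.Q).comp D.subtype
  have hsurj : Function.Surjective π2 := by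
    rw [← MonoidHom.range_eq_top, eq_top_iff, ← hS, Subgroup.closure_le]
    rintro x (rfl | ⟨U, hU, rfl⟩)
    · exact ⟨⟨zp, Subgroup.subset_closure (Or.inl rfl)⟩, rfl⟩
    · exact ⟨⟨_, Subgroup.subset_closure (Or.inr (List.mem_map.2 ⟨U, List.mem_range.2 hU, rfl⟩))⟩, rfl⟩
  have hinj : Function.Injective π2 := by
    have h1 := Nat.card_le_card_of_surjective π2 hsurj
    rw [N.card] at h1
    exact ((Nat.bijective_iff_surjective_and_card π2).2 ⟨hsurj, by rw [N.card]; omega⟩).1
  let e := (MulEquiv.ofBijective π2 ⟨hinj, hsurj⟩).symm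
  let ν : ↥N.Q →* Cm := (MonoidHom.fst Cm ↥N.Q).comp (D.subtype.comp e.toMonoidHom)
  have hν : ∀ (c : Cm) (q : ↥N.Q), (c, q) ∈ D → ν q = c := fun c q h => by
    show (e q : Cm × ↥N.Q).1 = c
    rw [show e q = ⟨(c, q), h⟩ from (MulEquiv.symm_apply_eq _).2 rfl]
  have νz : ν zQ = tm := hν _ _ (Subgroup.subset_closure (Or.inl rfl))
  refine ⟨⟨a, fun U _ => ha U, ν, ?_, fun U hU => hν _ _ (Subgroup.subset_closure
    (Or.inr (List.mem_map.2 ⟨U, List.mem_range.2 hU, rfl⟩))), νz, hS⟩⟩
  rw [injective_iff_map_eq_one]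
  intro x hx
  by_contra hne
  have hz0 : x ≠ zQ := fun h => tm_ne (by rw [← νz, ← h]; exact hx)
  obtain ⟨m, hm, e'⟩ := Sp.surj (N.π x)
  have hm0 : m ≠ 0 := fun h => by
    rw [h, c0] at e'
    rcases (N.ker_iff x).1 e'.symm with h' | h'
    · exact hne (Subtype.ext h')
    · exact hz0 (Subtype.ext h')
  obtain ⟨U, hU, hb⟩ : ∃ U < 8, beta m (2 ^ U) = true := by
    have : ∀ m < 256, m ≠ 0 → ∃ U < 8, beta m (2 ^ U) = true := by decide +kernel
    exact this m hm hm0
  have hc := N.comm x (a U)
  rw [← e', ha, Sp.polar _ hm _ (hlt U hU), hb, if_pos rfl, if_neg (by decide)] at hc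
  have : ν (x * a U * x⁻¹ * (a U)⁻¹) = ν zQ := congrArg ν (Subtype.ext hc)
  rw [map_mul, map_mul, map_mul, map_inv, hx, νz, one_mul, inv_one, mul_one, map_inv, mul_inv_cancel] at this
  exact tm_ne this.symm

end CfsgLib.CoTwoRec
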