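import Mathlib

/-!
# A triangle relator substituted into itself
-/

set_option autoImplicit false

namespace CfsgLib.CoTwoRec

variable {M : Type*} [Group M] {n a₁ a₂ a₃ : M}

/-- A triangle, read as a substitution. -/
theorem sub_step (hn : n * n = 1) (hT : n * a₁ * n * a₂ * n * a₃ = 1) {x y X Y : M} (hx : n * x * n = X)
    (hy : n * y * n = Y) : n * (x * a₁ * y) * n = X * a₃⁻¹ * n * (a₂⁻¹ * Y) := by
  have hni : n⁻¹ = n := inv_eq_of_mul_eq_one_right hn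
  have hs : n * a₁ * n = a₃⁻¹ * n * a₂⁻¹ :=
    calc n * a₁ * n = (n * a₁ * n * a₂ * n * a₃) * a₃⁻¹ * n⁻¹ * a₂⁻¹ := by group
      _ = a₃⁻¹ * n * a₂⁻¹ := by rw [hT, one_mul, hni]
  calc n * (x * a₁ * y) * n = (n * x * n⁻¹) * (n * a₁ * n) * (n⁻¹ * y * n) := by group
    _ = (n * x * n) * (n * a₁ * n) * (n * y * n) := by rw [hni]
    _ = X * a₃⁻¹ * n * (a₂⁻¹ * Y) := by rw [hx, hy, hs]; group

/-- A triangle substituted three times into itself. -/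
theorem sub_loop (hn : n * n = 1) (hT : n * a₁ * n * a₂ * n * a₃ = 1)
    {u d₁ d₂ e₁ e₂ f₁ f₂ s D₁ D₂ E₁ E₂ F₁ F₂ S : M}
    (h1 : n * d₁ * n = D₁) (h2 : n * d₂ * n = D₂) (h3 : n * e₁ * n = E₁) (h4 : n * e₂ * n = E₂)
    (h5 : n * f₁ * n = F₁) (h6 : n * f₂ * n = F₂) (h7 : n * s * n = S)
    (c1 : u * a₁ = d₁ * a₁ * d₂) (c2 : D₂ * a₂ = a₂ * (e₁ * a₁ * e₂)) (c3 : E₂ * a₃ = a₂ * (f₁ * a₁ * f₂))
    (c4 : u * F₂⁻¹ * a₂ = s) : S = D₁ * a₃⁻¹ * E₁ * a₃⁻¹ * F₁ * a₃⁻¹ := by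
  have hni : n⁻¹ = n := inv_eq_of_mul_eq_one_right hn
  have q1 : a₂⁻¹ * D₂ * a₂ = e₁ * a₁ * e₂ := by rw [mul_assoc, c2, inv_mul_cancel_left]
  have q2 : a₂⁻¹ * E₂ * a₃ = f₁ * a₁ * f₂ := by rw [mul_assoc, c3, inv_mul_cancel_left]
  have e : n * u = D₁ * a₃⁻¹ * E₁ * a₃⁻¹ * F₁ * a₃⁻¹ * n * (a₂⁻¹ * F₂) :=
    calc n * u = n * u * n⁻¹ * (n * a₁ * n * a₂ * n * a₃) * n := by rw [hT, mul_one, inv_mul_cancel_right]
      _ = n * (u * a₁) * n * a₂ * n * a₃ * n := by group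
      _ = D₁ * a₃⁻¹ * (n * (a₂⁻¹ * D₂ * a₂) * n) * a₃ * n := by rw [c1, sub_step hn hT h1 h2]; group
      _ = D₁ * a₃⁻¹ * E₁ * a₃⁻¹ * (n * (a₂⁻¹ * E₂ * a₃) * n) := by rw [q1, sub_step hn hT h3 h4]; group
      _ = _ := by rw [q2, sub_step hn hT h5 h6]; group
  calc S = n * s * n := h7.symm
    _ = n * u * (F₂⁻¹ * a₂ * n) := by rw [← c4]; group
    _ = D₁ * a₃⁻¹ * E₁ * a₃⁻¹ * F₁ * a₃⁻¹ * (n * n) := by rw [e]; group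
    _ = _ := by rw [hn, mul_one]

/-- A triangle compared with its rotation. -/
theorem sub_two (hn : n * n = 1) (hT : n * a₁ * n * a₂ * n * a₃ = 1) {c p q d₁ d₂ s D₁ D₂ S : M}
    (hc : n * c * n = p * n * q) (h1 : n * d₁ * n = D₁) (h2 : n * d₂ * n = D₂) (h3 : n * s * n = S)
    (c1 : c = d₁ * a₁ * d₂) (c2 : p * s = D₁ * a₃⁻¹) : q = S * a₂⁻¹ * D₂ := by
  have hni : n⁻¹ = n := inv_eq_of_mul_eq_one_right hn
  have h4 : p * n * q = D₁ * a₃⁻¹ * n * (a₂⁻¹ * D₂) := by rw [← hc, c1, sub_step hn hT h1 h2]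
  calc q = n⁻¹ * p⁻¹ * (p * n * q) := by group
    _ = n⁻¹ * (p⁻¹ * (D₁ * a₃⁻¹)) * n * (a₂⁻¹ * D₂) := by rw [h4]; group
    _ = n * s * n * (a₂⁻¹ * D₂) := by rw [← c2, inv_mul_cancel_left, hni]
    _ = _ := by rw [h3]; group

/-- The two further forms of a triangle. -/
theorem sub_forms (hn : n * n = 1) (hT : n * a₁ * n * a₂ * n * a₃ = 1) :
    n * a₂ * n = a₁⁻¹ * n * a₃⁻¹ ∧ n * a₁⁻¹ * n = a₂ * n * a₃ := by
  have hni : n⁻¹ = n := inv_eq_of_mul_eq_one_right hn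
  constructor
  · calc n * a₂ * n = a₁⁻¹ * n⁻¹ * (n * a₁ * n * a₂ * n * a₃) * a₃⁻¹ := by group
      _ = a₁⁻¹ * n * a₃⁻¹ := by rw [hT, mul_one, hni]
  · calc n * a₁⁻¹ * n = n⁻¹ * a₁⁻¹ * n⁻¹ * (n * a₁ * n * a₂ * n * a₃) := by rw [hT, mul_one, hni]
      _ = a₂ * n * a₃ := by group

end CfsgLib.CoTwoRec
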