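import Cfsg.Agent.Lib.CoTwoRec.RelSwap
import Cfsg.Agent.Lib.CoTwoRec.RelSub

/-!
# The relators hold beside the centraliser

An involution exchanging the pair and inducing the listed map on its centraliser satisfies the triangle relator up
to one of sixteen variants, and fifteen of these collapse against the substituted triangle.
-/

set_option autoImplicit false
set_option maxRecDepth 100000

namespace CfsgLib.CoTwoRec.Rel

open CfsgLib.CoTwoRec

/-- The conjugation relators in extended letters. -/
noncomputable def conjB : Bool :=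
  (List.range 6).all fun l =>
    decide (wordX (16 + l) = dWords.getD l []) && eqX (dImgs.getD l []) (imgL (16 + l))

theorem conj_ok : conjB = true ∧ dWords.length = 6 := by decide +kernel

/-- The routes fix the listed involutions, which contain the bases. -/
noncomputable def routeB : Bool :=
  (routeTab.all fun r =>
    pairW r.2.1 && pairW r.2.2.1 && pairW r.2.2.2 && eqX r.2.1 [r.1] &&
      eqX (triSeg.2.1 ++ sigW r.2.1) (r.2.2.1 ++ triSeg.2.1) &&
      eqX (triSeg.1 ++ sigW r.2.2.1) (r.2.2.2 ++ triSeg.1) &&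
      eqX (triSeg.2.2 ++ sigW r.2.2.2) (r.2.1 ++ triSeg.2.2)) &&
  ([[22], [23], lev1.base, lev2.base, lev3.base, lev4.base].all fun b => routeTab.any fun r => decide ([r.1] = b)) &&
  (List.range 16).all fun b => eqX (zWord b ++ zWord b) []

theorem route_ok : routeB = true := by decide +kernel

/-- The third segment of a variant and its inverse. -/
noncomputable def segV (b : ℕ) : List ℕ := zWord b ++ triSeg.2.2

/-- The inverse of the third segment of a variant. -/
noncomputable def segI (b : ℕ) : List ℕ := triSeg.2.2.reverse ++ zWord b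

/-- The refutation of a wrong variant. -/
noncomputable def killB (e : ℕ × ℕ × List (List ℕ)) : Bool :=
  let b := e.1
  let ws := e.2.2
  let w := fun i => ws.getD i []
  if Nat.beq e.2.1 2 then
    (List.range 7).all (fun i => pairW (w i)) &&
      eqX (w 6 ++ triSeg.2.1.reverse ++ sigW (w 5) ++ triSeg.1) (w 0 ++ triSeg.1 ++ w 1) &&
      eqX (sigW (w 1) ++ triSeg.2.1) (triSeg.2.1 ++ (w 2 ++ triSeg.1 ++ w 3)) &&
      eqX (sigW (w 3) ++ segV b) (triSeg.2.1 ++ (w 4 ++ triSeg.1 ++ w 5)) &&
      !eqX (sigW (w 6)) (sigW (w 0) ++ segI b ++ sigW (w 2) ++ segI b ++ sigW (w 4) ++ segI b)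
  else
    let c := if Nat.beq e.2.1 0 then triSeg.2.1 else triSeg.1.reverse
    let p := if Nat.beq e.2.1 0 then triSeg.1.reverse else triSeg.2.1
    let q := if Nat.beq e.2.1 0 then segI b else segV b
    (List.range 3).all (fun i => pairW (w i)) &&
      eqX c (w 0 ++ triSeg.1 ++ w 1) &&
      eqX (p ++ w 2) (sigW (w 0) ++ segI b) &&
      !eqX q (sigW (w 2) ++ triSeg.2.1.reverse ++ sigW (w 1))

/-- All wrong variants are refuted. -/
noncomputable def killsB : Bool :=
  killTab.all killB && (List.range 16).all fun b => Nat.beq b 0 || killTab.any fun e => Nat.beq e.1 b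

theorem kills_ok : killsB = true := by decide +kernel

theorem zWord_zero : zWord 0 = [] := by decide +kernel

variable {G : Type*} [Group G] {t : G} {co : Coord t} {n : G}

theorem gl_raw : ∀ {w : List ℕ}, (∀ a ∈ w, a < 16) → ev (gl co.iota n) w = co.iota (wp fX w)
  | [], _ => by simp [ev, wp]
  | a :: w, h => by
    rw [show ev (gl co.iota n) (a :: w) = gl co.iota n a * ev (gl co.iota n) w by simp [ev],
      gl_raw fun b hb => h b (List.mem_cons_of_mem _ hb), show wp fX (a :: w) = fX a * wp fX w by simp [wp],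
      map_mul, fX_letter (h a List.mem_cons_self), gl, if_pos (h a List.mem_cons_self)]

theorem seg_lt : ∀ a ∈ triSeg.1 ++ triSeg.2.1 ++ triSeg.2.2, a < 16 := by decide +kernel

theorem raw_inv {w : List ℕ} (h : ∀ a ∈ w, a < 16) :
    co.iota (wp fX w.reverse) = (co.iota (wp fX w))⁻¹ := by
  rw [wp_reverse fun a ha => raw_sq (h a ha), map_inv]

theorem gl_n : gl co.iota n 16 = n := by simp [gl]

theorem ev_cons16 (w : List ℕ) : ev (gl co.iota n) (16 :: w) = n * ev (gl co.iota n) w := by
  rw [show ev (gl co.iota n) (16 :: w) = gl co.iota n 16 * ev (gl co.iota n) w by simp [ev], gl_n]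

theorem ev_app (u w : List ℕ) : ev (gl co.iota n) (u ++ w) = ev (gl co.iota n) u * ev (gl co.iota n) w := by
  simp [ev]

variable (hn : n * n = 1) (hσ : ∀ a, 16 ≤ a → a < 24 → Imag co.iota n (fX a) (wp fX (imgL a)))

include hn hσ

theorem conj_pair {w : List ℕ} (hw : pairW w = true) :
    n * co.iota (wp fX w) * n = co.iota (wp fX (sigW w)) := by
  have h := imag_sigW hσ (pairW_spec hw)
  rw [Imag, inv_eq_of_mul_eq_one_right hn] at h
  exact h.symm

theorem triangle : ∃ b < 16,
    n * co.iota (wp fX triSeg.1) * n * co.iota (wp fX triSeg.2.1) * n * co.iota (wp fX (segV b)) = 1 := by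
  have hr := route_ok
  simp only [routeB, Bool.and_eq_true, List.all_eq_true, List.any_eq_true, decide_eq_true_eq, List.mem_range] at hr
  obtain ⟨⟨hroute, hbase⟩, hz⟩ := hr
  set m := n * co.iota (wp fX triSeg.1) * n * co.iota (wp fX triSeg.2.1) * n with hm
  have hni : n⁻¹ = n := inv_eq_of_mul_eq_one_right hn
  have comm : ∀ b ∈ [[22], [23], lev1.base, lev2.base, lev3.base, lev4.base],
      Commute (co.iota (wp fX triSeg.2.2) * m) (co.iota (wp fX b)) := by
    intro b hb
    obtain ⟨r, hr, rfl⟩ := hbase b hb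
    obtain ⟨⟨⟨⟨⟨⟨p0, p1⟩, p2⟩, e0⟩, e1⟩, e2⟩, e3⟩ := hroute r hr
    rw [← eq_of_eqX e0]
    have q1 := congrArg co.iota (eq_of_eqX e1)
    have q2 := congrArg co.iota (eq_of_eqX e2)
    have q3 := congrArg co.iota (eq_of_eqX e3)
    simp only [wp_append, map_mul] at q1 q2 q3
    rw [← conj_pair hn hσ p0] at q1
    rw [← conj_pair hn hσ p1] at q2
    rw [← conj_pair hn hσ p2] at q3
    set a1 := co.iota (wp fX triSeg.1)
    set a2 := co.iota (wp fX triSeg.2.1)
    set a3 := co.iota (wp fX triSeg.2.2)
    set x0 := co.iota (wp fX r.2.1)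
    set x1 := co.iota (wp fX r.2.2.1)
    set x2 := co.iota (wp fX r.2.2.2)
    show a3 * m * x0 = x0 * (a3 * m)
    calc a3 * m * x0 = a3 * n * a1 * n * (a2 * (n * x0 * n)) * n⁻¹ := by rw [hm]; group
      _ = a3 * n * (a1 * (n * x1 * n)) * n⁻¹ * a2 * n⁻¹ := by rw [q1]; group
      _ = a3 * (n * x2 * n) * n⁻¹ * a1 * n⁻¹ * a2 * n⁻¹ := by rw [q2]; group
      _ = x0 * (a3 * m) := by rw [q3, hm, hni]; group
  obtain ⟨c, hc⟩ := exists_pre co (y := co.iota (wp fX triSeg.2.2) * m) (by
    have := comm [22] (by simp)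
    rwa [show wp fX [22] = fX 22 by simp [wp], fX_tm, co.map_t] at this)
  have hcb : ∀ b ∈ [[22], [23], lev1.base, lev2.base, lev3.base, lev4.base], Commute c (wp fX b) := fun b hb =>
    co.inj (by rw [map_mul, map_mul, hc]; exact (comm b hb).eq)
  obtain ⟨b, hb, rfl⟩ := cent_triangle (c := c) (by
      have := hcb [23] (by simp)
      rwa [show wp fX [23] = fX 23 by simp [wp], fX_nbr] at this) (fun L hL => hcb _ (by
      simp only [List.mem_cons, List.not_mem_nil, or_false] at hL
      rcases hL with rfl | rfl | rfl | rfl <;> simp))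
  refine ⟨b, hb, ?_⟩
  have hzz := congrArg co.iota (eq_of_eqX (hz b hb))
  rw [wp_append, map_mul, wp_nil, map_one] at hzz
  rw [segV, wp_append, map_mul]
  refine mul_eq_one_comm.1 ?_
  rw [mul_assoc, ← hc, hzz]

theorem triangle_first (b : ℕ) (hb : b < 16)
    (hT : n * co.iota (wp fX triSeg.1) * n * co.iota (wp fX triSeg.2.1) * n * co.iota (wp fX (segV b)) = 1) :
    b = 0 := by
  by_contra hb0
  have hk := kills_ok
  simp only [killsB, Bool.and_eq_true, List.all_eq_true, List.mem_range, Bool.or_eq_true, List.any_eq_true,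
    Nat.beq_eq] at hk
  obtain ⟨e, he, rfl⟩ := (hk.2 b hb).resolve_left hb0
  have hc := hk.1 e he
  have i1 : co.iota (wp fX triSeg.1.reverse) = (co.iota (wp fX triSeg.1))⁻¹ :=
    raw_inv fun a ha => seg_lt a (by simp [ha])
  have i2 : co.iota (wp fX triSeg.2.1.reverse) = (co.iota (wp fX triSeg.2.1))⁻¹ :=
    raw_inv fun a ha => seg_lt a (by simp [ha])
  have i3 : co.iota (wp fX (segI e.1)) = (co.iota (wp fX (segV e.1)))⁻¹ := by
    have hr := route_ok
    simp only [routeB, Bool.and_eq_true, List.all_eq_true, List.mem_range] at hr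
    have hzz := eq_of_eqX (hr.2 e.1 hb)
    rw [wp_append, wp_nil] at hzz
    rw [← map_inv]
    refine congrArg co.iota ?_
    rw [segI, segV, wp_append, wp_append, mul_inv_rev, inv_eq_of_mul_eq_one_right hzz,
      wp_reverse fun a ha => raw_sq (seg_lt a (by simp [ha]))]
  have A : ∀ {u v : List ℕ}, eqX u v = true → co.iota (wp fX u) = co.iota (wp fX v) :=
    fun h => congrArg co.iota (eq_of_eqX h)
  obtain ⟨b, fm, ws⟩ := e
  simp only [killB] at hc
  by_cases h2 : Nat.beq fm 2 = true
  · simp only [h2, if_true, Bool.and_eq_true, List.all_eq_true, List.mem_range, Bool.not_eq_true'] at hc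
    obtain ⟨⟨⟨⟨hp, c1⟩, c2⟩, c3⟩, hne⟩ := hc
    have C1 := A c1
    have C2 := A c2
    have C3 := A c3
    simp only [wp_append, map_mul, i2] at C1 C2 C3
    refine ne_of_eqX hne (co.inj ?_)
    simp only [wp_append, map_mul, i3]
    exact sub_loop hn hT (conj_pair hn hσ (hp 0 (by norm_num))) (conj_pair hn hσ (hp 1 (by norm_num)))
      (conj_pair hn hσ (hp 2 (by norm_num))) (conj_pair hn hσ (hp 3 (by norm_num)))
      (conj_pair hn hσ (hp 4 (by norm_num))) (conj_pair hn hσ (hp 5 (by norm_num)))
      (conj_pair hn hσ (hp 6 (by norm_num))) C1 C2 C3 (by group)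
  rw [if_neg h2] at hc
  simp only [Bool.and_eq_true, List.all_eq_true, List.mem_range, Bool.not_eq_true'] at hc
  obtain ⟨⟨⟨hp, c1⟩, c2⟩, hne⟩ := hc
  have C1 := A c1
  have C2 := A c2
  refine ne_of_eqX hne (co.inj ?_)
  simp only [wp_append, map_mul, i2]
  have F := sub_forms hn hT
  by_cases h0 : Nat.beq fm 0 = true
  · simp only [h0, if_true, wp_append, map_mul, i1, i3] at C1 C2 ⊢
    exact sub_two hn hT F.1 (conj_pair hn hσ (hp 0 (by norm_num))) (conj_pair hn hσ (hp 1 (by norm_num)))
      (conj_pair hn hσ (hp 2 (by norm_num))) C1 C2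
  · simp only [h0, if_false, Bool.false_eq_true, wp_append, map_mul, i1, i3] at C1 C2 ⊢
    exact sub_two hn hT F.2 (conj_pair hn hσ (hp 0 (by norm_num))) (conj_pair hn hσ (hp 1 (by norm_num)))
      (conj_pair hn hσ (hp 2 (by norm_num))) C1 C2

theorem amal_of : Amal co.iota n := by
  intro w hw
  have hsh := rels_shape.2
  simp only [List.all_eq_true, Nat.blt_eq] at hsh
  rw [rels_shape.1] at hw
  rcases List.mem_append.1 hw with hw | hw
  · obtain ⟨l, hl, rfl⟩ := List.mem_map.1 hw
    rw [List.mem_range, conj_ok.2] at hl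
    have hc := conj_ok.1
    simp only [conjB, List.all_eq_true, List.mem_range, Bool.and_eq_true, decide_eq_true_eq] at hc
    obtain ⟨hwd, him⟩ := hc l hl
    have hd : ∀ a ∈ dWords.getD l [], a < 16 := by
      intro a ha
      rw [← hwd] at ha
      exact wordX_lt _ a ha
    have hi : ∀ a ∈ dImgs.getD l [], a < 16 := by
      intro a ha
      by_cases hli : l < dImgs.length
      · refine hsh _ ?_ a ha
        rw [List.getD_eq_getElem _ _ hli]
        simp only [List.mem_append]
        exact Or.inl (Or.inr (List.getElem_mem _))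
      · rw [List.getD_eq_default _ _ (not_lt.1 hli)] at ha
        simp at ha
    have e : wp fX (dWords.getD l []) = fX (16 + l) := by rw [wp_raw hd, fX, hwd]
    rw [List.append_assoc, List.append_assoc, List.singleton_append, ev_cons16, ev_app, List.singleton_append,
      ev_cons16, gl_raw hd, gl_raw (fun a ha => hi a (List.mem_reverse.1 ha)), raw_inv hi, e,
      eq_of_eqX him]
    have h := hσ (16 + l) (by omega) (by omega)
    rw [Imag, inv_eq_of_mul_eq_one_right hn] at h
    rw [h]; group
  · obtain ⟨b, hb, hT⟩ := triangle hn hσ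
    obtain rfl := triangle_first hn hσ b hb hT
    rw [segV, zWord_zero, List.nil_append] at hT
    simp only [List.mem_cons, List.not_mem_nil, or_false] at hw
    rcases hw with rfl | rfl
    · rw [ev_cons16, ev_cons16, show ev (gl co.iota n) [] = 1 from rfl, mul_one, hn]
    · simp only [List.append_assoc, List.singleton_append, ev_cons16, ev_app]
      rw [gl_raw fun a ha => seg_lt a (by simp [ha]), gl_raw fun a ha => seg_lt a (by simp [ha]),
        gl_raw fun a ha => seg_lt a (by simp [ha])]
      rw [← hT]; group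

end CfsgLib.CoTwoRec.Rel

namespace CfsgLib.CoTwoRec

open Rel

variable {G : Type*} [Group G] {t : G}

/-- An element exchanging the central involution and the neighbour gives the relators. -/
theorem exists_amal (co : Coord t)
    (hfus : ∀ (g : G) (c : Cm), g * t * g⁻¹ = co.iota c →
      c = tm ∨ ∃ k : Cm, k * c * k⁻¹ = nbr ∨ k * c * k⁻¹ = sec)
    {g : G} (h1 : g * t * g⁻¹ = co.iota nbr) (h2 : g * co.iota nbr * g⁻¹ = t) :
    ∃ n : G, Amal co.iota n := by
  have hf : Fusion co := by
    intro c hc
    obtain ⟨x, hx⟩ := isConj_iff.1 hc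
    rcases hfus x c hx with e | ⟨k, e⟩
    · exact Or.inl e
    · refine Or.inr ⟨k⁻¹, ?_⟩
      rcases e with e | e <;> [left; right] <;> rw [← e] <;> group
  obtain ⟨n, hn, hσ⟩ := exists_involution hf h1 h2
  exact ⟨n, amal_of hn hσ⟩

end CfsgLib.CoTwoRec
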