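import Cfsg.Agent.Lib.CoTwoRec.Model
import Cfsg.Agent.Lib.CoTwoRec.Relators
import Cfsg.Agent.Lib.CoTwoEnd.Main
import Cfsg.Agent.Lib.Invol.ZStarFinal
import Cfsg.Agent.Lib.ThType.Fusion.Basic

/-!
# Recognition of Co2 from coordinates, an exchange and the fusion
-/

set_option autoImplicit false

namespace CfsgLib.CoTwoRec

open Cfsg CfsgLib.Rigid CfsgLib.ExtraNine

/-- A bound on the group of a copy of the centraliser and an element with the relators. -/
def CertSpec.{u} : Prop := ∀ {M : Type u} [Group M] [Finite M] (ι : Cm →* M) (n : M), Amal ι n →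
  Nat.card (Subgroup.closure (Set.range ι ∪ {n})) ≤ 42305421312000

section

variable {G : Type*} [Group G] {t : G}

/-- The relators hold for a pair when they hold in both groups. -/
theorem amal_pair {M N : Type*} [Group M] [Group N] {f : Cm →* M} {f' : Cm →* N} {n : M} {n' : N}
    (h : Amal f n) (h' : Amal f' n') : Amal (f.prod f') (n, n') := by
  intro w hw
  have hl : ∀ l, gl (f.prod f') (n, n') l = (gl f n l, gl f' n' l) := fun l => by
    unfold gl
    split <;> rfl
  have e : ∀ w : List ℕ, ev (gl (f.prod f') (n, n')) w = (ev (gl f n) w, ev (gl f' n') w) := by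
    intro w
    induction w with
    | nil => rfl
    | cons a w ih =>
      simp only [ev, List.map_cons, List.prod_cons] at ih ⊢
      rw [ih, hl]; rfl
  rw [e, h w hw, h' w hw]; rfl

/-- An involution of a group with trivial centre and odd core is not isolated. -/
theorem exists_conj_ne [Finite G] (ht : orderOf t = 2) (hO : oddCore G = ⊥) (hZ : Subgroup.center G = ⊥) :
    ∃ g : G, g * t * g⁻¹ * t = t * (g * t * g⁻¹) ∧ g * t * g⁻¹ ≠ t := by
  have hiso : ¬ IsIsolatedInvolution t := fun hi => by
    have hc := CfsgLib.Invol.zstar_center hi hO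
    rw [hZ, Subgroup.mem_bot] at hc
    rw [hc, orderOf_one] at ht
    omega
  simp only [IsIsolatedInvolution, ht, true_and, not_forall] at hiso
  obtain ⟨g, hc, hne⟩ := hiso
  exact ⟨g, hc.eq.symm, hne⟩

/-- A conjugate outside the extraspecial group. -/
theorem exists_out [Finite G] {V : Type*} [AddCommGroup V] {N : Nine G V}
    (hW : CfsgLib.ThType.Fusion.Weak N) (ht : orderOf N.z = 2) (hO : oddCore G = ⊥)
    (hZ : Subgroup.center G = ⊥) : ∃ g, CfsgLib.ThType.Fusion.Out N g := by
  obtain ⟨g, hc, hne⟩ := exists_conj_ne ht hO hZ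
  exact ⟨g, hW, hc, fun hQ => hne (hW g hQ)⟩

/-- From coordinates, an exchange and the fusion. -/
theorem isoCo2_of_coord.{u} {G : Type u} [Group G] [Finite G] {t : G} (hcert : CertSpec.{u})
    (ht : orderOf t = 2) (co : Coord t)
    (hfus : ∀ (g : G) (c : Cm), g * t * g⁻¹ = co.iota c →
      c = tm ∨ ∃ k : Cm, k * c * k⁻¹ = nbr ∨ k * c * k⁻¹ = sec)
    {g : G} (h1 : g * t * g⁻¹ = co.iota nbr) (h2 : g * co.iota nbr * g⁻¹ = t) : Spor.IsoCo2 G := by
  obtain ⟨n, hn⟩ := exists_amal co hfus h1 h2
  have := finite_coG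
  have hb := hcert (M := G × CoG) (co.iota.prod Cm.subtype) (n, letter 16) (amal_pair hn amal_model)
  obtain ⟨φ, hinj, hc, -⟩ := exists_hom_of_bound co n hb (fun e => by rw [e, orderOf_one] at ht; omega)
  exact isoCo2_of_range φ hinj (CfsgLib.CoTwoEnd.eq_top_of_hom ht co φ hinj hc hfus)

end

end CfsgLib.CoTwoRec
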