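import Cfsg.Agent.Lib.ThType.Fusion.Coset
import Cfsg.Agent.Lib.ExtraNine.Comp

/-!
# Two commuting conjugates outside each other's extraspecial subgroups

The centraliser of one in the other's extraspecial subgroup, seen in the quotient and on the coordinates, and
what follows when the conjugate is also conjugate to its product with the central involution.
-/

set_option autoImplicit false
set_option linter.unusedSectionVars false

namespace CfsgLib.CoTwoRec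

open Subgroup CfsgLib.ExtraNine CfsgLib.LargeExtra CfsgLib.ThType.Fusion

variable {G : Type*} [Group G] [Finite G] {V : Type*} [AddCommGroup V] {N : Nine G V}

/-- The other extraspecial subgroup inside the centraliser. -/
def tG (N : Nine G V) (g : G) : Subgroup (centralizer ({N.z} : Set G)) := (Qg N g).subgroupOf _

/-- Its image in the quotient. -/
noncomputable def mG (N : Nine G V) (g : G) : Subgroup (Equiv.Perm V) := (tG N g).map N.ρ

/-- The coordinates of the intersection. -/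
def dV (N : Nine G V) (g : G) : AddSubgroup V where
  carrier := {v | ∃ d, ∃ hd : d ∈ dG N g, N.π ⟨d, hd.1⟩ = v}
  zero_mem' := ⟨1, one_mem _, N.π_one⟩
  add_mem' := by
    rintro _ _ ⟨d, hd, rfl⟩ ⟨e, he, rfl⟩
    exact ⟨d * e, mul_mem hd he, by
      rw [show (⟨d * e, (mul_mem hd he).1⟩ : ↥N.Q) = ⟨d, hd.1⟩ * ⟨e, he.1⟩ from rfl, N.π_mul]⟩
  neg_mem' := by
    rintro _ ⟨d, hd, rfl⟩
    exact ⟨d, hd, (neg_eq_of_add_eq_zero_left (N.S.two _)).symm⟩

/-- The coordinates of the centraliser. -/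
def klV (N : Nine G V) (g : G) : AddSubgroup V where
  carrier := {v | ∃ s, ∃ hs : s ∈ sG N g, N.π ⟨s, hs.1⟩ = v}
  zero_mem' := ⟨1, one_mem _, N.π_one⟩
  add_mem' := by
    rintro _ _ ⟨d, hd, rfl⟩ ⟨e, he, rfl⟩
    exact ⟨d * e, mul_mem hd he, by
      rw [show (⟨d * e, (mul_mem hd he).1⟩ : ↥N.Q) = ⟨d, hd.1⟩ * ⟨e, he.1⟩ from rfl, N.π_mul]⟩
  neg_mem' := by
    rintro _ ⟨d, hd, rfl⟩
    exact ⟨d, hd, (neg_eq_of_add_eq_zero_left (N.S.two _)).symm⟩

variable {g : G}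

theorem mem_tG {c : centralizer ({N.z} : Set G)} : c ∈ tG N g ↔ (c : G) ∈ Qg N g := mem_subgroupOf

theorem g_inv_mem {c : G} (hc : c ∈ centralizer ({N.z} : Set G)) (h : c ∈ Qg N g) :
    g⁻¹ * c * g ∈ sG N g⁻¹ := by
  refine ⟨mem_Qg.1 h, mem_centralizer_singleton_iff.2 ?_⟩
  have e := mem_centralizer_singleton_iff.1 hc
  rw [inv_inv]
  calc g⁻¹ * c * g * (g⁻¹ * N.z * g) = g⁻¹ * (c * N.z) * g := by group
    _ = g⁻¹ * (N.z * c) * g := by rw [e]
    _ = _ := by group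

/-- The other extraspecial subgroup meets the centraliser in a copy of the centraliser on the other side. -/
theorem card_tG : Nat.card ↥(tG N g) = Nat.card ↥(sG N g⁻¹) := by
  refine Nat.card_congr
    { toFun := fun c => ⟨g⁻¹ * ((c.1 : G)) * g, g_inv_mem c.1.2 c.2⟩
      invFun := fun s => ⟨⟨g * (s : G) * g⁻¹, ?_⟩, ?_⟩
      left_inv := fun c => Subtype.ext (Subtype.ext (by simp [mul_assoc]))
      right_inv := fun s => Subtype.ext (by simp [mul_assoc]) }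
  · have e := mem_centralizer_singleton_iff.1 s.2.2
    rw [inv_inv] at e
    rw [mem_centralizer_singleton_iff]
    calc g * (s : G) * g⁻¹ * N.z = g * ((s : G) * (g⁻¹ * N.z * g)) * g⁻¹ := by group
      _ = g * (g⁻¹ * N.z * g * (s : G)) * g⁻¹ := by rw [← e]
      _ = N.z * (g * (s : G) * g⁻¹) := by group
  · exact mem_tG.2 (mem_Qg.2 (by simpa [mul_assoc] using s.2.1))

section

variable (O : Out N g)
include O

local notation "xg" => g * N.z * g⁻¹

theorem card_dV : Nat.card ↥(dV N g) = Nat.card ↥(dG N g) := by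
  refine (Nat.card_congr (Equiv.ofBijective (fun d : ↥(dG N g) => (⟨N.π ⟨d, d.2.1⟩, d, d.2, rfl⟩ : ↥(dV N g)))
    ⟨fun d e h => ?_, ?_⟩)).symm
  · have h' : N.π ⟨d, d.2.1⟩ = N.π ⟨e, e.2.1⟩ := congrArg Subtype.val h
    rcases N.π_eq h' with e' | e'
    · exact Subtype.ext e'.symm
    · refine absurd ?_ O.z_notMem_d
      rw [show N.z = (d : G)⁻¹ * e by rw [e']; group]
      exact mul_mem (inv_mem d.2) e.2
  · rintro ⟨_, d, hd, rfl⟩
    exact ⟨⟨d, hd⟩, rfl⟩

theorem dV_le_klV : dV N g ≤ klV N g := by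
  rintro _ ⟨d, hd, rfl⟩
  exact ⟨d, O.d_le_s hd, rfl⟩

theorem z_mem_sG : N.z ∈ sG N g := ⟨N.z_mem, mem_centralizer_singleton_iff.2 O.comm.symm⟩

theorem preim_klV : N.preim (klV N g) = sG N g := by
  refine le_antisymm ?_ fun s hs => ⟨hs.1, s, hs, rfl⟩
  rintro q ⟨hq, s, hs, e⟩
  rcases N.π_eq e with e' | e' <;> change q = _ at e' <;> rw [e']
  · exact hs
  · exact mul_mem hs (z_mem_sG O)

theorem card_sG : Nat.card ↥(sG N g) = 2 * Nat.card ↥(klV N g) := by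
  rw [← N.card_preim, preim_klV O]

theorem mem_klV {v : V} : v ∈ klV N g ↔ N.ρ O.inv' v = v ∧ lf N g v = 0 := by
  classical
  constructor
  · rintro ⟨s, hs, rfl⟩
    exact ⟨O.s_le_p hs, if_pos ⟨s, hs, rfl⟩⟩
  · rintro ⟨-, h⟩
    unfold lf at h
    split_ifs at h with hh
    · obtain ⟨s, hs, e⟩ := hh
      exact ⟨s, hs, e⟩
    · exact absurd h (by decide)

/-- The intersection is perpendicular to the centraliser and singular. -/
theorem dV_perp {v w : V} (hv : v ∈ dV N g) (hw : w ∈ klV N g) : N.S.B v w = 0 ∧ N.S.q v = 0 := by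
  obtain ⟨d, hd, rfl⟩ := hv
  obtain ⟨s, hs, rfl⟩ := hw
  refine ⟨(N.B_eq_zero_iff ⟨d, hd.1⟩ ⟨s, hs.1⟩).2 (O.d_central hd hs).symm, ?_⟩
  have h := N.sq ⟨d, hd.1⟩
  rcases zmod_two_cases (N.S.q (N.π ⟨d, hd.1⟩)) with e | e
  · exact e
  · rw [if_neg (by rw [e]; decide)] at h
    exact absurd ((O.d_sq hd).symm.trans h) (Ne.symm N.z_ne)

theorem k_comm {k : centralizer ({N.z} : Set G)} (hk : k ∈ kG N g) : (k : G) * xg = xg * k :=
  mem_centralizer_singleton_iff.1 hk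

theorem sG_conj {k : G} (hk : k ∈ centralizer ({N.z} : Set G)) (hkx : k * xg = xg * k) {s : G}
    (hs : s ∈ sG N g) : k * s * k⁻¹ ∈ sG N g :=
  ⟨N.conj_mem hk ⟨s, hs.1⟩, mem_centralizer_singleton_iff.2
    (((show Commute k xg from hkx).mul_left (show Commute s xg from mem_centralizer_singleton_iff.1 hs.2)).mul_left
      (show Commute k xg from hkx).inv_left)⟩

theorem dV_inv {k : centralizer ({N.z} : Set G)} (hk : k ∈ kG N g) {v : V} (hv : v ∈ dV N g) :
    N.ρ k v ∈ dV N g := by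
  obtain ⟨d, hd, rfl⟩ := hv
  rw [N.ρ_π]
  exact ⟨_, ⟨N.conj_mem k.2 ⟨d, hd.1⟩, Out.conj_Qg (k_comm O hk) hd.2⟩, rfl⟩

theorem klV_inv {k : centralizer ({N.z} : Set G)} (hk : k ∈ kG N g) {v : V} (hv : v ∈ klV N g) :
    N.ρ k v ∈ klV N g := by
  obtain ⟨s, hs, rfl⟩ := hv
  rw [N.ρ_π]
  exact ⟨_, sG_conj O k.2 (k_comm O hk) hs, rfl⟩

theorem tG_le_kG : tG N g ≤ kG N g := fun _ hc => mem_centralizer_singleton_iff.2 (O.comm_of_mem (mem_tG.1 hc))

theorem mG_normal : mG N g ≤ (kG N g).map N.ρ ∧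
    ∀ k ∈ (kG N g).map N.ρ, ∀ m ∈ mG N g, k * m * k⁻¹ ∈ mG N g := by
  refine ⟨map_mono (tG_le_kG O), ?_⟩
  rintro _ ⟨k, hk, rfl⟩ _ ⟨c, hc, rfl⟩
  exact ⟨k * c * k⁻¹, mem_tG.2 (Out.conj_Qg (k_comm O hk) (mem_tG.1 hc)), by rw [map_mul, map_mul, map_inv]⟩

theorem inv'_mem : N.ρ O.inv' ∈ mG N g := by
  refine ⟨O.inv', mem_tG.2 (mem_Qg.2 ?_), rfl⟩
  show g⁻¹ * (g * N.z * g⁻¹) * g ∈ N.Q
  rw [show g⁻¹ * (g * N.z * g⁻¹) * g = N.z by group]
  exact N.z_mem

/-- The other extraspecial subgroup acts trivially on the centraliser modulo the intersection. -/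
theorem com_dV {m : Equiv.Perm V} (hm : m ∈ mG N g) {v : V} (hv : v ∈ klV N g) : m v + v ∈ dV N g := by
  obtain ⟨c, hc, rfl⟩ := hm
  obtain ⟨s, hs, rfl⟩ := hv
  have hc' : (c : G) ∈ Qg N g := mem_tG.1 hc
  have h1 : (c : G) * s * (c : G)⁻¹ * s⁻¹ ∈ dG N g := by
    refine ⟨N.Q.mul_mem (N.conj_mem c.2 ⟨s, hs.1⟩) (N.Q.inv_mem hs.1), ?_⟩
    rw [mul_assoc, mul_assoc, ← mul_assoc s]
    exact mul_mem hc' (Out.conj_Qg (mem_centralizer_singleton_iff.1 hs.2) (inv_mem hc'))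
  refine ⟨_, h1, ?_⟩
  rw [N.ρ_π, show (⟨_, h1.1⟩ : ↥N.Q) = ⟨(c : G) * s * (c : G)⁻¹, N.conj_mem c.2 ⟨s, hs.1⟩⟩ *
    (⟨s, hs.1⟩ : ↥N.Q)⁻¹ from rfl, N.π_mul, N.π_inv]
  rfl

theorem card_mG : Nat.card ↥(mG N g) * Nat.card ↥(dG N g) = Nat.card ↥(sG N g⁻¹) := by
  rw [← card_tG, ← card_map_mul_inf N.ρ (tG N g)]
  congr 1
  have e : tG N g ⊓ N.ρ.ker = (dG N g).subgroupOf (centralizer ({N.z} : Set G)) := by
    ext c
    simp only [mem_inf, MonoidHom.mem_ker, N.ρ_eq_one_iff, mem_tG, mem_subgroupOf, dG]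
    exact and_comm
  rw [e, Nat.card_congr (subgroupOfEquivOfLe (show dG N g ≤ centralizer ({N.z} : Set G) from
    fun y hy => N.F.le hy.1)).toEquiv]

theorem mG_two : IsPGroup 2 ↥(mG N g) := by
  have h1 : IsPGroup 2 ↥(sG N g⁻¹) :=
    (IsPGroup.of_card (G := ↥N.Q) (p := 2) (n := 9) (by rw [N.card]; rfl)).to_le inf_le_left
  obtain ⟨n, hn⟩ := IsPGroup.iff_card.1 h1
  exact (IsPGroup.of_card (G := ↥(tG N g)) (p := 2) (n := n) (by rw [card_tG, hn])).map N.ρ

/-- If the conjugate is conjugate to its product with the central involution, the intersection has no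
commutator of its image. -/
theorem d_no_image (hj : IsConj N.z (xg * N.z)) {v : V} (hv : v ∈ dV N g) (hv0 : v ≠ 0) :
    ¬ ∃ u, N.ρ O.inv' u + u = v := by
  rintro ⟨u, hu⟩
  obtain ⟨d, hd, rfl⟩ := hv
  obtain ⟨u, rfl⟩ := N.surj u
  have hd1 : d ≠ 1 := fun e => hv0 (by subst e; exact N.π_one)
  have e := O.d_lift hd hd1 hu.symm
  refine O.not_conj_mul hd hd1 (hj.trans (isConj_iff.2 ⟨u, ?_⟩))
  calc (u : G) * (xg * N.z) * (u : G)⁻¹ = (u : G) * xg * (u : G)⁻¹ * ((u : G) * N.z * (u : G)⁻¹) := by group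
    _ = O.comm' u * xg * N.z := by rw [O.comm'_spec, N.z_comm u.2, mul_inv_cancel_right]
    _ = d * xg := by rw [mul_assoc, O.comm, ← mul_assoc, ← e]
    _ = xg * d := O.comm_of_mem hd.2

/-- Moved by an element of the extraspecial subgroup: conjugate to the product. -/
theorem conj_mul_of_moved {p : ↥N.Q} (hfix : N.ρ O.inv' (N.π p) = N.π p) (hl : lf N g (N.π p) ≠ 0) :
    (p : G) * xg * (p : G)⁻¹ = xg * N.z := by
  have h := O.lfun_spec hfix
  rw [if_neg hl] at h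
  calc (p : G) * xg * (p : G)⁻¹ = (p : G) * (xg * (p : G)⁻¹ * (xg)⁻¹) * xg := by group
    _ = (p : G) * (xg * p * (xg)⁻¹)⁻¹ * xg := by group
    _ = N.z * xg := by
      rw [h, mul_inv_rev, inv_eq_of_mul_eq_one_right N.zz, ← mul_assoc (p : G) N.z, N.z_comm p.2,
        mul_inv_cancel_right]
    _ = _ := O.comm.symm

/-- The stabiliser of a moved element in the other extraspecial subgroup lies in a third intersection. -/
theorem moved_bound {p : G} (hp : p * xg * p⁻¹ = xg * N.z) {T : Set G} (hT : T.Finite)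
    (hval : ∀ c ∈ tG N g, (c : G) * p * (c : G)⁻¹ ∈ T) :
    ∃ k : G, ∃ P : Out N k, N.ρ P.inv' = N.ρ O.symm.inv' ∧
      Nat.card ↥(sG N g⁻¹) ≤ T.ncard * Nat.card ↥(dG N k) := by
  classical
  set k := g⁻¹ * p * g with hk
  have hkz : k * N.z * k⁻¹ = N.z * (g⁻¹ * N.z * g⁻¹⁻¹) := by
    calc k * N.z * k⁻¹ = g⁻¹ * (p * xg * p⁻¹) * g := by rw [hk]; group
      _ = g⁻¹ * (xg * N.z) * g := by rw [hp]
      _ = _ := by group
  have P : Out N k := by
    refine ⟨O.weak, ?_, ?_⟩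
    · rw [hkz, mul_assoc, O.symm.comm]
    · rw [hkz]
      exact fun h => O.symm.notMem ((N.Q.mul_mem_cancel_left N.z_mem).1 h)
  refine ⟨k, P, ?_, ?_⟩
  · rw [show P.inv' = ⟨N.z, mem_centralizer_singleton_iff.2 rfl⟩ * O.symm.inv' from Subtype.ext hkz, map_mul,
      (N.ρ_eq_one_iff _).2 (show ((⟨N.z, _⟩ : centralizer ({N.z} : Set G)) : G) ∈ N.Q from N.z_mem), one_mul]
  haveI := hT.to_subtype
  let f : ↥(tG N g) → ↥T := fun c => ⟨_, hval c c.2⟩
  let r : ↥T → ↥(tG N g) := fun y => if h : ∃ c, f c = y then h.choose else 1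
  have hr : ∀ c, f (r (f c)) = f c := fun c => by
    have h : ∃ c', f c' = f c := ⟨c, rfl⟩
    simp only [r, dif_pos h]
    exact h.choose_spec
  have hmem : ∀ c, g⁻¹ * (((r (f c))⁻¹ * c : ↥(tG N g)) : G) * g ∈ dG N k := by
    intro c
    set u := ((((r (f c))⁻¹ * c : ↥(tG N g)) : centralizer ({N.z} : Set G)) : G) with hu
    have hq : g⁻¹ * u * g ∈ N.Q := mem_Qg.1 (mem_tG.1 ((r (f c))⁻¹ * c).2)
    refine ⟨hq, mem_Qg.2 ?_⟩
    have e : ((c.1 : G)) * p * ((c.1 : G))⁻¹ = ((r (f c)).1 : G) * p * (((r (f c)).1 : G))⁻¹ :=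
      (congrArg Subtype.val (hr c)).symm
    have hup : u * p = p * u := by
      simp only [hu, Subgroup.coe_mul, Subgroup.coe_inv]
      calc ((r (f c)).1 : G)⁻¹ * (c.1 : G) * p
          = ((r (f c)).1 : G)⁻¹ * ((c.1 : G) * p * ((c.1 : G))⁻¹) * (c.1 : G) := by group
        _ = _ := by rw [e]; group
    convert hq using 1
    rw [hk]
    calc (g⁻¹ * p * g)⁻¹ * (g⁻¹ * u * g) * (g⁻¹ * p * g) = g⁻¹ * (p⁻¹ * (u * p)) * g := by group
      _ = g⁻¹ * u * g := by rw [hup, inv_mul_cancel_left]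
  have hinj : Function.Injective fun c : ↥(tG N g) => (f c, (⟨_, hmem c⟩ : ↥(dG N k))) := by
    intro a b h
    simp only [Prod.mk.injEq] at h
    obtain ⟨h1, h2⟩ := h
    have h3 : g⁻¹ * (((r (f a))⁻¹ * a : ↥(tG N g)) : G) * g = g⁻¹ * (((r (f b))⁻¹ * b : ↥(tG N g)) : G) * g :=
      congrArg Subtype.val h2
    rw [h1] at h3
    exact mul_left_cancel (Subtype.ext (Subtype.ext (mul_left_cancel (mul_right_cancel h3))))
  have hc := Nat.card_le_card_of_injective _ hinj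
  rw [Nat.card_prod, Nat.card_coe_set_eq, card_tG] at hc
  exact hc

/-- For two nontrivial elements of the intersection over commutators the pairing is one. -/
theorem pair_one {v w : V} (hv : v ∈ dV N g) (hw : w ∈ dV N g) (hv0 : v ≠ 0) (hw0 : w ≠ 0) (hne : v ≠ w)
    {u r : V} (hu : N.ρ O.inv' u + u = v) (hr : N.ρ O.inv' r + r = w) : N.S.B u w = 1 := by
  obtain ⟨d, hd, rfl⟩ := hv
  obtain ⟨e, he, rfl⟩ := hw
  obtain ⟨u, rfl⟩ := N.surj u
  obtain ⟨r, rfl⟩ := N.surj r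
  have hd1 : d ≠ 1 := fun h => hv0 (by subst h; exact N.π_one)
  have he1 : e ≠ 1 := fun h => hw0 (by subst h; exact N.π_one)
  have hde : d * e ≠ 1 := fun h => hne (by
    have : d = e := by
      calc d = d * (e * e) := by rw [O.d_sq he, mul_one]
        _ = e := by rw [← mul_assoc, h, one_mul]
    subst this; rfl)
  refine (zmod_two_cases _).resolve_left fun h0 => ?_
  have edw := O.d_lift he he1 hr.symm
  have edu := O.d_lift hd hd1 hu.symm
  have hc : (u : G) * O.comm' r = O.comm' r * u :=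
    (N.B_eq_zero_iff u (O.comm' r)).1 (by rw [O.π_comm', hr]; exact h0)
  refine O.not_conj_mul (mul_mem hd he) hde ((isConj_conj g).trans (isConj_iff.2 ⟨(u : G) * r, ?_⟩))
  have key : (O.comm' r : G) * O.comm' u = d * e := by
    rw [O.d_central he (O.d_le_s hd), edw, edu]
    calc (O.comm' r : G) * O.comm' u = (O.comm' r : G) * O.comm' u * (N.z * N.z) := by rw [N.zz, mul_one]
      _ = (O.comm' r : G) * (O.comm' u * N.z) * N.z := by group
      _ = (O.comm' r : G) * (N.z * O.comm' u) * N.z := by rw [N.z_comm (O.comm' u).2]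
      _ = _ := by group
  calc (u : G) * r * xg * ((u : G) * r)⁻¹ = (u : G) * ((r : G) * xg * (r : G)⁻¹) * (u : G)⁻¹ := by group
    _ = (u : G) * O.comm' r * xg * (u : G)⁻¹ := by rw [O.comm'_spec]; group
    _ = O.comm' r * ((u : G) * xg * (u : G)⁻¹) := by rw [hc]; group
    _ = d * e * xg := by rw [O.comm'_spec, ← mul_assoc, key]
    _ = xg * (d * e) := O.comm_of_mem (mul_mem hd.2 he.2)

/-- A pair of the other extraspecial subgroup fixed in the quotient gives a vector fixed on the other side. -/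
theorem fixed_of_pair (hd : Nat.card ↥(dG N g) = 1) {m : Equiv.Perm V} (hm : m ∈ mG N g)
    (hm1 : m ≠ 1) (hma : m ≠ N.ρ O.inv')
    (hfix : ∀ k ∈ (kG N g).map N.ρ, k * m * k⁻¹ = m ∨ k * m * k⁻¹ = m * N.ρ O.inv') :
    ∃ v ∈ klV N g⁻¹, v ≠ 0 ∧ ∀ k ∈ kG N g⁻¹, N.ρ k v = v := by
  obtain ⟨c, hc, rfl⟩ := hm
  set s := g⁻¹ * (c : G) * g with hs
  have hsS : s ∈ sG N g⁻¹ := g_inv_mem c.2 hc
  have hbot : dG N g = ⊥ := card_eq_one.1 hd
  have inj : ∀ c' ∈ tG N g, ∀ e ∈ tG N g, N.ρ c' = N.ρ e → c' = e := by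
    intro c' hc' e he h
    have h1 : (((c'⁻¹ * e : centralizer ({N.z} : Set G))) : G) ∈ dG N g :=
      ⟨(N.ρ_eq_one_iff _).1 (by rw [map_mul, map_inv, h, inv_mul_cancel]), mem_tG.1 (mul_mem (inv_mem hc') he)⟩
    rw [hbot, mem_bot] at h1
    exact inv_mul_eq_one.1 (Subtype.ext h1)
  have hx : O.inv' ∈ tG N g := by
    refine mem_tG.2 (mem_Qg.2 ?_)
    show g⁻¹ * (g * N.z * g⁻¹) * g ∈ N.Q
    rw [show g⁻¹ * (g * N.z * g⁻¹) * g = N.z by group]
    exact N.z_mem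
  refine ⟨N.π ⟨s, hsS.1⟩, ⟨s, hsS, rfl⟩, fun h => ?_, ?_⟩
  · rcases (N.ker_iff _).1 h with h' | h' <;> simp only [hs] at h'
    · exact hm1 (by
        rw [show c = 1 from Subtype.ext (by
          calc (c : G) = g * (g⁻¹ * (c : G) * g) * g⁻¹ := by group
            _ = 1 := by rw [h']; group), map_one])
    · exact hma (by
        rw [show c = O.inv' from Subtype.ext (by
          calc (c : G) = g * (g⁻¹ * (c : G) * g) * g⁻¹ := by group
            _ = _ := by rw [h']; rfl)])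
  intro k hk
  have hk1 := mem_centralizer_singleton_iff.1 k.2
  have hk2 := mem_centralizer_singleton_iff.1 hk
  simp only [Subgroup.coe_subtype, inv_inv] at hk2
  let k' : centralizer ({N.z} : Set G) := ⟨g * (k : G) * g⁻¹, mem_centralizer_singleton_iff.2 (by
    calc g * (k : G) * g⁻¹ * N.z = g * ((k : G) * (g⁻¹ * N.z * g)) * g⁻¹ := by group
      _ = g * (g⁻¹ * N.z * g * (k : G)) * g⁻¹ := by rw [← hk2]
      _ = N.z * (g * (k : G) * g⁻¹) := by group)⟩
  have hk' : k' ∈ kG N g := mem_centralizer_singleton_iff.2 (by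
    show g * (k : G) * g⁻¹ * (g * N.z * g⁻¹) = g * N.z * g⁻¹ * (g * (k : G) * g⁻¹)
    calc g * (k : G) * g⁻¹ * (g * N.z * g⁻¹) = g * ((k : G) * N.z) * g⁻¹ := by group
      _ = g * (N.z * (k : G)) * g⁻¹ := by rw [hk1]
      _ = _ := by group)
  have hconj : k' * c * k'⁻¹ ∈ tG N g := mem_tG.2 (Out.conj_Qg (k_comm O hk') (mem_tG.1 hc))
  rw [N.ρ_π]
  rcases hfix _ (mem_map_of_mem _ hk') with e | e <;> rw [← map_inv, ← map_mul, ← map_mul] at e
  · congr 1
    refine Subtype.ext ?_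
    have h := congrArg (fun q : centralizer ({N.z} : Set G) => (q : G)) (inj _ hconj _ hc e)
    simp only [Subgroup.coe_mul, Subgroup.coe_inv, k'] at h
    show (k : G) * s * (k : G)⁻¹ = s
    calc (k : G) * s * (k : G)⁻¹ = g⁻¹ * (g * (k : G) * g⁻¹ * c * (g * (k : G) * g⁻¹)⁻¹) * g := by
          rw [hs]; group
      _ = s := by rw [h]
  · rw [← map_mul] at e
    have h := congrArg (fun q : centralizer ({N.z} : Set G) => (q : G)) (inj _ hconj _ (mul_mem hc hx) e)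
    simp only [Subgroup.coe_mul, Subgroup.coe_inv, k', Out.inv'] at h
    refine (congrArg N.π ((?_ : (⟨(k : G) * s * (k : G)⁻¹, N.conj_mem k.2 ⟨s, hsS.1⟩⟩ : ↥N.Q) =
      ⟨s, hsS.1⟩ * ⟨N.z, N.z_mem⟩))).trans (by rw [N.π_mul, N.π_z, add_zero])
    exact Subtype.ext (by
        show (k : G) * s * (k : G)⁻¹ = s * N.z
        calc (k : G) * s * (k : G)⁻¹ = g⁻¹ * (g * (k : G) * g⁻¹ * c * (g * (k : G) * g⁻¹)⁻¹) * g := by
              rw [hs]; group
          _ = s * N.z := by rw [h, hs]; group)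

end

end CfsgLib.CoTwoRec
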