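import Cfsg.Agent.Lib.CoTwoRec.OutAxisChecks
import Cfsg.Agent.Lib.CoTwoRec.OutGen
import Cfsg.Agent.Lib.ThType.Fusion.Main

/-!
# With a fixed vector no other conjugate of the central involution commutes with it

A preimage of the fixed vector is carried at most to its product with the central involution. Either it moves
the conjugate, which leaves too little room for the stabiliser, or it gives a normal subgroup of order four
over a square root of the image, and no square root allows that.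
-/

set_option autoImplicit false
set_option linter.unusedSectionVars false
set_option maxRecDepth 100000

namespace CfsgLib.CoTwoRec

open Subgroup CfsgLib.ExtraNine CfsgLib.LargeExtra CfsgLib.Schur.Tails.SpSix CfsgLib.ThType.Perm
  CfsgLib.ThType.Coords CfsgLib.ThType.Fusion

section Form

variable {V : Type*} [AddCommGroup V] [Finite V] (S : QV V)

/-- The vectors perpendicular to a subgroup. -/
def perpA (W : AddSubgroup V) : AddSubgroup V where
  carrier := {v | ∀ w ∈ W, S.B v w = 0}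
  zero_mem' := fun w _ => S.B_zero_left w
  add_mem' := fun {u v} hu hv w hw => by rw [S.B_add_left, hu w hw, hv w hw, add_zero]
  neg_mem' := fun {u} hu w hw => by rw [neg_eq_of_add_eq_zero_left (S.two u)]; exact hu w hw

theorem card_mul_perp (W : AddSubgroup V) : Nat.card W * Nat.card ↥(perpA S W) = Nat.card V := by
  classical
  haveI := Fintype.ofFinite V
  let f : V → V → ℤ := fun v w => if S.B v w = 0 then 1 else -1
  have hl : ∀ v v' w, f (v + v') w = f v w * f v' w := fun v v' w => by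
    rcases zm_two (S.B v w) with h | h <;> rcases zm_two (S.B v' w) with h' | h' <;>
      simp [f, S.B_add_left, h, h', show (1 : ZMod 2) + 1 = 0 from rfl]
  have hr : ∀ v w w', f v (w + w') = f v w * f v w' := fun v w w' => by
    simp only [f, S.B_comm v]; exact hl w w' v
  have hcol : ∀ w : V, w ≠ 0 → ∑ v, f v w = 0 := fun w hw => by
    obtain ⟨v0, hv0⟩ : ∃ v0, S.B v0 w = 1 := by
      by_contra hno
      push Not at hno
      refine hw (S.nondeg w fun u => ?_)
      have := (zm_two (S.B u w)).resolve_right (hno u)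
      rwa [S.B_comm, QV.B] at this
    have h := Fintype.sum_equiv (Equiv.addRight v0) (fun v => f (v + v0) w) (fun v => f v w) fun v => rfl
    simp only [hl, show f v0 w = -1 by simp [f, hv0], mul_neg, mul_one, Finset.sum_neg_distrib] at h
    omega
  have hrow : ∀ v, ∑ w : W, f v w = if v ∈ perpA S W then (Nat.card W : ℤ) else 0 := fun v => by
    split_ifs with hv
    · rw [Finset.sum_congr rfl fun (w : W) _ => show f v (w : V) = 1 from if_pos (hv w w.2)]
      simp [Nat.card_eq_fintype_card]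
    · obtain ⟨w0, hw0, hb⟩ : ∃ w0 ∈ W, S.B v w0 ≠ 0 := by
        by_contra hno
        push Not at hno
        exact hv hno
      have h := Fintype.sum_equiv (Equiv.addRight (⟨w0, hw0⟩ : W)) (fun w : W => f v ((w : V) + w0))
        (fun w : W => f v w) fun w => rfl
      simp only [hr, show f v w0 = -1 by simp [f, hb], mul_neg, mul_one, Finset.sum_neg_distrib] at h
      omega
  have h := Finset.sum_comm (s := (Finset.univ : Finset V)) (t := (Finset.univ : Finset W))
    (f := fun v w => f v w)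
  rw [Finset.sum_congr rfl fun v _ => hrow v, Fintype.sum_eq_single (0 : W) fun w hw =>
    hcol w fun e => hw (Subtype.ext e)] at h
  simp only [Finset.sum_ite, Finset.sum_const, Finset.sum_const_zero, add_zero, nsmul_eq_mul, mul_one,
    ZeroMemClass.coe_zero, show ∀ v, f v 0 = 1 from fun v => if_pos (S.B_zero_right v)] at h
  have e : (Finset.univ.filter fun v => v ∈ perpA S W).card = Nat.card ↥(perpA S W) := by
    rw [Nat.card_eq_fintype_card, Fintype.card_subtype]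
  rw [e, Finset.card_univ, ← Nat.card_eq_fintype_card] at h
  rw [mul_comm]
  exact_mod_cast h

variable {S} {a : Equiv.Perm V}

/-- A map plus the identity. -/
def comA (ha : ∀ u v, a (u + v) = a u + a v) : V →+ V :=
  AddMonoidHom.mk' (fun v => a v + v) fun u v => by rw [ha]; abel

variable (ha : a ∈ S.Iso) (h2 : a * a = 1)

include h2 in
theorem comA_facts : (∀ v, v ∈ (comA ha.1).ker ↔ a v = v) ∧ (comA ha.1).range ≤ (comA ha.1).ker ∧
    (comA ha.1).range = perpA S (comA ha.1).ker ∧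
    Nat.card ↥(comA ha.1).range * Nat.card ↥(comA ha.1).ker = Nat.card V := by
  have hk : ∀ v, v ∈ (comA ha.1).ker ↔ a v = v := fun v => by
    show a v + v = 0 ↔ a v = v
    refine ⟨fun h => ?_, fun h => by rw [h, S.two]⟩
    calc a v = a v + v + v := by rw [add_assoc, S.two, add_zero]
      _ = v := by rw [h, zero_add]
  have haa : ∀ v, a (a v) = v := fun v => by rw [← Equiv.Perm.mul_apply, h2]; rfl
  have hc : Nat.card ↥(comA ha.1).range * Nat.card ↥(comA ha.1).ker = Nat.card V := by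
    rw [← AddSubgroup.index_ker, mul_comm, AddSubgroup.card_mul_index]
  refine ⟨hk, ?_, ?_, hc⟩
  · rintro _ ⟨u, rfl⟩
    refine (hk _).2 ?_
    show a (a u + u) = a u + u
    rw [ha.1, haa, add_comm]
  · refine AddSubgroup.eq_of_le_of_card_ge ?_ ?_
    · rintro _ ⟨u, rfl⟩ w hw
      show S.B (a u + u) w = 0
      conv_lhs => rw [S.B_add_left]; rw [show S.B (a u) w = S.B u w by
        conv_lhs => rw [← (hk w).1 hw]
        exact QV.iso_B ha u w]
      exact CharTwo.add_self_eq_zero _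
    · have h := card_mul_perp S (comA ha.1).ker
      rw [← hc, mul_comm (Nat.card ↥(comA ha.1).range)] at h
      exact (Nat.eq_of_mul_eq_mul_left Nat.card_pos h).le

end Form

variable {G : Type*} [Group G] [Finite G] {V : Type*} [AddCommGroup V] [Finite V] {N : Nine G V} {g : G}

theorem fix_le_kl (O : Out N g) :
    Nat.card {v : V // N.ρ O.inv' v = v} ≤ 2 * Nat.card ↥(klV N g) := by
  classical
  by_cases hall : ∀ v : V, N.ρ O.inv' v = v → lf N g v = 0
  · have := Nat.card_le_card_of_injective (fun v : {v : V // N.ρ O.inv' v = v} =>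
      (⟨v.1, (mem_klV O).2 ⟨v.2, hall _ v.2⟩⟩ : ↥(klV N g))) fun a b e =>
        Subtype.ext (congrArg (fun x : ↥(klV N g) => (x : V)) e)
    omega
  push Not at hall
  obtain ⟨v₀, hv₀, hl₀⟩ := hall
  have hl₀' : lf N g v₀ = 1 := (zmod_two_cases _).resolve_left hl₀
  let f : {v : V // N.ρ O.inv' v = v} → Bool × ↥(klV N g) := fun v =>
    if h : lf N g v.1 = 0 then (false, ⟨v.1, (mem_klV O).2 ⟨v.2, h⟩⟩)
    else (true, ⟨v.1 + v₀, (mem_klV O).2 ⟨by rw [O.a_add, v.2, hv₀], by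
      rw [O.lfun_lfun.1 _ _ v.2 hv₀, (zmod_two_cases _).resolve_left h, hl₀']; decide⟩⟩)
  have := Nat.card_le_card_of_injective f fun a b e => by
    by_cases ha : lf N g a.1 = 0 <;> by_cases hb : lf N g b.1 = 0 <;> simp [f, ha, hb] at e
    · exact Subtype.ext e
    · exact Subtype.ext e
  rwa [Nat.card_prod, Nat.card_eq_fintype_card (α := Bool), Fintype.card_bool] at this

theorem fusion_of_moved (O : Out N g) {v : V} (hv : N.ρ O.inv' v = v) (hl : lf N g v ≠ 0) :
    IsConj N.z (g * N.z * g⁻¹ * N.z) := by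
  obtain ⟨p, rfl⟩ := N.surj v
  exact (ThType.Fusion.isConj_conj g).trans (isConj_iff.2 ⟨p, conj_mul_of_moved O hv hl⟩)

/-- A fixed vector is killed by the functional. -/
theorem lf_of_fixed (hV : Nat.card V = 256) {n : V} (hn : ∀ c, N.ρ c n = n) (O : Out N g) :
    lf N g n = 0 := by
  by_contra hl
  obtain ⟨w, rfl⟩ := N.surj n
  obtain ⟨k, P, hk, hb⟩ := moved_bound O (conj_mul_of_moved O (hn _) hl)
    (T := {(w : G), (w : G) * N.z}) (Set.toFinite _) fun c _ => by
      have e : N.π w = N.π ⟨(c : G) * w * (c : G)⁻¹, N.conj_mem c.2 w⟩ := (hn c).symm.trans (N.ρ_π c w)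
      rcases N.π_eq e with e' | e' <;> simp only at e' <;> simp [e']
  have hT : ({(w : G), (w : G) * N.z} : Set G).ncard ≤ 2 := by
    refine (Set.ncard_insert_le _ _).trans ?_
    rw [Set.ncard_singleton]
  have hb' := hb.trans (Nat.mul_le_mul_right _ hT)
  rw [card_sG O.symm, ← card_dV P] at hb'
  obtain ⟨hker, hrk, hperp, hmul⟩ := comA_facts (N.ρ_mem P.inv') P.a_sq.1
  set f := comA (N.ρ_mem P.inv').1
  rw [hV] at hmul
  have hcF : Nat.card ↥f.ker = Nat.card {v : V // N.ρ O.symm.inv' v = v} :=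
    Nat.card_congr (Equiv.subtypeEquivRight fun v => by rw [hker, hk])
  have h1 : Nat.card ↥f.ker ≤ 2 * Nat.card ↥(dV N k) := by
    rw [hcF]
    have := fix_le_kl O.symm
    omega
  have hdk : ∀ d ∈ dV N k, d ∈ f.ker := fun d hd => (hker d).2 ((mem_klV P).1 (dV_le_klV P hd)).1
  have h2 : Nat.card ↥(dV N k) * Nat.card ↥(dV N k) ≤ 256 := by
    rw [← hV]
    refine le_trans (Nat.mul_le_mul_left _ ?_) (card_mul_perp N.S (dV N k)).le
    exact Nat.card_le_card_of_injective (fun d => (⟨d.1, fun v hv => (dV_perp P d.2 (dV_le_klV P hv)).1⟩ :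
      ↥(perpA N.S (dV N k)))) fun a b e => Subtype.ext (congrArg (fun x : ↥(perpA N.S (dV N k)) => (x : V)) e)
  have hFpos : 0 < Nat.card ↥f.ker := Nat.card_pos
  have hRF : Nat.card ↥f.range ≤ Nat.card ↥f.ker := AddSubgroup.card_le_of_le hrk
  by_cases hall : ∀ v : V, N.ρ P.inv' v = v → lf N k v = 0
  · have h3 : Nat.card ↥(dV N k) ≤ Nat.card ↥f.range := by
      rw [hperp]
      refine AddSubgroup.card_le_of_le fun d hd v hv => ?_
      exact (dV_perp P hd ((mem_klV P).2 ⟨(hker v).1 hv, hall v ((hker v).1 hv)⟩)).1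
    have hF : Nat.card ↥f.ker = 16 := by
      have hlo : 16 ≤ Nat.card ↥f.ker := by nlinarith
      have hhi : Nat.card ↥f.ker ≤ 22 := by nlinarith
      interval_cases h : Nat.card ↥f.ker <;> omega
    have heq : f.range = f.ker := AddSubgroup.eq_of_le_of_card_ge hrk (by rw [hF] at hmul ⊢; omega)
    have h4 := P.d_le_four fun v hv => by
      obtain ⟨u, hu⟩ := heq ▸ (hker v).2 hv
      exact ⟨u, hu⟩
    rw [← card_dV P] at h4
    omega
  · push Not at hall
    obtain ⟨v, hv, hlv⟩ := hall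
    have hj := fusion_of_moved P hv hlv
    have h3 : Nat.card ↥(dV N k) * Nat.card ↥f.range ≤ Nat.card ↥f.ker := by
      rw [← Nat.card_prod]
      refine Nat.card_le_card_of_injective
        (fun p => (⟨p.1.1 + p.2.1, add_mem (hdk _ p.1.2) (hrk p.2.2)⟩ : ↥f.ker)) fun a b e => ?_
      have e' : a.1.1 + a.2.1 = b.1.1 + b.2.1 := congrArg Subtype.val e
      have hd : a.1.1 - b.1.1 = b.2.1 - a.2.1 := by
        rw [sub_eq_sub_iff_add_eq_add, e', add_comm]
      by_cases h0 : a.1.1 - b.1.1 = 0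
      · exact Prod.ext (Subtype.ext (sub_eq_zero.1 h0)) (Subtype.ext (sub_eq_zero.1 (hd.symm.trans h0)).symm)
      · exact absurd (hd ▸ sub_mem b.2.2 a.2.2 : a.1.1 - b.1.1 ∈ f.range)
          fun ⟨u, hu⟩ => d_no_image P hj (sub_mem a.1.2 b.1.2) h0 ⟨u, hu⟩
    have hD : Nat.card ↥(dV N k) ≤ 16 := by nlinarith
    nlinarith

/-- An isometry of odd order centralising the image of a conjugate without functional lifts to its stabiliser. -/
theorem odd_lift (O : Out N g) (hlf : ∀ v, N.ρ O.inv' v = v → lf N g v = 0)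
    (k : centralizer ({N.z} : Set G)) (hk : N.ρ k * N.ρ O.inv' = N.ρ O.inv' * N.ρ k) {r : ℕ} (hr : Odd r)
    (hkr : N.ρ k ^ r = 1) : ∃ k' ∈ kG N g, N.ρ k' = N.ρ k := by
  set x := g * N.z * g⁻¹ with hx
  have hxx : x * x = 1 := O.x_sq
  set c := k * O.inv' * k⁻¹ * O.inv' with hc
  have hρc : N.ρ c = 1 := by rw [hc, map_mul, map_mul, map_mul, map_inv, hk, mul_inv_cancel_right, O.a_sq.1]
  have hcQ : (c : G) ∈ N.Q := (N.ρ_eq_one_iff c).1 hρc
  have hcG : (c : G) = k * x * (k : G)⁻¹ * x := rfl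
  set q : ↥N.Q := ⟨c, hcQ⟩
  have hfix : N.ρ O.inv' (N.π q) = N.π q := by
    rw [O.act]
    refine (congrArg N.π (Subtype.ext ?_ : _ = q⁻¹)).trans (N.π_inv q)
    show x * (c : G) * x⁻¹ = (c : G)⁻¹
    refine eq_inv_of_mul_eq_one_left ?_
    rw [hcG, show x⁻¹ = x from O.x_inv]
    calc x * (k * x * (k : G)⁻¹ * x) * x * (k * x * (k : G)⁻¹ * x)
        = x * (k * x * (k : G)⁻¹ * (x * x)) * (k * x * (k : G)⁻¹ * x) := by group
      _ = x * (k * (x * x) * (k : G)⁻¹) * x := by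
          rw [show (k : G) * x * (k : G)⁻¹ * (x * x) = k * x * (k : G)⁻¹ by rw [hxx, mul_one]]; group
      _ = 1 := by rw [hxx, mul_one, mul_inv_cancel, mul_one, hxx]
  have hcom : ∀ p : ↥N.Q, N.ρ O.inv' (N.π p) = N.π p → x * p * x⁻¹ = (p : G) := fun p hp => by
    have h := O.lfun_spec hp
    rwa [if_pos (hlf _ hp)] at h
  -- it is perpendicular to all fixed vectors
  obtain ⟨hker, -, hperp, -⟩ := comA_facts (N.ρ_mem O.inv') O.a_sq.1
  have himg : N.π q ∈ (comA (N.ρ_mem O.inv').1).range := by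
    rw [hperp]
    intro v hv
    have hv' := (hker v).1 hv
    obtain ⟨p, rfl⟩ := N.surj v
    refine (N.B_eq_zero_iff q p).2 ?_
    have hp' : (⟨((k⁻¹ : centralizer ({N.z} : Set G)) : G) * p * ((k⁻¹ : centralizer ({N.z} : Set G)) : G)⁻¹,
        N.conj_mem (k⁻¹).2 p⟩ : ↥N.Q) = _ := rfl
    have h1 := hcom ⟨_, N.conj_mem (k⁻¹).2 p⟩ (by
      refine (congrArg _ (N.ρ_π k⁻¹ p).symm).trans (Eq.trans ?_ (N.ρ_π k⁻¹ p))
      rw [← Equiv.Perm.mul_apply, map_inv, show N.ρ O.inv' * (N.ρ k)⁻¹ = (N.ρ k)⁻¹ * N.ρ O.inv' from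
        (Commute.inv_left hk).eq.symm, Equiv.Perm.mul_apply, hv'])
    have h2 := hcom p hv'
    simp only [Subgroup.coe_inv, inv_inv] at h1
    show (c : G) * p = p * c
    rw [hcG]
    calc k * x * (k : G)⁻¹ * x * p = k * x * (k : G)⁻¹ * (x * p * x⁻¹) * x := by group
      _ = k * (x * ((k : G)⁻¹ * p * k) * x⁻¹) * x * (k : G)⁻¹ * x := by rw [h2]; group
      _ = _ := by rw [h1]; group
  obtain ⟨u, hu⟩ := himg
  obtain ⟨u, rfl⟩ := N.surj u
  have hu' : N.π (O.comm' u) = N.π q := (O.π_comm' u).trans hu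
  -- a second lift, moving the conjugate by at most the central involution
  set uc : centralizer ({N.z} : Set G) := ⟨u, N.F.le u.2⟩
  set k1 := uc⁻¹ * k with hk1
  have hρ1 : N.ρ k1 = N.ρ k := by
    rw [hk1, map_mul, (N.ρ_eq_one_iff _).2 (show ((uc⁻¹ : centralizer ({N.z} : Set G)) : G) ∈ N.Q from
      inv_mem u.2), one_mul]
  have huu : (u : G) * x * (u : G)⁻¹ = (O.comm' u : G) * x := O.comm'_spec u
  have hzc : ∀ {y : G}, y * N.z = N.z * y → (k1 : G) * y * (k1 : G)⁻¹ * N.z = N.z * ((k1 : G) * y * (k1 : G)⁻¹) := by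
    intro y hy
    have h : Commute (k1 : G) N.z := mem_centralizer_singleton_iff.1 k1.2
    exact ((h.mul_left hy).mul_left h.inv_left).eq
  have hcases : (k1 : G) * x * (k1 : G)⁻¹ = x ∨ (k1 : G) * x * (k1 : G)⁻¹ = x * N.z := by
    have e : (k : G) * x * (k : G)⁻¹ = c * x := by rw [hcG, mul_assoc _ x x, hxx, mul_one]
    have e1 : (k1 : G) * x * (k1 : G)⁻¹ = (u : G)⁻¹ * (c * x) * u := by
      rw [← e, hk1]
      show (u : G)⁻¹ * k * x * ((u : G)⁻¹ * k)⁻¹ = _
      group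
    rcases N.π_eq hu' with e2 | e2 <;> change (c : G) = _ at e2 <;> rw [e1, e2]
    · left; rw [← huu]; group
    · right
      rw [mul_assoc _ N.z x, show N.z * x = x * N.z from O.comm.symm, ← mul_assoc _ x N.z, ← huu,
        show (u : G)⁻¹ * ((u : G) * x * (u : G)⁻¹ * N.z) * u = x * ((u : G)⁻¹ * N.z * u) by group,
        N.z_comm (inv_mem u.2), inv_mul_cancel_right]
  rcases hcases with h | h
  · exact ⟨k1, mem_centralizer_singleton_iff.2 (mul_inv_eq_iff_eq_mul.1 h), hρ1⟩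
  exfalso
  have hcz : Commute (k1 : G) N.z := mem_centralizer_singleton_iff.1 k1.2
  have hodd : ∀ j : ℕ, (k1 : G) ^ (2 * j + 1) * x * ((k1 : G) ^ (2 * j + 1))⁻¹ = x * N.z := by
    intro j
    induction j with
    | zero => simpa using h
    | succ j ih =>
      have e2 : (k1 : G) ^ (2 * (j + 1) + 1) * x * ((k1 : G) ^ (2 * (j + 1) + 1))⁻¹ =
          (k1 : G) ^ 2 * ((k1 : G) ^ (2 * j + 1) * x * ((k1 : G) ^ (2 * j + 1))⁻¹) * ((k1 : G) ^ 2)⁻¹ := by
        rw [show 2 * (j + 1) + 1 = 2 + (2 * j + 1) by ring, pow_add]; group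
      have hz1 : (k1 : G) * N.z * (k1 : G)⁻¹ = N.z := by rw [hcz.eq, mul_inv_cancel_right]
      rw [e2, ih, sq]
      calc (k1 : G) * k1 * (x * N.z) * ((k1 : G) * k1)⁻¹
          = (k1 : G) * ((k1 : G) * x * (k1 : G)⁻¹ * ((k1 : G) * N.z * (k1 : G)⁻¹)) * (k1 : G)⁻¹ := by group
        _ = (k1 : G) * (x * (N.z * N.z)) * (k1 : G)⁻¹ := by rw [h, hz1, mul_assoc x]
        _ = _ := by rw [N.zz, mul_one, h]
  obtain ⟨j, rfl⟩ := hr
  have hy : ((k1 ^ (2 * j + 1) : centralizer ({N.z} : Set G)) : G) ∈ N.Q :=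
    (N.ρ_eq_one_iff _).1 (by rw [map_pow, hρ1, hkr])
  rw [Subgroup.coe_pow] at hy
  set y : ↥N.Q := ⟨_, hy⟩
  have hyx : (y : G) * x * (y : G)⁻¹ = x * N.z := hodd j
  have hxy : x * (y : G) * x⁻¹ = N.z * y := by
    calc x * (y : G) * x⁻¹ = x⁻¹ * ((y : G) * x * (y : G)⁻¹) * (y : G) := by
          rw [show x⁻¹ = x from O.x_inv]
          simp only [mul_assoc, inv_mul_cancel, mul_one]
      _ = N.z * y := by rw [hyx, inv_mul_cancel_left]
  have hyfix : N.ρ O.inv' (N.π y) = N.π y := by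
    rw [O.act, show (⟨x * (y : G) * x⁻¹, O.x_conj_mem y.2⟩ : ↥N.Q) = ⟨N.z, N.z_mem⟩ * y from Subtype.ext hxy,
      N.π_mul, N.π_z, zero_add]
  have := (hcom y hyfix).symm.trans hxy
  exact N.z_ne (mul_eq_right.1 this.symm)

/-- The root of the image of a conjugate over a fixed nonsingular vector. -/
theorem exists_root_pair (O : Out N g) {n : V} (hq : N.S.q n = 1) (hn : ∀ c, N.ρ c n = n)
    (hl : lf N g⁻¹ n = 0) : ∃ m ∈ mG N g, m * m = N.ρ O.inv' ∧
      ∀ k ∈ kG N g, N.ρ k * m * (N.ρ k)⁻¹ = m ∨ N.ρ k * m * (N.ρ k)⁻¹ = m * N.ρ O.inv' := by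
  obtain ⟨w, rfl⟩ := N.surj n
  have hw2 : (w : G) * w = N.z := by rw [N.sq w, if_neg (by rw [hq]; decide)]
  have hwx := O.symm.lfun_spec (hn O.symm.inv')
  rw [if_pos hl] at hwx
  have hwx' : g⁻¹ * N.z * g * w = w * (g⁻¹ * N.z * g) := by
    simpa using mul_inv_eq_iff_eq_mul.1 hwx
  set c := g * (w : G) * g⁻¹ with hc
  have hcC : c ∈ centralizer ({N.z} : Set G) := mem_centralizer_singleton_iff.2 (by
    calc c * N.z = g * ((w : G) * (g⁻¹ * N.z * g)) * g⁻¹ := by rw [hc]; group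
      _ = g * (g⁻¹ * N.z * g * w) * g⁻¹ := by rw [hwx']
      _ = N.z * c := by rw [hc]; group)
  have hcQ : (⟨c, hcC⟩ : centralizer ({N.z} : Set G)) ∈ tG N g :=
    mem_tG.2 (mem_Qg.2 (by rw [show g⁻¹ * c * g = w by rw [hc]; group]; exact w.2))
  have hsq : (⟨c, hcC⟩ : centralizer ({N.z} : Set G)) * ⟨c, hcC⟩ = O.inv' :=
    Subtype.ext (show c * c = g * N.z * g⁻¹ by rw [hc, ← hw2]; group)
  refine ⟨_, mem_map_of_mem _ hcQ, by rw [← map_mul, hsq], fun k hk => ?_⟩
  have hkx : (k : G) * (g * N.z * g⁻¹) = g * N.z * g⁻¹ * k := mem_centralizer_singleton_iff.1 hk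
  set k' : centralizer ({N.z} : Set G) := ⟨g⁻¹ * k * g, mem_centralizer_singleton_iff.2 (by
    calc g⁻¹ * (k : G) * g * N.z = g⁻¹ * ((k : G) * (g * N.z * g⁻¹)) * g := by group
      _ = g⁻¹ * (g * N.z * g⁻¹ * k) * g := by rw [hkx]
      _ = N.z * (g⁻¹ * k * g) := by group)⟩
  have e : N.π w = N.π ⟨(k' : G) * w * (k' : G)⁻¹, N.conj_mem k'.2 w⟩ := (hn k').symm.trans (N.ρ_π k' w)
  have e2 : (k : G) * c * (k : G)⁻¹ = g * ((k' : G) * w * (k' : G)⁻¹) * g⁻¹ := by
    show _ = g * (g⁻¹ * k * g * w * (g⁻¹ * k * g)⁻¹) * g⁻¹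
    rw [hc]; group
  rcases N.π_eq e with e' | e' <;> simp only at e' <;> rw [e'] at e2
  · left
    rw [← map_inv, ← map_mul, ← map_mul]
    exact congrArg N.ρ (Subtype.ext e2)
  · right
    rw [← map_inv, ← map_mul, ← map_mul, ← map_mul]
    refine congrArg N.ρ (Subtype.ext (e2.trans ?_))
    show g * ((w : G) * N.z) * g⁻¹ = c * (g * N.z * g⁻¹)
    rw [hc]; group

section Sylow

variable {W : Type*} [AddCommGroup W] {S : QV W} {A : Act Sp2 W} {ε : Bool} (Ch : AxisChart ε S A)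
include Ch

/-- The element acts by the code. -/
def AxisChart.Code (c : ℕ) (h : Sp2) : Prop := ∀ u < 256, A.σ h (Ch.c u) = Ch.c (CoTwoRec.app c u)

theorem AxisChart.ext8 {h h' : Sp2} (e : ∀ i < 8, A.σ h (Ch.c (2 ^ i)) = A.σ h' (Ch.c (2 ^ i))) :
    A.σ h = A.σ h' := by
  refine Equiv.ext fun v => ?_
  obtain ⟨u, hu, rfl⟩ := Ch.surj v
  have key : ∀ n ≤ 8, A.σ h (Ch.c (linN (fun i => 2 ^ i) n u)) = A.σ h' (Ch.c (linN (fun i => 2 ^ i) n u)) := by
    intro n
    induction n with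
    | zero => intro _; simp only [linN]; rw [Ch.c_zero]; exact (sig_zero A h).trans (sig_zero A h').symm
    | succ n ih =>
      intro hn
      simp only [linN]
      rw [Ch.xor, A.add, A.add, ih (by omega)]
      split_ifs
      · rw [e n (by omega)]
      · rw [Ch.c_zero]; exact congrArg _ ((sig_zero A h).trans (sig_zero A h').symm)
  have := key 8 le_rfl
  rwa [basis_ok u hu] at this

theorem AxisChart.code_of_basis {c : ℕ} {h : Sp2} (e : ∀ i < 8, A.σ h (Ch.c (2 ^ i)) = Ch.c (img c i)) :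
    Ch.Code c h := by
  intro u hu
  have key : ∀ n ≤ 8, A.σ h (Ch.c (linN (fun i => 2 ^ i) n u)) = Ch.c (linN (img c) n u) := by
    intro n
    induction n with
    | zero => intro _; simp only [linN]; rw [Ch.c_zero]; exact sig_zero A h
    | succ n ih =>
      intro hn
      simp only [linN]
      rw [Ch.xor, Ch.xor, A.add, ih (by omega)]
      split_ifs
      · rw [e n (by omega)]
      · rw [Ch.c_zero]; exact congrArg _ (sig_zero A h)
  have := key 8 le_rfl
  rwa [basis_ok u hu] at this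

theorem AxisChart.code_basis {c : ℕ} {h : Sp2} (e : Ch.Code c h) {i : ℕ} (hi : i < 8) :
    A.σ h (Ch.c (2 ^ i)) = Ch.c (img c i) := by
  rw [e _ (pow_lt hi)]
  congr 1
  interval_cases i <;> norm_num [CoTwoRec.app, linN, Nat.testBit, Nat.shiftRight_eq_div_pow, Nat.and_one_is_mod]

theorem AxisChart.code_gen {i k : ℕ} (hk : k < 6) {h : Sp2} (e : Ch.Code (axSel i) h) {n : ℕ} (hn : n < 8) :
    A.σ (tvW (sylW.getD k []) * h) (Ch.c (2 ^ n)) = Ch.c (CoTwoRec.app (axGen.getD k 0) (img (axSel i) n)) := by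
  have hg : Ch.Code (axGen.getD k 0) (tvW (sylW.getD k [])) := Ch.code_of_basis fun j hj => by
    rw [(Ch.app _ (pow_lt hj)).2, Nat.eq_of_beq_eq_true (all_lt (all_lt ax_gen_ok hk) hj)]
  rw [sig_mul, Ch.code_basis e hn, hg _ (img_lt _ _)]

theorem AxisChart.exists_code {h : Sp2} (hh : h ∈ sylS) : ∃ i < 512, Ch.Code (axSel i) h := by
  have hm : h ∈ Submonoid.closure (Set.range fun k : Fin 6 => tvW (sylW.getD k [])) := by
    rw [← Subgroup.closure_toSubmonoid_of_finite]; exact hh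
  induction hm using Submonoid.closure_induction_left with
  | one => exact ⟨0, by norm_num, Ch.code_of_basis fun j hj => by
      rw [map_one, Equiv.Perm.one_apply, Nat.eq_of_beq_eq_true (all_lt ax_one_ok hj)]⟩
  | mul_left x hx y _ ih =>
    obtain ⟨k, rfl⟩ := hx
    obtain ⟨i, hi, hc⟩ := ih (by
      show y ∈ (Subgroup.closure _).toSubmonoid
      rw [Subgroup.closure_toSubmonoid_of_finite]; assumption)
    have h0 := all_lt (all_lt ax_succ_ok hi) k.isLt
    simp only [Bool.and_eq_true, Nat.blt_eq] at h0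
    exact ⟨_, h0.1, Ch.code_of_basis fun j hj => by
      rw [Ch.code_gen k.isLt hc hj, Nat.eq_of_beq_eq_true (all_lt h0.2 hj)]⟩

theorem AxisChart.code_exists : ∀ i < 512, ∃ h ∈ sylS, Ch.Code (axSel i) h := by
  intro i
  induction i using Nat.strong_induction_on with
  | _ i ih =>
    intro hi
    rcases i with _ | j
    · exact ⟨1, one_mem _, Ch.code_of_basis fun n hn => by
        rw [map_one, Equiv.Perm.one_apply, Nat.eq_of_beq_eq_true (all_lt ax_one_ok hn)]⟩
    have h0 := all_lt ax_par_ok (show j < 511 by omega)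
    simp only [Bool.and_eq_true, Nat.blt_eq] at h0
    obtain ⟨h, hh, hc⟩ := ih _ h0.1.1 (by omega)
    exact ⟨_, mul_mem (Subgroup.subset_closure ⟨⟨_, h0.1.2⟩, rfl⟩) hh, Ch.code_of_basis fun n hn => by
      rw [Ch.code_gen h0.1.2 hc hn, Nat.eq_of_beq_eq_true (all_lt h0.2 hn)]⟩

theorem AxisChart.card_syl (hinj : Function.Injective A.σ) : Nat.card sylS = 512 := by
  have hlt : ∀ i, axSel i < 2 ^ 64 := fun i => Nat.mod_lt _ (Nat.pos_of_ne_zero (by norm_num))
  choose f hf1 hf2 using fun i : Fin 512 => Ch.code_exists i.val i.isLt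
  refine le_antisymm ?_ ?_
  · choose e he1 he2 using fun h : sylS => Ch.exists_code h.2
    have := Nat.card_le_card_of_injective (fun h : sylS => (⟨e h, he1 h⟩ : Fin 512)) fun a b h => by
      have h' : e a = e b := congrArg Fin.val h
      exact Subtype.ext (hinj (Ch.ext8 fun j hj => by
        rw [Ch.code_basis (he2 a) hj, Ch.code_basis (he2 b) hj, h']))
    simpa using this
  · have := Nat.card_le_card_of_injective (fun i : Fin 512 => (⟨f i, hf1 i⟩ : sylS)) fun a b h => by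
      have h' : f a = f b := congrArg Subtype.val h
      have e : axSel a.val = axSel b.val := img_inj (hlt _) (hlt _) fun j hj =>
        Ch.inj _ (img_lt _ _) _ (img_lt _ _) ((Ch.code_basis (hf2 a) hj).symm.trans (h' ▸ Ch.code_basis (hf2 b) hj))
      rcases lt_trichotomy a.val b.val with l | l | l
      · simpa [e] using all_lt (all_lt ax_distinct b.isLt) l
      · exact Fin.ext l
      · simpa [e] using all_lt (all_lt ax_distinct a.isLt) l
    simpa using this

/-- A forbidden fixed combination, seen at an element whose square is an involution. -/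
theorem AxisChart.bad {v u c : ℕ} {h : Sp2} (hh : Ch.Code c h) (hb : axBadB ε c v u = true) :
    A.σ (h * h) (Ch.c v) = Ch.c v ∧ A.σ h (Ch.c v) + Ch.c v ≠ 0 ∧ (S.q (A.σ h (Ch.c v) + Ch.c v) = 1 ∨
      ∃ y, A.σ (h * h) y + y = A.σ h (Ch.c v) + Ch.c v) := by
  simp only [axBadB, Bool.and_eq_true, Bool.or_eq_true, Bool.not_eq_true', Nat.blt_eq, Nat.beq_eq] at hb
  obtain ⟨⟨⟨hv, hs⟩, hne⟩, hq⟩ := hb
  have hd : CoTwoRec.app c v ^^^ v < 256 := Nat.xor_lt_two_pow (n := 8) (app_lt _ _) hv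
  rw [hh v hv, ← Ch.xor]
  refine ⟨?_, fun e => ?_, ?_⟩
  · rw [sig_mul, hh v hv, hh _ (app_lt _ _)]; exact congrArg Ch.c hs
  · have := Ch.inj _ hd 0 (by norm_num) (e.trans Ch.c_zero.symm)
    simp [this] at hne
  · rcases hq with hq | ⟨hu, e⟩
    · exact Or.inl (by rw [Ch.form _ hd, hq, if_pos rfl])
    · refine Or.inr ⟨Ch.c u, ?_⟩
      rw [sig_mul, hh u hu, hh _ (app_lt _ _), ← Ch.xor]
      exact congrArg Ch.c e

theorem AxisChart.word {L : List (Fin 8)} {r u : ℕ} (hu : u < 256) :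
    (appA L)^[r] u < 256 ∧ A.σ (tvW L ^ r) (Ch.c u) = Ch.c ((appA L)^[r] u) := by
  induction r with
  | zero => exact ⟨hu, by rw [pow_zero, map_one]; rfl⟩
  | succ r ih =>
    rw [Function.iterate_succ_apply']
    exact ⟨(Ch.app L ih.1).1, by rw [pow_succ', sig_mul, ih.2, (Ch.app L ih.1).2]⟩

/-- A word of the list as an element of odd order centralising the square and moving the element off its pair. -/
theorem AxisChart.odd (hinj : Function.Injective A.σ) {L : List (Fin 8)} {r c : ℕ} {h : Sp2} (hh : Ch.Code c h)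
    (hb : axOddB c L r = true) : Odd r ∧ tvW L ^ r = 1 ∧ tvW L * (h * h) = h * h * tvW L ∧
      tvW L * h ≠ h * tvW L ∧ tvW L * h ≠ h * (h * h) * tvW L := by
  simp only [axOddB, Bool.and_eq_true, List.all_eq_true, List.any_eq_true, List.mem_range, Nat.beq_eq,
    Bool.not_eq_true'] at hb
  obtain ⟨⟨⟨⟨ho, hc⟩, hr⟩, ⟨i, hi, h1⟩⟩, ⟨j, hj, h2⟩⟩ := hb
  have sq : ∀ {u}, u < 256 → A.σ (h * h) (Ch.c u) = Ch.c (axSqA c u) ∧ axSqA c u < 256 := fun {u} hu =>
    ⟨by rw [sig_mul, hh u hu, hh _ (app_lt _ _)]; rfl, app_lt _ _⟩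
  have hA : ∀ {u}, u < 256 → appA L u < 256 := fun hu => (Ch.app L hu).1
  refine ⟨Nat.odd_iff.2 ho, hinj (Ch.ext8 fun n hn => ?_), hinj (Ch.ext8 fun n hn => ?_), fun e => ?_, fun e => ?_⟩
  · rw [(Ch.word (pow_lt hn)).2, hr n hn, map_one]; rfl
  · have hp := pow_lt hn
    rw [sig_mul, (sq hp).1, (Ch.app L (sq hp).2).2, sig_mul, (Ch.app L hp).2, (sq (hA hp)).1, hc n hn]
  · have hp := pow_lt hi
    have e' := congrArg (fun x => A.σ x (Ch.c (2 ^ i))) e
    simp only [sig_mul] at e'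
    rw [hh _ hp, (Ch.app L (app_lt _ _)).2, (Ch.app L hp).2, hh _ (hA hp)] at e'
    simp [Ch.inj _ (hA (app_lt _ _)) _ (app_lt _ _) e'] at h1
  · have hp := pow_lt hj
    have e' : A.σ (tvW L * h) (Ch.c (2 ^ j)) = A.σ (h * (h * h) * tvW L) (Ch.c (2 ^ j)) := by rw [e]
    rw [sig_mul, hh _ hp, (Ch.app L (app_lt _ _)).2, sig_mul, (Ch.app L hp).2, sig_mul,
      (sq (hA hp)).1, hh _ (sq (hA hp)).2] at e'
    simp [Ch.inj _ (hA (app_lt _ _)) _ (app_lt _ _) e'] at h2

/-- An element of order four is carried into the list. -/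
theorem AxisChart.exists_four (hinj : Function.Injective A.σ) {μ : Sp2} (h4 : μ * μ * (μ * μ) = 1)
    (h2 : μ * μ ≠ 1) : ∃ k : Sp2, ∃ c e, Ch.Code c (k * μ * k⁻¹) ∧ axRowB ε c e = true := by
  have hM : IsPGroup 2 (zpowers μ) := by
    rintro ⟨_, n, rfl⟩
    refine ⟨2, Subtype.ext ?_⟩
    show (μ ^ n) ^ (2 ^ 2) = 1
    rw [← zpow_natCast, ← zpow_mul, show n * ((2 ^ 2 : ℕ) : ℤ) = (4 : ℤ) * n by push_cast; ring, zpow_mul,
      show μ ^ (4 : ℤ) = 1 by rw [show (4 : ℤ) = ((4 : ℕ) : ℤ) from rfl, zpow_natCast, ← h4]; simp [pow_succ, mul_assoc],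
      one_zpow]
  obtain ⟨k, -, hk⟩ := exists_conj_le (Ch.card_syl hinj) not_dvd_card le_top le_top hM
  obtain ⟨i, hi, hc⟩ := Ch.exists_code (hk μ (mem_zpowers μ))
  have sq : ∀ {u}, u < 256 → A.σ (k * μ * k⁻¹ * (k * μ * k⁻¹)) (Ch.c u) = Ch.c (axSqA (axSel i) u) := fun {u} hu => by
    rw [sig_mul, hc u hu, hc _ (app_lt _ _)]; rfl
  have h := all_lt (ax_rows_ok ε) hi
  simp only [Bool.or_eq_true, List.any_eq_true, Bool.and_eq_true] at h
  rcases h with h | ⟨e, -, -, he⟩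
  · exfalso
    simp only [axFourB, Bool.not_eq_true', Bool.and_eq_false_iff, Bool.not_eq_false', List.all_eq_true,
      List.all_eq_false, List.mem_range, Nat.beq_eq] at h
    rcases h with h | ⟨j, hj, hne⟩
    · refine h2 ?_
      have e1 : k * μ * k⁻¹ * (k * μ * k⁻¹) = 1 := hinj (Ch.ext8 fun n hn => by
        rw [sq (pow_lt hn), h n hn, map_one]; rfl)
      exact conj_eq_one_iff.1 (show k * (μ * μ) * k⁻¹ = 1 by rw [← e1]; group)
    · refine hne ?_
      have e1 : k * μ * k⁻¹ * (k * μ * k⁻¹) * (k * μ * k⁻¹ * (k * μ * k⁻¹)) = 1 := by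
        calc _ = k * (μ * μ * (μ * μ)) * k⁻¹ := by group
          _ = 1 := by rw [h4]; group
      refine Ch.inj _ (app_lt _ _) _ (pow_lt hj) ?_
      have e2 := congrArg (fun x => A.σ x (Ch.c (2 ^ j))) e1
      simp only [sig_mul (A := A) (g := k * μ * k⁻¹ * (k * μ * k⁻¹)), sq (pow_lt hj), map_one,
        Equiv.Perm.one_apply] at e2
      rwa [sq (show axSqA (axSel i) (2 ^ j) < 256 from app_lt _ _)] at e2
  · exact ⟨k, _, e, hc, he⟩

end Sylow

variable {A : Act Sp2 V} {ε : Bool} (Ch : AxisChart ε N.S A) (hinj : Function.Injective A.σ)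
  (hr : A.σ.range = N.ρ.range)
include Ch hinj hr

/-- No conjugate of the central involution outside the extraspecial group commutes with it. -/
theorem AxisChart.no_out (O : Out N g) : False := by
  have hV : Nat.card V = 256 := by
    have h : Function.Bijective fun u : Fin 256 => Ch.c u.val := ⟨fun u w e => Fin.ext (Ch.inj _ u.isLt _ w.isLt e),
      fun v => by obtain ⟨u, hu, e⟩ := Ch.surj v; exact ⟨⟨u, hu⟩, e⟩⟩
    rw [← Nat.card_congr (Equiv.ofBijective _ h), Nat.card_fin]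
  have pre : ∀ c : centralizer ({N.z} : Set G), ∃ h : Sp2, A.σ h = N.ρ c := fun c =>
    (hr.symm ▸ ⟨c, rfl⟩ : N.ρ c ∈ A.σ.range)
  have hiso : ∀ h : Sp2, A.σ h ∈ N.S.Iso := fun h => by
    obtain ⟨c, hc⟩ := (hr ▸ ⟨h, rfl⟩ : A.σ h ∈ N.ρ.range)
    rw [← hc]; exact N.ρ_mem c
  set n := Ch.c 128 with hndef
  have hn : ∀ c, N.ρ c n = n := fun c => by
    obtain ⟨h, hh⟩ := pre c
    rw [← hh, hndef, Ch.fix]
  have hqn : N.S.q n = 1 := by
    rw [hndef, Ch.form _ (by norm_num), if_pos]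
    cases ε <;> decide
  obtain ⟨m, hm, hm2, hnorm⟩ := exists_root_pair O hqn hn (lf_of_fixed hV hn O.symm)
  obtain ⟨c0, -, rfl⟩ := id hm
  obtain ⟨μ, hμ⟩ := pre c0
  set a := N.ρ O.inv' with ha
  have hμ2 : A.σ (μ * μ) = a := by rw [map_mul, hμ, hm2]
  obtain ⟨k, c, row, hc, hrow⟩ := Ch.exists_four hinj (μ := μ)
    (hinj (by rw [map_mul, hμ2, map_one]; exact O.a_sq.1))
    (fun e => O.a_sq.2 (hμ2.symm.trans (by rw [e, map_one])))
  obtain ⟨i, e1, e2, us, tu, L, r⟩ := row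
  simp only [axRowB, Bool.and_eq_true, Bool.or_eq_true, Nat.blt_eq] at hrow
  obtain ⟨⟨⟨b1, b2⟩, b3⟩, hlast⟩ := hrow
  have e1lt : e1 < 256 := by simp only [axBadB, Bool.and_eq_true, Nat.blt_eq] at b1; exact b1.1.1.1
  have e2lt : e2 < 256 := by simp only [axBadB, Bool.and_eq_true, Nat.blt_eq] at b2; exact b2.1.1.1
  -- the chart carried back
  let T : V → V := A.σ k⁻¹
  have Tk : ∀ v, A.σ k⁻¹ (A.σ k v) = v := fun v => by rw [← sig_mul, inv_mul_cancel, map_one]; rfl
  have Tm : ∀ v, N.ρ c0 (T v) = T (A.σ (k * μ * k⁻¹) v) := fun v => by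
    show _ = A.σ k⁻¹ _
    rw [sig_mul, sig_mul, Tk, hμ]
  have Ta : ∀ v, a (T v) = T (A.σ (k * μ * k⁻¹ * (k * μ * k⁻¹)) v) := fun v => by
    rw [← hm2, Equiv.Perm.mul_apply, Tm, Tm, sig_mul A (k * μ * k⁻¹) (k * μ * k⁻¹)]
  have Tadd : ∀ v w, T (v + w) = T v + T w := fun v w => A.add _ v w
  -- the three vectors
  have key : ∀ {v u}, axBadB ε c v u = true → a (T (Ch.c v)) = T (Ch.c v) ∧
      (lf N g (T (Ch.c v)) = 0 → IsConj N.z (g * N.z * g⁻¹ * N.z) → False) := by
    intro v u hb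
    obtain ⟨h1, h2, h3⟩ := Ch.bad hc hb
    have hfx : a (T (Ch.c v)) = T (Ch.c v) := by rw [Ta, h1]
    refine ⟨hfx, fun hl hj => ?_⟩
    have hd := com_dV O hm ((mem_klV O).2 ⟨hfx, hl⟩)
    rw [Tm, ← Tadd] at hd
    have hne : T (A.σ (k * μ * k⁻¹) (Ch.c v) + Ch.c v) ≠ 0 := fun e =>
      h2 ((A.σ k⁻¹).injective (e.trans (sig_zero A _).symm))
    rcases h3 with h3 | ⟨y, hy⟩
    · have := (dV_perp O hd (dV_le_klV O hd)).2
      rw [(hiso k⁻¹).2, h3] at this
      exact one_ne_zero this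
    · exact d_no_image O hj hd hne ⟨T y, by rw [Ta, ← Tadd, hy]⟩
  have hlf : ∀ v, a v = v → lf N g v = 0 := by
    intro v hv
    by_contra hl
    have hj := fusion_of_moved O hv hl
    obtain ⟨f1, z1⟩ := key b1
    obtain ⟨f2, z2⟩ := key b2
    obtain ⟨-, z3⟩ := key b3
    refine z3 ?_ hj
    rw [Ch.xor, Tadd, O.lfun_lfun.1 _ _ f1 f2, (zmod_two_cases _).resolve_left fun h => z1 h hj,
      (zmod_two_cases _).resolve_left fun h => z2 h hj]
    decide
  rcases hlast with ⟨htu, hbe⟩ | hodd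
  · have h := O.lfun_lfun.2 (T (Ch.c tu))
    rw [hlf _ (O.fix_comm _)] at h
    have e : N.ρ O.inv' (T (Ch.c tu)) = T (Ch.c (axSqA c tu)) := by
      rw [← ha, Ta, sig_mul, hc tu htu, hc _ (app_lt _ _)]; rfl
    rw [e, QV.iso_B (hiso k⁻¹), Ch.polar tu htu (axSqA c tu) (app_lt _ _), hbe, if_pos rfl] at h
    exact zero_ne_one h
  obtain ⟨hr', hpow, hcomm, hne1, hne2⟩ := Ch.odd hinj hc hodd
  set η := k⁻¹ * tvW L * k with hη
  obtain ⟨κ, hκ⟩ := (hr ▸ ⟨η, rfl⟩ : A.σ η ∈ N.ρ.range)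
  have hηc : η * (μ * μ) = μ * μ * η := by
    calc η * (μ * μ) = k⁻¹ * (tvW L * (k * μ * k⁻¹ * (k * μ * k⁻¹))) * k := by rw [hη]; group
      _ = k⁻¹ * (k * μ * k⁻¹ * (k * μ * k⁻¹) * tvW L) * k := by rw [hcomm]
      _ = _ := by rw [hη]; group
  have hηr : η ^ r = 1 := by
    have hcp : η ^ r = k⁻¹ * tvW L ^ r * k⁻¹⁻¹ := by rw [← conj_pow, hη, inv_inv]
    rw [hcp, hpow]; group
  obtain ⟨κ', hκ', hρ⟩ := odd_lift O hlf κ
    (by rw [hκ, ← ha, ← hμ2, ← map_mul, hηc, map_mul]) hr' (by rw [hκ, ← map_pow, hηr, map_one])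
  rcases hnorm κ' hκ' with h | h <;> rw [hρ.trans hκ, ← hμ] at h
  · rw [← map_inv, ← map_mul, ← map_mul] at h
    refine hne1 ?_
    calc tvW L * (k * μ * k⁻¹) = k * (η * μ * η⁻¹ * η) * k⁻¹ := by rw [hη]; group
      _ = _ := by rw [hinj h, hη]; group
  · rw [← hμ2, ← map_inv, ← map_mul, ← map_mul, ← map_mul] at h
    refine hne2 ?_
    calc tvW L * (k * μ * k⁻¹) = k * (η * μ * η⁻¹ * η) * k⁻¹ := by rw [hη]; group
      _ = _ := by rw [hinj h, hη]; group

/-- The centraliser and the odd core make up the group in the forms with a fixed vector. -/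
theorem AxisChart.z_central : centralizer ({N.z} : Set G) ⊔ Cfsg.oddCore G = ⊤ := by
  have hx : ∀ h : G, h * N.z * h⁻¹ ∈ N.Q → h * N.z * h⁻¹ = N.z := fun h hh => axis_no_inQ Ch hr hh
  refine (eq_top_iff' _).2 fun g => exists_conj_of_core N.F.ord
    (CfsgLib.Invol.zstar ⟨N.F.ord, fun h hc => ?_⟩ g)
  by_contra hne
  by_cases hq : h * N.z * h⁻¹ ∈ N.Q
  · exact hne (hx h hq)
  · exact Ch.no_out hinj hr (Out.mk hx hc.symm.eq hq)

/-- With trivial odd core and centre the module has no fixed vector. -/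
theorem AxisChart.false_of_core (hO : Cfsg.oddCore G = ⊥) (hZ : Subgroup.center G = ⊥) : False := by
  have h := Ch.z_central hinj hr
  rw [hO, sup_bot_eq, eq_top_iff'] at h
  have hz : N.z ∈ Subgroup.center G := mem_center_iff.2 fun y => mem_centralizer_singleton_iff.1 (h y)
  rw [hZ, mem_bot] at hz
  exact N.z_ne hz

end CfsgLib.CoTwoRec
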