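import Cfsg.Agent.Lib.CoTwoRec.OutBase
import Cfsg.Agent.Lib.CoTwoRec.OutGen
import Mathlib.LinearAlgebra.Dual.Lemmas

/-!
# Conjugate configurations, lifts of odd order, and conjugation over one image

The configuration moved by an element of the centraliser; an element of odd order commuting with the image has a
lift fixing the conjugate; elements over the image acting alike on the fixed vectors are conjugate up to the
central involution.
-/

set_option autoImplicit false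
set_option linter.unusedSectionVars false
set_option linter.style.haveILetI false

namespace CfsgLib.CoTwoRec

open Subgroup CfsgLib.ExtraNine CfsgLib.LargeExtra CfsgLib.ThType.Fusion

variable {G : Type*} [Group G] [Finite G] {V : Type*} [AddCommGroup V] {N : Nine G V} {g : G}

/-! ### The moved configuration -/

theorem out_mul (O : Out N g) (k : centralizer ({N.z} : Set G)) : Out N ((k : G) * g) := O.out_conj k

theorem rho_out_mul (O : Out N g) (k : centralizer ({N.z} : Set G)) (O' : Out N ((k : G) * g)) :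
    N.ρ O'.inv' = N.ρ k * N.ρ O.inv' * (N.ρ k)⁻¹ := O.rho_out_conj k

theorem mem_mG_mul (k : centralizer ({N.z} : Set G)) {m : Equiv.Perm V} :
    N.ρ k * m * (N.ρ k)⁻¹ ∈ mG N ((k : G) * g) ↔ m ∈ mG N g := mem_MG_conj k

theorem mem_dV_mul (k : centralizer ({N.z} : Set G)) {v : V} :
    N.ρ k v ∈ dV N ((k : G) * g) ↔ v ∈ dV N g := by
  constructor
  · rintro ⟨d, hd, e⟩
    have h1 : (k : G)⁻¹ * d * k ∈ dG N g := by
      have e' : (k : G) * ((k : G)⁻¹ * d * k) * (k : G)⁻¹ = d := by group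
      exact ⟨(mem_Q_conj k).1 (by rw [e']; exact hd.1), (mem_Qg_conj k).1 (by rw [e']; exact hd.2)⟩
    refine ⟨_, h1, (N.ρ k).injective ?_⟩
    rw [N.ρ_π, ← e]
    congr 1
    exact Subtype.ext (show (k : G) * ((k : G)⁻¹ * d * k) * (k : G)⁻¹ = d by group)
  · rintro ⟨d, hd, rfl⟩
    exact ⟨_, ⟨(mem_Q_conj k).2 hd.1, (mem_Qg_conj k).2 hd.2⟩, by rw [N.ρ_π]; rfl⟩

theorem dG_bot_mul (k : centralizer ({N.z} : Set G)) : dG N ((k : G) * g) = ⊥ ↔ dG N g = ⊥ := by
  rw [← card_eq_one, card_dG_conj, card_eq_one]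

theorem lf0_mul (O : Out N g) (k : centralizer ({N.z} : Set G)) (O' : Out N ((k : G) * g))
    (h : ∀ v, N.ρ O.inv' v = v → lf N g v = 0) : ∀ v, N.ρ O'.inv' v = v → lf N ((k : G) * g) v = 0 := by
  intro v hv
  have e := rho_pi_inv (N := N) k v
  rw [← e, lf_conj]
  refine h _ ((N.ρ k).injective ?_)
  rw [e]
  rw [rho_out_mul O k O'] at hv
  simpa [Equiv.Perm.mul_apply, map_inv] using hv

/-! ### Perpendiculars of fixed vectors -/

/-- For an isometry the vectors perpendicular to the fixed ones are commutators. -/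
theorem perp_image (k : centralizer ({N.z} : Set G)) : PerpImage N.S (N.ρ k) := by
  classical
  haveI : Finite V := Finite.of_surjective N.π N.surj
  letI : Module (ZMod 2) V := AddCommGroup.zmodModule fun v => by rw [two_nsmul]; exact N.S.two v
  intro v hv
  let Φ : V →ₗ[ZMod 2] Module.Dual (ZMod 2) V :=
    (AddMonoidHom.mk' (fun t => (AddMonoidHom.mk' (N.S.B t) (N.S.B_add_right t)).toZModLinearMap 2)
      fun s t => LinearMap.ext fun w => N.S.B_add_left s t w).toZModLinearMap 2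
  have hinj : Function.Injective Φ := (injective_iff_map_eq_zero Φ).2 fun t h =>
    N.S.nondeg t fun w => LinearMap.congr_fun h w
  haveI : Finite (Module.Dual (ZMod 2) V) :=
    Finite.of_equiv V (Module.finBasis (ZMod 2) V).toDualEquiv.toEquiv
  have hsurj : Function.Surjective Φ :=
    (hinj.bijective_of_nat_card_le
      (Nat.card_congr (Module.finBasis (ZMod 2) V).toDualEquiv.toEquiv).symm.le).2
  let f : V →ₗ[ZMod 2] V :=
    (AddMonoidHom.mk' (fun u => N.ρ k u + u) fun s t => by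
      rw [(N.ρ_mem k).1]; abel).toZModLinearMap 2
  have hψ : Φ v ∈ LinearMap.range f.dualMap := by
    rw [LinearMap.range_dualMap_eq_dualAnnihilator_ker, Submodule.mem_dualAnnihilator]
    intro w hw
    refine hv w ?_
    have h : N.ρ k w + w = 0 := hw
    rw [eq_neg_of_add_eq_zero_left h, neg_eq_of_add_eq_zero_left (N.S.two w)]
  obtain ⟨φ, hφ⟩ := hψ
  obtain ⟨t, rfl⟩ := hsurj φ
  have h1 : ∀ w, N.S.B t (N.ρ k w + w) = N.S.B v w := fun w => LinearMap.congr_fun hφ w
  refine ⟨N.ρ k⁻¹ t, ?_⟩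
  rw [rho_pi_inv]
  have h2 : ∀ w, N.S.B (t + N.ρ k⁻¹ t + v) w = 0 := by
    intro w
    have h3 := h1 w
    have h4 : N.S.B t (N.ρ k w) = N.S.B (N.ρ k⁻¹ t) w := by
      conv_lhs => rw [← rho_pi_inv k t]
      exact QV.iso_B (N.ρ_mem k) _ _
    rw [N.S.B_add_right, h4] at h3
    rw [N.S.B_add_left, N.S.B_add_left, ← h3, add_comm (N.S.B t w)]
    exact CharTwo.add_self_eq_zero _
  exact (eq_neg_of_add_eq_zero_left (N.S.nondeg _ h2)).trans (neg_eq_of_add_eq_zero_left (N.S.two v))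

/-! ### Lifts of odd order -/

/-- An element of odd order commuting with the image has a lift in the centraliser of the conjugate. -/
theorem exists_lift_of_pow (O : Out N g) (h0 : ∀ v, N.ρ O.inv' v = v → lf N g v = 0)
    (k : centralizer ({N.z} : Set G)) (hk : N.ρ k * N.ρ O.inv' = N.ρ O.inv' * N.ρ k)
    {n : ℕ} (hn : Odd n) (hp : N.ρ k ^ n = 1) : ∃ k' ∈ kG N g, N.ρ k' = N.ρ k := by
  have hl : ∀ v, N.ρ O.inv' v = v → lf N g (N.ρ k v) = lf N g v := by
    intro v hv
    rw [h0 v hv, h0]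
    rw [← Equiv.Perm.mul_apply, ← hk, Equiv.Perm.mul_apply, hv]
  have h2 := O.sq_mem_LG (perp_image O.inv') k hk hl
  obtain ⟨m, rfl⟩ := hn
  have h3 : N.ρ k = N.ρ (k * k) ^ (m + 1) := by
    rw [map_mul, ← pow_two, ← pow_mul, show 2 * (m + 1) = 2 * m + 1 + 1 by ring, pow_succ, hp, one_mul]
  have h4 : N.ρ k ∈ LG N g := h3 ▸ pow_mem h2 _
  exact h4

theorem exists_lift_of_odd (O : Out N g) (h0 : ∀ v, N.ρ O.inv' v = v → lf N g v = 0)
    (k : centralizer ({N.z} : Set G)) (hk : N.ρ k * N.ρ O.inv' = N.ρ O.inv' * N.ρ k)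
    (hn : Odd (orderOf (N.ρ k))) : ∃ k' ∈ kG N g, N.ρ k' = N.ρ k :=
  exists_lift_of_pow O h0 k hk hn (pow_orderOf_eq_one _)

/-! ### Conjugation over one image -/

/-- An element over the image acting like the conjugate on the preimage of the fixed vectors. -/
theorem exists_conj_of_over (O : Out N g) (y : centralizer ({N.z} : Set G)) (hy : N.ρ y = N.ρ O.inv')
    (hact : ∀ p : ↥N.Q, N.ρ O.inv' (N.π p) = N.π p →
      (y : G) * p * (y : G)⁻¹ = g * N.z * g⁻¹ * p * (g * N.z * g⁻¹)⁻¹) :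
    ∃ u : ↥N.Q, g * N.z * g⁻¹ = (u : G) * y * (u : G)⁻¹ ∨
      g * N.z * g⁻¹ = (u : G) * y * (u : G)⁻¹ * N.z := by
  set x := g * N.z * g⁻¹ with hx
  have hq : x⁻¹ * (y : G) ∈ N.Q := (N.ρ_eq_iff O.inv' y).1 hy.symm
  set q : ↥N.Q := ⟨x⁻¹ * (y : G), hq⟩ with hqd
  have hyq : (y : G) = x * q := (mul_inv_cancel_left _ _).symm
  have hperp : ∀ w, N.ρ O.inv' w = w → N.S.B (N.π q) w = 0 := by
    intro w hw
    obtain ⟨p, rfl⟩ := N.surj w
    refine (N.B_eq_zero_iff q p).2 ?_
    have h := hact p hw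
    rw [hyq] at h
    have e : (q : G) * p * (q : G)⁻¹ = p := by
      refine mul_left_cancel (a := x) (mul_right_cancel (b := x⁻¹) ?_)
      rw [← h]; group
    exact mul_inv_eq_iff_eq_mul.1 e
  obtain ⟨u, hu⟩ := perp_image O.inv' _ hperp
  obtain ⟨u, rfl⟩ := N.surj u
  have hxu : (u : G) * x * (u : G)⁻¹ = x * (O.comm' u : G)⁻¹ := by
    rw [O.comm'_spec, ← O.comm'_inv u]
    calc (O.comm' u : G) * x = (x * x) * (O.comm' u : G) * x := by rw [O.x_sq, one_mul]
      _ = x * (x * (O.comm' u : G) * x⁻¹) := by rw [O.x_inv]; simp only [hx, mul_assoc]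
  refine ⟨u⁻¹, ?_⟩
  rw [Subgroup.coe_inv, inv_inv]
  rcases N.π_eq (a := (O.comm' u)⁻¹) (b := q) (by rw [N.π_inv, O.π_comm', hu]) with e | e <;>
    rw [Subgroup.coe_inv] at e
  · refine Or.inl ?_
    rw [hyq, e, ← hxu]; group
  · refine Or.inr ?_
    calc x = (u : G)⁻¹ * ((u : G) * x * (u : G)⁻¹) * u * (N.z * N.z) := by rw [N.zz, mul_one]; group
      _ = (u : G)⁻¹ * (x * (O.comm' u : G)⁻¹) * ((u : G) * N.z) * N.z := by rw [hxu]; group
      _ = (u : G)⁻¹ * (x * (O.comm' u : G)⁻¹) * (N.z * (u : G)) * N.z := by rw [N.z_comm u.2]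
      _ = (u : G)⁻¹ * y * u * N.z := by rw [hyq, e]; group

/-- The same when both act trivially there. -/
theorem exists_conj_of_comm (O : Out N g) (h0 : ∀ v, N.ρ O.inv' v = v → lf N g v = 0)
    (y : centralizer ({N.z} : Set G)) (hy : N.ρ y = N.ρ O.inv')
    (hcomm : ∀ p : ↥N.Q, N.ρ O.inv' (N.π p) = N.π p → (y : G) * p = p * y) :
    ∃ u : ↥N.Q, g * N.z * g⁻¹ = (u : G) * y * (u : G)⁻¹ ∨
      g * N.z * g⁻¹ = (u : G) * y * (u : G)⁻¹ * N.z := by
  refine exists_conj_of_over O y hy fun p hp => ?_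
  have e := O.lfun_spec hp
  rw [if_pos (h0 _ hp)] at e
  rw [hcomm p hp, mul_inv_cancel_right, e]

end CfsgLib.CoTwoRec
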