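import Cfsg.Agent.Lib.CoTwoRec.OutNorm
import Cfsg.Agent.Lib.CoTwoRec.OutMore

/-!
# The lifts of the two classes are not fused

A conjugate outside over a standard image is, up to conjugation and the central involution, the lift acting as
the complement, and fused lifts would make it conjugate to its product with the central involution.
-/

set_option autoImplicit false
set_option linter.unusedSectionVars false
set_option maxRecDepth 100000

namespace CfsgLib.CoTwoRec

open Cfsg CfsgLib.Rigid CfsgLib.ExtraNine CfsgLib.Schur.Tails.SpSix CfsgLib.ThType.Perm CfsgLib.ThType.Coords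
  CfsgLib.ThType.Fusion Subgroup

variable {G : Type*} [Group G] [Finite G] {V : Type*} [AddCommGroup V] {N : Nine G V} {A : Act Sp2 V}
  {Sp : SpinChart N.S A} {P : Copy Sp}

/-- A lift acting as a standard word commutes with the elements over its fixed vectors. -/
theorem acts_comm {w : List ℕ} (hw : w ∈ stdW) {y : centralizer ({N.z} : Set G)}
    (hy : Acts P y (tvW (w.map (Fin.ofNat 8)))) {q : ↥N.Q}
    (hq : A.σ (tvW (w.map (Fin.ofNat 8))) (N.π q) = N.π q) : (y : G) * q = q * y := by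
  have hw8 : ∀ l ∈ w, l < 8 := (by decide : ∀ u ∈ stdW, ∀ l ∈ u, l < 8) w hw
  obtain ⟨m, hm, e⟩ := Sp.surj (N.π q)
  rw [← e, (fW_act Sp w hm).2] at hq
  have hf : fW w m = m := Sp.inj _ (fW_act Sp w hm).1 _ hm hq
  have h := List.all_eq_true.1 (List.all_eq_true.1 norm_ok w hw) _ (List.mem_range.2 hm)
  simp only [Bool.and_eq_true, Bool.or_eq_true, Bool.not_eq_true'] at h
  have hs : sameC (w ++ pBits m) (pBits m ++ w) = true := h.1.resolve_left (by rw [hf]; simp)
  have hl : ∀ l, l ∈ w ∨ l ∈ pBits m → l < 16 := fun l hl =>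
    hl.elim (fun hl => (hw8 l hl).trans (by norm_num)) (pBits_lt _ l)
  have E := ev_xm_eq (fun l h' => hl l (by simpa using h')) (fun l h' => hl l (by simpa [or_comm] using h')) hs
  rw [ev_append, ev_append] at E
  obtain ⟨q₀, hq₀, hν⟩ := exists_bits P m hm
  have hc : cmY (tvW (w.map (Fin.ofNat 8))) * P.ν q = P.ν q * cmY (tvW (w.map (Fin.ofNat 8))) := by
    rw [cmY_tvW w hw8]
    rcases N.π_eq (a := q₀) (b := q) (hq₀.trans e) with h' | h'
    · rw [show q = q₀ from Subtype.ext h', hν, E]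
    · rw [show q = q₀ * ⟨N.z, N.z_mem⟩ from Subtype.ext h', map_mul, hν, P.ν_z, ← mul_assoc, E, mul_assoc,
        mul_assoc]
      exact congrArg _ (tm_central (ev xm w)).symm
  have h2 := hy.2 q
  rw [hc, mul_inv_cancel_right] at h2
  exact mul_inv_eq_iff_eq_mul.1 (congrArg Subtype.val (P.inj h2))

/-- No conjugate outside, when the lifts of the two classes are fused and none is conjugate to its product. -/
theorem not_fused (T : OutTable N A) (hr : A.σ.range = N.ρ.range)
    (nd : ∀ g, Out N g → ¬ IsConj N.z (g * N.z * g⁻¹ * N.z)) (hF : Fused P) {g₀ : G} (O₀ : Out N g₀) : False := by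
  obtain ⟨k, -, O, hi⟩ := T.norm g₀ O₀
  obtain ⟨w, hw, hcls, hi', hlf⟩ : ∃ w ∈ stdW, (IsConj (tv 0) (tvW (w.map (Fin.ofNat 8))) ∨
      IsConj (tvW [0, 1, 6]) (tvW (w.map (Fin.ofNat 8)))) ∧
      N.ρ O.inv' = A.σ (tvW (w.map (Fin.ofNat 8))) ∧ ∀ v, N.ρ O.inv' v = v → lf N (k * g₀) v = 0 := by
    rcases hi with hi | hi
    · refine ⟨[0], by simp [stdW], Or.inl ?_, ?_, fun v hv => (T.stdA _ O hi).lf0 v (by rwa [hi] at hv)⟩
      · rw [show tvW (([0] : List ℕ).map (Fin.ofNat 8)) = tv 0 from tvW_single 0]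
      · exact hi.trans (by rw [show tvW (([0] : List ℕ).map (Fin.ofNat 8)) = tv 0 from tvW_single 0])
    · exact ⟨[0, 1, 6], by simp [stdW], Or.inr (IsConj.refl _), hi,
        fun v hv => (T.stdB _ O hi).lf0 v (by rwa [hi] at hv)⟩
  obtain ⟨x, hx⟩ := toSp2_surjective P hr (tvW (w.map (Fin.ofNat 8)))
  have hacts : Acts P x.1.1 (tvW (w.map (Fin.ofNat 8))) := by
    have := x.2
    change Acts P x.1.1 x.1.2 at this
    rwa [show x.1.2 = tvW (w.map (Fin.ofNat 8)) from hx] at this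
  obtain ⟨h, hh⟩ := hF _ hcls x hx
  have hG : (h.1.1 : G) * x.1.1 * (h.1.1 : G)⁻¹ = x.1.1 * N.z :=
    congrArg (fun p : ↥(ext P) => ((p.1.1 : centralizer ({N.z} : Set G)) : G)) hh
  obtain ⟨u, hu⟩ := norm_lift O (perp_image _) hlf (y := x.1.1) (hacts.1.trans hi'.symm)
    (fun q hq => acts_comm hw hacts (by rwa [hi'] at hq))
  have hzu : (u : G) * N.z * (u : G)⁻¹ = N.z := N.conj_z (N.F.le u.2)
  have key : IsConj ((u : G) * x.1.1 * (u : G)⁻¹) ((u : G) * x.1.1 * (u : G)⁻¹ * N.z) := by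
    refine isConj_iff.2 ⟨(u : G) * h.1.1 * (u : G)⁻¹, ?_⟩
    calc _ = (u : G) * ((h.1.1 : G) * x.1.1 * (h.1.1 : G)⁻¹) * (u : G)⁻¹ := by group
      _ = (u : G) * x.1.1 * (u : G)⁻¹ * ((u : G) * N.z * (u : G)⁻¹) := by rw [hG]; group
      _ = _ := by rw [hzu]
  refine nd _ O ((isConj_iff.2 ⟨k * g₀, rfl⟩).trans ?_)
  rcases hu with e | e <;> rw [e]
  · exact key
  · rw [mul_assoc _ N.z N.z, N.zz, mul_one]
    exact key.symm

end CfsgLib.CoTwoRec
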