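import Mathlib.Data.Nat.Notation

/-!
# Tables for a conjugate inside the extraspecial subgroup on the spin module
-/

set_option autoImplicit false
set_option maxRecDepth 100000

namespace CfsgLib.CoTwoRec

/-- The sixteen combinations that can lie in the totally singular subgroup. -/
def inqW : List ℕ := [0, 8, 32, 40, 64, 72, 96, 104, 128, 136, 160, 168, 192, 200, 224, 232]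

/-- Words carrying the fixed combination to each singular one. -/
def inqOrbit : List (ℕ × List (Fin 8)) := [
  (1, [2, 5, 1, 4, 0, 3]),
  (2, [2, 5, 1, 4]),
  (3, [2, 5, 1, 4, 3]),
  (4, [2, 5, 0, 3]),
  (5, [2, 5, 4, 0, 3]),
  (6, [3, 6, 2, 5, 1, 4, 0, 3]),
  (7, [6, 2, 5, 1, 4, 0, 3]),
  (8, [2, 5]),
  (9, [6, 2, 5, 4, 3]),
  (10, [2, 5, 4]),
  (11, [6, 2, 5, 4, 0, 3]),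
  (12, [2, 5, 3]),
  (13, [6, 2, 5, 1, 4, 3]),
  (14, [3, 6, 2, 5, 4, 0, 3]),
  (15, [2, 5, 4, 3]),
  (16, [1, 4, 0, 3]),
  (17, [5, 1, 4, 0, 3]),
  (18, [6, 5, 4, 7, 3, 6, 2, 5, 1, 4, 0, 3]),
  (19, [6, 4, 7, 3, 6, 2, 5, 1, 4, 0, 3]),
  (20, [4, 7, 2, 5, 1, 4, 0, 3]),
  (21, [7, 2, 5, 1, 4, 0, 3]),
  (22, [1, 4, 7, 6, 5, 4, 3]),
  (23, [1, 4, 7, 6, 5, 1, 4, 3]),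
  (32, [1, 4]),
  (33, [6, 4, 7, 3, 6, 5, 4, 0, 3]),
  (34, [5, 1, 4]),
  (35, [6, 4, 7, 3, 6, 5, 1, 4, 0, 3]),
  (40, [4, 7, 2, 5, 1, 4]),
  (41, [1, 4, 7, 3, 6, 5, 1, 4, 0, 3]),
  (42, [7, 2, 5, 1, 4]),
  (43, [1, 4, 7, 3, 6, 5, 4, 0, 3]),
  (48, [1, 4, 3]),
  (49, [6, 4, 7, 3, 6, 2, 5, 4, 0, 3]),
  (50, [3, 6, 4, 7, 3, 6, 5, 1, 4, 0, 3]),
  (51, [5, 1, 4, 3]),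
  (60, [4, 7, 2, 5, 1, 4, 3]),
  (61, [1, 4, 7, 6, 5, 1, 4, 0, 3]),
  (62, [1, 4, 7, 6, 5, 4, 0, 3]),
  (63, [7, 2, 5, 1, 4, 3]),
  (64, [0, 3]),
  (65, [7, 5, 4, 0, 3]),
  (68, [5, 0, 3]),
  (69, [7, 5, 1, 4, 0, 3]),
  (72, [4, 6, 5, 1, 4, 7, 3, 6, 2, 5, 1, 4, 0, 3]),
  (73, [7, 6, 5, 1, 4, 3]),
  (76, [4, 6, 1, 4, 7, 3, 6, 2, 5, 1, 4, 0, 3]),
  (77, [7, 6, 5, 4, 3]),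
  (80, [4, 0, 3]),
  (81, [7, 2, 5, 4, 0, 3]),
  (84, [4, 7, 5, 1, 4, 0, 3]),
  (85, [5, 4, 0, 3]),
  (90, [6, 5, 1, 4, 7, 3, 6, 2, 5, 1, 4, 0, 3]),
  (91, [4, 7, 6, 5, 1, 4, 3]),
  (94, [4, 7, 6, 5, 4, 3]),
  (95, [6, 1, 4, 7, 3, 6, 2, 5, 1, 4, 0, 3]),
  (96, [3, 6, 1, 4, 0, 3]),
  (97, [5, 1, 4, 7, 6, 2, 5, 1, 4, 3]),
  (102, [3, 6, 5, 1, 4, 0, 3]),
  (103, [1, 4, 7, 6, 2, 5, 1, 4, 3]),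
  (104, [5, 7, 3, 6, 2, 5, 1, 4, 0, 3]),
  (105, [4, 7, 6, 2, 5, 1, 4, 0, 3]),
  (110, [7, 3, 6, 2, 5, 1, 4, 0, 3]),
  (111, [5, 4, 7, 6, 2, 5, 1, 4, 0, 3]),
  (112, [6, 1, 4, 0, 3]),
  (113, [6, 1, 4, 7, 6, 5, 1, 4, 3]),
  (118, [1, 4, 7, 6, 2, 5, 4, 3]),
  (119, [6, 5, 1, 4, 0, 3]),
  (122, [5, 4, 7, 3, 6, 2, 5, 1, 4, 0, 3]),
  (123, [7, 6, 2, 5, 1, 4, 0, 3]),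
  (124, [5, 7, 6, 2, 5, 1, 4, 0, 3]),
  (125, [4, 7, 3, 6, 2, 5, 1, 4, 0, 3]),
  (128, []),
  (130, [7, 5, 4]),
  (132, [4, 6, 1, 4, 7, 3, 6, 5, 4, 0, 3]),
  (134, [7, 3, 6, 5, 4, 0, 3]),
  (136, [5]),
  (138, [7, 5, 1, 4]),
  (140, [4, 6, 1, 4, 7, 3, 6, 5, 1, 4, 0, 3]),
  (142, [7, 3, 6, 5, 1, 4, 0, 3]),
  (144, [6, 4, 3]),
  (146, [3, 6, 1, 4, 7, 6, 5, 1, 4, 0, 3]),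
  (148, [6, 4, 7, 5, 1, 4, 3]),
  (150, [4, 7, 6, 2, 5, 4, 0, 3]),
  (153, [6, 5, 4, 3]),
  (155, [1, 4, 7, 3, 6, 2, 5, 4, 0, 3]),
  (157, [7, 6, 2, 5, 4, 3]),
  (159, [6, 4, 7, 6, 5, 1, 4, 0, 3]),
  (160, [4]),
  (162, [7, 2, 5, 4]),
  (165, [6, 1, 4, 7, 3, 6, 5, 4, 0, 3]),
  (167, [4, 7, 3, 6, 5, 4, 0, 3]),
  (168, [4, 7, 5, 1, 4]),
  (170, [5, 4]),
  (173, [4, 7, 3, 6, 5, 1, 4, 0, 3]),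
  (175, [6, 1, 4, 7, 3, 6, 5, 1, 4, 0, 3]),
  (176, [6, 4, 0, 3]),
  (178, [5, 1, 4, 7, 3, 6, 2, 5, 1, 4, 0, 3]),
  (181, [6, 4, 7, 6, 5, 1, 4, 3]),
  (183, [7, 6, 2, 5, 4, 0, 3]),
  (185, [1, 4, 7, 3, 6, 2, 5, 1, 4, 0, 3]),
  (187, [6, 5, 4, 0, 3]),
  (188, [6, 4, 7, 5, 1, 4, 0, 3]),
  (190, [4, 7, 6, 2, 5, 4, 3]),
  (192, [3]),
  (195, [7, 5, 4, 3]),
  (196, [4, 6, 1, 4, 7, 3, 6, 2, 5, 4, 0, 3]),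
  (199, [7, 6, 5, 4, 0, 3]),
  (200, [4, 3, 6, 1, 4, 7, 3, 6, 5, 1, 4, 0, 3]),
  (203, [7, 6, 5, 1, 4, 0, 3]),
  (204, [5, 3]),
  (207, [7, 5, 1, 4, 3]),
  (208, [6, 1, 4, 3]),
  (211, [6, 1, 4, 7, 6, 5, 1, 4, 0, 3]),
  (212, [5, 7, 6, 2, 5, 1, 4, 3]),
  (215, [4, 7, 3, 6, 2, 5, 4, 0, 3]),
  (217, [7, 6, 2, 5, 1, 4, 3]),
  (218, [3, 6, 4, 7, 6, 5, 1, 4, 0, 3]),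
  (221, [6, 5, 1, 4, 3]),
  (222, [1, 4, 7, 6, 2, 5, 4, 0, 3]),
  (224, [3, 6, 4, 0, 3]),
  (227, [5, 1, 4, 7, 6, 2, 5, 1, 4, 0, 3]),
  (229, [5, 4, 7, 6, 2, 5, 1, 4, 3]),
  (230, [7, 3, 6, 2, 5, 4, 0, 3]),
  (232, [3, 6, 4, 7, 5, 1, 4, 0, 3]),
  (235, [4, 7, 6, 2, 5, 1, 4, 3]),
  (237, [1, 4, 7, 6, 2, 5, 1, 4, 0, 3]),
  (238, [3, 6, 5, 4, 0, 3]),
  (240, [4, 3]),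
  (243, [7, 2, 5, 4, 3]),
  (245, [6, 1, 4, 7, 3, 6, 2, 5, 4, 0, 3]),
  (246, [4, 7, 6, 5, 4, 0, 3]),
  (249, [4, 7, 6, 5, 1, 4, 0, 3]),
  (250, [3, 6, 1, 4, 7, 3, 6, 5, 1, 4, 0, 3]),
  (252, [4, 7, 5, 1, 4, 3]),
  (255, [5, 4, 3])]

/-- Words excluding the other singular combinations. -/
def inqOther : List (ℕ × List (Fin 8)) := [
  (2, [3, 0, 6, 3, 2]),
  (4, [4, 1, 7, 4, 0]),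
  (6, [4, 1, 7, 4, 0]),
  (10, [3, 0, 6, 3, 2]),
  (12, [4, 1, 7, 4, 0]),
  (14, [4, 1, 7, 4, 0]),
  (16, [5, 2, 7, 5, 0]),
  (18, [3, 0, 6, 3, 0]),
  (20, [4, 1, 7, 4, 0]),
  (22, [3, 0, 6, 3, 0]),
  (34, [3, 0, 6, 3, 2]),
  (42, [3, 0, 6, 3, 2]),
  (48, [5, 2, 7, 5, 0]),
  (50, [3, 0, 6, 3, 0]),
  (60, [4, 1, 7, 4, 0]),
  (62, [3, 0, 6, 3, 0]),
  (68, [4, 1, 7, 4, 0]),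
  (76, [4, 1, 7, 4, 0]),
  (80, [5, 2, 7, 5, 0]),
  (84, [4, 1, 7, 4, 0]),
  (90, [3, 0, 6, 3, 0]),
  (94, [3, 0, 6, 3, 0]),
  (102, [4, 1, 7, 4, 0]),
  (110, [4, 1, 7, 4, 0]),
  (112, [5, 2, 7, 5, 0]),
  (118, [3, 0, 6, 3, 0]),
  (122, [3, 0, 6, 3, 0]),
  (124, [4, 1, 7, 4, 0]),
  (130, [3, 0, 6, 3, 2]),
  (132, [4, 1, 7, 4, 0]),
  (134, [4, 1, 7, 4, 0]),
  (138, [3, 0, 6, 3, 2]),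
  (140, [4, 1, 7, 4, 0]),
  (142, [4, 1, 7, 4, 0]),
  (144, [5, 2, 7, 5, 0]),
  (146, [3, 0, 6, 3, 0]),
  (148, [4, 1, 7, 4, 0]),
  (150, [3, 0, 6, 3, 0]),
  (162, [3, 0, 6, 3, 2]),
  (170, [3, 0, 6, 3, 2]),
  (176, [5, 2, 7, 5, 0]),
  (178, [3, 0, 6, 3, 0]),
  (188, [4, 1, 7, 4, 0]),
  (190, [3, 0, 6, 3, 0]),
  (196, [4, 1, 7, 4, 0]),
  (204, [4, 1, 7, 4, 0]),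
  (208, [5, 2, 7, 5, 0]),
  (212, [4, 1, 7, 4, 0]),
  (218, [3, 0, 6, 3, 0]),
  (222, [3, 0, 6, 3, 0]),
  (230, [4, 1, 7, 4, 0]),
  (238, [4, 1, 7, 4, 0]),
  (240, [5, 2, 7, 5, 0]),
  (246, [3, 0, 6, 3, 0]),
  (250, [3, 0, 6, 3, 0]),
  (252, [4, 1, 7, 4, 0])]

/-- Words spreading each of the fourteen combinations to the sixteen. -/
def inqSpread : List (ℕ × List (List (Fin 8))) := [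
  (8, [[4, 1, 7, 4], [3, 0, 6, 3, 4, 1, 7, 4]]),
  (32, [[3, 0, 6, 3], [5, 2, 7, 5]]),
  (40, [[3, 0, 6, 3], [4, 1, 7, 4]]),
  (64, [[4, 1, 6, 4], [5, 2, 7, 5, 4, 1, 6, 4]]),
  (72, [[4, 1, 6, 4], [5, 2, 7, 5, 4, 1, 6, 4]]),
  (96, [[3, 0, 6, 3], [5, 2, 7, 5]]),
  (104, [[3, 0, 6, 3], [4, 1, 6, 4]]),
  (136, [[4, 1, 7, 4], [3, 0, 6, 3, 4, 1, 7, 4]]),
  (160, [[3, 0, 6, 3], [5, 2, 7, 5]]),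
  (168, [[3, 0, 6, 3], [4, 1, 7, 4]]),
  (192, [[4, 1, 6, 4], [5, 2, 7, 5, 4, 1, 6, 4]]),
  (200, [[4, 1, 6, 4], [5, 2, 7, 5, 4, 1, 6, 4]]),
  (224, [[3, 0, 6, 3], [5, 2, 7, 5]]),
  (232, [[3, 0, 6, 3], [4, 1, 6, 4]])]

/-- Words killing the candidates for the translations. -/
def inqKill : List (ℕ × List (Fin 8) × List (Fin 8)) := [
  (1, [4, 1, 6, 4], [3, 0, 4, 6, 3, 4, 6, 1, 4, 3]),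
  (2, [3, 0, 6, 3], [3, 4, 1, 6, 4, 3, 6, 4, 0, 3]),
  (3, [4, 1, 6, 4], [3, 0, 4, 6, 3, 4, 6, 1, 4, 3, 4, 1, 7, 4]),
  (7, [3, 0, 6, 3], [3, 4, 1, 6, 4, 3, 6, 4, 0, 3, 4, 1, 7, 4, 3, 0, 6, 3]),
  (8, [5, 2, 7, 5], [4, 1, 5, 7, 4, 5, 7, 2, 5, 4, 4, 1, 6, 4, 0]),
  (12, [3, 0, 6, 3], [4, 1, 7, 4, 3, 0, 4, 6, 3, 4, 6, 1, 4, 3]),
  (30, [3, 0, 6, 3], [4, 1, 6, 4, 4, 1, 5, 7, 4, 5, 7, 2, 5, 4]),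
  (73, [3, 0, 6, 3], [4, 1, 7, 4, 4, 1, 6, 4]),
  (101, [5, 2, 7, 5], [4, 1, 5, 7, 4, 5, 7, 2, 5, 4]),
  (135, [3, 0, 6, 3], [4, 1, 7, 4, 3, 0, 4, 1, 6, 3, 4, 6, 1, 4, 0, 3]),
  (141, [4, 1, 6, 4], [4, 1, 7, 4, 3, 0, 4, 6, 3, 4, 6, 1, 4, 3]),
  (154, [4, 1, 6, 4], [3, 0, 4, 6, 3, 4, 6, 1, 4, 3]),
  (157, [4, 1, 6, 4], [3, 0, 4, 6, 3, 4, 6, 1, 4, 3]),
  (163, [4, 1, 6, 4], [3, 0, 4, 6, 3, 4, 6, 1, 4, 3, 4, 1, 7, 4]),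
  (182, [4, 1, 6, 4], [3, 0, 4, 6, 3, 4, 6, 1, 4, 3, 4, 1, 7, 4]),
  (187, [3, 0, 6, 3], [3, 4, 1, 6, 4, 3, 6, 4, 0, 3]),
  (200, [3, 0, 6, 3], [3, 4, 1, 6, 4, 3, 6, 4, 0, 3]),
  (203, [3, 0, 6, 3], [3, 4, 1, 6, 4, 3, 6, 4, 0, 3]),
  (209, [3, 0, 6, 3], [4, 1, 7, 4, 3, 4, 1, 6, 4, 3, 6, 4, 0, 3]),
  (218, [3, 0, 6, 3], [3, 4, 1, 6, 4, 3, 6, 4, 0, 3, 4, 1, 7, 4]),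
  (222, [4, 1, 6, 4], [3, 0, 4, 6, 3, 4, 6, 1, 4, 3, 4, 1, 7, 4]),
  (235, [4, 1, 6, 4], [3, 0, 4, 6, 3, 4, 6, 1, 4, 3, 4, 1, 7, 4]),
  (252, [3, 0, 6, 3], [4, 1, 7, 4, 3, 0, 4, 6, 3, 4, 6, 1, 4, 3]),
  (257, [3, 0, 6, 3], [4, 1, 6, 4]),
  (259, [5, 2, 7, 5], [4, 1, 5, 7, 4, 5, 7, 2, 5, 4]),
  (278, [3, 0, 6, 3], [4, 1, 6, 4]),
  (281, [3, 0, 6, 3], [4, 1, 6, 4]),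
  (286, [3, 0, 6, 3], [4, 1, 6, 4, 4, 1, 5, 7, 4, 5, 7, 2, 5, 4]),
  (290, [5, 2, 7, 5], [4, 1, 5, 7, 4, 5, 7, 2, 5, 4, 3, 0, 6, 3]),
  (298, [3, 0, 6, 3], [4, 1, 7, 4, 4, 1, 6, 4]),
  (323, [5, 2, 7, 5], [4, 1, 5, 7, 4, 5, 7, 2, 5, 4]),
  (332, [3, 0, 6, 3], [4, 1, 6, 4, 5, 2, 7, 5]),
  (335, [3, 0, 6, 3], [4, 1, 7, 4, 4, 1, 6, 4]),
  (340, [3, 0, 6, 3], [4, 1, 6, 4]),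
  (344, [5, 2, 7, 5], [4, 1, 5, 7, 4, 5, 7, 2, 5, 4]),
  (356, [5, 2, 7, 5], [4, 1, 5, 7, 4, 5, 7, 2, 5, 4]),
  (372, [3, 0, 6, 3], [4, 1, 6, 4, 4, 1, 5, 7, 4, 5, 7, 2, 5, 4]),
  (378, [4, 1, 6, 4], [3, 0, 4, 6, 3, 4, 6, 1, 4, 3, 4, 1, 7, 4]),
  (390, [4, 1, 6, 4], [4, 1, 7, 4, 3, 0, 4, 6, 3, 4, 6, 1, 4, 3]),
  (394, [3, 0, 6, 3], [3, 4, 1, 6, 4, 3, 6, 4, 0, 3]),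
  (396, [3, 0, 6, 3], [4, 1, 7, 4, 4, 1, 6, 4]),
  (400, [4, 1, 6, 4], [3, 0, 4, 6, 3, 4, 6, 1, 4, 3, 4, 1, 7, 4]),
  (406, [3, 0, 6, 3], [4, 1, 6, 4, 4, 1, 5, 7, 4, 5, 7, 2, 5, 4]),
  (417, [3, 0, 6, 3], [4, 1, 7, 4, 4, 1, 6, 4]),
  (431, [3, 0, 6, 3], [4, 1, 6, 4, 4, 1, 5, 7, 4, 5, 7, 2, 5, 4]),
  (440, [3, 0, 6, 3], [3, 4, 1, 6, 4, 3, 6, 4, 0, 3, 4, 1, 7, 4]),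
  (443, [4, 1, 6, 4], [3, 0, 4, 6, 3, 4, 6, 1, 4, 3]),
  (450, [4, 1, 6, 4], [3, 0, 4, 6, 3, 4, 6, 1, 4, 3, 4, 1, 7, 4]),
  (466, [3, 0, 6, 3], [4, 1, 6, 4, 4, 1, 5, 7, 4, 5, 7, 2, 5, 4]),
  (468, [3, 0, 6, 3], [4, 1, 6, 4]),
  (471, [4, 1, 6, 4], [3, 0, 4, 6, 3, 4, 6, 1, 4, 3]),
  (479, [5, 2, 7, 5], [4, 1, 5, 7, 4, 5, 7, 2, 5, 4]),
  (495, [3, 0, 6, 3], [4, 1, 6, 4]),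
  (500, [4, 1, 6, 4], [3, 0, 4, 6, 3, 4, 6, 1, 4, 3]),
  (501, [3, 0, 6, 3], [4, 1, 7, 4, 4, 1, 6, 4]),
  (506, [3, 0, 6, 3], [3, 4, 1, 6, 4, 3, 6, 4, 0, 3])]

end CfsgLib.CoTwoRec
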