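import Cfsg.Agent.Lib.CoTwoRec.SpClasses
import Cfsg.Agent.Lib.CoTwoRec.OutInQData

/-!
# No conjugate of the central involution inside the extraspecial subgroup on the spin module

A conjugate inside would give a totally singular subgroup through a singular vector, stable under the stabiliser of
that vector, so of order two or sixteen, and too many translations of it for the first, too few for the second.
-/

set_option autoImplicit false
set_option linter.unusedSectionVars false
set_option maxRecDepth 100000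

namespace CfsgLib.CoTwoRec

open Subgroup CfsgLib.ExtraNine CfsgLib.Schur.Tails.SpSix CfsgLib.ThType.Perm CfsgLib.ThType.Coords
  CfsgLib.ThType.Fusion

/-! ## The checks -/

theorem inq_fixed : ((List.range 512).all fun i => Nat.beq (app (sel i) 128) 128) = true := by decide +kernel

theorem inq_orbit : ((List.range 256).all fun u => qT u || Nat.beq u 0 ||
    inqOrbit.any fun e => Nat.beq e.1 u && Nat.beq (evT e.2 128) u) = true := by decide +kernel

theorem inq_other : ((List.range 256).all fun u => qT u || qT (u ^^^ 128) || (inqW.any (Nat.beq u)) ||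
    inqOther.any fun e => Nat.beq e.1 u && Nat.beq (evT e.2 128) 128 && qT (u ^^^ evT e.2 u)) = true := by
  decide +kernel

/-- The span of the combinations. -/
def spanC (b : List ℕ) : List ℕ := b.foldl (fun s v => s ++ s.map fun w => w ^^^ v) [0]

theorem inq_spread : (inqW.all fun u => Nat.blt u 256 && (Nat.beq u 0 || Nat.beq u 128 || inqSpread.any fun e =>
    Nat.beq e.1 u && (e.2.all fun w => Nat.beq (evT w 128) 128) &&
      inqW.all fun x => (spanC (128 :: u :: e.2.map fun w => evT w u)).any (Nat.beq x))) = true := by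
  decide +kernel

/-- The translations attached to a list. -/
noncomputable def inqP (L : List ℕ) (i : ℕ) : Bool :=
  (List.range 256).all fun u => beta 128 u || L.any (Nat.beq (app (sel i) u ^^^ u))

theorem inq_two : Nat.blt (cnt (inqP [0, 128])) 64 = true := by decide +kernel

/-- The product of a translation with two conjugates. -/
noncomputable def inqF (i : ℕ) (w₁ w₂ : List (Fin 8)) (u : ℕ) : ℕ :=
  app (sel i) (evT w₁ (app (sel i) (evT w₁.reverse (evT w₂ (app (sel i) (evT w₂.reverse u))))))

theorem inq_kill : ((List.range 512).all fun i => Nat.beq i 0 ||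
    !(inqP inqW i && inqW.all fun w => Nat.beq (app (sel i) w) w || Nat.beq (app (sel i) w) (w ^^^ 128)) ||
    (inqW.all fun w => Nat.beq (app (sel i) w) w) || inqKill.any fun e => Nat.beq e.1 i &&
      Nat.beq (evT e.2.1 128) 128 && Nat.beq (evT e.2.2 128) 128 &&
      (inqW.all fun w => Nat.beq (inqF i e.2.1 e.2.2 w) w) &&
      (List.range 256).any fun u => !Nat.beq (inqF i e.2.1 e.2.2 u) u) = true := by
  decide +kernel

theorem inq_list : inqW.length = 16 ∧ inqW.Nodup ∧ (0 : ℕ) ∈ inqW ∧ 128 ∈ inqW := by decide +kernel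

section

variable {V : Type*} [AddCommGroup V] {S : QV V} {A : Act Sp2 V} (P : SpinChart S A)

/-- The stabiliser of the fixed combination. -/
def stabF : Subgroup Sp2 where
  carrier := {g | A.σ g (P.c 128) = P.c 128}
  one_mem' := by show A.σ 1 (P.c 128) = P.c 128; rw [map_one]; rfl
  mul_mem' := fun {a b} ha hb => by
    show A.σ (a * b) (P.c 128) = P.c 128
    rw [map_mul, Equiv.Perm.mul_apply, hb, ha]
  inv_mem' := fun {a} ha => by
    show A.σ a⁻¹ (P.c 128) = P.c 128
    rw [map_inv]
    exact (Equiv.symm_apply_eq _).2 ha.symm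

theorem mem_stabF {g : Sp2} : g ∈ stabF P ↔ A.σ g (P.c 128) = P.c 128 := Iff.rfl

variable (hinj : Function.Injective A.σ) (hiso : ∀ g, A.σ g ∈ S.Iso)
include P hinj hiso

/-- There are no such data on the spin module. -/
theorem no_pairData [Finite V] {v : V} (hv : S.q v = 0) (d : PairData S A.σ.range v) : False := by
  classical
  -- the vector
  obtain ⟨u₀, hu₀, rfl⟩ := P.surj v
  have h0 : u₀ ≠ 0 := fun e => d.v_ne (by rw [e, c_zero P])
  have hq : qT u₀ = false := by
    rw [P.form u₀ hu₀] at hv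
    cases h : qT u₀
    · rfl
    · rw [h] at hv; simp at hv
  have horb := all_lt inq_orbit hu₀
  simp only [Bool.or_eq_true, Nat.beq_eq, hq, h0, or_false, false_or, Bool.false_eq_true, List.any_eq_true,
    Bool.and_eq_true] at horb
  obtain ⟨⟨u', w₀⟩, -, -, hw₀⟩ := horb
  -- the translations, moved into the Sylow subgroup
  let M : Subgroup Sp2 := d.Bb.comap A.σ
  have hMmap : M.map A.σ = d.Bb := Subgroup.map_comap_eq_self d.le
  have hcardM : Nat.card M = Nat.card d.Bb := by
    rw [← hMmap, Subgroup.card_map_of_injective hinj]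
  have hM2 : ∀ m ∈ M, m * m = 1 := fun m hm => hinj (by rw [map_mul, map_one]; exact d.invol _ hm)
  have hMp : IsPGroup 2 M := fun m => ⟨1, Subtype.ext (by
    show (m : Sp2) ^ 2 ^ 1 = 1
    rw [pow_one, pow_two]; exact hM2 _ m.2)⟩
  set g₀ := tvW w₀ with hg₀
  have hg₀v : A.σ g₀ (P.c 128) = P.c u₀ := by rw [hg₀, σ_tvW P _ (by norm_num), hw₀]
  have hS : sylS ≤ stabF P := fun g hg => by
    obtain ⟨i, hi, hc⟩ := exists_el P hg
    show A.σ g (P.c 128) = P.c 128
    rw [hc 128 (by norm_num), Nat.eq_of_beq_eq_true (all_lt inq_fixed hi)]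
  obtain ⟨k, hk, hk'⟩ := exists_conj_le (card_sylS P hinj) not_dvd_card hS
    (M := M.map (MulAut.conj g₀⁻¹).toMonoidHom) (by
      rintro _ ⟨m, hm, rfl⟩
      show A.σ (g₀⁻¹ * m * g₀⁻¹⁻¹) (P.c 128) = P.c 128
      rw [inv_inv, map_mul, map_mul, Equiv.Perm.mul_apply, Equiv.Perm.mul_apply, hg₀v, d.fixed _ hm, ← hg₀v,
        map_inv]
      exact (A.σ g₀).symm_apply_apply _) (hMp.map _)
  set h := g₀ * k⁻¹ with hh
  have hMS : ∀ m ∈ M, h⁻¹ * m * h ∈ sylS := fun m hm => by
    have e := hk' _ ⟨m, hm, rfl⟩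
    rw [MulEquiv.coe_toMonoidHom, MulAut.conj_apply, inv_inv] at e
    rw [hh, mul_inv_rev, inv_inv, show k * g₀⁻¹ * m * (g₀ * k⁻¹) = k * (g₀⁻¹ * m * g₀) * k⁻¹ by group]
    exact e
  have hv128 : vh P h 128 = P.c u₀ := by
    rw [vh, hh, map_mul, Equiv.Perm.mul_apply, mem_stabF P |>.1 (inv_mem hk), hg₀v]
  -- conjugates of words fixing the combination
  have hstab : ∀ w : List (Fin 8), evT w 128 = 128 →
      A.σ (h * tvW w * h⁻¹) ∈ A.σ.range ∧ A.σ (h * tvW w * h⁻¹) (P.c u₀) = P.c u₀ := fun w hw => by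
    refine ⟨⟨_, rfl⟩, ?_⟩
    rw [← hv128, vh, σ_conj, σ_tvW P _ (by norm_num), hw]
  have hact : ∀ (w : List (Fin 8)) {u : ℕ}, u < 256 →
      A.σ (h * tvW w * h⁻¹) (vh P h u) = vh P h (evT w u) := fun w u hu => by
    rw [vh, σ_conj, σ_tvW P _ hu]; rfl
  have hact' : ∀ (w : List (Fin 8)) {u : ℕ}, u < 256 →
      (A.σ (h * tvW w * h⁻¹))⁻¹ (vh P h u) = vh P h (evT w.reverse u) := fun w u hu => by
    rw [← map_inv, show (h * tvW w * h⁻¹)⁻¹ = h * tvW w.reverse * h⁻¹ by rw [tvW_rev]; group]
    exact hact _ hu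
  -- the codes of the subgroup
  have hWq : ∀ u < 256, vh P h u ∈ d.W → qT u = false ∧ qT (u ^^^ 128) = false := by
    have hs : ∀ u < 256, vh P h u ∈ d.W → qT u = false := fun u hu hm => by
      have e := d.singular _ hm
      rw [vh_q P hiso h hu] at e
      cases hc : qT u
      · rfl
      · rw [hc] at e; simp at e
    intro u hu hm
    refine ⟨hs u hu hm, hs _ (Nat.xor_lt_two_pow (n := 8) hu (by norm_num)) ?_⟩
    rw [vh_xor, hv128]
    exact add_mem hm d.v_mem
  have hsub : ∀ u < 256, vh P h u ∈ d.W → u ∈ inqW := fun u hu hm => by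
    obtain ⟨hq1, hq2⟩ := hWq u hu hm
    have he := all_lt inq_other hu
    simp only [Bool.or_eq_true, hq1, hq2, Bool.false_eq_true, false_or, List.any_eq_true, Bool.and_eq_true,
      Nat.beq_eq, exists_eq_right'] at he
    rcases he with he | ⟨e, -, ⟨-, he⟩, hqe⟩
    · exact he
    · exfalso
      obtain ⟨hr, hf⟩ := hstab e.2 he
      have hm' := (d.stab _ hr hf).1 _ hm
      rw [hact _ hu] at hm'
      have hadd := add_mem hm hm'
      rw [← vh_xor] at hadd
      rw [(hWq _ (Nat.xor_lt_two_pow (n := 8) hu (evT_lt _ hu)) hadd).1] at hqe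
      exact Bool.false_ne_true hqe
  obtain ⟨hlen, hnd, hm0, hm128⟩ := inq_list
  have hlt : ∀ u ∈ inqW, u < 256 := fun u hu => by
    have he := List.all_eq_true.1 inq_spread u hu
    simp only [Bool.and_eq_true, Nat.blt_eq] at he
    exact he.1
  -- a code in the list for each translation
  have hperp : ∀ L : List ℕ, (∀ u < 256, vh P h u ∈ d.W → u ∈ L) → ∀ m ∈ M, ∀ i < 512,
      IsC P (sel i) (h⁻¹ * m * h) → inqP L i = true := fun L hL m hm i hi hc => by
    simp only [inqP, List.all_eq_true, List.mem_range, Bool.or_eq_true, List.any_eq_true, Nat.beq_eq,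
      exists_eq_right']
    intro u hu
    cases hb : beta 128 u
    · refine Or.inr (hL _ (Nat.xor_lt_two_pow (n := 8) (app_lt _ _) hu) ?_)
      have e := d.perp_map _ hm (vh P h u) (by
        rw [← hv128, vh_B P hiso h (by norm_num) hu, hb]; simp)
      have e' := σ_add_self P (h := h) hc hu
      rw [show h * (h⁻¹ * m * h) * h⁻¹ = m by group] at e'
      rwa [e'] at e
    · exact Or.inl rfl
  by_cases hsmall : ∀ u < 256, vh P h u ∈ d.W → u ∈ [0, 128]
  · -- two elements
    have hle := (card_le_cnt P hinj M h hMS (inqP [0, 128]) (hperp _ hsmall)).1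
    have h2 := Nat.blt_eq.mp inq_two
    have hW : Nat.card d.W ≤ 2 := by
      have hf : Function.Surjective (fun b : Bool => (⟨if b then P.c u₀ else 0, by
          cases b
          · simp [zero_mem]
          · simp [d.v_mem]⟩ : d.W)) := by
        rintro ⟨x, hx⟩
        obtain ⟨u, hu, rfl⟩ := vh_surj P h x
        have := hsmall u hu hx
        simp only [List.mem_cons, List.not_mem_nil, or_false] at this
        rcases this with rfl | rfl
        · exact ⟨false, Subtype.ext (by simp [vh_zero P h])⟩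
        · exact ⟨true, Subtype.ext (by simp [hv128])⟩
      have := Nat.card_le_card_of_surjective _ hf
      simpa using this
    have hB := d.card_Bb
    rw [← hcardM] at hB
    have := Nat.mul_le_mul (le_refl (Nat.card M)) hW
    omega
  · -- sixteen elements
    push Not at hsmall
    obtain ⟨u, hu, hum, hne⟩ := hsmall
    simp only [List.mem_cons, List.not_mem_nil, or_false, not_or] at hne
    have hall : ∀ x ∈ inqW, vh P h x ∈ d.W := fun x hx => by
      have he := List.all_eq_true.1 inq_spread u (hsub u hu hum)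
      simp only [Bool.and_eq_true, Bool.or_eq_true, Nat.beq_eq, List.any_eq_true, List.all_eq_true,
        hne.1, hne.2, false_or] at he
      obtain ⟨e, -, ⟨-, hfix⟩, hspan⟩ := he.2
      obtain ⟨y, hy, rfl⟩ := hspan x hx
      refine spanL_mem P d.W h _ [0] (fun z hz => ?_) (fun z hz => ?_) x hy
      · rw [List.mem_cons, List.mem_cons, List.mem_map] at hz
        rcases hz with rfl | rfl | ⟨w, hw, rfl⟩
        · rw [hv128]; exact d.v_mem
        · exact hum
        · obtain ⟨hr, hf⟩ := hstab w (hfix w hw)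
          have hm' := (d.stab _ hr hf).1 _ hum
          rwa [hact _ hu] at hm'
      · rw [List.mem_singleton] at hz
        rw [hz, vh_zero P h]; exact zero_mem _
    have hW : Nat.card d.W = 16 := by
      let f : {x // x ∈ inqW.toFinset} → d.W := fun x => ⟨vh P h x, hall _ (List.mem_toFinset.1 x.2)⟩
      have hf : Function.Bijective f := by
        refine ⟨fun a b e => Subtype.ext (vh_inj P h (hlt _ (List.mem_toFinset.1 a.2))
          (hlt _ (List.mem_toFinset.1 b.2)) (congrArg Subtype.val e)), ?_⟩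
        rintro ⟨x, hx⟩
        obtain ⟨y, hy, rfl⟩ := vh_surj P h x
        exact ⟨⟨y, List.mem_toFinset.2 (hsub y hy hx)⟩, rfl⟩
      rw [← Nat.card_congr (Equiv.ofBijective f hf), Nat.card_eq_fintype_card, Fintype.card_coe,
        List.toFinset_card_of_nodup hnd, hlen]
    have hB := d.card_Bb
    have hK := d.card_ker
    rw [hW] at hB hK
    have hker1 : ∀ b ∈ d.Bb, (∀ w ∈ d.W, b w = w) → b = 1 := fun b hb hbW => by
      have h1 : Nat.card {b : Equiv.Perm V // b ∈ d.Bb ∧ ∀ w ∈ d.W, b w = w} = 1 := by omega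
      obtain ⟨hs, -⟩ := Nat.card_eq_one_iff_unique.1 h1
      exact congrArg Subtype.val (hs.elim ⟨b, hb, hbW⟩ ⟨1, one_mem _, fun _ _ => rfl⟩)
    obtain ⟨⟨m, hm⟩, hm1⟩ : ∃ m : M, m ≠ 1 := by
      by_contra hno
      push Not at hno
      haveI : Subsingleton M := ⟨fun a b => (hno a).trans (hno b).symm⟩
      rw [← hcardM, Nat.card_of_subsingleton (1 : M)] at hB
      omega
    have hm1' : m ≠ 1 := fun e => hm1 (Subtype.ext e)
    obtain ⟨i, hi, hc⟩ := exists_el P (hMS m hm)
    have hi0 : i ≠ 0 := fun e => hm1' (by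
      subst e
      have := isC_eq P hinj hc (isC_one P)
      calc m = h * (h⁻¹ * m * h) * h⁻¹ := by group
        _ = 1 := by rw [this, mul_one, mul_inv_cancel])
    have hbact : ∀ x < 256, A.σ m (vh P h x) = vh P h (app (sel i) x) := fun x hx => by
      have e := σ_vh P (h := h) hc hx
      rwa [show h * (h⁻¹ * m * h) * h⁻¹ = m by group] at e
    have hfixW : ∀ b : Equiv.Perm V, (∀ w ∈ inqW, b (vh P h w) = vh P h w) → ∀ x ∈ d.W, b x = x :=
      fun b hb x hx => by
        obtain ⟨y, hy, rfl⟩ := vh_surj P h x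
        exact hb y (hsub y hy hx)
    have hp : inqP inqW i = true := hperp _ hsub m hm i hi hc
    have hmap : (inqW.all fun w => Nat.beq (app (sel i) w) w || Nat.beq (app (sel i) w) (w ^^^ 128)) = true := by
      simp only [List.all_eq_true, Bool.or_eq_true, Nat.beq_eq]
      intro w hw
      rcases d.W_map _ hm _ (hall w hw) with e | e
      · rw [hbact w (hlt w hw)] at e
        exact Or.inl (vh_inj P h (app_lt _ _) (hlt w hw) e)
      · rw [hbact w (hlt w hw), ← hv128, ← vh_xor] at e
        exact Or.inr (vh_inj P h (app_lt _ _) (Nat.xor_lt_two_pow (n := 8) (hlt w hw) (by norm_num)) e)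
    have hk2 := all_lt inq_kill hi
    rw [hp, hmap] at hk2
    simp only [Bool.or_eq_true, Nat.beq_eq, hi0, Bool.and_self, Bool.not_true, Bool.false_eq_true, false_or,
      List.all_eq_true, List.any_eq_true, Bool.and_eq_true, Bool.not_eq_true', List.mem_range] at hk2
    rcases hk2 with hk2 | ⟨e, -, ⟨⟨⟨-, he1⟩, he2⟩, hfixed⟩, x, hx, hmove⟩
    · refine hm1' (hinj ?_)
      rw [map_one]
      exact hker1 _ hm (hfixW _ fun w hw => by rw [hbact w (hlt w hw), hk2 w hw])
    · obtain ⟨hr1, hf1⟩ := hstab e.2.1 he1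
      obtain ⟨hr2, hf2⟩ := hstab e.2.2 he2
      set c := A.σ m * ((A.σ (h * tvW e.2.1 * h⁻¹) * A.σ m * (A.σ (h * tvW e.2.1 * h⁻¹))⁻¹) *
        (A.σ (h * tvW e.2.2 * h⁻¹) * A.σ m * (A.σ (h * tvW e.2.2 * h⁻¹))⁻¹)) with hcdef
      have hcmem : c ∈ d.Bb := mul_mem hm (mul_mem ((d.stab _ hr1 hf1).2 _ hm) ((d.stab _ hr2 hf2).2 _ hm))
      have hcact : ∀ y < 256, c (vh P h y) = vh P h (inqF i e.2.1 e.2.2 y) := fun y hy => by
        simp only [hcdef, Equiv.Perm.mul_apply]
        rw [hact' _ hy, hbact _ (evT_lt _ hy), hact _ (app_lt _ _), hact' _ (evT_lt _ (app_lt _ _)),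
          hbact _ (evT_lt _ (evT_lt _ (app_lt _ _))), hact _ (app_lt _ _), hbact _ (evT_lt _ (app_lt _ _))]
        rfl
      have hc1 := hker1 c hcmem (hfixW c fun w hw => by rw [hcact w (hlt w hw), hfixed w hw])
      have e' := hcact x hx
      rw [hc1, Equiv.Perm.one_apply] at e'
      have hy : inqF i e.2.1 e.2.2 x < 256 := app_lt _ _
      exact Nat.ne_of_beq_eq_false hmove (vh_inj P h hy hx e'.symm)

end

variable {G : Type*} [Group G] [Finite G] {V : Type*} [AddCommGroup V] {N : Nine G V} {A : Act Sp2 V}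

/-- No other conjugate of the central involution lies in the extraspecial subgroup. -/
theorem weak_spin (P : SpinChart N.S A) (hinj : Function.Injective A.σ) (hr : A.σ.range = N.ρ.range) :
    Weak N := by
  intro g hx
  by_contra hne
  haveI : Finite V := Finite.of_surjective N.π N.surj
  letI := Fintype.ofFinite V
  have hiso : ∀ s, A.σ s ∈ N.S.Iso := fun s => by
    obtain ⟨m, hm⟩ := (hr ▸ ⟨s, rfl⟩ : A.σ s ∈ N.ρ.range)
    rw [← hm]; exact N.ρ_mem m
  obtain ⟨d, -⟩ := N.exists_pairData hx hne
  rw [← hr] at d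
  exact no_pairData P hinj hiso (d.singular _ d.v_mem) d

end CfsgLib.CoTwoRec
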