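import Cfsg.Agent.Lib.CoTwoRec.OutNorm

/-!
# Fusion in the split centraliser

A conjugate of the central involution outside the extraspecial subgroup is a conjugate of the neighbour or of the
second involution of the model, and one element exchanges the central involution and the neighbour.
-/

set_option autoImplicit false
set_option linter.unusedSectionVars false
set_option maxRecDepth 100000

namespace CfsgLib.CoTwoRec

open Cfsg CfsgLib.Rigid CfsgLib.ExtraNine CfsgLib.Schur.Tails.SpSix CfsgLib.ThType.Perm CfsgLib.ThType.Coords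
  CfsgLib.ThType.Fusion Subgroup

variable {G : Type*} [Group G] [Finite G] {V : Type*} [AddCommGroup V] {N : Nine G V} {A : Act Sp2 V}
  {Sp : SpinChart N.S A} (P : Copy Sp) {co : Coord N.z} (hg : Good P co)

include hg

theorem iota_mem (c : Cm) : co.iota c ∈ centralizer ({N.z} : Set G) := co.range_eq ▸ ⟨c, rfl⟩

theorem rho_iota_word {w : List ℕ} (hw : ∀ l ∈ w, l < 8) :
    N.ρ ⟨co.iota (ev xm w), iota_mem P hg _⟩ = A.σ (tvW (w.map (Fin.ofNat 8))) := by
  have h := hg.y_acts (tvW (w.map (Fin.ofNat 8))) (iota_mem P hg _)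
  simp only [cmY_tvW w hw] at h
  exact h.1

theorem q_word (q : ↥N.Q) : ∃ i < 512, P.ν q = ev xm (qWord i) ∧ N.π q = Sp.c (i % 256) := by
  obtain ⟨m, hm, e⟩ := Sp.surj (N.π q)
  obtain ⟨y, hy, hν⟩ := exists_bits P m hm
  rcases N.π_eq (a := y) (b := q) (hy.trans e) with h | h
  · refine ⟨m, by omega, ?_, by rw [Nat.mod_eq_of_lt hm, e]⟩
    rw [show q = y from Subtype.ext h, hν, qWord, if_pos hm, Nat.mod_eq_of_lt hm, List.append_nil]
  · refine ⟨m + 256, by omega, ?_, by rw [Nat.add_mod_right, Nat.mod_eq_of_lt hm, e]⟩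
    rw [show q = y * ⟨N.z, N.z_mem⟩ from Subtype.ext h, map_mul, hν, P.ν_z, qWord, if_neg (by omega), Nat.add_mod_right,
      Nat.mod_eq_of_lt hm, ev_append]
    rfl

/-- Every element over the image of a word is that word times an element of the two-group. -/
theorem lift_word {c : centralizer ({N.z} : Set G)} {w : List ℕ} (hw : ∀ l ∈ w, l < 8)
    (hc : N.ρ c = A.σ (tvW (w.map (Fin.ofNat 8)))) :
    ∃ i < 512, (c : G) = co.iota (ev xm (w ++ qWord i)) := by
  have hy := rho_iota_word P hg hw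
  have hq : (co.iota (ev xm w))⁻¹ * (c : G) ∈ N.Q := (N.ρ_eq_iff _ c).1 (hy.trans hc.symm)
  obtain ⟨i, hi, hν, -⟩ := q_word P hg ⟨_, hq⟩
  refine ⟨i, hi, ?_⟩
  have e := hg.q_eq ⟨_, hq⟩
  rw [hν] at e
  rw [ev_append, map_mul, e, mul_inv_cancel_left]

theorem std_lt {w : List ℕ} (hw : w ∈ stdW) : ∀ l ∈ w, l < 8 := by
  revert w; decide

/-- The perpendicular vectors are commutators. -/
theorem perp_std {w : List ℕ} (hw : w ∈ stdW) : PerpImage N.S (A.σ (tvW (w.map (Fin.ofNat 8)))) := by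
  intro v hv
  obtain ⟨u, hu, rfl⟩ := Sp.surj v
  have h := List.all_eq_true.1 (List.all_eq_true.1 norm_ok w hw) u (List.mem_range.2 hu)
  simp only [Bool.and_eq_true, Bool.or_eq_true, List.any_eq_true, List.mem_range, Nat.beq_eq] at h
  rcases h.2 with ⟨m, hm, hf, hb⟩ | ⟨m, hm, e⟩
  · have := hv (Sp.c m) (by rw [(fW_act Sp w hm).2, hf])
    rw [Sp.polar u hu m hm, hb] at this
    exact absurd this (by simp)
  · exact ⟨Sp.c m, by rw [(fW_act Sp w hm).2, ← Sp.xor, e]⟩

theorem word_comm {w : List ℕ} (hw : w ∈ stdW) (q : ↥N.Q)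
    (hq : A.σ (tvW (w.map (Fin.ofNat 8))) (N.π q) = N.π q) :
    co.iota (ev xm w) * q = q * co.iota (ev xm w) := by
  obtain ⟨i, hi, hν, hπ⟩ := q_word P hg q
  have hm : i % 256 < 256 := Nat.mod_lt _ (by norm_num)
  rw [hπ, (fW_act Sp w hm).2] at hq
  have hf : fW w (i % 256) = i % 256 := Sp.inj _ (fW_act Sp w hm).1 _ hm hq
  have h := List.all_eq_true.1 (List.all_eq_true.1 norm_ok w hw) _ (List.mem_range.2 hm)
  simp only [Bool.and_eq_true, Bool.or_eq_true, Bool.not_eq_true'] at h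
  have hs : sameC (w ++ pBits (i % 256)) (pBits (i % 256) ++ w) = true := h.1.resolve_left (by
    rw [hf]; simp)
  have hw16 : ∀ l ∈ w, l < 16 := fun l hl => (std_lt P hg hw l hl).trans (by norm_num)
  have hl : ∀ l, l ∈ w ∨ l ∈ pBits (i % 256) → l < 16 := fun l hl => hl.elim (hw16 l) (pBits_lt _ l)
  have e := ev_xm_eq (fun l h' => hl l (by simpa using h')) (fun l h' => hl l (by simpa [or_comm] using h')) hs
  rw [ev_append, ev_append] at e
  rw [← hg.q_eq q, ← map_mul, ← map_mul, hν, qWord, ev_append]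
  congr 1
  by_cases h2 : i < 256
  · rw [if_pos h2, show ev xm [] = 1 from rfl, mul_one, e]
  · rw [if_neg h2, ← mul_assoc, e, mul_assoc, mul_assoc]
    exact congrArg _ (tm_central (ev xm w)).symm

variable {g : G}

theorem inv'_eq {s : Sp2} (O : Out N g) (h : N.ρ O.inv' = A.σ s) (v : V) : N.ρ O.inv' v = A.σ s v := by rw [h]

/-- The conjugate over a standard image is a conjugate of the word or of its product. -/
theorem x_cases {w : List ℕ} (hw : w ∈ stdW) (O : Out N g)
    (hi : N.ρ O.inv' = A.σ (tvW (w.map (Fin.ofNat 8))))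
    (hlf : ∀ v, N.ρ O.inv' v = v → lf N g v = 0) :
    ∃ u : ↥N.Q, g * N.z * g⁻¹ = co.iota (P.ν u * ev xm w * (P.ν u)⁻¹) ∨
      g * N.z * g⁻¹ = co.iota (P.ν u * ev xm (w ++ tWord) * (P.ν u)⁻¹) := by
  obtain ⟨u, hu⟩ := norm_lift O (hi ▸ perp_std P hg hw) hlf
    (y := ⟨co.iota (ev xm w), iota_mem P hg _⟩)
    ((rho_iota_word P hg (std_lt P hg hw)).trans hi.symm)
    (fun q hq => word_comm P hg hw q (by rw [← hi]; exact hq))
  refine ⟨u, hu.imp (fun e => ?_) fun e => ?_⟩
  · rw [e, map_mul, map_mul, map_inv, hg.q_eq]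
  · rw [e, map_mul, map_mul, map_inv, hg.q_eq, ev_append, map_mul, show co.iota (ev xm tWord) = N.z from co.map_t,
      show (u : G) * (co.iota (ev xm w) * N.z) * (u : G)⁻¹ =
        (u : G) * co.iota (ev xm w) * (u : G)⁻¹ * ((u : G) * N.z * (u : G)⁻¹) by group,
      N.conj_z (N.F.le u.2)]

theorem kG_word {k b : List ℕ} (hk : ∀ l ∈ k, l < 16) (hb : ∀ l ∈ b, l < 16)
    (hx : g * N.z * g⁻¹ = co.iota (ev xm b)) (h : sameC (k ++ b) (b ++ k) = true) :
    co.iota (ev xm k) * (g * N.z * g⁻¹) = g * N.z * g⁻¹ * co.iota (ev xm k) := by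
  have hl : ∀ l, l ∈ k ∨ l ∈ b → l < 16 := fun l hl => hl.elim (hk l) (hb l)
  have e := ev_xm_eq (fun l h' => hl l (by simpa using h')) (fun l h' => hl l (by simpa [or_comm] using h')) h
  rw [ev_append, ev_append] at e
  rw [hx, ← map_mul, ← map_mul, e]

theorem cj_ev {k w : List ℕ} (hk : ∀ l ∈ k, l < 16) :
    co.iota (ev xm (cjW k w)) = co.iota (ev xm k) * co.iota (ev xm w) * (co.iota (ev xm k))⁻¹ := by
  rw [cjW, ev_append, ev_append, ev_rev k hk, map_mul, map_mul, map_inv]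

theorem tG_cj {k : List ℕ} (hk : ∀ l ∈ k, l < 16)
    (hcomm : co.iota (ev xm k) * (g * N.z * g⁻¹) = g * N.z * g⁻¹ * co.iota (ev xm k)) {w : List ℕ}
    (hw : co.iota (ev xm w) ∈ Qg N g) : co.iota (ev xm (cjW k w)) ∈ Qg N g := by
  rw [cj_ev P hg hk]
  exact Out.conj_Qg hcomm hw

theorem tbl_A : (∀ k ∈ fixA ++ moveA, ∀ l ∈ k, l < 8) ∧ (∀ l ∈ memA, l < 8) ∧ (∀ l ∈ badLiftA, l < 16) ∧
    (∀ k ∈ fixA, sameB ((k ++ memA ++ k.reverse).map (Fin.ofNat 8)) (memA.map (Fin.ofNat 8)) = true) ∧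
    sameB (((moveA.map fun k => k ++ memA ++ k.reverse).flatten).map (Fin.ofNat 8)) [0] = true ∧
    memA.map (Fin.ofNat 8) ∈ k63W := by decide +kernel

/-- The excluded lift over a transvection is not a conjugate. -/
theorem sign_A (S : StdA N A g) (hx : g * N.z * g⁻¹ = co.iota (ev xm badLiftA)) : False := by
  obtain ⟨hk8, hm8, hb16, hfix, hprod, hmem⟩ := tbl_A P hg
  obtain ⟨c, hc, hρ⟩ := S.mem _ hmem
  obtain ⟨i, hi, hci⟩ := lift_word P hg hm8 hρ
  set W := memA ++ qWord i with hW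
  have hWQ : co.iota (ev xm W) ∈ Qg N g := hci ▸ mem_tG.1 hc
  have hW16 : ∀ l ∈ W, l < 16 := fun l hl => by
    rcases List.mem_append.1 hl with h | h
    · exact (hm8 l h).trans (by norm_num)
    · exact qWord_lt i l h
  have hk16 : ∀ k ∈ fixA ++ moveA, ∀ l ∈ k, l < 16 := fun k hk l hl => (hk8 k hk l hl).trans (by norm_num)
  have hcj16 : ∀ k ∈ fixA ++ moveA, ∀ l ∈ cjW k W, l < 16 := fun k hk l hl => by
    simp only [cjW, List.mem_append, List.mem_reverse] at hl
    rcases hl with (h | h) | h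
    exacts [hk16 k hk l h, hW16 l h, hk16 k hk l h]
  have hsign := signA_ok
  simp only [signAB, Bool.and_eq_true, List.all_eq_true, List.mem_range] at hsign
  have hcj : ∀ k ∈ fixA ++ moveA, co.iota (ev xm (cjW k W)) ∈ Qg N g := fun k hk =>
    tG_cj P hg (hk16 k hk) (kG_word P hg (hk16 k hk) hb16 hx (hsign.1 k hk)) hWQ
  have hρW : ∀ k ∈ fixA ++ moveA, N.ρ ⟨co.iota (ev xm (cjW k W)), iota_mem P hg _⟩ =
      A.σ (tvW ((k ++ memA ++ k.reverse).map (Fin.ofNat 8))) := fun k hk => by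
    have e : (⟨co.iota (ev xm (cjW k W)), iota_mem P hg _⟩ : centralizer ({N.z} : Set G)) =
        ⟨_, iota_mem P hg (ev xm k)⟩ * c * (⟨_, iota_mem P hg (ev xm k)⟩ : centralizer ({N.z} : Set G))⁻¹ :=
      Subtype.ext (show co.iota (ev xm (cjW k W)) = co.iota (ev xm k) * (c : G) * (co.iota (ev xm k))⁻¹ by
        rw [hci]; exact cj_ev P hg (hk16 k hk))
    rw [e, map_mul, map_mul, map_inv, hρ, rho_iota_word P hg (hk8 k hk), ← map_mul, ← map_inv, ← map_mul,
      List.map_append, List.map_append, tvW_append, tvW_append, List.map_reverse, tvW_rev]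
  have uniq : ∀ a b : centralizer ({N.z} : Set G), (a : G) ∈ Qg N g → (b : G) ∈ Qg N g → N.ρ a = N.ρ b →
      (a : G) = b := fun a b ha hb e => by
    have h : (a : G)⁻¹ * b ∈ dG N g := ⟨(N.ρ_eq_iff a b).1 e, (Qg N g).mul_mem ((Qg N g).inv_mem ha) hb⟩
    rw [S.d_bot, mem_bot] at h
    exact inv_mul_eq_one.1 h
  have hfixW : ∀ k ∈ fixA, sameC (cjW k W) W = true := fun k hk => by
    have hk' : k ∈ fixA ++ moveA := List.mem_append_left _ hk
    refine sameC_of_eq (hcj16 k hk') hW16 (co.inj ?_)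
    rw [← hci]
    exact uniq ⟨_, iota_mem P hg _⟩ c (hcj k hk') (mem_tG.1 hc) (by rw [hρW k hk', hρ, tvW_eq (hfix k hk)])
  have hl : ∀ L : List (List ℕ), (∀ k ∈ L, k ∈ fixA ++ moveA) →
      co.iota (ev xm ((L.map fun k => cjW k W).flatten)) ∈ Qg N g ∧
      N.ρ ⟨co.iota (ev xm ((L.map fun k => cjW k W).flatten)), iota_mem P hg _⟩ =
        A.σ (tvW (((L.map fun k => k ++ memA ++ k.reverse).flatten).map (Fin.ofNat 8))) := by
    intro L
    induction L with
    | nil =>
      intro _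
      refine ⟨by simp [ev], ?_⟩
      have e : (⟨co.iota (ev xm []), iota_mem P hg _⟩ : centralizer ({N.z} : Set G)) = 1 :=
        Subtype.ext (show co.iota (ev xm []) = 1 by simp [ev])
      simp only [List.map_nil, List.flatten_nil]
      rw [e, map_one, tvW, List.map_nil, List.prod_nil, map_one]
    | cons k L ih =>
      intro hL
      obtain ⟨h1, h2⟩ := ih fun x hx => hL x (List.mem_cons_of_mem _ hx)
      have hk := hL k List.mem_cons_self
      simp only [List.map_cons, List.flatten_cons]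
      refine ⟨by rw [ev_append, map_mul]; exact mul_mem (hcj k hk) h1, ?_⟩
      have e : (⟨co.iota (ev xm (cjW k W ++ (L.map fun k => cjW k W).flatten)), iota_mem P hg _⟩ :
          centralizer ({N.z} : Set G)) = ⟨_, iota_mem P hg (ev xm (cjW k W))⟩ *
            ⟨_, iota_mem P hg (ev xm ((L.map fun k => cjW k W).flatten))⟩ :=
        Subtype.ext (show co.iota (ev xm (cjW k W ++ (L.map fun k => cjW k W).flatten)) =
          co.iota (ev xm (cjW k W)) * co.iota (ev xm ((L.map fun k => cjW k W).flatten)) by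
            rw [← map_mul, ← ev_append])
      rw [e, map_mul, hρW k hk, h2]
      simp only [List.map_append, tvW_append, map_mul, mul_assoc]
  obtain ⟨hpQ, hpρ⟩ := hl moveA fun k hk => List.mem_append_right _ hk
  have hprodW : sameC ((moveA.map fun k => cjW k W).flatten) badLiftA = true := by
    refine sameC_of_eq (fun l hl' => ?_) hb16 (co.inj ?_)
    · simp only [List.mem_flatten, List.mem_map] at hl'
      obtain ⟨_, ⟨k, hk, rfl⟩, hl'⟩ := hl'
      exact hcj16 k (List.mem_append_right _ hk) l hl'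
    rw [← hx]
    refine uniq ⟨_, iota_mem P hg _⟩ S.out.inv' hpQ ?_ ?_
    · exact mem_Qg.2 (by
        show g⁻¹ * (g * N.z * g⁻¹) * g ∈ N.Q
        rw [show g⁻¹ * (g * N.z * g⁻¹) * g = N.z by group]; exact N.z_mem)
    · rw [hpρ, S.img, tvW_eq hprod, tvW_single]
  have h2 := hsign.2 i hi
  simp only [Bool.not_eq_true', Bool.and_true, Bool.and_eq_false_iff, ← hW, hprodW, Bool.true_eq_false, or_false,
    ← Bool.not_eq_true, List.all_eq_true] at h2
  exact h2 hfixW

theorem tbl_B : (∀ l ∈ moveB, l < 8) ∧ (∀ l ∈ memB, l < 8) ∧ (∀ l ∈ badLiftB, l < 8) ∧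
    (∀ d ∈ interB, d < 512) ∧ (∀ v ∈ fixB, v < 256 ∧ fW badLiftB v = v) ∧ 0 ∈ interB ∧
    sameB ((memB ++ (moveB ++ memB ++ moveB.reverse) ++ (memB ++ (moveB ++ memB ++ moveB.reverse))).map
      (Fin.ofNat 8)) [0, 1, 6] = true := by decide +kernel

/-- The excluded lift over three transvections of a line is not a conjugate. -/
theorem sign_B (S : StdB N A g) (hx : g * N.z * g⁻¹ = co.iota (ev xm badLiftB)) : False := by
  obtain ⟨hk8, hm8, hb8, hd512, hfix, h0d, hprod⟩ := tbl_B P hg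
  have hb16 : ∀ l ∈ badLiftB, l < 16 := fun l hl => (hb8 l hl).trans (by norm_num)
  have hk16 : ∀ l ∈ moveB, l < 16 := fun l hl => (hk8 l hl).trans (by norm_num)
  obtain ⟨c, hc, hρ⟩ := S.mem
  obtain ⟨i, hi, hci⟩ := lift_word P hg hm8 hρ
  set W := memB ++ qWord i with hW
  have hWQ : co.iota (ev xm W) ∈ Qg N g := hci ▸ mem_tG.1 hc
  have hW16 : ∀ l ∈ W, l < 16 := fun l hl => by
    rcases List.mem_append.1 hl with h | h
    · exact (hm8 l h).trans (by norm_num)
    · exact qWord_lt i l h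
  have hsign := signB_ok
  simp only [signBB, Bool.and_eq_true, List.all_eq_true, List.mem_range, List.any_eq_true, Bool.or_eq_true,
    Nat.beq_eq] at hsign
  obtain ⟨⟨⟨hkb, hfb⟩, hinter⟩, hnone⟩ := hsign
  have O := S.out
  have dlist : ∀ d ∈ dG N g, ∃ j ∈ interB, d = co.iota (ev xm (qWord j)) := by
    intro d hd
    by_cases hd1 : d = 1
    · refine ⟨0, h0d, ?_⟩
      subst hd1
      rw [show qWord 0 = [] by decide +kernel]
      simp [ev]
    have hmem : N.π ⟨d, hd.1⟩ ∈ dV N g := ⟨d, hd, rfl⟩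
    obtain ⟨v, hv⟩ := S.d_im _ hmem
    obtain ⟨u, rfl⟩ := N.surj v
    have e := S.out.d_lift hd hd1 (u := u) (by rw [S.img]; exact hv.symm)
    obtain ⟨m, hm, hν, hπ⟩ := q_word P hg u
    have hmne : fW badLiftB (m % 256) ≠ m % 256 := fun h => hd1 (by
      have hz : N.π ⟨d, hd.1⟩ = 0 := by
        rw [← hv, show (tvW [0, 1, 6]) = tvW (badLiftB.map (Fin.ofNat 8)) from rfl, hπ,
          (fW_act Sp badLiftB (Nat.mod_lt _ (by norm_num))).2, h]
        exact N.S.two _
      exact ((N.ker_iff _).1 hz).resolve_right fun hh => S.out.z_notMem_d ((show d = N.z from hh) ▸ hd))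
    obtain ⟨j, hj, hsame⟩ := (hinter _ (Nat.mod_lt m (by norm_num))).resolve_left hmne
    refine ⟨j, hj, ?_⟩
    have hlt : ∀ l, l ∈ pBits (m % 256) ∨ l ∈ badLiftB ∨ l ∈ qWord j ∨ l ∈ tWord → l < 16 := fun l hl => by
      rcases hl with h | h | h | h
      exacts [pBits_lt _ l h, hb16 l h, qWord_lt _ l h, tWord_lt l h]
    have E := ev_xm_eq (u := pBits (m % 256) ++ badLiftB) (w := qWord j ++ tWord ++ badLiftB ++ pBits (m % 256))
      (fun l h => hlt l ((List.mem_append.1 h).elim Or.inl fun h => Or.inr (Or.inl h)))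
      (fun l h => hlt l (by
        simp only [List.mem_append] at h
        rcases h with ((h | h) | h) | h
        exacts [.inr (.inr (.inl h)), .inr (.inr (.inr h)), .inr (.inl h), .inl h])) hsame
    have hu : ∃ e' : Cm, ev xm (qWord m) = ev xm (pBits (m % 256)) * e' ∧ ∀ y, e' * y = y * e' := by
      rw [qWord, ev_append]
      refine ⟨_, rfl, fun y => ?_⟩
      split_ifs
      · simp [ev]
      · exact tm_central y
    obtain ⟨e', hu, he'⟩ := hu
    have key : P.ν u * ev xm badLiftB * (P.ν u)⁻¹ = ev xm (qWord j) * tm * ev xm badLiftB := by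
      rw [hν, hu, mul_inv_rev, show ev xm (pBits (m % 256)) * e' * ev xm badLiftB * (e'⁻¹ * (ev xm (pBits (m % 256)))⁻¹) =
        ev xm (pBits (m % 256)) * (e' * ev xm badLiftB * e'⁻¹) * (ev xm (pBits (m % 256)))⁻¹ by group,
        he', mul_inv_cancel_right, mul_inv_eq_iff_eq_mul, ← ev_append, E]
      simp only [ev_append]
      rfl
    have h1 : (O.comm' u : G) * co.iota (ev xm badLiftB) = co.iota (ev xm (qWord j)) * N.z * co.iota (ev xm badLiftB) := by
      rw [← hx, ← O.comm'_spec, hx, ← hg.q_eq u, ← map_inv, ← map_mul, ← map_mul, key, map_mul, map_mul,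
        show co.iota tm = N.z from co.map_t]
    rw [e, mul_right_cancel h1, mul_assoc, N.zz, mul_one]
  have hfixW : ∀ v ∈ fixB, ∃ j ∈ interB, sameC (W ++ pBits v) (qWord j ++ pBits v ++ W) = true := by
    intro v hv
    obtain ⟨q, -, hν⟩ := exists_bits P v (hfix v hv).1
    have hqx : (q : G) ∈ sG N g := ⟨q.2, mem_centralizer_singleton_iff.2 (by
      rw [← hg.q_eq q, hν]
      exact kG_word P hg (pBits_lt v) hb16 hx (hfb v hv))⟩
    have hd : (c : G) * q * (c : G)⁻¹ * (q : G)⁻¹ ∈ dG N g := by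
      refine ⟨N.Q.mul_mem (N.conj_mem c.2 q) (N.Q.inv_mem q.2), ?_⟩
      rw [mul_assoc, mul_assoc, ← mul_assoc (q : G)]
      exact mul_mem (mem_tG.1 hc) (Out.conj_Qg (mem_centralizer_singleton_iff.1 hqx.2) (inv_mem (mem_tG.1 hc)))
    obtain ⟨j, hj, e⟩ := dlist _ hd
    refine ⟨j, hj, sameC_of_eq (fun l h => ?_) (fun l h => ?_) (co.inj ?_)⟩
    · rcases List.mem_append.1 h with h | h
      exacts [hW16 l h, pBits_lt v l h]
    · rcases List.mem_append.1 h with h | h
      · rcases List.mem_append.1 h with h | h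
        exacts [qWord_lt j l h, pBits_lt v l h]
      · exact hW16 l h
    rw [ev_append xm W, ev_append xm (qWord j ++ pBits v), ev_append xm (qWord j), map_mul, map_mul, map_mul, ← e, ← hci, ← hν, hg.q_eq]
    group
  have hcj16 : ∀ l ∈ cjW moveB W, l < 16 := fun l hl => by
    simp only [cjW, List.mem_append, List.mem_reverse] at hl
    rcases hl with (h | h) | h
    exacts [hk16 l h, hW16 l h, hk16 l h]
  set H := W ++ cjW moveB W with hH
  have hHQ : co.iota (ev xm H) ∈ Qg N g := by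
    rw [ev_append, map_mul]
    exact mul_mem hWQ (tG_cj P hg hk16 (kG_word P hg hk16 hb16 hx hkb) hWQ)
  have hρH : N.ρ ⟨co.iota (ev xm H), iota_mem P hg _⟩ =
      A.σ (tvW ((memB ++ (moveB ++ memB ++ moveB.reverse)).map (Fin.ofNat 8))) := by
    have e : (⟨co.iota (ev xm H), iota_mem P hg _⟩ : centralizer ({N.z} : Set G)) =
        c * (⟨_, iota_mem P hg (ev xm moveB)⟩ * c * (⟨_, iota_mem P hg (ev xm moveB)⟩ : centralizer ({N.z} : Set G))⁻¹) :=
      Subtype.ext (show co.iota (ev xm H) = (c : G) * (co.iota (ev xm moveB) * (c : G) * (co.iota (ev xm moveB))⁻¹) by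
        rw [hci, ← cj_ev P hg hk16, ← map_mul, ← ev_append])
    rw [e, map_mul, map_mul, map_mul, map_inv, hρ, rho_iota_word P hg hk8]
    simp only [List.map_append, tvW_append, List.map_reverse, tvW_rev, map_mul, map_inv]
    rfl
  have hsq : sameC (H ++ H) badLiftB = true := by
    refine sameC_of_eq (fun l h => ?_) hb16 (co.inj ?_)
    · simp only [hH, List.mem_append] at h
      rcases h with (h | h) | (h | h)
      exacts [hW16 l h, hcj16 l h, hW16 l h, hcj16 l h]
    rw [ev_append, map_mul, ← hx]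
    have hq := mem_Qg.1 hHQ
    have h2 := N.sq ⟨_, hq⟩
    simp only at h2
    have e1 : co.iota (ev xm H) * co.iota (ev xm H) =
        g * (g⁻¹ * co.iota (ev xm H) * g * (g⁻¹ * co.iota (ev xm H) * g)) * g⁻¹ := by group
    split_ifs at h2 with h0
    · exfalso
      rw [h2, mul_one, mul_inv_cancel] at e1
      have : N.ρ ⟨co.iota (ev xm H), iota_mem P hg _⟩ * N.ρ ⟨co.iota (ev xm H), iota_mem P hg _⟩ = 1 := by
        rw [← map_mul, show (⟨co.iota (ev xm H), iota_mem P hg _⟩ : centralizer ({N.z} : Set G)) *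
          ⟨co.iota (ev xm H), iota_mem P hg _⟩ = 1 from Subtype.ext e1, map_one]
      rw [hρH, ← map_mul, ← tvW_append, ← List.map_append, tvW_eq hprod] at this
      exact S.out.a_sq.2 (S.img.trans this)
    · rw [e1, h2]
  have h := hnone i hi
  simp only [Bool.not_eq_true', Bool.and_true, Bool.and_eq_false_iff, ← hW, ← hH, hsq, Bool.true_eq_false, or_false,
    ← Bool.not_eq_true, List.all_eq_true, List.any_eq_true] at h
  exact h hfixW

theorem img_conj {w : List (Fin 8)} (O : Out N g) (hi : N.ρ O.inv' = A.σ (tvW w)) (u : ↥N.Q) :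
    N.ρ (O.out_conj ⟨((u⁻¹ : ↥N.Q) : G), N.F.le (u⁻¹).2⟩).inv' = A.σ (tvW w) := by
  rw [O.rho_out_conj, rho_of_mem (u⁻¹).2, hi, one_mul, inv_one, mul_one]

theorem unconj (u : ↥N.Q) {c : Cm} (h : g * N.z * g⁻¹ = co.iota (P.ν u * c * (P.ν u)⁻¹)) :
    ((u⁻¹ : ↥N.Q) : G) * g * N.z * (((u⁻¹ : ↥N.Q) : G) * g)⁻¹ = co.iota c := by
  rw [map_mul, map_mul, map_inv, hg.q_eq] at h
  rw [Subgroup.coe_inv, show (u : G)⁻¹ * g * N.z * ((u : G)⁻¹ * g)⁻¹ = (u : G)⁻¹ * (g * N.z * g⁻¹) * u by group, h]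
  group

variable (T : OutTable N A)
include T

/-- Over a transvection the conjugate is the second involution up to conjugation. -/
theorem std_sec (O : Out N g) (hi : N.ρ O.inv' = A.σ (tv 0)) :
    ∃ c : Cm, g * N.z * g⁻¹ = co.iota (c * sec * c⁻¹) := by
  have S := T.stdA g O hi
  have hi' : N.ρ O.inv' = A.σ (tvW ([0].map (Fin.ofNat 8))) := hi.trans (by simp [tvW])
  obtain ⟨u, h | h⟩ := x_cases P hg (w := [0]) (by simp [stdW]) O hi' fun v hv => S.lf0 v (by rwa [hi] at hv)
  · exact ⟨P.ν u, h⟩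
  · exact (sign_A P hg (T.stdA _ _ ((img_conj P hg O hi' u).trans (by simp [tvW]))) (unconj P hg u h)).elim

/-- Over three transvections of a line the conjugate is the neighbour up to conjugation. -/
theorem std_nbr (O : Out N g) (hi : N.ρ O.inv' = A.σ (tvW [0, 1, 6])) :
    ∃ c : Cm, g * N.z * g⁻¹ = co.iota (c * nbr * c⁻¹) := by
  have S := T.stdB g O hi
  obtain ⟨u, h | h⟩ := x_cases P hg (w := [0, 1, 6]) (by simp [stdW]) O hi fun v hv => S.lf0 v (by rwa [hi] at hv)
  · exact (sign_B P hg (T.stdB _ _ (img_conj P hg O hi u)) (unconj P hg u h)).elim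
  · have ht := target_ok
    simp only [targetB, Bool.and_eq_true, List.any_eq_true, List.mem_range] at ht
    obtain ⟨-, j, -, hs⟩ := ht
    have hlt : ∀ l, l ∈ qWord j ∨ l ∈ [0, 1, 6, 11] ∨ l ∈ tWord → l < 16 := fun l hl => by
      rcases hl with h | h | h
      · exact qWord_lt j l h
      · revert h; revert l; decide
      · exact tWord_lt l h
    have e := ev_xm_eq (fun l h => hlt l (by simp only [List.mem_append, List.mem_cons] at h ⊢; tauto))
      (fun l h => hlt l (by simp only [List.mem_append, List.mem_cons] at h ⊢; tauto)) hs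
    rw [ev_append, ev_append _ [0, 1, 6, 11]] at e
    refine ⟨P.ν u * (ev xm (qWord j))⁻¹, ?_⟩
    rw [h]
    congr 1
    have e' : ev xm ([0, 1, 6] ++ tWord) = (ev xm (qWord j))⁻¹ * nbr * ev xm (qWord j) := by
      rw [mul_assoc, show nbr = ev xm [0, 1, 6, 11] from rfl, ← e, inv_mul_cancel_left]
    rw [e']
    group

theorem exists_std (O : Out N g) : ∃ d : Cm, ∃ O' : Out N (co.iota d * g),
    N.ρ O'.inv' = A.σ (tv 0) ∨ N.ρ O'.inv' = A.σ (tvW [0, 1, 6]) := by
  obtain ⟨k, hk, O', h⟩ := T.norm g O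
  obtain ⟨d, rfl⟩ : k ∈ co.iota.range := co.range_eq ▸ hk
  exact ⟨d, O', h⟩

omit T in
theorem conj_back {d c c₀ : Cm}
    (h : co.iota d * g * N.z * (co.iota d * g)⁻¹ = co.iota (c * c₀ * c⁻¹)) :
    g * N.z * g⁻¹ = co.iota ((d⁻¹ * c) * c₀ * (d⁻¹ * c)⁻¹) := by
  calc g * N.z * g⁻¹ = (co.iota d)⁻¹ * (co.iota d * g * N.z * (co.iota d * g)⁻¹) * co.iota d := by group
    _ = _ := by rw [h]; simp only [map_mul, map_inv]; group

/-- Every conjugate of the central involution in the centraliser is in one of three classes. -/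
theorem fusion (g : G) (c : Cm) (h : g * N.z * g⁻¹ = co.iota c) :
    c = tm ∨ ∃ k : Cm, k * c * k⁻¹ = nbr ∨ k * c * k⁻¹ = sec := by
  by_cases hq : g * N.z * g⁻¹ ∈ N.Q
  · refine Or.inl (co.inj ?_)
    rw [co.map_t, ← h]
    exact T.weak g hq
  have O : Out N g := ⟨T.weak, mem_centralizer_singleton_iff.1 (h ▸ iota_mem P hg c), hq⟩
  obtain ⟨d, O', hi | hi⟩ := exists_std P hg T O
  · obtain ⟨e, he⟩ := std_sec P hg T O' hi
    have := co.inj (h.symm.trans (conj_back P hg he))
    exact Or.inr ⟨(d⁻¹ * e)⁻¹, Or.inr (by rw [this]; group)⟩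
  · obtain ⟨e, he⟩ := std_nbr P hg T O' hi
    have := co.inj (h.symm.trans (conj_back P hg he))
    exact Or.inr ⟨(d⁻¹ * e)⁻¹, Or.inl (by rw [this]; group)⟩

/-- An element exchanging the central involution and the neighbour. -/
theorem exists_swap {g : G} (O : Out N g) (hi : N.ρ O.inv' = A.σ (tvW [0, 1, 6])) :
    ∃ h : G, h * N.z * h⁻¹ = co.iota nbr ∧ h * co.iota nbr * h⁻¹ = N.z := by
  have S := T.stdB g O hi
  obtain ⟨c, hc⟩ := std_nbr P hg T O hi
  obtain ⟨d, O', hd | hd⟩ := exists_std P hg T O.symm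
  · exfalso
    have hb := (T.stdA _ O' hd).d_bot
    have h1 : Nat.card ↥(dG N g) = 1 := by
      rw [← Out.card_dG_inv, ← card_dG_conj g⁻¹ ⟨co.iota d, iota_mem P hg d⟩]
      rw [hb]
      exact Subgroup.card_bot
    exact S.d_ne (AddSubgroup.eq_bot_of_card_eq _ (by rw [card_dV O, h1]))
  obtain ⟨e, he⟩ := std_nbr P hg T O' hd
  have he' := conj_back P hg he
  set e' := d⁻¹ * e with he'd
  clear_value e'
  refine ⟨(co.iota c)⁻¹ * g * co.iota e', ?_, ?_⟩
  · have hz : co.iota e' * N.z * (co.iota e')⁻¹ = N.z := N.conj_z (iota_mem P hg e')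
    calc (co.iota c)⁻¹ * g * co.iota e' * N.z * ((co.iota c)⁻¹ * g * co.iota e')⁻¹
        = (co.iota c)⁻¹ * (g * (co.iota e' * N.z * (co.iota e')⁻¹) * g⁻¹) * co.iota c := by group
      _ = co.iota nbr := by rw [hz, hc]; simp only [map_mul, map_inv]; group
  · calc (co.iota c)⁻¹ * g * co.iota e' * co.iota nbr * ((co.iota c)⁻¹ * g * co.iota e')⁻¹
        = (co.iota c)⁻¹ * (g * co.iota (e' * nbr * e'⁻¹) * g⁻¹) * co.iota c := by
          simp only [map_mul, map_inv]; group
      _ = (co.iota c)⁻¹ * (g * (g⁻¹ * N.z * g⁻¹⁻¹) * g⁻¹) * co.iota c := by rw [← he']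
      _ = (co.iota c)⁻¹ * N.z * co.iota c := by group
      _ = N.z := by
        rw [mul_assoc, ← mem_centralizer_singleton_iff.1 (iota_mem P hg c), inv_mul_cancel_left]

end CfsgLib.CoTwoRec
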