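import Cfsg.Agent.Lib.CoTwoRec.OutGen
import Cfsg.Agent.Lib.CoTwoRec.SpinModule

/-!
# The two standard positions of a commuting conjugate outside the extraspecial subgroup

Over a transvection the intersection is trivial and the other subgroup gives the kernel on the fixed vectors; over
the product of three transvections of a line the intersection lies over the commutators.
-/

set_option autoImplicit false

namespace CfsgLib.CoTwoRec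

open Subgroup CfsgLib.ExtraNine CfsgLib.Schur.Tails.SpSix CfsgLib.ThType.Perm CfsgLib.ThType.Fusion

/-- The kernel of the centraliser of the first transvection on its fixed vectors. -/
def k63W : List (List (Fin 8)) := [[], [0], [6, 1], [6, 1, 0], [4, 6, 1, 4], [4, 6, 1, 4, 0], [7, 4, 6, 1, 4, 7],
  [1, 4, 6, 1, 4, 1], [1, 4, 6, 1, 4, 1, 0], [7, 4, 6, 1, 4, 7, 0], [5, 7, 4, 6, 1, 4, 7, 5],
  [7, 4, 6, 1, 4, 7, 6, 1], [7, 4, 6, 1, 4, 7, 6, 1, 0], [5, 7, 4, 6, 1, 4, 7, 5, 0],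
  [5, 7, 4, 6, 1, 4, 7, 6, 5, 1], [2, 5, 7, 4, 6, 1, 4, 7, 5, 2], [7, 4, 6, 1, 4, 7, 4, 6, 1, 4],
  [7, 4, 6, 1, 4, 7, 4, 6, 1, 4, 0], [5, 7, 4, 6, 1, 4, 7, 6, 5, 1, 0], [2, 5, 7, 4, 6, 1, 4, 7, 5, 2, 0],
  [2, 5, 7, 4, 6, 1, 4, 7, 6, 5, 2, 1], [7, 4, 6, 1, 4, 7, 1, 4, 6, 1, 4, 1],
  [5, 7, 4, 6, 1, 4, 7, 4, 6, 5, 1, 4], [7, 4, 6, 1, 4, 7, 1, 4, 6, 1, 4, 1, 0],
  [5, 7, 4, 6, 1, 4, 7, 4, 6, 5, 1, 4, 0], [2, 5, 7, 4, 6, 1, 4, 7, 6, 5, 2, 1, 0],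
  [5, 7, 4, 6, 1, 4, 7, 1, 4, 6, 5, 1, 4, 1], [2, 5, 7, 4, 6, 1, 4, 7, 4, 6, 5, 1, 4, 2],
  [7, 4, 6, 5, 1, 4, 7, 4, 6, 5, 1, 4, 7, 5], [5, 7, 4, 6, 1, 4, 7, 1, 4, 6, 5, 1, 4, 1, 0],
  [2, 5, 7, 4, 6, 1, 4, 7, 4, 6, 5, 1, 4, 2, 0], [7, 4, 6, 5, 1, 4, 7, 4, 6, 5, 1, 4, 7, 5, 0]]

variable {G : Type*} [Group G] [Finite G] {V : Type*} [AddCommGroup V] (N : Nine G V) (A : Act Sp2 V)

/-- The standard position over a transvection. -/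
structure StdA (g : G) : Prop where
  out : Out N g
  img : N.ρ out.inv' = A.σ (tv 0)
  lf0 : ∀ v, A.σ (tv 0) v = v → lf N g v = 0
  d_bot : dG N g = ⊥
  mem : ∀ w ∈ k63W, A.σ (tvW w) ∈ mG N g
  only : ∀ m ∈ mG N g, ∃ w ∈ k63W, m = A.σ (tvW w)

/-- The standard position over three transvections of a line. -/
structure StdB (g : G) : Prop where
  out : Out N g
  img : N.ρ out.inv' = A.σ (tvW [0, 1, 6])
  lf0 : ∀ v, A.σ (tvW [0, 1, 6]) v = v → lf N g v = 0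
  d_ne : dV N g ≠ ⊥
  d_im : ∀ v ∈ dV N g, ∃ u, A.σ (tvW [0, 1, 6]) u + u = v
  mem : A.σ (tvW [7, 2]) ∈ mG N g

/-- What the table of classes gives. -/
structure OutTable : Prop where
  weak : Weak N
  norm : ∀ g, Out N g → ∃ k ∈ centralizer ({N.z} : Set G), ∃ O' : Out N (k * g),
    N.ρ O'.inv' = A.σ (tv 0) ∨ N.ρ O'.inv' = A.σ (tvW [0, 1, 6])
  stdA : ∀ g (O : Out N g), N.ρ O.inv' = A.σ (tv 0) → StdA N A g
  stdB : ∀ g (O : Out N g), N.ρ O.inv' = A.σ (tvW [0, 1, 6]) → StdB N A g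

end CfsgLib.CoTwoRec
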