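import Mathlib.Data.Nat.Notation

/-!
# Commutators reaching one member of the kernel over three transvections of a line
-/

set_option autoImplicit false
set_option maxRecDepth 100000

namespace CfsgLib.CoTwoRec

/-- The position of the member. -/
def goalIx : ℕ := 157

/-- The positions of the small kernel. -/
def smallIx : List ℕ := [0, 1, 2, 7, 273, 390, 440, 495]

/-- Words commuting with the third representative. -/
def comB : List (List (Fin 8)) := [[7], [5, 4, 7, 5, 2, 5, 7, 4, 2, 5, 4, 7, 6, 4, 1, 4, 6, 7, 4, 5, 2, 4, 3, 6, 4, 7, 1, 4, 6, 3, 0, 3, 6, 4, 1, 7, 4, 6, 3], [2, 5, 7, 1, 0], [4, 3, 3, 7, 7, 6, 2, 3, 2, 0, 1, 6, 2, 3, 2, 6, 7, 7, 3, 3, 4, 0, 1, 6, 4, 3, 3, 7, 7, 6, 2, 3, 2], [6, 6, 7, 2, 5, 1, 0, 2, 7, 3, 4, 6, 4, 0, 1, 6, 4, 6, 4, 3, 7, 2, 0, 1, 5, 2, 7, 6, 6, 0, 1, 6, 6, 6, 7, 2, 5, 1, 0, 2, 7, 3, 4, 6, 4], [0, 5, 5, 5]]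

/-- A position, a word and the position of the commutator, in an order ending at the member. -/
def stepTab : List (ℕ × ℕ × ℕ) := [(6, 0, 157), (11, 0, 157), (15, 0, 157), (33, 0, 157), (70, 0, 157), (82, 0, 157), (132, 0, 157), (144, 0, 157), (179, 0, 157), (190, 0, 157), (266, 0, 157), (284, 0, 157), (294, 0, 157), (314, 0, 157), (321, 0, 157), (384, 0, 157), (403, 0, 157), (415, 0, 157), (435, 0, 157), (449, 0, 157), (453, 0, 157), (454, 0, 157), (455, 0, 157), (460, 0, 157), (470, 0, 157), (486, 0, 157), (487, 0, 157), (490, 0, 157), (502, 0, 157), (503, 0, 157), (510, 0, 157), (511, 0, 157), (4, 3, 435), (9, 3, 384), (13, 3, 179), (21, 5, 70), (25, 3, 454), (28, 5, 70), (31, 3, 132), (39, 5, 70), (43, 3, 510), (46, 5, 70), (53, 5, 70), (57, 3, 503), (60, 5, 70), (62, 3, 284), (79, 2, 6), (86, 3, 487), (95, 2, 6), (97, 4, 384), (104, 3, 435), (108, 4, 384), (115, 5, 70), (119, 3, 487), (122, 5, 70), (124, 3, 82), (141, 2, 6),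 (148, 3, 503), (159, 4, 179), (166, 3, 384), (170, 4, 179), (172, 3, 15), (187, 2, 6), (194, 3, 510), (203, 2, 6), (205, 4, 435), (212, 3, 179), (216, 4, 435), (218, 4, 454), (224, 2, 82), (232, 3, 82), (237, 2, 82), (241, 2, 82), (257, 2, 6), (262, 2, 82), (264, 3, 454), (281, 2, 6), (282, 4, 132), (292, 2, 82), (311, 4, 132), (315, 3, 11), (337, 3, 132), (340, 4, 487), (346, 2, 82), (353, 3, 284), (358, 2, 82), (362, 2, 82), (381, 2, 82), (402, 2, 82), (416, 4, 510), (418, 2, 82), (421, 3, 11), (425, 2, 82), (448, 2, 82), (462, 2, 82), (468, 4, 487), (471, 4, 503), (485, 2, 82), (491, 2, 82), (497, 3, 15), (500, 4, 503), (506, 4, 454), (507, 4, 510), (92, 1, 416), (154, 1, 506), (200, 1, 416), (219, 1, 262), (278, 1, 506), (297, 1, 262), (301, 1, 262), (332, 1, 506), (341, 1, 448), (394, 1, 416), (405, 1, 448), (407, 1, 448), (443, 1, 506), (451, 1, 262), (469, 1, 448), (484, 1, 416)]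

end CfsgLib.CoTwoRec
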