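import Cfsg.Agent.Lib.CoTwoRec.SpOutChecks
import Cfsg.Agent.Lib.CoTwoRec.SpTableData
import Cfsg.Agent.Lib.CoTwoRec.OutStd

/-!
# The checks for the two standard positions
-/

set_option autoImplicit false
set_option maxRecDepth 100000

namespace CfsgLib.CoTwoRec

open CfsgLib.ThType.Coords

theorem tv0_ok : ((List.range 8).all fun n => Nat.beq (img (rC 0) n) (evT [0] (2 ^ n))) = true := by
  decide +kernel

theorem line_ok : ((List.range 8).all fun n => Nat.beq (img (rC 2) n) (evT [0, 1, 6] (2 ^ n))) = true := by
  decide +kernel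

theorem k63_fix_ok : (k63W.all fun w => (fixB16.getD 0 []).all fun v => Nat.beq (evT w v) v) = true := by
  decide +kernel

theorem k63_span_ok : ((fixOf (rC 0)).all fun v => (spanL (fixB16.getD 0 [])).any (Nat.beq v)) = true := by
  decide +kernel

theorem k63_comm_ok : (k63W.all fun w => (List.range 8).all fun n =>
    Nat.beq (evT (w ++ [0]) (2 ^ n)) (evT ([0] ++ w) (2 ^ n))) = true := by decide +kernel

theorem k63_distinct : ∀ i j : Fin 32, i ≠ j → ((List.range 8).any fun n =>
    !Nat.beq (evT (k63W.getD i.val []) (2 ^ n)) (evT (k63W.getD j.val []) (2 ^ n))) = true := by decide +kernel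

theorem fix63_count : Nat.ble (cnt (fixesL (fixB16.getD 0 []))) 32 = true := by decide +kernel

/-- The perpendiculars of the fixed vectors are commutators. -/
theorem perp_ok : ([0, 2].all fun t => (List.range 256).all fun u =>
    ((List.range 256).filter fun v => Nat.beq (app (rC t) v) v).any (fun v => beta u v) ||
      (List.range 256).any fun x => Nat.beq (app (rC t) x ^^^ x) u) = true := by decide +kernel

/-- The member moves the fixed vectors inside the commutators. -/
noncomputable def inIm (i : ℕ) : Bool :=
  (imB ++ quoB).all fun v => imL.any (Nat.beq (app (sel i) v ^^^ v))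

theorem goal_ok : (Nat.blt goalIx 512 && (List.range 8).all fun n =>
    Nat.beq (img (sel goalIx) n) (evT [7, 2] (2 ^ n))) = true := by decide +kernel

theorem inIm_cover : (((List.range 512).filter inIm).all fun i => smallIx.any (Nat.beq i) || Nat.beq i goalIx ||
    stepTab.any fun e => Nat.beq e.1 i) = true := by decide +kernel

theorem comB_ok : (comB.all fun w => (List.range 8).all fun n =>
    Nat.beq (evT (w ++ [0, 1, 6]) (2 ^ n)) (evT ([0, 1, 6] ++ w) (2 ^ n))) = true := by decide +kernel

theorem step_ok : ((List.range stepTab.length).all fun k =>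
    Nat.blt (stepTab.getD k (0, 0, 0)).1 512 && Nat.blt (stepTab.getD k (0, 0, 0)).2.1 comB.length &&
    Nat.blt (stepTab.getD k (0, 0, 0)).2.2 512 &&
    (Nat.beq (stepTab.getD k (0, 0, 0)).2.2 goalIx ||
      (stepTab.take k).any fun e => Nat.beq e.1 (stepTab.getD k (0, 0, 0)).2.2) &&
    (List.range 8).all fun n =>
      Nat.beq (app (sel (stepTab.getD k (0, 0, 0)).1) (evT (comB.getD (stepTab.getD k (0, 0, 0)).2.1 []) (2 ^ n)))
        (app (sel (stepTab.getD k (0, 0, 0)).2.2) (evT (comB.getD (stepTab.getD k (0, 0, 0)).2.1 [])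
          (img (sel (stepTab.getD k (0, 0, 0)).1) n)))) = true := by decide +kernel

theorem small_length : smallIx.length = 8 := rfl

end CfsgLib.CoTwoRec
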