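import Cfsg.Agent.Lib.CoTwoRec.SpOutD
import Cfsg.Agent.Lib.CoTwoRec.SpTableChecks

/-!
# The table of the two standard positions on the spin module
-/

set_option autoImplicit false
set_option linter.unusedSectionVars false
set_option maxRecDepth 100000

namespace CfsgLib.CoTwoRec

open Subgroup CfsgLib.ExtraNine CfsgLib.LargeExtra CfsgLib.Schur.Tails.SpSix CfsgLib.ThType.Perm
  CfsgLib.ThType.Coords CfsgLib.ThType.Fusion

attribute [local irreducible] sel app

variable {G : Type*} [Group G] [Finite G] {V : Type*} [AddCommGroup V] {N : Nine G V} {A : Act Sp2 V}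
  (P : SpinChart N.S A) (hinj : Function.Injective A.σ) (hr : A.σ.range = N.ρ.range) {g : G} (O : Out N g)
  {α : Sp2} (hα : A.σ α = N.ρ O.inv')

include P hinj in
theorem rep_zero_eq : rep 0 = tv 0 :=
  isC_eq P hinj (pC_rep P (by norm_num)) (isC_of_basis P fun j hj => by
    rw [← tvW_single, σ_tvW P _ (pow_lt hj)]
    exact congrArg P.c (Nat.eq_of_beq_eq_true (all_lt tv0_ok hj)).symm)

include P hinj in
theorem rep_two_eq : rep 2 = tvW [0, 1, 6] :=
  isC_eq P hinj (pC_rep P (by norm_num)) (isC_of_basis P fun j hj => by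
    rw [σ_tvW P _ (pow_lt hj)]
    exact congrArg P.c (Nat.eq_of_beq_eq_true (all_lt line_ok hj)).symm)

include P in
theorem kerB_zero_fix : ∀ v ∈ kerB 0, v < 256 ∧ app (rC 2) v = v := by
  intro v hv
  have hq := quo_ok
  simp only [List.all_eq_true, Bool.and_eq_true, Nat.blt_eq, Nat.beq_eq] at hq
  exact hq v (by rwa [show kerB 0 = imB ++ quoB by decide] at hv)

include P hinj hr in
/-- A vector perpendicular to the fixed vectors is a commutator. -/
theorem perp_im {t : ℕ} (ht : t = 0 ∨ t = 2) {h β : Sp2} (hh : h * rep t * h⁻¹ = β) {v : V}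
    (hv : ∀ w, A.σ β w = w → N.S.B v w = 0) : ∃ w, A.σ β w + w = v := by
  obtain ⟨u, hu, rfl⟩ := vh_surj P h v
  have hchk := List.all_eq_true.1 perp_ok t (by rcases ht with rfl | rfl <;> simp)
  have h1 := all_lt hchk hu
  simp only [Bool.or_eq_true, List.any_eq_true, List.mem_filter, List.mem_range, Nat.beq_eq] at h1
  have ht' : t < 4 := by rcases ht with rfl | rfl <;> norm_num
  rcases h1 with ⟨w, ⟨hw, hwf⟩, hb⟩ | ⟨x, hx, e⟩
  · exfalso
    have h2 := hv (vh P h w) (by rw [← hh, fix_iff P (pC_rep P ht') hw]; exact hwf)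
    rw [vh_B P (spin_iso hr) h hu hw, hb] at h2
    exact absurd h2 (by simp)
  · exact ⟨vh P h x, by rw [← hh, σ_add_self P (pC_rep P ht') hx, e]⟩

include P hinj hr hα in
/-- Over three transvections of a line the intersection is not trivial. -/
theorem two_d_ne (hT : Ty 2 α) : dV N g ≠ ⊥ := by
  intro hbot
  haveI := spin_finite P
  obtain ⟨h, hh, hS⟩ := exists_pull P hinj (t := 2) (by norm_num) hT (m2_facts hinj hr O).2
    (m2_comm hinj O hα).2
  have hlf := (two_facts P hinj hr O hα hT).1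
  have hge := sG_partner P hinj hr O.symm
  rw [← card_mG O, ← (m2_facts hinj hr O).1, ← card_dV O, hbot, AddSubgroup.card_bot, mul_one] at hge
  have hle := (card_le_cnt P hinj _ h hS (fixesL (kerB 0)) fun m hm i _ hci => by
    simp only [fixesL, List.all_eq_true, Nat.beq_eq]
    intro v hv
    obtain ⟨hv256, hvf⟩ := kerB_zero_fix P v hv
    have hfx : N.ρ O.inv' (vh P h v) = vh P h v := by
      rw [← hα, ← hh, fix_iff P (pC_rep P (by norm_num)) hv256]; exact hvf
    have h1 := com_dV O (show A.σ m ∈ mG N g from hm) ((mem_klV O).2 ⟨hfx, hlf _ hfx⟩)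
    rw [hbot, AddSubgroup.mem_bot, show m = h * (h⁻¹ * m * h) * h⁻¹ by group, σ_add_self P hci hv256,
      ← vh_zero P h] at h1
    exact Nat.xor_eq_zero_iff.1 (vh_inj P h (xor_lt' (app_lt _ _) hv256) (by norm_num) h1)).1
  have := all_lt d_zero_ok (show 0 < 16 by norm_num)
  rw [Nat.blt_eq] at this
  omega

/-- The elements commuting with a given one and fixing its fixed vectors. -/
def fixK (A : Act Sp2 V) (β : Sp2) : Subgroup Sp2 where
  carrier := {γ | γ * β = β * γ ∧ ∀ v, A.σ β v = v → A.σ γ v = v}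
  one_mem' := ⟨by simp, fun v _ => by simp⟩
  mul_mem' := fun {a b} ha hb => ⟨(show Commute a β from ha.1).mul_left (show Commute b β from hb.1),
    fun v hv => by rw [map_mul, Equiv.Perm.mul_apply, hb.2 v hv, ha.2 v hv]⟩
  inv_mem' := fun {a} ha => ⟨(show Commute a β from ha.1).inv_left,
    fun v hv => by rw [map_inv, Equiv.Perm.inv_eq_iff_eq]; exact (ha.2 v hv).symm⟩

include P hinj hr in
/-- That subgroup has exponent two over a transvection. -/
theorem fixK_two : IsPGroup 2 ↥(fixK A (rep 0)) := by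
  rintro ⟨γ, hγ, hfix⟩
  refine ⟨1, Subtype.ext (hinj ?_)⟩
  show A.σ (γ ^ 2 ^ 1) = A.σ 1
  rw [pow_one, sq, map_mul, map_one]
  refine Equiv.ext fun v => ?_
  obtain ⟨w, hw⟩ := perp_im P hinj hr (t := 0) (Or.inl rfl) (h := 1) (β := rep 0) (by simp)
    (v := A.σ γ v + v) fun w hw => by
      rw [N.S.B_add_left, show N.S.B (A.σ γ v) w = N.S.B v w by
        conv_lhs => rw [← hfix w hw]
        exact QV.iso_B (spin_iso hr γ) v w]
      exact CharTwo.add_self_eq_zero _
  have hfx : A.σ (rep 0) (A.σ γ v + v) = A.σ γ v + v := by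
    rw [← hw, A.add, ← Equiv.Perm.mul_apply, ← map_mul,
      show rep 0 * rep 0 = 1 by
        refine hinj (σ_ext P fun n hn => ?_)
        rw [map_mul, Equiv.Perm.mul_apply, map_one, Equiv.Perm.one_apply, rep, σ_tvW P _ (pow_lt hn),
          σ_tvW P _ (evT_lt _ (pow_lt hn))]
        exact congrArg _ (Nat.eq_of_beq_eq_true (all_lt rep0_sq hn)),
      map_one, Equiv.Perm.one_apply, add_comm]
  have h2 := hfix _ hfx
  rw [A.add] at h2
  rw [Equiv.Perm.mul_apply, Equiv.Perm.one_apply]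
  have h3 : A.σ γ (A.σ γ v) = v + (A.σ γ v + A.σ γ v) := by
    calc A.σ γ (A.σ γ v) = A.σ γ (A.σ γ v) + (A.σ γ v + A.σ γ v) := by rw [N.S.two, add_zero]
      _ = A.σ γ (A.σ γ v) + A.σ γ v + A.σ γ v := by rw [add_assoc]
      _ = A.σ γ v + v + A.σ γ v := by rw [h2]
      _ = _ := by abel
  rw [h3, N.S.two, add_zero]

include P hinj hr in
/-- Its members are the listed products. -/
theorem fixK_list : (∀ w ∈ k63W, tvW w ∈ fixK A (rep 0)) ∧ Nat.card ↥(fixK A (rep 0)) ≤ 32 ∧
    ∀ γ ∈ fixK A (rep 0), ∃ w ∈ k63W, γ = tvW w := by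
  classical
  have hb := all_lt basis16_ok (show 0 < 2 by norm_num)
  simp only [List.all_eq_true, Bool.and_eq_true, Nat.blt_eq, Nat.beq_eq] at hb
  have hc := k63_comm_ok
  have hf := k63_fix_ok
  simp only [List.all_eq_true, List.mem_range, Nat.beq_eq] at hc hf
  have hmem : ∀ w ∈ k63W, tvW w ∈ fixK A (rep 0) := by
    intro w hw
    refine ⟨?_, fun v hv => ?_⟩
    · rw [rep_zero_eq P hinj]
      refine hinj (σ_ext P fun n hn => ?_)
      rw [← tvW_single, ← tvW_append, ← tvW_append, σ_tvW P _ (pow_lt hn), σ_tvW P _ (pow_lt hn), hc w hw n hn]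
    · obtain ⟨u, hu, rfl⟩ := vh_surj P 1 v
      have hfu : app (rC 0) u = u := by
        have h' := (fix_iff P (h := 1) (pC_rep P (t := 0) (by norm_num)) hu).1 (by simpa using hv)
        exact h'
      have hs := List.all_eq_true.1 k63_span_ok u (List.mem_filter.2 ⟨List.mem_range.2 hu, by simpa using hfu⟩)
      rw [List.any_eq_true] at hs
      obtain ⟨u', hu', e⟩ := hs
      rw [Nat.beq_eq] at e
      subst e
      let W : AddSubgroup V :=
        { carrier := {x | A.σ (tvW w) x = x}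
          zero_mem' := map_zero (A.a (tvW w))
          add_mem' := fun {x y} hx hy => by
            show A.σ (tvW w) (x + y) = x + y
            rw [A.add, hx, hy]
          neg_mem' := fun {x} hx => by rwa [show -x = x from neg_eq_of_add_eq_zero_left (N.S.two x)] }
      refine spanL_mem P W 1 _ [0] (fun x hx => ?_) (fun x hx => by
        rw [List.mem_singleton.1 hx, vh_zero]; exact W.zero_mem) u hu'
      show A.σ (tvW w) (vh P 1 x) = vh P 1 x
      simp only [vh, map_one, Equiv.Perm.one_apply]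
      rw [σ_tvW P _ (hb x hx).1, hf w hw x hx]
  obtain ⟨h, hh, hS⟩ := exists_pull P hinj (t := 0) (by norm_num) (α := rep 0) ⟨1, by simp⟩
    (fixK_two P hinj hr) fun m hm => hm.1
  have hle : Nat.card ↥(fixK A (rep 0)) ≤ 32 := by
    have h32 := fix63_count
    rw [Nat.ble_eq] at h32
    refine le_trans (card_le_cnt P hinj _ h hS (fixesL (fixB16.getD 0 [])) fun m hm i _ hci => ?_).1 h32
    simp only [fixesL, List.all_eq_true, Nat.beq_eq]
    intro v hv
    obtain ⟨hv256, hvf⟩ := hb v hv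
    have h1 := hm.2 (vh P h v) (by
      conv_lhs => rw [← hh]
      rw [fix_iff P (pC_rep P (by norm_num)) hv256]; exact hvf)
    rw [show m = h * (h⁻¹ * m * h) * h⁻¹ by group, fix_iff P hci hv256] at h1
    exact h1
  refine ⟨hmem, hle, fun γ hγ => ?_⟩
  let f : Fin 32 → ↥(fixK A (rep 0)) := fun i => ⟨tvW (k63W.getD i.val []), hmem _ (by
    have hl : k63W.length = 32 := rfl
    rw [List.getD_eq_getElem _ _ (by omega)]
    exact List.getElem_mem _)⟩
  have hf' : Function.Injective f := by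
    intro i j e
    by_contra hne
    have hd := k63_distinct i j hne
    simp only [List.any_eq_true, List.mem_range, Bool.not_eq_true'] at hd
    obtain ⟨n, hn, hne'⟩ := hd
    refine beq_ne hne' (P.inj _ (evT_lt _ (pow_lt hn)) _ (evT_lt _ (pow_lt hn)) ?_)
    rw [← σ_tvW P _ (pow_lt hn), ← σ_tvW P _ (pow_lt hn)]
    exact congrArg (fun x : Sp2 => A.σ x (P.c (2 ^ n))) (congrArg Subtype.val e)
  haveI := Fintype.ofFinite ↥(fixK A (rep 0))
  have hb' : Function.Bijective f := (Fintype.bijective_iff_injective_and_card f).2 ⟨hf', le_antisymm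
    (Fintype.card_le_of_injective f hf') (by rw [Fintype.card_fin, ← Nat.card_eq_fintype_card]; exact hle)⟩
  obtain ⟨i, hi⟩ := hb'.2 ⟨γ, hγ⟩
  refine ⟨k63W.getD i.val [], ?_, (congrArg Subtype.val hi).symm⟩
  have hl : k63W.length = 32 := rfl
  rw [List.getD_eq_getElem _ _ (by omega)]
  exact List.getElem_mem _

include P hinj hr in
theorem table_stdA (hO : N.ρ O.inv' = A.σ (tv 0)) : StdA N A g := by
  classical
  haveI := spin_finite P
  have hα0 : A.σ (tv 0) = N.ρ O.inv' := hO.symm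
  have hT : Ty 0 (tv 0) := ⟨1, by rw [rep_zero_eq P hinj]; group⟩
  have hbot : dV N g = ⊥ := small_d P hinj hr O hα0 (t := 0) (by norm_num) hT
  have hd : Nat.card ↥(dG N g) = 1 := by rw [← card_dV O, hbot, AddSubgroup.card_bot]
  have hM : Nat.card (m2 A N g) = 32 := by
    rw [(m2_facts hinj hr O).1]
    have h := card_mG O
    rw [hd, mul_one] at h
    rw [h]
    obtain ⟨β, hβ, t, ht, hTβ⟩ := exists_alpha P hinj hr O.symm
    rcases (show t < 2 ∨ t = 2 ∨ t = 3 by omega) with h2 | rfl | rfl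
    · exact sG_small P hr O.symm hβ h2 hTβ
    · refine (two_d_ne P hinj hr O.symm hβ hTβ (AddSubgroup.eq_bot_of_card_eq _ ?_)).elim
      rw [card_dV O.symm, card_d_symm, hd]
    · exact (no_tw P hinj hr O.symm hβ hTβ).elim
  have hle : m2 A N g ≤ fixK A (rep 0) := by
    intro m hm
    rw [rep_zero_eq P hinj]
    refine ⟨(m2_comm hinj O hα0).2 m hm, fun v hv => ?_⟩
    have h1 := com_dV O (show A.σ m ∈ mG N g from hm) (fixed_mem P hr O hα0 (t := 0) (by norm_num) hT hv)
    rw [hbot, AddSubgroup.mem_bot] at h1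
    calc A.σ m v = A.σ m v + (v + v) := by rw [N.S.two, add_zero]
      _ = v := by rw [← add_assoc, h1, zero_add]
  obtain ⟨hmem, hK, honly⟩ := fixK_list P hinj hr
  have heq : m2 A N g = fixK A (rep 0) := Subgroup.eq_of_le_of_card_ge hle (hM ▸ hK)
  refine ⟨O, hO, fun v hv => ((mem_klV O).1 (fixed_mem P hr O hα0 (t := 0) (by norm_num) hT hv)).2,
    eq_bot_of_card_eq _ hd, fun w hw => show tvW w ∈ m2 A N g from heq ▸ hmem w hw, fun m hm => ?_⟩
  obtain ⟨γ, rfl⟩ : m ∈ A.σ.range := hr ▸ map_le_range _ _ hm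
  obtain ⟨w, hw, e⟩ := honly γ (heq ▸ (show γ ∈ m2 A N g from hm))
  exact ⟨w, hw, by rw [e]⟩

include P hinj hr O hα in
/-- The stabiliser covers the whole centraliser of the class of three transvections of a line. -/
theorem full_stab (hT : Ty 2 α) {γ : Sp2} (hγ : γ * α = α * γ) : A.σ γ ∈ (kG N g).map N.ρ := by
  obtain ⟨h, hh⟩ := hT
  obtain ⟨hlf, hno⟩ := two_facts P hinj hr O hα ⟨h, hh⟩
  obtain ⟨k0, hk0⟩ := (hr ▸ ⟨γ, rfl⟩ : A.σ γ ∈ N.ρ.range)
  have hz0 := mem_centralizer_singleton_iff.1 k0.2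
  set y : G := (k0 : G) * (g * N.z * g⁻¹) * (k0 : G)⁻¹ with hy
  have hρy : N.ρ (k0 * O.inv' * k0⁻¹) = N.ρ O.inv' := by
    rw [map_mul, map_mul, map_inv, hk0, ← hα, ← map_inv, ← map_mul, ← map_mul, hγ, mul_inv_cancel_right]
  have hq : y * (g * N.z * g⁻¹)⁻¹ ∈ N.Q := by
    have h1 : N.ρ (k0 * O.inv' * k0⁻¹ * O.inv'⁻¹) = 1 := by
      rw [map_mul, hρy, map_inv, mul_inv_cancel]
    exact (N.ρ_eq_one_iff _).1 h1
  -- it centralises the preimage of the fixed vectors
  have hperp : ∀ w, A.σ α w = w → N.S.B (N.π ⟨_, hq⟩) w = 0 := by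
    intro w hw
    obtain ⟨p, rfl⟩ := N.surj w
    have hwx : N.ρ O.inv' (N.π p) = N.π p := hα ▸ hw
    have e1 : g * N.z * g⁻¹ * (p : G) * (g * N.z * g⁻¹)⁻¹ = p := by
      rw [O.lfun_spec hwx, if_pos (hlf _ hwx)]
    set p' : ↥N.Q := ⟨(k0⁻¹ : centralizer ({N.z} : Set G)) * (p : G) * ((k0⁻¹ : centralizer ({N.z} : Set G)) : G)⁻¹,
      N.conj_mem (k0⁻¹).2 p⟩ with hp'
    have hπ' : N.π p' = A.σ γ⁻¹ (N.π p) := (N.ρ_π k0⁻¹ p).symm.trans (by rw [map_inv, hk0, map_inv])
    have hp'x : N.ρ O.inv' (N.π p') = N.π p' := by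
      rw [hπ', ← hα, ← Equiv.Perm.mul_apply, ← map_mul,
        show α * γ⁻¹ = γ⁻¹ * α from ((show Commute γ α from hγ).inv_left).symm, map_mul, Equiv.Perm.mul_apply, hw]
    have e2 : g * N.z * g⁻¹ * (p' : G) * (g * N.z * g⁻¹)⁻¹ = p' := by
      rw [O.lfun_spec hp'x, if_pos (hlf _ hp'x)]
    have e3 : y * (p : G) * y⁻¹ = p := by
      calc y * (p : G) * y⁻¹ = (k0 : G) * (g * N.z * g⁻¹ * (p' : G) * (g * N.z * g⁻¹)⁻¹) * (k0 : G)⁻¹ := by
            rw [hy, hp']; simp only [InvMemClass.coe_inv]; group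
        _ = (k0 : G) * (p' : G) * (k0 : G)⁻¹ := by rw [e2]
        _ = p := by rw [hp']; simp only [InvMemClass.coe_inv]; group
    refine (N.B_eq_zero_iff ⟨_, hq⟩ p).2 ?_
    show y * (g * N.z * g⁻¹)⁻¹ * p = p * (y * (g * N.z * g⁻¹)⁻¹)
    calc y * (g * N.z * g⁻¹)⁻¹ * (p : G)
        = y * (g * N.z * g⁻¹)⁻¹ * (g * N.z * g⁻¹ * (p : G) * (g * N.z * g⁻¹)⁻¹) := by rw [e1]
      _ = y * (p : G) * y⁻¹ * (y * (g * N.z * g⁻¹)⁻¹) := by group
      _ = _ := by rw [e3]
  obtain ⟨w, hw⟩ := perp_im P hinj hr (t := 2) (Or.inr rfl) hh hperp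
  obtain ⟨u, rfl⟩ := N.surj w
  have hπ : N.π (O.comm' u) = N.π ⟨_, hq⟩ := by rw [O.π_comm', ← hα, hw]
  rcases N.π_eq hπ with e | e <;> simp only at e
  · -- a corrected lift fixes the conjugate
    have hfix : ((u : G)⁻¹ * (k0 : G)) * (g * N.z * g⁻¹) = g * N.z * g⁻¹ * ((u : G)⁻¹ * (k0 : G)) := by
      have hyu : y = (u : G) * (g * N.z * g⁻¹) * (u : G)⁻¹ := by
        rw [O.comm'_spec, ← e]; group
      calc (u : G)⁻¹ * (k0 : G) * (g * N.z * g⁻¹) = (u : G)⁻¹ * y * (k0 : G) := by rw [hy]; group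
        _ = _ := by rw [hyu]; group
    let uc : centralizer ({N.z} : Set G) := ⟨u, mem_centralizer_singleton_iff.2 (N.z_comm u.2)⟩
    refine ⟨uc⁻¹ * k0, mem_centralizer_singleton_iff.2 hfix, ?_⟩
    rw [map_mul, map_inv, (N.ρ_eq_one_iff uc).2 u.2, inv_one, one_mul, hk0]
  · refine absurd (isConj_iff.2 ⟨(u : G)⁻¹ * (k0 : G) * g, ?_⟩) hno
    have hyu : y = (u : G) * (g * N.z * g⁻¹) * (u : G)⁻¹ * N.z := by
      rw [O.comm'_spec, mul_inv_eq_iff_eq_mul.1 e, mul_assoc _ (g * N.z * g⁻¹) N.z, O.comm]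
      group
    calc (u : G)⁻¹ * (k0 : G) * g * N.z * ((u : G)⁻¹ * (k0 : G) * g)⁻¹ = (u : G)⁻¹ * y * u := by rw [hy]; group
      _ = g * N.z * g⁻¹ * ((u : G)⁻¹ * N.z * u) := by rw [hyu]; group
      _ = _ := by rw [mul_assoc (u : G)⁻¹, ← N.z_comm u.2, inv_mul_cancel_left]

include P hinj hr in
theorem table_stdB (hO : N.ρ O.inv' = A.σ (tvW [0, 1, 6])) : StdB N A g := by
  classical
  haveI := spin_finite P
  have hα2 : A.σ (tvW [0, 1, 6]) = N.ρ O.inv' := hO.symm
  have hr2 := rep_two_eq P hinj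
  have hT : Ty 2 (tvW [0, 1, 6]) := ⟨1, by rw [hr2]; group⟩
  have hlf := (two_facts P hinj hr O hα2 hT).1
  have hne := two_d_ne P hinj hr O hα2 hT
  have h1σ : ∀ u, vh P 1 u = P.c u := fun u => by simp [vh]
  have hC : IsC P (rC 2) (tvW [0, 1, 6]) := hr2 ▸ pC_rep P (by norm_num)
  have hfix : ∀ u < 256, (A.σ (tvW [0, 1, 6]) (P.c u) = P.c u ↔ app (rC 2) u = u) := fun u hu => by
    rw [hC u hu]
    exact ⟨P.inj _ (app_lt _ _) _ hu, fun e => by rw [e]⟩
  have hkl : ∀ v ∈ kerB 0, v < 256 ∧ P.c v ∈ klV N g := fun v hv => by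
    obtain ⟨h256, hf⟩ := kerB_zero_fix P v hv
    have := (hfix v h256).2 hf
    exact ⟨h256, (mem_klV O).2 ⟨hα2 ▸ this, hlf _ (hα2 ▸ this)⟩⟩
  have hin : ∀ r < 256, P.c r ∈ dV N g → imL.any (Nat.beq r) = true := by
    intro r hr256 hrd
    by_contra hi
    have hfr : app (rC 2) r = r := (hfix r hr256).1 (hα2 ▸ ((mem_klV O).1 (dV_le_klV O hrd)).1)
    have hqr : qT r = false := by
      have := (dV_perp O hrd (dV_le_klV O hrd)).2
      rw [P.form r hr256] at this
      revert this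
      cases qT r <;> simp
    have ho : outRad 0 r = true := by
      simp only [outRad, Bool.and_eq_true, Bool.not_eq_true', List.all_eq_true, Nat.beq_eq]
      refine ⟨⟨⟨hfr, Bool.eq_false_iff.2 hi⟩, hqr⟩, fun v hv => ?_⟩
      obtain ⟨hv256, hvk⟩ := hkl v hv
      have := (dV_perp O hrd hvk).1
      rw [P.polar r hr256 v hv256] at this
      revert this
      cases beta r v <;> simp
    have := all_lt rad_zero_ok hr256
    rw [ho] at this
    exact absurd this (by simp)
  have hdim : ∀ v ∈ dV N g, ∃ u, A.σ (tvW [0, 1, 6]) u + u = v := by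
    intro v hv
    obtain ⟨r, hr256, rfl⟩ := P.surj v
    obtain ⟨r', hr', e⟩ := List.any_eq_true.1 (hin r hr256 hv)
    rw [Nat.beq_eq] at e
    subst e
    obtain ⟨u, hu, e⟩ := List.any_eq_true.1 (List.all_eq_true.1 im_ok r hr')
    rw [List.mem_range] at hu
    rw [Nat.beq_eq] at e
    exact ⟨P.c u, by rw [hC u hu, ← P.xor, e]⟩
  -- the kernel lies in the Sylow subgroup
  set M := m2 A N g with hMdef
  have hnorm : ∀ κ, κ * tvW [0, 1, 6] = tvW [0, 1, 6] * κ → ∀ m ∈ M, κ * m * κ⁻¹ ∈ M := by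
    intro κ hκ m hm
    show A.σ _ ∈ mG N g
    rw [map_mul, map_mul, map_inv]
    exact (mG_normal O).2 _ (full_stab P hinj hr O hα2 hT hκ) _ hm
  have hMS : ∀ m ∈ M, m ∈ sylS := by
    intro m hm
    obtain ⟨h, hh, hS⟩ := exists_pull P hinj (t := 2) (by norm_num) hT (m2_facts hinj hr O).2
      (m2_comm hinj O hα2).2
    rw [hr2] at hh
    have := hS _ (hnorm h (mul_inv_eq_iff_eq_mul.1 hh) m hm)
    rwa [show h⁻¹ * (h * m * h⁻¹) * h = m by group] at this
  have hinIm : ∀ m ∈ M, ∀ i < 512, IsC P (sel i) m → inIm i = true := by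
    intro m hm i _ hci
    simp only [inIm, List.all_eq_true]
    intro v hv
    obtain ⟨h256, hvk⟩ := hkl v (by rwa [show kerB 0 = imB ++ quoB by decide])
    have h1 := com_dV O (show A.σ m ∈ mG N g from hm) hvk
    rw [hci v h256, ← P.xor] at h1
    exact hin _ (xor_lt' (app_lt _ _) h256) h1
  have hd4 : Nat.card ↥(dV N g) ≤ 4 := by
    choose r hr256 hre using fun x : ↥(dV N g) => P.surj (x : V)
    have hmemL : ∀ x, ∃ j : Fin imL.length, imL[j.val] = r x := fun x => by
      obtain ⟨r', hr', e⟩ := List.any_eq_true.1 (hin (r x) (hr256 x) ((hre x).symm ▸ x.2))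
      rw [Nat.beq_eq] at e
      obtain ⟨j, hj, ej⟩ := List.getElem_of_mem hr'
      exact ⟨⟨j, hj⟩, ej.trans e.symm⟩
    choose j hj using hmemL
    have := Nat.card_le_card_of_injective j fun x y e => Subtype.ext (by
      rw [← hre x, ← hre y, ← hj x, ← hj y, e])
    simpa [imL] using this
  have hsize : 64 ≤ Nat.card M * Nat.card ↥(dV N g) := by
    rw [(m2_facts hinj hr O).1, card_dV O, card_mG O]
    obtain ⟨β, hβ, t, ht, hTβ⟩ := exists_alpha P hinj hr O.symm
    rcases (show t < 2 ∨ t = 2 ∨ t = 3 by omega) with h2 | rfl | rfl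
    · refine (hne (AddSubgroup.eq_bot_of_card_eq _ ?_)).elim
      rw [card_dV O, ← card_d_symm, ← card_dV O.symm, small_d P hinj hr O.symm hβ h2 hTβ, AddSubgroup.card_bot]
    · exact sG_two P O.symm hβ hTβ
    · exact (no_tw P hinj hr O.symm hβ hTβ).elim
  obtain ⟨m, hm, i, hi, hci, hbig⟩ : ∃ m ∈ M, ∃ i < 512, IsC P (sel i) m ∧
      smallIx.any (Nat.beq i) = false := by
    by_contra hno
    push Not at hno
    have hle := (card_le_cnt P hinj M 1 (fun m hm => by simpa using hMS m hm) (fun i => smallIx.any (Nat.beq i))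
      fun m hm i hi hci => by
        cases hb : smallIx.any (Nat.beq i)
        · exact absurd hb (hno m hm i hi (by simpa using hci))
        · rfl).1
    have h8 : cnt (fun i => smallIx.any (Nat.beq i)) ≤ 8 := by decide +kernel
    have := Nat.mul_le_mul (hle.trans h8) hd4
    omega
  -- the chain of commutators
  have hgoal : ∀ k < stepTab.length, ∀ m ∈ M, IsC P (sel (stepTab.getD k (0, 0, 0)).1) m →
      ∃ m' ∈ M, IsC P (sel goalIx) m' := by
    intro k
    induction k using Nat.strong_induction_on with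
    | _ k ih =>
      intro hk m hm hcm
      have hs := all_lt step_ok hk
      simp only [Bool.and_eq_true, Bool.or_eq_true, Nat.blt_eq, Nat.beq_eq, List.all_eq_true, List.mem_range,
        List.any_eq_true] at hs
      obtain ⟨⟨⟨⟨-, hb⟩, hj⟩, hnext⟩, hstep⟩ := hs
      generalize hj' : (stepTab.getD k (0, 0, 0)).2.2 = j at hj hnext hstep
      generalize hb' : comB.getD (stepTab.getD k (0, 0, 0)).2.1 [] = w at hstep
      have hwc : tvW w * tvW [0, 1, 6] = tvW [0, 1, 6] * tvW w := by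
        have hw : w ∈ comB := by
          rw [← hb', List.getD_eq_getElem _ _ hb]; exact List.getElem_mem _
        refine hinj (σ_ext P fun n hn => ?_)
        have hc := List.all_eq_true.1 (List.all_eq_true.1 comB_ok w hw) n (List.mem_range.2 hn)
        rw [Nat.beq_eq] at hc
        rw [← tvW_append, ← tvW_append, σ_tvW P _ (pow_lt hn), σ_tvW P _ (pow_lt hn), hc]
      obtain ⟨e, -, hce⟩ := el_exists P j hj
      have he : m * tvW w = e * tvW w * m := hinj (σ_ext P fun n hn => by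
        simp only [map_mul, Equiv.Perm.mul_apply]
        rw [σ_tvW P _ (pow_lt hn), hcm _ (evT_lt _ (pow_lt hn)), isC_basis P hcm hn, σ_tvW P _ (img_lt _ _),
          hce _ (evT_lt _ (img_lt _ _)), hstep n hn])
      have heM : e ∈ M := by
        rw [show e = m * (tvW w * m⁻¹ * (tvW w)⁻¹) by
          rw [← mul_assoc, ← mul_assoc, he]; group]
        exact mul_mem hm (hnorm _ hwc _ (inv_mem hm))
      rcases hnext with hg | ⟨x, hx, hxe⟩
      · exact ⟨e, heM, hg ▸ hce⟩
      · obtain ⟨n, hn, rfl⟩ := List.getElem_of_mem hx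
        rw [List.length_take] at hn
        rw [List.getElem_take] at hxe
        exact ih n (by omega) (by omega) e heM (by
          rw [List.getD_eq_getElem _ _ (by omega), hxe]; exact hce)
  obtain ⟨mg, hmg, hcg⟩ : ∃ m' ∈ M, IsC P (sel goalIx) m' := by
    have hcov := List.all_eq_true.1 inIm_cover i (filter_mem hi (hinIm m hm i hi hci))
    simp only [hbig, Bool.false_or, Bool.or_eq_true, Nat.beq_eq, List.any_eq_true] at hcov
    rcases hcov with rfl | ⟨x, hx, rfl⟩
    · exact ⟨m, hm, hci⟩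
    · obtain ⟨n, hn, rfl⟩ := List.getElem_of_mem hx
      exact hgoal n hn m hm (by rw [List.getD_eq_getElem _ _ hn]; exact hci)
  refine ⟨O, hO, fun v hv => hlf v (hα2 ▸ hv), hne, hdim, show tvW [7, 2] ∈ M from ?_⟩
  have hgk := goal_ok
  simp only [Bool.and_eq_true, Nat.blt_eq, List.all_eq_true, List.mem_range, Nat.beq_eq] at hgk
  rwa [← isC_eq P hinj hcg (isC_of_basis P (g := tvW [7, 2]) fun j hj => by rw [σ_tvW P _ (pow_lt hj), hgk.2 j hj])]

include P hinj hr in
/-- The table of the classes outside. -/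
theorem out_table (hw : Weak N) : OutTable N A where
  weak := hw
  stdA g O hO := table_stdA P hinj hr O hO
  stdB g O hO := table_stdB P hinj hr O hO
  norm g O := by
    obtain ⟨α, hα, -⟩ := exists_alpha P hinj hr O
    have key : ∀ t, Ty t α → ∃ k ∈ centralizer ({N.z} : Set G), ∃ O' : Out N (k * g),
        N.ρ O'.inv' = A.σ (rep t) := by
      rintro t ⟨h, hh⟩
      obtain ⟨k, hk⟩ := (hr ▸ ⟨h⁻¹, rfl⟩ : A.σ h⁻¹ ∈ N.ρ.range)
      have hx : (k : G) * g * N.z * ((k : G) * g)⁻¹ = ((k * O.inv' * k⁻¹ : centralizer ({N.z} : Set G)) : G) := by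
        show _ = (k : G) * (g * N.z * g⁻¹) * (k : G)⁻¹
        group
      have hmem : (k : G) * g * N.z * ((k : G) * g)⁻¹ ∈ centralizer ({N.z} : Set G) := hx ▸ (k * O.inv' * k⁻¹).2
      have hρ : N.ρ ⟨_, hmem⟩ = A.σ (rep t) := by
        rw [show (⟨_, hmem⟩ : centralizer ({N.z} : Set G)) = k * O.inv' * k⁻¹ from Subtype.ext hx, map_mul, map_mul,
          map_inv, hk, ← hα, ← map_inv, ← map_mul, ← map_mul, ← hh,
          show h⁻¹ * (h * rep t * h⁻¹) * h⁻¹⁻¹ = rep t by group]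
      obtain ⟨Pk, hPk⟩ := mk_out hw hmem (by
        rw [show (⟨_, hmem⟩ : centralizer ({N.z} : Set G)) = k * O.inv' * k⁻¹ from Subtype.ext hx, map_mul, map_mul,
          map_inv]
        exact fun e => O.a_sq.2 (conj_eq_one_iff.1 e))
      exact ⟨k, k.2, Pk, hPk.trans hρ⟩
    rcases (out_classes P hinj hr O hα).1 with h0 | ⟨h2, -⟩
    · obtain ⟨k, hk, O', e⟩ := key 0 h0
      exact ⟨k, hk, O', Or.inl (e.trans (by rw [rep_zero_eq P hinj]))⟩
    · obtain ⟨k, hk, O', e⟩ := key 2 h2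
      exact ⟨k, hk, O', Or.inr (e.trans (by rw [rep_two_eq P hinj]))⟩

include P hinj hr O in
/-- A conjugate outside is not conjugate to its product with the central involution. -/
theorem no_double : ¬ IsConj N.z (g * N.z * g⁻¹ * N.z) := by
  obtain ⟨α, hα, -⟩ := exists_alpha P hinj hr O
  exact (out_classes P hinj hr O hα).2.1

end CfsgLib.CoTwoRec
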