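import Cfsg.Agent.Lib.CoTwoRec.AxisChart
import Cfsg.Agent.Lib.Cores.PConstrained
import Cfsg.Agent.Lib.ExtraNine.Pair
import Cfsg.Agent.Lib.LargeExtra.SubExtra

/-!
# The module of an involution centraliser of the shape of that of Co2
-/

set_option autoImplicit false

namespace CfsgLib.CoTwoRec

open Subgroup Cfsg CfsgLib.ExtraNine CfsgLib.Schur.Tails.SpSix CfsgLib.ThType.Perm

theorem simple_sp2 : IsSimpleGroup Sp2 := by
  have := range_simple.1
  exact (MonoidHom.ofInjective phi_injective).isSimpleGroup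

theorem tv_three_ne : tv 0 * tv 3 ≠ 1 := fun h => by
  have e := congrArg phi h
  rw [map_one] at e
  have := congrArg (fun σ : Equiv.Perm (Fin 63) => (σ 0).val) e
  rw [← tvW_pair] at this
  simp only [phi_tvW_apply, Equiv.Perm.one_apply] at this
  revert this
  decide +kernel

/-- The two-core is self-centralising. -/
theorem generalizedFitting_eq {C : Type*} [Group C] [Finite C] (hcon : IsPConstrained 2 C)
    (e : C ⧸ pCore 2 C ≃* Sp2) : generalizedFittingSubgroup C = pCore 2 C := by
  haveI : Fact (Nat.Prime 2) := ⟨Nat.prime_two⟩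
  have hO : pPrimeCore 2 C = ⊥ := by
    set π := e.toMonoidHom.comp (QuotientGroup.mk' (pCore 2 C))
    have hπ : Function.Surjective π := e.surjective.comp (QuotientGroup.mk'_surjective _)
    have hc := Cores.coprime_card_pPrimeCore (G := C) 2
    have hle : pPrimeCore 2 C ≤ pCore 2 C := by
      haveI : ((pPrimeCore 2 C).map π).Normal := Subgroup.Normal.map inferInstance π hπ
      rcases simple_sp2.eq_bot_or_eq_top_of_normal _ ‹_› with hb | ht
      · intro x hx
        have hx1 : π x = 1 := by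
          have : π x ∈ (pPrimeCore 2 C).map π := mem_map_of_mem π hx
          rwa [hb, mem_bot] at this
        exact (QuotientGroup.eq_one_iff x).1 (e.map_eq_one_iff.1 hx1)
      · exfalso
        have hd : Nat.card ((pPrimeCore 2 C).map π) ∣ Nat.card (pPrimeCore 2 C) := card_map_dvd _ _
        rw [ht, card_top, card_sp2] at hd
        exact absurd (Nat.Coprime.coprime_dvd_left hd hc) (by norm_num)
    obtain ⟨k, hk⟩ := IsPGroup.iff_card.1 (Cores.isPGroup_pCore (G := C) 2)
    have h1 : Nat.card (pPrimeCore 2 C) ∣ 2 ^ k := hk ▸ card_dvd_of_le hle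
    exact Subgroup.card_eq_one.1 (Nat.eq_one_of_dvd_coprimes (hc.pow_right k) dvd_rfl h1)
  have hle : pPrimePCore 2 C ≤ pCore 2 C := by
    haveI := Cores.pPrimePCore_normal (p := 2) (G := C)
    refine Cores.le_pCore ?_
    refine (Cores.isPGroup_pCore (G := C ⧸ pPrimeCore 2 C) 2).comap_of_ker_isPGroup _ ?_
    rw [QuotientGroup.ker_mk', hO]
    exact IsPGroup.of_bot
  obtain ⟨P⟩ : Nonempty (Sylow 2 ↥(pPrimePCore 2 C)) := inferInstance
  refine Cores.generalizedFittingSubgroup_eq_pCore_iff.2 ⟨hO, (Cores.centralizer_pCore_le_iff hO).1 ?_⟩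
  refine le_trans (le_trans (centralizer_le ?_) (hcon P)) hle
  intro x hx
  exact hle (map_subtype_le _ hx)

/-- The action on the quotient of the extraspecial group, with its chart. -/
theorem exists_module {G : Type*} [Group G] [Finite G] {t : G} (ht : orderOf t = 2)
    (hcon : IsPConstrained 2 (centralizer ({t} : Set G)))
    (hQ : IsExtraspecial 2 (pCore 2 (centralizer ({t} : Set G))))
    (hcard : Nat.card (pCore 2 (centralizer ({t} : Set G))) = 2 ^ 9)
    (e : (centralizer ({t} : Set G)) ⧸ pCore 2 (centralizer ({t} : Set G)) ≃*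
      Matrix.symplecticGroup (Fin 3) (ZMod 2)) :
    ∃ (V : Type) (_ : AddCommGroup V) (N : Nine G V) (A : Act Sp2 V), N.z = t ∧
      N.Q = (pCore 2 (centralizer ({t} : Set G))).map (centralizer ({t} : Set G)).subtype ∧
      Nat.card V = 256 ∧ Function.Injective A.σ ∧ A.σ.range = N.ρ.range ∧ (∀ g, A.σ g ∈ N.S.Iso) ∧
      (Nonempty (SpinChart N.S A) ∨ ∃ ε, Nonempty (AxisChart ε N.S A)) := by
  classical
  have F : LargeExtra.FData ((pCore 2 (centralizer ({t} : Set G))).map (centralizer ({t} : Set G)).subtype) t :=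
    LargeExtra.fData ht (map_subtype_le _) (by rw [generalizedFitting_eq hcon e])
      (LargeExtra.isExtraspecial_of_mulEquiv ((pCore 2 (centralizer ({t} : Set G))).equivMapOfInjective
        (centralizer ({t} : Set G)).subtype (centralizer ({t} : Set G)).subtype_injective) hQ)
  have hE : Nat.card ((pCore 2 (centralizer ({t} : Set G))).map (centralizer ({t} : Set G)).subtype) = 512 := by
    rw [card_map_of_injective (centralizer ({t} : Set G)).subtype_injective, hcard]; rfl
  obtain ⟨V, _, _, N, hz, hQe, hV⟩ := exists_nine F hE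
  subst hz
  have hker : ∀ g : centralizer ({N.z} : Set G), N.ρ g = 1 ↔ g ∈ pCore 2 (centralizer ({N.z} : Set G)) :=
    fun g => by
      rw [N.ρ_eq_one_iff, hQe]
      exact ⟨fun ⟨x, hx, hxg⟩ => Subtype.ext hxg ▸ hx, fun h => ⟨g, h, rfl⟩⟩
  let f := QuotientGroup.lift (pCore 2 (centralizer ({N.z} : Set G))) N.ρ fun g hg => (hker g).2 hg
  have hf : Function.Injective f := by
    rw [injective_iff_map_eq_one]
    intro x hx
    obtain ⟨g, rfl⟩ := QuotientGroup.mk'_surjective _ x
    exact (QuotientGroup.eq_one_iff g).2 ((hker g).1 hx)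
  let σ : Sp2 →* Equiv.Perm V := f.comp e.symm.toMonoidHom
  have hσ : Function.Injective σ := hf.comp e.symm.injective
  have hr : σ.range = N.ρ.range := by
    refine le_antisymm ?_ ?_
    · rintro _ ⟨x, rfl⟩
      obtain ⟨g, hg⟩ := QuotientGroup.mk'_surjective _ (e.symm x)
      exact ⟨g, by show N.ρ g = f (e.symm x); rw [← hg]; rfl⟩
    · rintro _ ⟨g, rfl⟩
      exact ⟨e (QuotientGroup.mk g), by show f (e.symm (e _)) = _; rw [e.symm_apply_apply]; rfl⟩
  have hiso : ∀ g, σ g ∈ N.S.Iso := fun g => by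
    obtain ⟨h, hh⟩ := (hr ▸ ⟨g, rfl⟩ : σ g ∈ N.ρ.range)
    rw [← hh]
    exact N.ρ_mem h
  have hV' : Nat.card V = 256 := by rw [Nat.card_eq_fintype_card, hV]
  let A : Act Sp2 V := ⟨σ, fun g => (hiso g).1, N.S.two⟩
  refine ⟨V, _, N, A, rfl, hQe, hV', hσ, hr, hiso, exists_chart A hiso hV' fun h => ?_⟩
  exact tv_three_ne (hσ (Equiv.ext fun v => by rw [map_one]; exact h v))

end CfsgLib.CoTwoRec
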