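import Cfsg.Agent.Lib.CoTwoRec.Glue
import Cfsg.Agent.Lib.CoTwoRec.OutSplit
import Cfsg.Agent.Lib.CoTwoRec.OutFused
import Cfsg.Agent.Lib.CoTwoRec.OutInQ
import Cfsg.Agent.Lib.CoTwoRec.SpTable
import Cfsg.Agent.Lib.CoTwoRec.OutAxis
import Cfsg.Agent.Lib.CoTwoRec.Wiring

/-!
# Recognition of Co2 on the spin module
-/

set_option autoImplicit false

namespace CfsgLib.CoTwoRec

open Subgroup Cfsg CfsgLib.Rigid CfsgLib.ExtraNine CfsgLib.Schur.Tails.SpSix CfsgLib.ThType.Perm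
  CfsgLib.ThType.Coords CfsgLib.ThType.Fusion

variable {G : Type*} [Group G] [Finite G] {V : Type*} [AddCommGroup V] {N : Nine G V} {A : Act Sp2 V}

/-- Some conjugate lies over the product of three transvections of a line. -/
theorem exists_out_two (Sp : SpinChart N.S A) (hinj : Function.Injective A.σ) (hr : A.σ.range = N.ρ.range)
    (hw : Weak N) {g : G} (O : Out N g) :
    ∃ g', ∃ O' : Out N g', N.ρ O'.inv' = A.σ (tvW [0, 1, 6]) := by
  obtain ⟨α, hα, -⟩ := exists_alpha Sp hinj hr O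
  obtain ⟨k₀, Pk₀, γ, hγ, h, hh⟩ := (out_classes Sp hinj hr O hα).2.2
  obtain ⟨k, hk⟩ := (hr ▸ ⟨h⁻¹, rfl⟩ : A.σ h⁻¹ ∈ N.ρ.range)
  have hx : (k : G) * k₀ * N.z * ((k : G) * k₀)⁻¹ = ((k * Pk₀.inv' * k⁻¹ : centralizer ({N.z} : Set G)) : G) := by
    show _ = (k : G) * (k₀ * N.z * k₀⁻¹) * (k : G)⁻¹
    group
  have hmem : (k : G) * k₀ * N.z * ((k : G) * k₀)⁻¹ ∈ centralizer ({N.z} : Set G) := hx ▸ (k * Pk₀.inv' * k⁻¹).2
  have he : (⟨_, hmem⟩ : centralizer ({N.z} : Set G)) = k * Pk₀.inv' * k⁻¹ := Subtype.ext hx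
  obtain ⟨P', hP'⟩ := mk_out hw hmem (by
    rw [he, map_mul, map_mul, map_inv]
    exact fun e => Pk₀.a_sq.2 (conj_eq_one_iff.1 e))
  refine ⟨(k : G) * k₀, P', hP'.trans ?_⟩
  rw [he, map_mul, map_mul, map_inv, hk, ← hγ, ← map_inv, ← map_mul, ← map_mul, ← hh,
    show h⁻¹ * (h * rep 2 * h⁻¹) * h⁻¹⁻¹ = rep 2 by group, rep_two_eq Sp hinj]

/-- The group is Co2 when the module is the spin module. -/
theorem isoCo2_of_spin.{u, v} {G : Type u} [Group G] [Finite G] {V : Type v} [AddCommGroup V] {N : Nine G V}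
    {A : Act Sp2 V} (hcert : Nat.card Cm = 743178240 → CertSpec.{u}) (Sp : SpinChart N.S A) (hinj : Function.Injective A.σ)
    (hr : A.σ.range = N.ρ.range) (ht : orderOf N.z = 2) (hO : oddCore G = ⊥) (hZ : Subgroup.center G = ⊥) :
    Spor.IsoCo2 G := by
  have hw := weak_spin Sp hinj hr
  obtain ⟨g, O⟩ := exists_out hw ht hO hZ
  have T := out_table Sp hinj hr hw
  obtain ⟨P⟩ := exists_copy Sp
  rcases coord_or_fused P hr hinj with ⟨⟨co, hg⟩, hcm⟩ | hF
  · obtain ⟨g', O', hi⟩ := exists_out_two Sp hinj hr hw O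
    obtain ⟨h, h1, h2⟩ := exists_swap P hg T O' hi
    exact isoCo2_of_coord (hcert hcm) ht co (fusion P hg T) h1 h2
  · exact (not_fused T hr (fun _ O' => no_double Sp hinj hr O') hF O).elim

/-- The group is Co2, given the bound on the group of the relators. -/
theorem isoCo2_of_centralizer.{u} {G : Type u} [Group G] [Finite G]
    (hcert : Nat.card Cm = 743178240 → CertSpec.{u}) (hO : oddCore G = ⊥) (hZ : Subgroup.center G = ⊥) {t : G}
    (ht : orderOf t = 2) (hcon : IsPConstrained 2 (centralizer ({t} : Set G)))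
    (hQ : IsExtraspecial 2 (pCore 2 (centralizer ({t} : Set G))))
    (hcard : Nat.card (pCore 2 (centralizer ({t} : Set G))) = 2 ^ 9)
    (e : (centralizer ({t} : Set G)) ⧸ pCore 2 (centralizer ({t} : Set G)) ≃*
      Matrix.symplecticGroup (Fin 3) (ZMod 2)) : Spor.IsoCo2 G := by
  obtain ⟨V, _, N, A, hz, -, hV, hinj, hr, -, h⟩ := exists_module ht hcon hQ hcard e
  haveI : Finite V := Nat.finite_of_card_ne_zero (by omega)
  rcases h with ⟨⟨Sp⟩⟩ | ⟨ε, ⟨Ch⟩⟩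
  · exact isoCo2_of_spin hcert Sp hinj hr (by rw [hz, ht]) hO hZ
  · exact (Ch.false_of_core hinj hr hO hZ).elim

end CfsgLib.CoTwoRec
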