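import Cfsg.Agent.Lib.CoTwoRec.RankThree
import Cfsg.Agent.Lib.Leech.ConwaySimple.Co2

/-!
# The model is Co2, generated by the centraliser and the further element, and maps into every group with the
relations and the bound
-/

set_option autoImplicit false
set_option maxRecDepth 100000

namespace CfsgLib.CoTwoRec

open Cfsg CfsgLib.Rigid CfsgLib.Leech

/-- Words for the three generators of the certificate. -/
def uvwWords : List (List ℕ) := [
  [5, 4, 3, 16, 6, 4, 3, 16, 9, 11, 12, 13, 15, 1, 2, 3, 0, 6, 3, 4, 6, 7, 4, 5, 7, 6, 4, 0, 3, 6, 5, 1, 4],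
  [16, 14, 8, 3, 2, 16, 4, 0, 3, 16, 9, 12, 13, 1, 4, 5, 6, 3, 7, 4, 5, 2, 6, 7, 5, 1, 4, 7, 3, 6, 2, 5, 3],
  [2, 16, 6, 3, 16, 4, 16, 8, 9, 11, 13, 14, 15, 4, 1, 7, 4, 5, 6, 3, 7, 4, 1, 6, 4, 7, 1, 4, 3, 0]]

theorem uvw_ok : ((List.range 3).all fun i => (uvwWords.getD i []).all (fun l => Nat.blt l 17) &&
    eqL (cEv (uvwWords.getD i [])) (([Co2.data.u, Co2.data.v, Co2.data.w]).getD i [])) = true := by
  decide +kernel

theorem letters_generate : Subgroup.closure (Set.range fun l : Fin 17 => letter l) = ⊤ := by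
  have := finite_coG
  set K := Subgroup.closure (Set.range fun l : Fin 17 => letter l)
  have h := uvw_ok
  simp only [List.all_eq_true, List.mem_range, Bool.and_eq_true, Nat.blt_eq, eqL_iff] at h
  have hbase : ∀ M ∈ [Co2.data.u, Co2.data.v, Co2.data.w], cod.Mem K M := by
    intro M hM
    obtain ⟨i, hi, rfl⟩ := List.getElem_of_mem hM
    obtain ⟨hlt, he⟩ := h i hi
    refine ⟨ev letter (uvwWords.getD i []), ?_, ?_⟩
    · refine K.list_prod_mem fun x hx => ?_
      obtain ⟨l, hl, rfl⟩ := List.mem_map.1 hx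
      exact Subgroup.subset_closure ⟨⟨l, hlt l hl⟩, rfl⟩
    · show code _ = _
      rw [code_ev hlt, he, List.getD_eq_getElem _ _ hi]
  have hknown := cod.slp_sound code_one Co2.data.ops _ hbase Co2.ops_ok
  have hlev : cod.Levels Co2.data.one Co2.data.known [] Co2.data.levels := by
    refine levels_of_checks Co2.basis Co2.grp Co2.grp_fix _ _ _ Co2.baseCoef [] Co2.base_ok ?_
    intro i hi
    have hi' : i < 6 := hi
    interval_cases i
    exacts [Co2.level0_ok, Co2.level1_ok, Co2.level2_ok, Co2.level3_ok, Co2.level4_ok, Co2.level5_ok]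
  have hchain := cod.chain_of_levels code_one hknown _ [] hlev
  exact (cod.full_of_card hchain (by rw [Co2.prod_ok, Co2.card_grp])).2

theorem card_coG : Nat.card CoG = 42305421312000 := Co2.card_grp

theorem simple_coG : IsSimpleGroup CoG :=
  (CfsgLib.Leech.ConwaySimple.isCo2_of_norm Co2.norm_vec0).1

theorem equiv_spor : Nonempty (↥Spor.Co2 ≃* CoG) := by
  have hU : sqNorm (Spor.leechU : GolayPt → ℤ) = 32 := by decide +kernel
  obtain ⟨g, hg⟩ := exists_smul_eq32 hU Co2.norm_vec0
  have e : MulAction.stabilizer Co0 Spor.leechU ≃* Co2.grp := MulAction.stabilizerEquivStabilizer hg.symm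
  exact ⟨(stabEquiv Spor.leechU).trans e⟩

theorem isoCo2_coG : Spor.IsoCo2 CoG := let ⟨e⟩ := equiv_spor; ⟨e.symm⟩

/-- The rank three subgroup in every group isomorphic to Co2. -/
theorem rankThree_of_isoCo2 {G : Type*} [Group G] (h : Spor.IsoCo2 G) : ∃ H : Subgroup G, IsCoatom H ∧
    H.index = 2300 ∧ ∃ q₁ q₂ : G ⧸ H,
      (MulAction.orbit H q₁).ncard = 891 ∧ (MulAction.orbit H q₂).ncard = 1408 := by
  obtain ⟨e⟩ := h
  obtain ⟨e'⟩ := equiv_spor
  exact rankThree_of_equiv (e.trans e')

/-- A pair over a group and the model, of at most the order of the model, gives an embedding. -/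
theorem exists_hom_of_bound {G : Type*} [Group G] [Finite G] {t : G} (co : Coord t) (n : G)
    (hb : Nat.card (Subgroup.closure (Set.range (co.iota.prod Cm.subtype) ∪
      {((n, letter 16) : G × CoG)})) ≤ 42305421312000) (hne : t ≠ 1) :
    ∃ φ : CoG →* G, Function.Injective φ ∧ (∀ c : Cm, φ c = co.iota c) ∧ φ (letter 16) = n := by
  classical
  have := finite_coG
  set ι : Cm →* G × CoG := co.iota.prod Cm.subtype with hι0
  let n' : G × CoG := (n, letter 16)
  set X := Subgroup.closure (Set.range ι ∪ {n'}) with hX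
  have hn : n' ∈ X := Subgroup.subset_closure (Or.inr rfl)
  have hι : ∀ c, ι c ∈ X := fun c => Subgroup.subset_closure (Or.inl ⟨c, rfl⟩)
  let π : X →* CoG := (MonoidHom.snd G CoG).comp X.subtype
  have hsurj : Function.Surjective π := by
    rw [← MonoidHom.range_eq_top, eq_top_iff, ← letters_generate, Subgroup.closure_le]
    rintro _ ⟨l, rfl⟩
    by_cases h : l.val < 16
    · exact ⟨⟨ι (xm l.val), hι _⟩, coe_xm h⟩
    · refine ⟨⟨n', hn⟩, ?_⟩
      show letter 16 = letter l
      rw [show (l : ℕ) = 16 by omega]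
  have hinj : Function.Injective π := by
    have hle := Nat.card_le_card_of_surjective π hsurj
    rw [card_coG] at hle
    exact ((Nat.bijective_iff_surjective_and_card π).2 ⟨hsurj, by rw [card_coG]; omega⟩).1
  let ψ : CoG ≃* X := (MulEquiv.ofBijective π ⟨hinj, hsurj⟩).symm
  let φ : CoG →* G := (MonoidHom.fst G CoG).comp (X.subtype.comp ψ.toMonoidHom)
  have hφ : ∀ x : X, φ (π x) = (x : G × CoG).1 := fun x => by
    show ((ψ (π x) : X) : G × CoG).1 = _
    rw [show ψ (π x) = x from (MulEquiv.ofBijective π ⟨hinj, hsurj⟩).symm_apply_apply x]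
  have hc : ∀ c : Cm, φ c = co.iota c := fun c => hφ ⟨ι c, hι c⟩
  refine ⟨φ, ?_, hc, hφ ⟨n', hn⟩⟩
  rw [← MonoidHom.ker_eq_bot_iff]
  have := simple_coG
  rcases this.eq_bot_or_eq_top_of_normal φ.ker inferInstance with hk | hk
  · exact hk
  exfalso
  apply hne
  rw [← co.map_t, ← hc tm]
  exact MonoidHom.mem_ker.1 (hk ▸ Subgroup.mem_top _)

/-- An embedding onto the whole group gives the isomorphism. -/
theorem isoCo2_of_range {G : Type*} [Group G] (φ : CoG →* G) (hφ : Function.Injective φ) (h : φ.range = ⊤) :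
    Spor.IsoCo2 G := by
  obtain ⟨e⟩ := equiv_spor
  exact ⟨(MulEquiv.ofBijective φ ⟨hφ, MonoidHom.range_eq_top.1 h⟩).symm.trans e.symm⟩

end CfsgLib.CoTwoRec
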