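import Cfsg.Agent.Lib.CoTwoRec.SpCertChecks
import Cfsg.Agent.Lib.ThType.Fusion.Coset

/-!
# The Sylow 2-subgroup of the certificate, its codes and the classes of involutions
-/

set_option autoImplicit false
set_option maxRecDepth 100000

namespace CfsgLib.CoTwoRec

open Subgroup CfsgLib.ExtraNine CfsgLib.Schur.Tails.SpSix CfsgLib.ThType.Perm CfsgLib.ThType.Coords

theorem all_lt {n : ℕ} {p : ℕ → Bool} (h : (List.range n).all p = true) {i : ℕ} (hi : i < n) : p i = true :=
  List.all_eq_true.1 h i (List.mem_range.2 hi)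

/-- Some member of a group of order 512 carries a 2-subgroup of an overgroup into it. -/
theorem exists_conj_le {K : Type*} [Group K] [Finite K] {P H M : Subgroup K} (hP : Nat.card P = 512)
    (hdiv : ¬ 1024 ∣ Nat.card K) (hPH : P ≤ H) (hMH : M ≤ H) (hM : IsPGroup 2 M) :
    ∃ k ∈ H, ∀ m ∈ M, k * m * k⁻¹ ∈ P := by
  haveI : Fact (Nat.Prime 2) := ⟨Nat.prime_two⟩
  have hP2 : IsPGroup 2 P := IsPGroup.of_card (n := 9) (by rw [hP]; rfl)
  have h1 : IsPGroup 2 ↥(P.subgroupOf H) := hP2.of_equiv (subgroupOfEquivOfLe hPH).symm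
  obtain ⟨P', hP'⟩ := h1.exists_le_sylow
  obtain ⟨n, hn⟩ := IsPGroup.iff_card.1 P'.isPGroup'
  have heq : P.subgroupOf H = (P' : Subgroup H) := by
    refine eq_of_le_of_card_ge hP' ?_
    rw [Nat.card_congr (subgroupOfEquivOfLe hPH).toEquiv, hP, hn]
    by_contra hlt
    refine hdiv (dvd_trans (dvd_trans ?_ (hn ▸ (P' : Subgroup H).card_subgroup_dvd_card)) H.card_subgroup_dvd_card)
    have : 10 ≤ n := by
      by_contra h
      have := Nat.pow_le_pow_right (show 2 > 0 by norm_num) (show n ≤ 9 by omega)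
      omega
    exact (show 1024 = 2 ^ 10 by norm_num) ▸ pow_dvd_pow 2 this
  obtain ⟨Q', hQ'⟩ := (hM.of_equiv (subgroupOfEquivOfLe hMH).symm).exists_le_sylow
  obtain ⟨k, hk⟩ := MulAction.exists_smul_eq H Q' P'
  refine ⟨k, k.2, fun m hm => ?_⟩
  have h : k * ⟨m, hMH hm⟩ * k⁻¹ ∈ (P' : Subgroup H) := by
    rw [← hk]
    exact Subgroup.smul_mem_pointwise_smul _ _ _ (hQ' (show (⟨m, hMH hm⟩ : H) ∈ M.subgroupOf H from hm))
  rw [← heq] at h
  exact h

variable {V : Type*} [AddCommGroup V] {S : QV V} {A : Act Sp2 V}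

/-- The element acts by the code. -/
def IsC (P : SpinChart S A) (c : ℕ) (g : Sp2) : Prop := ∀ u < 256, A.σ g (P.c u) = P.c (app c u)

/-- An involution of one of the classes. -/
def Ty (t : ℕ) (α : Sp2) : Prop := ∃ h : Sp2, h * rep t * h⁻¹ = α

/-- The generated subgroup. -/
def sylS : Subgroup Sp2 := Subgroup.closure (Set.range fun k : Fin 6 => tvW (sylW.getD k []))

variable (P : SpinChart S A)

theorem c_zero : P.c 0 = 0 := by
  have h := P.xor 0 0
  rw [Nat.xor_self] at h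
  exact left_eq_add.1 h

theorem σ_tvW : ∀ (w : List (Fin 8)) {u : ℕ}, u < 256 → A.σ (tvW w) (P.c u) = P.c (evT w u)
  | [], _, _ => by simp [tvW, evT]
  | k :: w, u, h => by
    rw [show tvW (k :: w) = tv k * tvW w by simp [tvW], map_mul, Equiv.Perm.mul_apply, σ_tvW w h,
      P.act k _ (evT_lt w h)]
    rfl

theorem σ_lin (g : Sp2) (f : ℕ → ℕ) : ∀ n ≤ 8, ∀ u, (∀ i < n, A.σ g (P.c (2 ^ i)) = P.c (f i)) →
    A.σ g (P.c (linN (fun i => 2 ^ i) n u)) = P.c (linN f n u)
  | 0, _, _, _ => by simp only [linN]; rw [c_zero P]; exact map_zero (A.a g)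
  | n + 1, hn, u, h => by
    simp only [linN]
    rw [P.xor, P.xor, A.add, σ_lin g f n (by omega) u fun i hi => h i (by omega)]
    split_ifs
    · rw [h n (by omega)]
    · rw [c_zero P]; exact congrArg _ (map_zero (A.a g))

theorem isC_of_basis {c : ℕ} {g : Sp2} (h : ∀ i < 8, A.σ g (P.c (2 ^ i)) = P.c (img c i)) : IsC P c g := by
  intro u hu
  have e := σ_lin P g (img c) 8 le_rfl u h
  rwa [basis_ok u hu] at e

theorem isC_basis {c : ℕ} {g : Sp2} (h : IsC P c g) {i : ℕ} (hi : i < 8) :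
    A.σ g (P.c (2 ^ i)) = P.c (img c i) := by
  have hp : 2 ^ i < 256 := by
    calc 2 ^ i < 2 ^ 8 := Nat.pow_lt_pow_right (by norm_num) hi
      _ = 256 := by norm_num
  rw [h _ hp]
  congr 1
  interval_cases i <;> norm_num [app, linN, Nat.testBit, Nat.shiftRight_eq_div_pow, Nat.and_one_is_mod]

theorem isC_code {c d : ℕ} {g : Sp2} (hc : c < 2 ^ 64) (hd : d < 2 ^ 64) (h : IsC P c g) (h' : IsC P d g) :
    c = d := img_inj hc hd fun i hi =>
  P.inj _ (img_lt _ _) _ (img_lt _ _) ((isC_basis P h hi).symm.trans (isC_basis P h' hi))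

theorem isC_eq (hinj : Function.Injective A.σ) {c : ℕ} {g g' : Sp2} (h : IsC P c g) (h' : IsC P c g') :
    g = g' := hinj (Equiv.ext fun v => by
  obtain ⟨u, hu, rfl⟩ := P.surj v
  rw [h u hu, h' u hu])

theorem isC_mul {a b c : ℕ} {g g' : Sp2} (hg : IsC P a g) (hg' : IsC P b g')
    (hc : ∀ i < 8, img c i = app a (img b i)) : IsC P c (g * g') :=
  isC_of_basis P fun i hi => by
    rw [map_mul, Equiv.Perm.mul_apply, isC_basis P hg' hi, hg _ (img_lt _ _), hc i hi]

theorem isC_one : IsC P (sel 0) 1 := isC_of_basis P fun i hi => by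
  rw [map_one, Equiv.Perm.one_apply, Nat.eq_of_beq_eq_true (all_lt one_ok hi)]

/-- A generator acts by its table. -/
theorem σ_gen {k : ℕ} (hk : k < 6) {u : ℕ} (hu : u < 256) :
    A.σ (tvW (sylW.getD k [])) (P.c u) = P.c (genV k u) := by
  have h : IsC P (sylGen.getD k 0) (tvW (sylW.getD k [])) := isC_of_basis P fun j hj => by
    rw [σ_tvW P _ (by
      calc 2 ^ j < 2 ^ 8 := Nat.pow_lt_pow_right (by norm_num) hj
        _ = 256 := by norm_num), Nat.eq_of_beq_eq_true (all_lt (all_lt gen_ok hk) hj)]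
  rw [h u hu, Nat.eq_of_beq_eq_true (all_lt (all_lt tab_ok hk) hu)]

theorem isC_gen {i k : ℕ} (hi : i < 512) (hk : k < 6) {g : Sp2} (h : IsC P (sel i) g) :
    succAt i k < 512 ∧ IsC P (sel (succAt i k)) (tvW (sylW.getD k []) * g) := by
  have h0 := all_lt (all_lt succ_ok hi) hk
  simp only [Bool.and_eq_true, Nat.blt_eq] at h0
  refine ⟨h0.1, isC_of_basis P fun j hj => ?_⟩
  rw [map_mul, Equiv.Perm.mul_apply, isC_basis P h hj, σ_gen P hk (img_lt _ _),
    Nat.eq_of_beq_eq_true (all_lt h0.2 hj)]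

theorem exists_el {g : Sp2} (hg : g ∈ sylS) : ∃ i < 512, IsC P (sel i) g := by
  have h : g ∈ Submonoid.closure (Set.range fun k : Fin 6 => tvW (sylW.getD k [])) := by
    rw [← Subgroup.closure_toSubmonoid_of_finite]; exact hg
  induction h using Submonoid.closure_induction_left with
  | one => exact ⟨0, by norm_num, isC_one P⟩
  | mul_left x hx y _ ih =>
    obtain ⟨k, rfl⟩ := hx
    obtain ⟨i, hi, hc⟩ := ih (by
      show y ∈ (Subgroup.closure _).toSubmonoid
      rw [Subgroup.closure_toSubmonoid_of_finite]; assumption)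
    exact ⟨_, (isC_gen P hi k.isLt hc).1, (isC_gen P hi k.isLt hc).2⟩

theorem el_exists : ∀ i < 512, ∃ g ∈ sylS, IsC P (sel i) g := by
  intro i
  induction i using Nat.strong_induction_on with
  | _ i ih =>
    intro hi
    rcases i with _ | j
    · exact ⟨1, one_mem _, isC_one P⟩
    have h0 := all_lt par_ok (show j < 511 by omega)
    simp only [Bool.and_eq_true, Nat.blt_eq] at h0
    obtain ⟨g, hg, hc⟩ := ih _ h0.1.1 (by omega)
    refine ⟨tvW (sylW.getD (parAt (j + 1)).2 []) * g,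
      mul_mem (Subgroup.subset_closure ⟨⟨_, h0.1.2⟩, rfl⟩) hg, isC_of_basis P fun n hn => ?_⟩
    rw [map_mul, Equiv.Perm.mul_apply, isC_basis P hc hn, σ_gen P h0.1.2 (img_lt _ _),
      Nat.eq_of_beq_eq_true (all_lt h0.2 hn)]

theorem sel_lt (i : ℕ) : sel i < 2 ^ 64 := Nat.mod_lt _ (Nat.pos_of_ne_zero (by norm_num))

theorem sel_inj {i j : ℕ} (hi : i < 512) (hj : j < 512) (h : sel i = sel j) : i = j :=
  (Nat.eq_of_beq_eq_true (all_lt find_ok hi)).symm.trans (h ▸ Nat.eq_of_beq_eq_true (all_lt find_ok hj))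

include P in
theorem card_sylS (hinj : Function.Injective A.σ) : Nat.card sylS = 512 := by
  choose f hf1 hf2 using fun i : Fin 512 => el_exists P i.val i.isLt
  refine le_antisymm ?_ ?_
  · choose e he1 he2 using fun g : sylS => exists_el P g.2
    have := Nat.card_le_card_of_injective (fun g : sylS => (⟨e g, he1 g⟩ : Fin 512)) fun a b h => by
      have h' : e a = e b := congrArg Fin.val h
      exact Subtype.ext (isC_eq P hinj (he2 a) (h' ▸ he2 b))
    simpa using this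
  · have := Nat.card_le_card_of_injective (fun i : Fin 512 => (⟨f i, hf1 i⟩ : sylS)) fun a b h => by
      have h' : f a = f b := congrArg Subtype.val h
      exact Fin.ext (sel_inj a.isLt b.isLt (isC_code P (sel_lt _) (sel_lt _) (hf2 a) (h' ▸ hf2 b)))
    simpa using this

theorem not_dvd_card : ¬ 1024 ∣ Nat.card Sp2 := by rw [card_sp2]; norm_num

include P in
/-- A 2-subgroup is conjugate into the generated subgroup. -/
theorem exists_conj_S (hinj : Function.Injective A.σ) {M : Subgroup Sp2} (hM : IsPGroup 2 M) :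
    ∃ k : Sp2, ∀ m ∈ M, k * m * k⁻¹ ∈ sylS := by
  obtain ⟨k, -, hk⟩ := exists_conj_le (card_sylS P hinj) not_dvd_card le_top le_top hM
  exact ⟨k, hk⟩

theorem pow_lt {j : ℕ} (hj : j < 8) : 2 ^ j < 256 := by
  calc 2 ^ j < 2 ^ 8 := Nat.pow_lt_pow_right (by norm_num) hj
    _ = 256 := by norm_num

theorem σ_ext {g g' : Sp2} (h : ∀ i < 8, A.σ g (P.c (2 ^ i)) = A.σ g' (P.c (2 ^ i))) : A.σ g = A.σ g' := by
  refine Equiv.ext fun v => ?_
  obtain ⟨u, hu, rfl⟩ := P.surj v
  have key : ∀ n ≤ 8, A.σ g (P.c (linN (fun i => 2 ^ i) n u)) = A.σ g' (P.c (linN (fun i => 2 ^ i) n u)) := by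
    intro n
    induction n with
    | zero => intro _; simp only [linN]; rw [c_zero P]; exact (map_zero (A.a g)).trans (map_zero (A.a g')).symm
    | succ n ih =>
      intro hn
      simp only [linN]
      rw [P.xor, A.add, A.add, ih (by omega)]
      split_ifs
      · rw [h n (by omega)]
      · rw [c_zero P]; exact congrArg _ ((map_zero (A.a g)).trans (map_zero (A.a g')).symm)
  have := key 8 le_rfl
  rwa [basis_ok u hu] at this

include P in
theorem exists_pull (hinj : Function.Injective A.σ) {t : ℕ} (ht : t < 3) {α : Sp2} (hα : Ty t α)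
    {M : Subgroup Sp2} (hM : IsPGroup 2 M) (hMc : ∀ m ∈ M, m * α = α * m) :
    ∃ h, h * rep t * h⁻¹ = α ∧ ∀ m ∈ M, h⁻¹ * m * h ∈ sylS := by
  obtain ⟨h, rfl⟩ := hα
  have hS : sylS ≤ centralizer ({rep t} : Set Sp2) := by
    refine (Subgroup.closure_le _).2 ?_
    rintro _ ⟨k, rfl⟩
    refine mem_centralizer_singleton_iff.2 (hinj (σ_ext P fun j hj => ?_))
    rw [map_mul, map_mul, Equiv.Perm.mul_apply, Equiv.Perm.mul_apply, rep, σ_tvW P _ (pow_lt hj),
      σ_gen P k.isLt (evT_lt _ (pow_lt hj)), σ_gen P k.isLt (pow_lt hj),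
      σ_tvW P _ (show genV k.val (2 ^ j) < 256 from img_lt _ _)]
    exact congrArg _ (Nat.eq_of_beq_eq_true (all_lt (all_lt (all_lt central_ok ht) k.isLt) hj))
  obtain ⟨k, hk, hk'⟩ := exists_conj_le (card_sylS P hinj) not_dvd_card hS
    (M := M.map (MulAut.conj h⁻¹).toMonoidHom) (by
      rintro _ ⟨m, hm, rfl⟩
      refine mem_centralizer_singleton_iff.2 ?_
      show h⁻¹ * m * h⁻¹⁻¹ * rep t = rep t * (h⁻¹ * m * h⁻¹⁻¹)
      calc h⁻¹ * m * h⁻¹⁻¹ * rep t = h⁻¹ * (m * (h * rep t * h⁻¹)) * h := by group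
        _ = h⁻¹ * (h * rep t * h⁻¹ * m) * h := by rw [hMc m hm]
        _ = _ := by group) (hM.map _)
  refine ⟨h * k⁻¹, ?_, fun m hm => ?_⟩
  · have e := mem_centralizer_singleton_iff.1 hk
    calc h * k⁻¹ * rep t * (h * k⁻¹)⁻¹ = h * (k⁻¹ * (rep t * k)) * h⁻¹ := by group
      _ = h * rep t * h⁻¹ := by rw [← e, inv_mul_cancel_left]
  · have := hk' _ ⟨m, hm, rfl⟩
    convert this using 1
    show _ = k * (h⁻¹ * m * h⁻¹⁻¹) * k⁻¹
    group

include P in
/-- An involution of the list is of the class of its entry. -/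
theorem tab_type (hinj : Function.Injective A.σ) {i : ℕ} (hi : i < 512) {β : Sp2} (hc : IsC P (sel i) β)
    (h2 : β * β = 1) (h1 : β ≠ 1) : ∃ e ∈ invTab, e.1 = i ∧ e.2.1 < 4 ∧ Ty e.2.1 β := by
  rcases i with _ | i
  · exact absurd (isC_eq P hinj hc (isC_one P)) h1
  have h := all_lt inv_ok (show i < 511 by omega)
  have hcond : (List.range 8).all (fun j => Nat.beq (app (sel (i + 1)) (img (sel (i + 1)) j)) (2 ^ j)) = true := by
    simp only [List.all_eq_true, List.mem_range, Nat.beq_eq]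
    intro j hj
    refine P.inj _ (app_lt _ _) _ (pow_lt hj) ?_
    rw [← hc _ (img_lt _ _), ← isC_basis P hc hj, ← Equiv.Perm.mul_apply, ← map_mul, h2, map_one]
    rfl
  rw [if_pos hcond, List.any_eq_true] at h
  obtain ⟨e, hmem, he⟩ := h
  simp only [Bool.and_eq_true, Nat.beq_eq, Nat.blt_eq, List.all_eq_true, List.mem_range] at he
  refine ⟨e, hmem, he.1.1, he.1.2, tvW e.2.2, ?_⟩
  have heq : tvW (e.2.2 ++ repW.getD e.2.1 [] ++ e.2.2.reverse) = β :=
    isC_eq P hinj (isC_of_basis P fun j hj => by rw [σ_tvW P _ (pow_lt hj), he.2 j hj]) hc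
  rw [tvW_append, tvW_append, tvW_rev] at heq
  exact heq

include P in
/-- Every involution is of one of the four classes. -/
theorem classify (hinj : Function.Injective A.σ) {α : Sp2} (h2 : α * α = 1) (h1 : α ≠ 1) :
    ∃ t < 4, Ty t α := by
  have hM : IsPGroup 2 (zpowers α) := by
    rintro ⟨_, n, rfl⟩
    refine ⟨1, Subtype.ext ?_⟩
    show (α ^ n) ^ (2 ^ 1) = 1
    rw [pow_one, sq, ← zpow_add, ← two_mul, zpow_mul, zpow_two, h2, one_zpow]
  obtain ⟨k, hk⟩ := exists_conj_S P hinj hM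
  obtain ⟨i, hi, hc⟩ := exists_el P (hk α (mem_zpowers α))
  obtain ⟨e, -, -, ht, h, hh⟩ := tab_type P hinj hi hc
    (by rw [show k * α * k⁻¹ * (k * α * k⁻¹) = k * (α * α) * k⁻¹ by group, h2]; group)
    (fun h => h1 (conj_eq_one_iff.1 h))
  refine ⟨e.2.1, ht, k⁻¹ * h, ?_⟩
  calc k⁻¹ * h * rep e.2.1 * (k⁻¹ * h)⁻¹ = k⁻¹ * (h * rep e.2.1 * h⁻¹) * k := by group
    _ = α := by rw [hh]; group

end CfsgLib.CoTwoRec
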