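import Cfsg.Agent.Lib.CoTwoRec.OutAxisData
import Cfsg.Agent.Lib.CoTwoRec.AxisInQ
import Cfsg.Agent.Lib.CoTwoRec.SpCert

/-!
# The checks on the Sylow 2-subgroup in the axis models
-/

set_option autoImplicit false
set_option maxRecDepth 100000
set_option Elab.async false

namespace CfsgLib.CoTwoRec

open CfsgLib.ThType.Coords

/-- An element of the list. -/
noncomputable def axSel (i : ℕ) : ℕ := (axAll >>> (64 * i)) % 2 ^ 64

/-- The earlier element and the generator of an element. -/
def axParAt (i : ℕ) : ℕ × ℕ := ((axPar >>> (32 * i)) % 2 ^ 16, (axPar >>> (32 * i + 16)) % 2 ^ 16)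

/-- The position of the product with a generator. -/
def axSuccAt (i k : ℕ) : ℕ := (axSucc >>> (16 * (6 * i + k))) % 2 ^ 16

/-- The square of a code. -/
def axSqA (c u : ℕ) : ℕ := app c (app c u)

/-- A code of an element of order four. -/
def axFourB (c : ℕ) : Bool :=
  !((List.range 8).all fun j => Nat.beq (axSqA c (2 ^ j)) (2 ^ j)) &&
    (List.range 8).all fun j => Nat.beq (axSqA c (axSqA c (2 ^ j))) (2 ^ j)

/-- A combination is fixed by the square and has a commutator that is forbidden. -/
def axBadB (ε : Bool) (c v u : ℕ) : Bool :=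
  Nat.blt v 256 && Nat.beq (axSqA c v) v && !Nat.beq (app c v ^^^ v) 0 &&
    (qA ε (app c v ^^^ v) || (Nat.blt u 256 && Nat.beq (axSqA c u ^^^ u) (app c v ^^^ v)))

/-- The word has the order, commutes with the square and moves the element off its pair. -/
def axOddB (c : ℕ) (W : List (Fin 8)) (r : ℕ) : Bool :=
  Nat.beq (r % 2) 1 &&
    ((List.range 8).all fun j => Nat.beq (appA W (axSqA c (2 ^ j))) (axSqA c (appA W (2 ^ j)))) &&
    ((List.range 8).all fun j => Nat.beq ((appA W)^[r] (2 ^ j)) (2 ^ j)) &&
    ((List.range 8).any fun j => !Nat.beq (appA W (app c (2 ^ j))) (app c (appA W (2 ^ j)))) &&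
    (List.range 8).any fun j => !Nat.beq (appA W (app c (2 ^ j))) (app c (axSqA c (appA W (2 ^ j))))

/-- A row excludes its element. -/
def axRowB (ε : Bool) (c : ℕ) (e : ℕ × ℕ × ℕ × List ℕ × ℕ × List (Fin 8) × ℕ) : Bool :=
  axBadB ε c e.2.1 (e.2.2.2.1.getD 0 0) && axBadB ε c e.2.2.1 (e.2.2.2.1.getD 1 0) &&
    axBadB ε c (e.2.1 ^^^ e.2.2.1) (e.2.2.2.1.getD 2 0) &&
    ((Nat.blt e.2.2.2.2.1 256 && betaA e.2.2.2.2.1 (axSqA c e.2.2.2.2.1)) ||
      axOddB c e.2.2.2.2.2.1 e.2.2.2.2.2.2)

theorem ax_one_ok : ((List.range 8).all fun j => Nat.beq (img (axSel 0) j) (2 ^ j)) = true := by decide +kernel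

theorem ax_gen_ok : ((List.range 6).all fun k => (List.range 8).all fun j =>
    Nat.beq (img (axGen.getD k 0) j) (appA (sylW.getD k []) (2 ^ j))) = true := by decide +kernel

theorem ax_succ_ok : ((List.range 512).all fun i => (List.range 6).all fun k =>
    Nat.blt (axSuccAt i k) 512 && (List.range 8).all fun j =>
      Nat.beq (img (axSel (axSuccAt i k)) j) (app (axGen.getD k 0) (img (axSel i) j))) = true := by
  decide +kernel

theorem ax_par_ok : ((List.range 511).all fun i => Nat.blt (axParAt (i + 1)).1 (i + 1) &&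
    Nat.blt (axParAt (i + 1)).2 6 && (List.range 8).all fun j =>
      Nat.beq (img (axSel (i + 1)) j)
        (app (axGen.getD (axParAt (i + 1)).2 0) (img (axSel (axParAt (i + 1)).1) j))) = true := by
  decide +kernel

theorem ax_distinct : ((List.range 512).all fun i => (List.range i).all fun j =>
    !Nat.beq (axSel i) (axSel j)) = true := by decide +kernel

theorem ax_rows_false : ((List.range 512).all fun i => !axFourB (axSel i) ||
    axRows.any fun e => Nat.beq e.1 i && axRowB false (axSel i) e) = true := by decide +kernel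

theorem ax_rows_true : ((List.range 512).all fun i => !axFourB (axSel i) ||
    axRows.any fun e => Nat.beq e.1 i && axRowB true (axSel i) e) = true := by decide +kernel

theorem ax_rows_ok (ε : Bool) : ((List.range 512).all fun i => !axFourB (axSel i) ||
    axRows.any fun e => Nat.beq e.1 i && axRowB ε (axSel i) e) = true := by
  cases ε
  exacts [ax_rows_false, ax_rows_true]

end CfsgLib.CoTwoRec
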