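import Cfsg.Agent.Lib.ThType.Fusion.Coset

/-!
# A commuting conjugate outside the extraspecial subgroup: generic facts

The images of the two centralisers in the quotient, the intersection on the space, lifts of elements
centralising the image, and fusion of the conjugate with its product by the central involution.
-/

set_option autoImplicit false
set_option linter.unusedSectionVars false
set_option linter.style.haveILetI false

namespace CfsgLib.ThType.Fusion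

open Subgroup CfsgLib.ExtraNine CfsgLib.LargeExtra

variable {G : Type*} [Group G] {V : Type*} [AddCommGroup V]

/-- The image of the centraliser of both involutions. -/
noncomputable def LG (N : Nine G V) (g : G) : Subgroup (Equiv.Perm V) := (kG N g).map N.ρ

/-- The image of the centraliser in the conjugate extraspecial subgroup. -/
noncomputable def MG (N : Nine G V) (g : G) : Subgroup (Equiv.Perm V) :=
  ((Qg N g).subgroupOf (centralizer ({N.z} : Set G))).map N.ρ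

/-- The image of the intersection in the space. -/
def DV (N : Nine G V) (g : G) : AddSubgroup V where
  carrier := {v | ∃ d : G, ∃ hd : d ∈ dG N g, N.π ⟨d, hd.1⟩ = v}
  zero_mem' := ⟨1, one_mem _, N.π_one⟩
  add_mem' := by
    rintro _ _ ⟨d, hd, rfl⟩ ⟨e, he, rfl⟩
    exact ⟨d * e, mul_mem hd he, N.π_mul ⟨d, hd.1⟩ ⟨e, he.1⟩⟩
  neg_mem' := by
    rintro _ ⟨d, hd, rfl⟩
    exact ⟨d, hd, (neg_eq_of_add_eq_zero_left (N.S.two _)).symm⟩

/-- The vectors perpendicular to the fixed ones are commutators with the isometry. -/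
def PerpImage (S : QV V) (a : Equiv.Perm V) : Prop :=
  ∀ v, (∀ w, a w = w → S.B v w = 0) → ∃ u, a u + u = v

variable {N : Nine G V}

theorem mem_LG {g : G} {l : Equiv.Perm V} :
    l ∈ LG N g ↔ ∃ k : centralizer ({N.z} : Set G),
      (k : G) * (g * N.z * g⁻¹) = g * N.z * g⁻¹ * k ∧ N.ρ k = l :=
  ⟨fun ⟨k, hk, e⟩ => ⟨k, mem_centralizer_singleton_iff.1 hk, e⟩,
    fun ⟨k, hk, e⟩ => ⟨k, mem_centralizer_singleton_iff.2 hk, e⟩⟩

theorem mem_MG {g : G} {m : Equiv.Perm V} :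
    m ∈ MG N g ↔ ∃ w : centralizer ({N.z} : Set G), (w : G) ∈ Qg N g ∧ N.ρ w = m :=
  Iff.rfl

theorem mem_DV {g : G} {v : V} : v ∈ DV N g ↔ ∃ d : G, ∃ hd : d ∈ dG N g, N.π ⟨d, hd.1⟩ = v :=
  Iff.rfl

/-- The elements over a set of vectors. -/
theorem card_over [Finite G] (P : V → Prop) :
    Nat.card {q : ↥N.Q // P (N.π q)} = 2 * Nat.card {v : V // P v} := by
  let r : V → ↥N.Q := Function.surjInv N.surj
  have hr : ∀ v, N.π (r v) = v := Function.surjInv_eq N.surj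
  let Ψ : Bool × {v : V // P v} → {q : ↥N.Q // P (N.π q)} := fun x =>
    if x.1 then ⟨r x.2 * ⟨N.z, N.z_mem⟩, by rw [N.π_mul, N.π_z, add_zero, hr]; exact x.2.2⟩
    else ⟨r x.2, by rw [hr]; exact x.2.2⟩
  have hΨπ : ∀ x, N.π (Ψ x).1 = x.2 := by
    rintro ⟨b, v⟩
    cases b <;> simp [Ψ, N.π_mul, N.π_z, hr]
  have hb : Function.Bijective Ψ := by
    constructor
    · rintro ⟨b, v⟩ ⟨b', v'⟩ h
      obtain rfl : v = v' := by
        have e := hΨπ (b, v)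
        rw [h, hΨπ] at e
        exact Subtype.ext e.symm
      have h' : ((Ψ (b, v)).1 : G) = (Ψ (b', v)).1 := by rw [h]
      cases b <;> cases b' <;> simp [Ψ] at h' ⊢
      · exact N.z_ne h'
      · exact N.z_ne h'
    · intro q
      rcases N.π_eq (a := r (N.π q.1)) (b := q.1) (hr _) with h | h
      · exact ⟨(false, ⟨N.π q.1, q.2⟩), Subtype.ext (Subtype.ext h.symm)⟩
      · exact ⟨(true, ⟨N.π q.1, q.2⟩), Subtype.ext (Subtype.ext h.symm)⟩
  rw [← Nat.card_congr (Equiv.ofBijective Ψ hb), Nat.card_prod, Nat.card_eq_fintype_card, Fintype.card_bool]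

theorem rho_of_mem [Finite G] {q : G} (hq : q ∈ N.Q) : N.ρ ⟨q, N.F.le hq⟩ = 1 := (N.ρ_eq_one_iff _).2 hq

/-- The conjugate of a centralised vector. -/
theorem rho_pi_inv (k : centralizer ({N.z} : Set G)) (v : V) : N.ρ k (N.ρ k⁻¹ v) = v := by
  rw [← Equiv.Perm.mul_apply, ← map_mul, mul_inv_cancel, map_one]; rfl

theorem mem_Qg_conj {g y : G} (k : centralizer ({N.z} : Set G)) :
    (k : G) * y * (k : G)⁻¹ ∈ Qg N ((k : G) * g) ↔ y ∈ Qg N g := by
  rw [mem_Qg, mem_Qg, show ((k : G) * g)⁻¹ * ((k : G) * y * (k : G)⁻¹) * ((k : G) * g) = g⁻¹ * y * g by group]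

theorem mem_Q_conj {y : G} (k : centralizer ({N.z} : Set G)) :
    (k : G) * y * (k : G)⁻¹ ∈ N.Q ↔ y ∈ N.Q := by
  refine ⟨fun h => ?_, fun h => N.conj_mem k.2 ⟨y, h⟩⟩
  have := N.conj_mem (inv_mem k.2) ⟨_, h⟩
  rwa [show (k : G)⁻¹ * ((k : G) * y * (k : G)⁻¹) * (k : G)⁻¹⁻¹ = y by group] at this

theorem mem_sG_conj {g y : G} (k : centralizer ({N.z} : Set G)) :
    (k : G) * y * (k : G)⁻¹ ∈ sG N ((k : G) * g) ↔ y ∈ sG N g := by
  simp only [sG, mem_inf, mem_Q_conj, mem_centralizer_singleton_iff]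
  refine and_congr_right fun _ => ?_
  rw [show (k : G) * g * N.z * ((k : G) * g)⁻¹ = (k : G) * (g * N.z * g⁻¹) * (k : G)⁻¹ by group]
  constructor
  · intro h
    calc y * (g * N.z * g⁻¹)
        = (k : G)⁻¹ * ((k : G) * y * (k : G)⁻¹ * ((k : G) * (g * N.z * g⁻¹) * (k : G)⁻¹)) * k := by group
      _ = (k : G)⁻¹ * ((k : G) * (g * N.z * g⁻¹) * (k : G)⁻¹ * ((k : G) * y * (k : G)⁻¹)) * k := by rw [h]
      _ = g * N.z * g⁻¹ * y := by group
  · intro h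
    calc (k : G) * y * (k : G)⁻¹ * ((k : G) * (g * N.z * g⁻¹) * (k : G)⁻¹)
        = (k : G) * (y * (g * N.z * g⁻¹)) * (k : G)⁻¹ := by group
      _ = (k : G) * (g * N.z * g⁻¹ * y) * (k : G)⁻¹ := by rw [h]
      _ = _ := by group

theorem lf_conj (g : G) (k : centralizer ({N.z} : Set G)) (v : V) :
    lf N ((k : G) * g) (N.ρ k v) = lf N g v := by
  classical
  have key : (∃ s : G, ∃ hs : s ∈ sG N ((k : G) * g), N.π ⟨s, hs.1⟩ = N.ρ k v) ↔
      ∃ s : G, ∃ hs : s ∈ sG N g, N.π ⟨s, hs.1⟩ = v := by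
    constructor
    · rintro ⟨s, hs, e⟩
      have hy : (k : G)⁻¹ * s * k ∈ sG N g := (mem_sG_conj k).1 (by
        rwa [show (k : G) * ((k : G)⁻¹ * s * k) * (k : G)⁻¹ = s by group])
      refine ⟨_, hy, (N.ρ k).injective ?_⟩
      rw [N.ρ_π, ← e]
      congr 1
      exact Subtype.ext (show (k : G) * ((k : G)⁻¹ * s * k) * (k : G)⁻¹ = s by group)
    · rintro ⟨s, hs, rfl⟩
      exact ⟨_, (mem_sG_conj k).2 hs, by rw [N.ρ_π]; rfl⟩
  unfold lf
  simp only [key]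

theorem lf_congr {g g' : G} (h : sG N g' = sG N g) (v : V) : lf N g' v = lf N g v := by
  classical
  have key : (∃ s : G, ∃ hs : s ∈ sG N g', N.π ⟨s, hs.1⟩ = v) ↔
      ∃ s : G, ∃ hs : s ∈ sG N g, N.π ⟨s, hs.1⟩ = v :=
    ⟨fun ⟨s, hs, e⟩ => ⟨s, h ▸ hs, e⟩, fun ⟨s, hs, e⟩ => ⟨s, h.symm ▸ hs, e⟩⟩
  unfold lf
  simp only [key]

theorem card_sG_conj (g : G) (k : centralizer ({N.z} : Set G)) :
    Nat.card ↥(sG N ((k : G) * g)) = Nat.card ↥(sG N g) := by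
  refine (Nat.card_congr (Equiv.subtypeEquiv (MulAut.conj (k : G)).toEquiv fun y => ?_)).symm
  exact (mem_sG_conj k).symm

theorem card_dG_conj (g : G) (k : centralizer ({N.z} : Set G)) :
    Nat.card ↥(dG N ((k : G) * g)) = Nat.card ↥(dG N g) := by
  refine (Nat.card_congr (Equiv.subtypeEquiv (MulAut.conj (k : G)).toEquiv fun y => ?_)).symm
  exact ((mem_Q_conj k).and (mem_Qg_conj k)).symm

theorem mem_MG_conj {g : G} (k : centralizer ({N.z} : Set G)) {m : Equiv.Perm V} :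
    N.ρ k * m * (N.ρ k)⁻¹ ∈ MG N ((k : G) * g) ↔ m ∈ MG N g := by
  constructor
  · rintro ⟨w, hw, e⟩
    refine ⟨k⁻¹ * w * k, ?_, by rw [map_mul, map_mul, e, map_inv]; group⟩
    show (k : G)⁻¹ * (w : G) * k ∈ Qg N g
    refine (mem_Qg_conj k).1 ?_
    rwa [show (k : G) * ((k : G)⁻¹ * (w : G) * k) * (k : G)⁻¹ = w by group]
  · rintro ⟨w, hw, rfl⟩
    exact ⟨k * w * k⁻¹, (mem_Qg_conj k).2 hw, by rw [map_mul, map_mul, map_inv]⟩

theorem mem_LG_conj {g : G} (k : centralizer ({N.z} : Set G)) {l : Equiv.Perm V} :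
    N.ρ k * l * (N.ρ k)⁻¹ ∈ LG N ((k : G) * g) ↔ l ∈ LG N g := by
  rw [mem_LG, mem_LG]
  constructor
  · rintro ⟨w, hw, e⟩
    refine ⟨k⁻¹ * w * k, ?_, by rw [map_mul, map_mul, e, map_inv]; group⟩
    show (k : G)⁻¹ * (w : G) * k * (g * N.z * g⁻¹) = g * N.z * g⁻¹ * ((k : G)⁻¹ * (w : G) * k)
    calc (k : G)⁻¹ * (w : G) * k * (g * N.z * g⁻¹)
        = (k : G)⁻¹ * ((w : G) * ((k : G) * g * N.z * ((k : G) * g)⁻¹)) * k := by group
      _ = (k : G)⁻¹ * (((k : G) * g * N.z * ((k : G) * g)⁻¹) * (w : G)) * k := by rw [hw]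
      _ = _ := by group
  · rintro ⟨w, hw, rfl⟩
    refine ⟨k * w * k⁻¹, ?_, by rw [map_mul, map_mul, map_inv]⟩
    show (k : G) * (w : G) * (k : G)⁻¹ * ((k : G) * g * N.z * ((k : G) * g)⁻¹) =
      (k : G) * g * N.z * ((k : G) * g)⁻¹ * ((k : G) * (w : G) * (k : G)⁻¹)
    calc (k : G) * (w : G) * (k : G)⁻¹ * ((k : G) * g * N.z * ((k : G) * g)⁻¹)
        = (k : G) * ((w : G) * (g * N.z * g⁻¹)) * (k : G)⁻¹ := by group
      _ = (k : G) * (g * N.z * g⁻¹ * (w : G)) * (k : G)⁻¹ := by rw [hw]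
      _ = _ := by group

namespace Out

variable [Finite G] {g : G} (O : Out N g)
include O

local notation "xg" => g * N.z * g⁻¹

/-! ### The centraliser of the conjugate in the extraspecial subgroup -/

theorem mem_sG_iff (q : ↥N.Q) :
    (q : G) ∈ sG N g ↔ N.ρ O.inv' (N.π q) = N.π q ∧ lf N g (N.π q) = 0 := by
  classical
  constructor
  · intro h
    exact ⟨O.s_le_p h, if_pos ⟨q, h, rfl⟩⟩
  · rintro ⟨h1, h2⟩
    have e := O.lfun_spec h1
    rw [if_pos h2] at e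
    exact ⟨q.2, mem_centralizer_singleton_iff.2 (mul_inv_eq_iff_eq_mul.1 e).symm⟩

theorem mem_sV {v : V} :
    (∃ q : ↥N.Q, N.π q = v ∧ (q : G) ∈ sG N g) ↔ N.ρ O.inv' v = v ∧ lf N g v = 0 := by
  constructor
  · rintro ⟨q, rfl, hq⟩
    exact (O.mem_sG_iff q).1 hq
  · intro h
    obtain ⟨q, rfl⟩ := N.surj v
    exact ⟨q, rfl, (O.mem_sG_iff q).2 h⟩

theorem card_sG : Nat.card ↥(sG N g) = 2 * Nat.card {v : V // N.ρ O.inv' v = v ∧ lf N g v = 0} := by
  rw [← card_over (N := N) fun v => N.ρ O.inv' v = v ∧ lf N g v = 0]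
  exact Nat.card_congr
    { toFun := fun s => ⟨⟨s, s.2.1⟩, (O.mem_sG_iff _).1 s.2⟩
      invFun := fun q => ⟨q.1, (O.mem_sG_iff _).2 q.2⟩
      left_inv := fun _ => rfl
      right_inv := fun _ => rfl }

theorem card_sG_invol : Nat.card {s : ↥(sG N g) // s * s = 1} =
    2 * Nat.card {v : V // N.ρ O.inv' v = v ∧ lf N g v = 0 ∧ N.S.q v = 0} := by
  rw [← card_over (N := N) fun v => N.ρ O.inv' v = v ∧ lf N g v = 0 ∧ N.S.q v = 0]
  have hq : ∀ q : ↥N.Q, (q : G) * q = 1 ↔ N.S.q (N.π q) = 0 := fun q => by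
    rw [N.sq]
    refine ⟨fun h => ?_, fun h => if_pos h⟩
    by_contra h0
    rw [if_neg h0] at h
    exact N.z_ne h
  exact Nat.card_congr
    { toFun := fun s => ⟨⟨s.1, s.1.2.1⟩, ((O.mem_sG_iff _).1 s.1.2).1, ((O.mem_sG_iff _).1 s.1.2).2,
        (hq ⟨s.1, s.1.2.1⟩).1 (congrArg Subtype.val s.2)⟩
      invFun := fun q => ⟨⟨q.1, (O.mem_sG_iff _).2 ⟨q.2.1, q.2.2.1⟩⟩, Subtype.ext ((hq q.1).2 q.2.2.2)⟩
      left_inv := fun _ => rfl
      right_inv := fun _ => rfl }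

/-! ### The image of the conjugate subgroup -/

omit O in
theorem pre_mem {s : G} (hs : s ∈ sG N g⁻¹) :
    g * s * g⁻¹ ∈ Qg N g ∧ g * s * g⁻¹ ∈ centralizer ({N.z} : Set G) := by
  refine ⟨mem_Qg.2 ?_, mem_centralizer_singleton_iff.2 ?_⟩
  · rw [show g⁻¹ * (g * s * g⁻¹) * g = s by group]; exact hs.1
  · have h := mem_centralizer_singleton_iff.1 hs.2
    calc g * s * g⁻¹ * N.z = g * (s * (g⁻¹ * N.z * g⁻¹⁻¹)) * g⁻¹ := by group
      _ = g * (g⁻¹ * N.z * g⁻¹⁻¹ * s) * g⁻¹ := by rw [h]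
      _ = N.z * (g * s * g⁻¹) := by group

omit O in
theorem post_mem {w : G} (hw : w ∈ Qg N g) (hc : w ∈ centralizer ({N.z} : Set G)) :
    g⁻¹ * w * g ∈ sG N g⁻¹ := by
  refine ⟨mem_Qg.1 hw, mem_centralizer_singleton_iff.2 ?_⟩
  have h := mem_centralizer_singleton_iff.1 hc
  calc g⁻¹ * w * g * (g⁻¹ * N.z * g⁻¹⁻¹) = g⁻¹ * (w * N.z) * g := by group
    _ = g⁻¹ * (N.z * w) * g := by rw [h]
    _ = _ := by group

omit O in
theorem card_dG_inv : Nat.card ↥(dG N g⁻¹) = Nat.card ↥(dG N g) := by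
  refine Nat.card_congr (Equiv.subtypeEquiv (MulAut.conj g).toEquiv fun y => ?_)
  show y ∈ dG N g⁻¹ ↔ g * y * g⁻¹ ∈ dG N g
  simp only [dG, mem_inf, mem_Qg, inv_inv, show g⁻¹ * (g * y * g⁻¹) * g = y by group]
  exact and_comm

theorem card_MG : Nat.card ↥(MG N g) * Nat.card ↥(dG N g) = Nat.card ↥(sG N g⁻¹) := by
  have h := card_map_mul_inf N.ρ ((Qg N g).subgroupOf (centralizer ({N.z} : Set G)))
  have hd : dG N g ≤ centralizer ({N.z} : Set G) := fun y hy => N.F.le hy.1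
  have e : (Qg N g).subgroupOf (centralizer ({N.z} : Set G)) ⊓ N.ρ.ker = (dG N g).subgroupOf _ := by
    ext k
    simp only [mem_inf, MonoidHom.mem_ker, N.ρ_eq_one_iff, mem_subgroupOf, dG]
    exact and_comm
  rw [e, Nat.card_congr (subgroupOfEquivOfLe hd).toEquiv] at h
  unfold MG
  rw [h]
  exact Nat.card_congr
    { toFun := fun w => ⟨g⁻¹ * (w.1 : G) * g, post_mem w.2 w.1.2⟩
      invFun := fun s => ⟨⟨g * (s : G) * g⁻¹, (pre_mem s.2).2⟩, (pre_mem s.2).1⟩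
      left_inv := fun w => Subtype.ext (Subtype.ext (by simp [mul_assoc]))
      right_inv := fun s => Subtype.ext (by simp [mul_assoc]) }

theorem card_DV : Nat.card ↥(DV N g) = Nat.card ↥(dG N g) := by
  let f : ↥(dG N g) → ↥(DV N g) := fun d => ⟨N.π ⟨d, d.2.1⟩, d, d.2, rfl⟩
  refine (Nat.card_congr (Equiv.ofBijective f ⟨fun d e h => ?_, fun v => ?_⟩)).symm
  · rcases N.π_eq (congrArg Subtype.val h) with e' | e'
    · exact Subtype.ext e'.symm
    · refine absurd ?_ O.z_notMem_d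
      have := mul_mem (inv_mem d.2) e.2
      rw [show (e : G) = d * N.z from e', inv_mul_cancel_left] at this
      exact this
  · obtain ⟨d, hd, e⟩ := v.2
    exact ⟨⟨d, hd⟩, Subtype.ext e⟩

theorem invol_count : Nat.card {s : ↥(sG N g⁻¹) // s * s = 1} ≤
    Nat.card {m : ↥(MG N g) // m * m = 1} * Nat.card ↥(dG N g) := by
  classical
  let F : {s : ↥(sG N g⁻¹) // s * s = 1} → {m : ↥(MG N g) // m * m = 1} := fun s =>
    ⟨⟨N.ρ ⟨g * (s.1 : G) * g⁻¹, (pre_mem s.1.2).2⟩, ⟨g * (s.1 : G) * g⁻¹, (pre_mem s.1.2).2⟩,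
      (pre_mem s.1.2).1, rfl⟩, Subtype.ext (by
        show N.ρ _ * N.ρ _ = 1
        rw [← map_mul, show (⟨g * (s.1 : G) * g⁻¹, (pre_mem s.1.2).2⟩ : centralizer ({N.z} : Set G)) *
          ⟨g * (s.1 : G) * g⁻¹, (pre_mem s.1.2).2⟩ = 1 from Subtype.ext (by
            have e : (s.1 : G) * (s.1 : G) = 1 := congrArg Subtype.val s.2
            show g * (s.1 : G) * g⁻¹ * (g * (s.1 : G) * g⁻¹) = 1
            rw [show g * (s.1 : G) * g⁻¹ * (g * (s.1 : G) * g⁻¹) = g * ((s.1 : G) * (s.1 : G)) * g⁻¹ by group,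
              e]; group), map_one])⟩
  let r : {m : ↥(MG N g) // m * m = 1} → G := fun m =>
    if h : ∃ s, F s = m then g * (h.choose.1 : G) * g⁻¹ else 1
  have hd : ∀ s, (r (F s))⁻¹ * (g * (s.1 : G) * g⁻¹) ∈ dG N g := by
    intro s
    have h : ∃ s', F s' = F s := ⟨s, rfl⟩
    have e := h.choose_spec
    simp only [r, dif_pos h]
    refine ⟨(N.ρ_eq_iff ⟨_, (pre_mem h.choose.1.2).2⟩ ⟨_, (pre_mem s.1.2).2⟩).1
      (congrArg (fun m : {m : ↥(MG N g) // m * m = 1} => (m.1 : Equiv.Perm V)) e), ?_⟩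
    exact (Qg N g).mul_mem ((Qg N g).inv_mem (pre_mem h.choose.1.2).1) (pre_mem s.1.2).1
  haveI : Finite V := Finite.of_surjective N.π N.surj
  refine le_trans (Nat.card_le_card_of_injective (fun s => (F s, (⟨_, hd s⟩ : ↥(dG N g)))) fun s t h => ?_)
    (Nat.card_prod _ _).le
  simp only [Prod.mk.injEq, Subtype.mk.injEq] at h
  obtain ⟨h1, h2⟩ := h
  rw [h1] at h2
  exact Subtype.ext (Subtype.ext (mul_left_cancel (mul_right_cancel (mul_left_cancel h2))))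

omit O in
theorem MG_invol (h : ∀ s ∈ sG N g⁻¹, s * s = 1) : ∀ m ∈ MG N g, m * m = 1 := by
  rintro _ ⟨w, hw, rfl⟩
  rw [← map_mul, show w * w = 1 from Subtype.ext (by
    have := h _ (post_mem hw w.2)
    simp only [Subgroup.coe_subtype] at this
    calc (w : G) * w = g * (g⁻¹ * (w : G) * g * (g⁻¹ * (w : G) * g)) * g⁻¹ := by group
      _ = 1 := by rw [this]; group), map_one]

theorem MG_le_LG : MG N g ≤ LG N g := by
  rintro _ ⟨w, hw, rfl⟩
  exact ⟨w, mem_centralizer_singleton_iff.2 (O.comm_of_mem hw), rfl⟩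

theorem MG_normal {l m : Equiv.Perm V} (hl : l ∈ LG N g) (hm : m ∈ MG N g) : l * m * l⁻¹ ∈ MG N g := by
  obtain ⟨k, hk, rfl⟩ := mem_LG.1 hl
  obtain ⟨w, hw, rfl⟩ := hm
  exact ⟨k * w * k⁻¹, conj_Qg hk hw, by rw [map_mul, map_mul, map_inv]⟩

omit O in
theorem x_mem_Qg : g * N.z * g⁻¹ ∈ Qg N g := mem_Qg.2 (by
  rw [show g⁻¹ * (g * N.z * g⁻¹) * g = N.z by group]; exact N.z_mem)

theorem a_mem_MG : N.ρ O.inv' ∈ MG N g := ⟨O.inv', x_mem_Qg, rfl⟩

theorem LG_comm {l : Equiv.Perm V} (hl : l ∈ LG N g) : l * N.ρ O.inv' = N.ρ O.inv' * l := by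
  obtain ⟨k, hk, rfl⟩ := mem_LG.1 hl
  rw [← map_mul, ← map_mul]
  congr 1
  exact Subtype.ext hk

theorem LG_lf {l : Equiv.Perm V} (hl : l ∈ LG N g) (v : V) : lf N g (l v) = lf N g v := by
  obtain ⟨k, hk, rfl⟩ := mem_LG.1 hl
  have hg : sG N ((k : G) * g) = sG N g := by
    unfold sG
    rw [show (k : G) * g * N.z * ((k : G) * g)⁻¹ = g * N.z * g⁻¹ by
      calc (k : G) * g * N.z * ((k : G) * g)⁻¹ = (k : G) * (g * N.z * g⁻¹) * (k : G)⁻¹ := by group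
        _ = _ := by rw [hk, mul_inv_cancel_right]]
  rw [← lf_conj g k v, lf_congr hg]

theorem LG_fix {l : Equiv.Perm V} (hl : l ∈ LG N g) {v : V} (hv : N.ρ O.inv' v = v) :
    N.ρ O.inv' (l v) = l v := by
  rw [← Equiv.Perm.mul_apply, ← O.LG_comm hl, Equiv.Perm.mul_apply, hv]

omit O in
theorem isPGroup_MG : IsPGroup 2 ↥(MG N g) := by
  have h : IsPGroup 2 ↥((Qg N g).subgroupOf (centralizer ({N.z} : Set G))) := by
    have hQ : IsPGroup 2 ↥(Qg N g) :=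
      (IsPGroup.of_card (G := ↥N.Q) (p := 2) (n := 9) (by rw [N.card]; rfl)).map _
    exact hQ.comap_subtype
  exact h.map _

/-- A square of the image is trivial or the image of the conjugate. -/
theorem lift_facts {w : G} (hw : w ∈ Qg N g) :
    Commute w xg ∧ (w * w = 1 ∨ w * w = xg) := by
  refine ⟨O.comm_of_mem hw, ?_⟩
  have h : g⁻¹ * w * g * (g⁻¹ * w * g) = _ := N.sq ⟨_, mem_Qg.1 hw⟩
  split_ifs at h
  · left
    calc w * w = g * (g⁻¹ * w * g * (g⁻¹ * w * g)) * g⁻¹ := by group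
      _ = 1 := by rw [h]; group
  · right
    calc w * w = g * (g⁻¹ * w * g * (g⁻¹ * w * g)) * g⁻¹ := by group
      _ = xg := by rw [h]

theorem MG_sq {m : Equiv.Perm V} (hm : m ∈ MG N g) : m * m = 1 ∨ m * m = N.ρ O.inv' := by
  obtain ⟨w, hw, rfl⟩ := hm
  rw [← map_mul]
  rcases (O.lift_facts hw).2 with e | e
  · exact Or.inl (by rw [show w * w = 1 from Subtype.ext e, map_one])
  · exact Or.inr (by rw [show w * w = O.inv' from Subtype.ext e])

/-! ### The intersection on the space -/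

theorem DV_spec {v : V} (hv : v ∈ DV N g) :
    N.ρ O.inv' v = v ∧ lf N g v = 0 ∧ N.S.q v = 0 := by
  obtain ⟨d, hd, rfl⟩ := hv
  obtain ⟨h1, h2⟩ := (O.mem_sG_iff ⟨d, hd.1⟩).1 (O.d_le_s hd)
  refine ⟨h1, h2, ?_⟩
  by_contra h0
  have h := N.sq ⟨d, hd.1⟩
  rw [if_neg h0] at h
  exact N.z_ne (h.symm.trans (O.d_sq hd))

theorem DV_perp {v w : V} (hv : v ∈ DV N g) (hw : N.ρ O.inv' w = w) (hl : lf N g w = 0) :
    N.S.B v w = 0 := by
  obtain ⟨d, hd, rfl⟩ := hv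
  obtain ⟨q, rfl⟩ := N.surj w
  exact (N.B_eq_zero_iff _ q).2 (O.d_central hd ((O.mem_sG_iff q).2 ⟨hw, hl⟩)).symm

theorem DV_invariant {l : Equiv.Perm V} (hl : l ∈ LG N g) {v : V} (hv : v ∈ DV N g) : l v ∈ DV N g := by
  obtain ⟨k, hk, rfl⟩ := mem_LG.1 hl
  obtain ⟨d, hd, rfl⟩ := hv
  rw [N.ρ_π]
  exact ⟨_, ⟨N.conj_mem k.2 ⟨d, hd.1⟩, conj_Qg hk hd.2⟩, rfl⟩

/-- The image moves the centraliser into the intersection. -/
theorem MG_move {m : Equiv.Perm V} (hm : m ∈ MG N g) {v : V} (hv : N.ρ O.inv' v = v) (hl : lf N g v = 0) :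
    m v + v ∈ DV N g := by
  obtain ⟨w, hw, rfl⟩ := hm
  obtain ⟨q, rfl⟩ := N.surj v
  have hs := (O.mem_sG_iff q).2 ⟨hv, hl⟩
  have hQ : (w : G) * q * (w : G)⁻¹ ∈ N.Q := N.conj_mem w.2 q
  refine ⟨(w : G) * q * (w : G)⁻¹ * (q : G)⁻¹, ⟨N.Q.mul_mem hQ (N.Q.inv_mem q.2), ?_⟩, ?_⟩
  · have h1 := conj_Qg (mem_centralizer_singleton_iff.1 hs.2) ((Qg N g).inv_mem hw)
    rw [show (w : G) * q * (w : G)⁻¹ * (q : G)⁻¹ = (w : G) * ((q : G) * (w : G)⁻¹ * (q : G)⁻¹) by group]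
    exact (Qg N g).mul_mem hw h1
  · rw [show (⟨(w : G) * q * (w : G)⁻¹ * (q : G)⁻¹, _⟩ : ↥N.Q) = ⟨_, hQ⟩ * q⁻¹ from rfl, N.π_mul, N.π_inv,
      N.ρ_π]
    rfl

/-! ### Lifts of elements centralising the image -/

/-- A lift fixes the conjugate or interchanges it with its product by the central involution. -/
theorem LG_or_swap (hp : PerpImage N.S (N.ρ O.inv')) (k : centralizer ({N.z} : Set G))
    (hka : N.ρ k * N.ρ O.inv' = N.ρ O.inv' * N.ρ k)
    (hkl : ∀ v, N.ρ O.inv' v = v → lf N g (N.ρ k v) = lf N g v) :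
    N.ρ k ∈ LG N g ∨ ∃ k' : centralizer ({N.z} : Set G), N.ρ k' = N.ρ k ∧
      (k' : G) * xg * (k' : G)⁻¹ = xg * N.z := by
  classical
  set y := (k : G) * xg * (k : G)⁻¹ with hy
  have hyC : y ∈ centralizer ({N.z} : Set G) := mul_mem (mul_mem k.2 O.x_mem) (inv_mem k.2)
  have hy2 : y * y = 1 := by
    rw [hy, show (k : G) * xg * (k : G)⁻¹ * ((k : G) * xg * (k : G)⁻¹) = (k : G) * (xg * xg) * (k : G)⁻¹ by group,
      O.x_sq]; group
  have hρy : N.ρ O.inv' = N.ρ ⟨y, hyC⟩ := by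
    rw [show (⟨y, hyC⟩ : centralizer ({N.z} : Set G)) = k * O.inv' * k⁻¹ from rfl, map_mul, map_mul, hka,
      map_inv, mul_inv_cancel_right]
  have hq : xg⁻¹ * y ∈ N.Q := (N.ρ_eq_iff O.inv' ⟨y, hyC⟩).1 hρy
  set q : ↥N.Q := ⟨xg⁻¹ * y, hq⟩ with hqd
  have hyq : y = xg * q := (mul_inv_cancel_left _ _).symm
  have hqinv : xg * q * (xg)⁻¹ = (q : G)⁻¹ := by
    rw [hyq] at hy2
    rw [O.x_inv, eq_comm, inv_eq_of_mul_eq_one_left]
    rw [← hy2]; group
  have hperp : ∀ w, N.ρ O.inv' w = w → N.S.B (N.π q) w = 0 := by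
    intro w hw
    obtain ⟨p, rfl⟩ := N.surj w
    refine (N.B_eq_zero_iff q p).2 ?_
    let p0 : ↥N.Q := ⟨(k : G)⁻¹ * p * k, by
      have := N.conj_mem (inv_mem k.2) p
      rwa [inv_inv] at this⟩
    have hp0 : N.ρ k (N.π p0) = N.π p := by
      rw [N.ρ_π]
      congr 1
      exact Subtype.ext (show (k : G) * ((k : G)⁻¹ * p * k) * (k : G)⁻¹ = p by group)
    have hf0 : N.ρ O.inv' (N.π p0) = N.π p0 := by
      apply (N.ρ k).injective
      rw [← Equiv.Perm.mul_apply, hka, Equiv.Perm.mul_apply, hp0, hw]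
    have h0 := O.lfun_spec hf0
    have h1 := O.lfun_spec hw
    rw [← hp0, hkl _ hf0] at h1
    have hyp : y * p * y⁻¹ = (k : G) * (xg * p0 * (xg)⁻¹) * (k : G)⁻¹ := by
      rw [hy]
      show _ = (k : G) * (xg * ((k : G)⁻¹ * p * k) * (xg)⁻¹) * (k : G)⁻¹
      group
    have hz : ∀ c : G, c ∈ centralizer ({N.z} : Set G) → c * N.z * c⁻¹ = N.z := fun c hc => N.conj_z hc
    have key : (q : G) * p * (q : G)⁻¹ = p := by
      have e : xg * ((q : G) * p * (q : G)⁻¹) * (xg)⁻¹ = xg * p * (xg)⁻¹ := by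
        calc xg * ((q : G) * p * (q : G)⁻¹) * (xg)⁻¹ = y * p * y⁻¹ := by rw [hyq]; group
          _ = xg * p * (xg)⁻¹ := by
            rw [hyp, h0, h1]
            split_ifs
            · show (k : G) * ((k : G)⁻¹ * p * k) * (k : G)⁻¹ = p
              group
            · show (k : G) * ((k : G)⁻¹ * p * k * N.z) * (k : G)⁻¹ = p * N.z
              calc (k : G) * ((k : G)⁻¹ * p * k * N.z) * (k : G)⁻¹ = p * ((k : G) * N.z * (k : G)⁻¹) := by group
                _ = _ := by rw [hz _ k.2]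
      exact mul_left_cancel (mul_right_cancel e)
    exact mul_inv_eq_iff_eq_mul.1 key
  obtain ⟨u, hu⟩ := hp _ hperp
  obtain ⟨u, rfl⟩ := N.surj u
  have hk' : N.ρ (⟨(u : G)⁻¹, N.F.le (inv_mem u.2)⟩ * k) = N.ρ k := by
    rw [map_mul, rho_of_mem (inv_mem u.2), one_mul]
  have hc := O.comm'_spec u
  have hci := O.comm'_inv u
  have hx : (u : G) * xg * (u : G)⁻¹ = xg * (O.comm' u : G)⁻¹ := by
    rw [hc, ← hci]
    calc (O.comm' u : G) * xg = (xg * xg) * (O.comm' u : G) * xg := by rw [O.x_sq, one_mul]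
      _ = xg * (xg * (O.comm' u : G) * (xg)⁻¹) := by rw [O.x_inv]; group
  rcases N.π_eq (a := (O.comm' u)⁻¹) (b := q) (by rw [N.π_inv, O.π_comm', hu]) with e | e
  · refine Or.inl (mem_LG.2 ⟨⟨(u : G)⁻¹, N.F.le (inv_mem u.2)⟩ * k, ?_, hk'⟩)
    show (u : G)⁻¹ * k * xg = xg * ((u : G)⁻¹ * k)
    rw [Subgroup.coe_inv] at e
    calc (u : G)⁻¹ * k * xg = (u : G)⁻¹ * ((k : G) * xg * (k : G)⁻¹) * k := by group
      _ = (u : G)⁻¹ * ((u : G) * xg * (u : G)⁻¹) * k := by rw [← hy, hyq, e, hx]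
      _ = _ := by group
  · refine Or.inr ⟨⟨(u : G)⁻¹, N.F.le (inv_mem u.2)⟩ * k, hk', ?_⟩
    show (u : G)⁻¹ * k * xg * ((u : G)⁻¹ * k)⁻¹ = xg * N.z
    rw [Subgroup.coe_inv] at e
    calc (u : G)⁻¹ * k * xg * ((u : G)⁻¹ * k)⁻¹ = (u : G)⁻¹ * ((k : G) * xg * (k : G)⁻¹) * u := by group
      _ = (u : G)⁻¹ * ((u : G) * xg * (u : G)⁻¹ * N.z) * u := by rw [← hy, hyq, e, hx]; group
      _ = xg * ((u : G)⁻¹ * N.z * ((u : G)⁻¹)⁻¹) := by group
      _ = xg * N.z := by rw [N.conj_z (inv_mem (N.F.le u.2))]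

/-- The conjugate is fused with its product by the central involution. -/
theorem isConj_xz_of_not_mem (hp : PerpImage N.S (N.ρ O.inv')) (k : centralizer ({N.z} : Set G))
    (hka : N.ρ k * N.ρ O.inv' = N.ρ O.inv' * N.ρ k)
    (hkl : ∀ v, N.ρ O.inv' v = v → lf N g (N.ρ k v) = lf N g v) (hn : N.ρ k ∉ LG N g) :
    IsConj N.z (xg * N.z) := by
  obtain ⟨k', -, hk'⟩ := (O.LG_or_swap hp k hka hkl).resolve_left hn
  exact (isConj_conj g).trans (isConj_iff.2 ⟨k', hk'⟩)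

theorem mul_mem_LG (hp : PerpImage N.S (N.ρ O.inv')) (k₁ k₂ : centralizer ({N.z} : Set G))
    (h1a : N.ρ k₁ * N.ρ O.inv' = N.ρ O.inv' * N.ρ k₁)
    (h1l : ∀ v, N.ρ O.inv' v = v → lf N g (N.ρ k₁ v) = lf N g v)
    (h2a : N.ρ k₂ * N.ρ O.inv' = N.ρ O.inv' * N.ρ k₂)
    (h2l : ∀ v, N.ρ O.inv' v = v → lf N g (N.ρ k₂ v) = lf N g v)
    (h1 : N.ρ k₁ ∉ LG N g) (h2 : N.ρ k₂ ∉ LG N g) : N.ρ (k₁ * k₂) ∈ LG N g := by
  obtain ⟨a, ha, ea⟩ := (O.LG_or_swap hp k₁ h1a h1l).resolve_left h1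
  obtain ⟨b, hb, eb⟩ := (O.LG_or_swap hp k₂ h2a h2l).resolve_left h2
  refine mem_LG.2 ⟨a * b, mul_inv_eq_iff_eq_mul.1 ?_, by rw [map_mul, map_mul, ha, hb]⟩
  show (a : G) * b * xg * ((a : G) * b)⁻¹ = xg
  calc (a : G) * b * xg * ((a : G) * b)⁻¹ = (a : G) * ((b : G) * xg * (b : G)⁻¹) * (a : G)⁻¹ := by group
    _ = (a : G) * xg * (a : G)⁻¹ * ((a : G) * N.z * (a : G)⁻¹) := by rw [eb]; group
    _ = xg := by rw [ea, N.conj_z a.2, mul_assoc, N.zz, mul_one]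

theorem sq_mem_LG (hp : PerpImage N.S (N.ρ O.inv')) (k : centralizer ({N.z} : Set G))
    (hka : N.ρ k * N.ρ O.inv' = N.ρ O.inv' * N.ρ k)
    (hkl : ∀ v, N.ρ O.inv' v = v → lf N g (N.ρ k v) = lf N g v) : N.ρ (k * k) ∈ LG N g := by
  by_cases h : N.ρ k ∈ LG N g
  · rw [map_mul]; exact mul_mem h h
  · exact O.mul_mem_LG hp k k hka hkl hka hkl h h

/-- With the fixed vectors commutators every functional is preserved. -/
theorem lf_inv_of_fixImage (hfi : FixImage (N.ρ O.inv')) (k : centralizer ({N.z} : Set G))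
    (hka : N.ρ k * N.ρ O.inv' = N.ρ O.inv' * N.ρ k) :
    ∀ v, N.ρ O.inv' v = v → lf N g (N.ρ k v) = lf N g v := by
  intro v hv
  obtain ⟨u, rfl⟩ := hfi v hv
  have hcomm : ∀ w, N.ρ k (N.ρ O.inv' w) = N.ρ O.inv' (N.ρ k w) := fun w => by
    rw [← Equiv.Perm.mul_apply, hka, Equiv.Perm.mul_apply]
  rw [(N.ρ_mem k).1, hcomm, O.lfun_lfun.2, O.lfun_lfun.2, ← hcomm, QV.iso_B (N.ρ_mem k)]

/-! ### Intersection and fusion -/

/-- Two elements of the intersection over commutators of the image. -/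
theorem pair_one {d e : G} (hd : d ∈ dG N g) (he : e ∈ dG N g) (hd1 : d ≠ 1) (he1 : e ≠ 1) (hne : d ≠ e)
    {u w : V} (hu : N.π ⟨d, hd.1⟩ = N.ρ O.inv' u + u) (hw : N.π ⟨e, he.1⟩ = N.ρ O.inv' w + w) :
    N.S.B u (N.π ⟨e, he.1⟩) = 1 := by
  obtain ⟨u, rfl⟩ := N.surj u
  obtain ⟨w, rfl⟩ := N.surj w
  have hde : d * e ≠ 1 := fun h => hne (by
    calc d = d * (d * e) := by rw [h, mul_one]
      _ = e := by rw [← mul_assoc, O.d_sq hd, one_mul])
  rw [hw]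
  rcases zmod_two_cases (N.S.B (N.π u) (N.ρ O.inv' (N.π w) + N.π w)) with h0 | h0
  swap
  · exact h0
  exfalso
  have hc : (u : G) * O.comm' w = O.comm' w * u := (N.B_eq_zero_iff u (O.comm' w)).1 (by rw [O.π_comm']; exact h0)
  have edw := O.d_lift he he1 hw
  have edu := O.d_lift hd hd1 hu
  refine O.not_conj_mul (mul_mem hd he) hde ((isConj_conj g).trans (isConj_iff.2 ⟨(u : G) * w, ?_⟩))
  have key : (O.comm' w : G) * O.comm' u = d * e := by
    have hdecomm : d * e = e * d := O.d_central he (O.d_le_s hd)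
    rw [hdecomm, edw, edu]
    calc (O.comm' w : G) * O.comm' u = (O.comm' w : G) * O.comm' u * (N.z * N.z) := by rw [N.zz, mul_one]
      _ = (O.comm' w : G) * (O.comm' u * N.z) * N.z := by group
      _ = (O.comm' w : G) * (N.z * O.comm' u) * N.z := by rw [N.z_comm (O.comm' u).2]
      _ = _ := by group
  calc (u : G) * w * xg * ((u : G) * w)⁻¹ = (u : G) * ((w : G) * xg * (w : G)⁻¹) * (u : G)⁻¹ := by group
    _ = (u : G) * O.comm' w * xg * (u : G)⁻¹ := by rw [O.comm'_spec]; group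
    _ = O.comm' w * ((u : G) * xg * (u : G)⁻¹) := by rw [hc]; group
    _ = d * e * xg := by rw [O.comm'_spec, ← mul_assoc, key]
    _ = xg * (d * e) := O.comm_of_mem (mul_mem hd.2 he.2)

/-- If the product with the central involution is fused, no element lies over a commutator. -/
theorem eq_one_of_fused (h : IsConj N.z (xg * N.z)) {d : G} (hd : d ∈ dG N g) {u : V}
    (hu : N.π ⟨d, hd.1⟩ = N.ρ O.inv' u + u) : d = 1 := by
  by_contra hd1
  obtain ⟨u, rfl⟩ := N.surj u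
  have e := O.d_lift hd hd1 hu
  refine O.not_conj_mul hd hd1 (h.trans (isConj_iff.2 ⟨u, ?_⟩))
  calc (u : G) * (xg * N.z) * (u : G)⁻¹
      = ((u : G) * xg * (u : G)⁻¹) * ((u : G) * N.z * (u : G)⁻¹) := by group
    _ = (O.comm' u : G) * (xg * N.z) := by rw [O.comm'_spec, N.conj_z (N.F.le u.2)]; group
    _ = (O.comm' u : G) * (N.z * xg) := by rw [← O.comm]
    _ = xg * d := by rw [← mul_assoc, ← e, O.comm_of_mem hd.2]

theorem exists_swap_of_lf {v : V} (hv : N.ρ O.inv' v = v) (hl : lf N g v = 1) :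
    ∃ p : ↥N.Q, N.π p = v ∧ (p : G) * xg * (p : G)⁻¹ = xg * N.z := by
  obtain ⟨p, rfl⟩ := N.surj v
  have h := O.lfun_spec hv
  rw [if_neg (by rw [hl]; decide)] at h
  refine ⟨p⁻¹, N.π_inv p, ?_⟩
  rw [Subgroup.coe_inv, inv_inv]
  calc (p : G)⁻¹ * xg * p = (p : G)⁻¹ * (xg * p * (xg)⁻¹) * xg := by group
    _ = N.z * xg := by rw [h]; group
    _ = xg * N.z := O.comm.symm

theorem isConj_xz_of_lf {v : V} (hv : N.ρ O.inv' v = v) (hl : lf N g v = 1) :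
    IsConj N.z (xg * N.z) := by
  obtain ⟨p, -, hp⟩ := O.exists_swap_of_lf hv hl
  exact (isConj_conj g).trans (isConj_iff.2 ⟨p, hp⟩)

/-! ### Conjugate configurations -/

theorem out_conj (k : centralizer ({N.z} : Set G)) : Out N ((k : G) * g) := by
  have e : (k : G) * g * N.z * ((k : G) * g)⁻¹ = (k : G) * xg * (k : G)⁻¹ := by group
  have hk := mem_centralizer_singleton_iff.1 k.2
  refine ⟨O.weak, ?_, fun h => O.notMem ((mem_Q_conj k).1 (e ▸ h))⟩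
  rw [e]
  calc (k : G) * xg * (k : G)⁻¹ * N.z = (k : G) * (xg * N.z) * (k : G)⁻¹ := by
        rw [mul_assoc _ (k : G)⁻¹ N.z,
          show (k : G)⁻¹ * N.z = N.z * (k : G)⁻¹ from ((show Commute (k : G) N.z from hk).inv_left).eq]
        group
    _ = (k : G) * (N.z * xg) * (k : G)⁻¹ := by rw [O.comm]
    _ = N.z * ((k : G) * xg * (k : G)⁻¹) := by rw [← mul_assoc, hk]; group

theorem rho_out_conj (k : centralizer ({N.z} : Set G)) :
    N.ρ (O.out_conj k).inv' = N.ρ k * N.ρ O.inv' * (N.ρ k)⁻¹ := by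
  rw [← map_inv, ← map_mul, ← map_mul]
  congr 1
  refine Subtype.ext ?_
  show (k : G) * g * N.z * ((k : G) * g)⁻¹ = (k : G) * xg * (k : G)⁻¹
  group

/-- A moved element commuting with part of the conjugate subgroup gives a configuration of the same image
with nontrivial intersection. -/
theorem exists_common {p : ↥N.Q} (hp : (p : G) * xg * (p : G)⁻¹ = xg * N.z) {m : Equiv.Perm V}
    (hm : m ∈ MG N g) (hm1 : m ≠ 1) (hma : m ≠ N.ρ O.inv') (hmp : m (N.π p) = N.π p) :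
    ∃ h : G, ∃ O2 : Out N h, N.ρ O2.inv' = N.ρ O.symm.inv' ∧ 1 < Nat.card ↥(dG N h) := by
  obtain ⟨w, hw, rfl⟩ := hm
  set h := g⁻¹ * (p : G) * g with hh
  have hx : h * N.z * h⁻¹ = g⁻¹ * N.z * g⁻¹⁻¹ * N.z := by
    rw [hh, show g⁻¹ * (p : G) * g * N.z * (g⁻¹ * (p : G) * g)⁻¹ = g⁻¹ * ((p : G) * xg * (p : G)⁻¹) * g by group,
      hp]
    calc g⁻¹ * (xg * N.z) * g = N.z * (g⁻¹ * N.z * g⁻¹⁻¹) := by group
      _ = _ := O.symm.comm.symm
  have O2 : Out N h := by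
    refine ⟨O.weak, ?_, fun hc => O.symm.notMem ?_⟩
    · rw [hx, ← mul_assoc N.z, ← O.symm.comm]
    · rw [hx] at hc
      have := mul_mem hc N.z_mem
      rwa [mul_assoc, N.zz, mul_one] at this
  refine ⟨h, O2, ?_, ?_⟩
  · rw [show O2.inv' = O.symm.inv' * ⟨N.z, N.F.le N.z_mem⟩ from Subtype.ext hx, map_mul,
      rho_of_mem N.z_mem, mul_one]
  have hxp : xg * p * (xg)⁻¹ = p * N.z := by
    calc xg * (p : G) * (xg)⁻¹ = xg * N.z * N.z * p * (xg)⁻¹ := by rw [mul_assoc xg N.z, N.zz, mul_one]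
      _ = ((p : G) * xg * (p : G)⁻¹) * (N.z * p) * (xg)⁻¹ := by rw [hp]; group
      _ = ((p : G) * xg * (p : G)⁻¹) * ((p : G) * N.z) * (xg)⁻¹ := by rw [N.z_comm p.2]
      _ = (p : G) * (xg * N.z) * (xg)⁻¹ := by group
      _ = (p : G) * (N.z * xg) * (xg)⁻¹ := by rw [O.comm]
      _ = _ := by group
  have hwp := hmp
  rw [N.ρ_π] at hwp
  obtain ⟨c, hc, hcp, hc1⟩ : ∃ c : G, c ∈ Qg N g ∧ c * p * c⁻¹ = p ∧ c ≠ 1 := by
    rcases N.π_eq hwp.symm with e | e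
    · refine ⟨w, hw, e, fun e1 => hm1 ?_⟩
      rw [show w = 1 from Subtype.ext e1, map_one]
    · refine ⟨(w : G) * xg, mul_mem hw x_mem_Qg, ?_, fun e1 => hma ?_⟩
      · calc (w : G) * xg * p * ((w : G) * xg)⁻¹ = (w : G) * (xg * p * (xg)⁻¹) * (w : G)⁻¹ := by group
          _ = (w : G) * p * (w : G)⁻¹ * ((w : G) * N.z * (w : G)⁻¹) := by rw [hxp]; group
          _ = p := by
            rw [show (w : G) * p * (w : G)⁻¹ = p * N.z from e, N.conj_z w.2, mul_assoc, N.zz, mul_one]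
      · rw [show w = O.inv'⁻¹ from Subtype.ext (eq_inv_of_mul_eq_one_left e1), map_inv,
          inv_eq_of_mul_eq_one_right O.a_sq.1]
  have hd : g⁻¹ * c * g ∈ dG N h := by
    refine ⟨mem_Qg.1 hc, mem_Qg.2 ?_⟩
    rw [show h⁻¹ * (g⁻¹ * c * g) * h = g⁻¹ * ((p : G)⁻¹ * c * p) * g by rw [hh]; group,
      show (p : G)⁻¹ * c * p = c by
        calc (p : G)⁻¹ * c * p = (p : G)⁻¹ * (c * p * c⁻¹) * c := by group
          _ = c := by rw [hcp]; group]
    exact mem_Qg.1 hc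
  rw [Finite.one_lt_card_iff_nontrivial]
  refine ⟨⟨⟨_, hd⟩, 1, fun e => hc1 ?_⟩⟩
  have := congrArg Subtype.val e
  calc c = g * (g⁻¹ * c * g) * g⁻¹ := by group
    _ = 1 := by rw [show g⁻¹ * c * g = 1 from this]; group

/-- A central element of the image gives a vector fixed on the other side. -/
theorem fixed_of_central (hd : Nat.card ↥(dG N g) = 1) {m : Equiv.Perm V} (hm : m ∈ MG N g)
    (hc : ∀ l ∈ LG N g, l * m = m * l) (hm1 : m ≠ 1) (hma : m ≠ N.ρ O.inv') :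
    ∃ v : V, v ≠ 0 ∧ N.ρ O.symm.inv' v = v ∧ lf N g⁻¹ v = 0 ∧ ∀ l ∈ LG N g⁻¹, l v = v := by
  obtain ⟨w, hw, rfl⟩ := hm
  have hs := post_mem hw w.2
  set s := g⁻¹ * (w : G) * g with hsd
  obtain ⟨hf, hl⟩ := (O.symm.mem_sG_iff ⟨s, hs.1⟩).1 hs
  refine ⟨N.π ⟨s, hs.1⟩, fun h0 => ?_, hf, hl, fun l hlm => ?_⟩
  · rcases (N.ker_iff _).1 h0 with e | e <;> simp only at e
    · refine hm1 ?_
      rw [show w = 1 from Subtype.ext (by
        show (w : G) = 1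
        calc (w : G) = g * s * g⁻¹ := by rw [hsd]; group
          _ = 1 := by rw [e]; group), map_one]
    · refine hma ?_
      rw [show w = O.inv' from Subtype.ext (by
        show (w : G) = xg
        calc (w : G) = g * s * g⁻¹ := by rw [hsd]; group
          _ = xg := by rw [e])]
  · obtain ⟨k, hk, rfl⟩ := mem_LG.1 hlm
    have hkz := mem_centralizer_singleton_iff.1 k.2
    have h1 : g * (k : G) * g⁻¹ * N.z = N.z * (g * (k : G) * g⁻¹) := by
      calc g * (k : G) * g⁻¹ * N.z = g * ((k : G) * (g⁻¹ * N.z * g⁻¹⁻¹)) * g⁻¹ := by group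
        _ = g * (g⁻¹ * N.z * g⁻¹⁻¹ * (k : G)) * g⁻¹ := by rw [hk]
        _ = _ := by group
    have h2 : g * (k : G) * g⁻¹ * xg = xg * (g * (k : G) * g⁻¹) := by
      calc g * (k : G) * g⁻¹ * xg = g * ((k : G) * N.z) * g⁻¹ := by group
        _ = g * (N.z * (k : G)) * g⁻¹ := by rw [hkz]
        _ = _ := by group
    set k' : centralizer ({N.z} : Set G) := ⟨g * (k : G) * g⁻¹, mem_centralizer_singleton_iff.2 h1⟩
    have e := hc _ (mem_LG.2 ⟨k', h2, rfl⟩)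
    have e' : N.ρ (k' * w * k'⁻¹) = N.ρ w := by
      rw [map_mul, map_mul, e, map_inv, mul_inv_cancel_right]
    have hmem : (w : G)⁻¹ * ((k' : G) * w * (k' : G)⁻¹) ∈ dG N g :=
      ⟨(N.ρ_eq_iff w (k' * w * k'⁻¹)).1 e'.symm, (Qg N g).mul_mem ((Qg N g).inv_mem hw) (conj_Qg h2 hw)⟩
    have hbot : dG N g = ⊥ := Subgroup.card_eq_one.1 hd
    rw [hbot, mem_bot, inv_mul_eq_one] at hmem
    rw [N.ρ_π]
    congr 1
    refine Subtype.ext ?_
    show (k : G) * s * (k : G)⁻¹ = s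
    calc (k : G) * s * (k : G)⁻¹ = g⁻¹ * ((g * (k : G) * g⁻¹) * w * (g * (k : G) * g⁻¹)⁻¹) * g := by
          rw [hsd]; group
      _ = s := by rw [hsd]; congr 2; exact hmem.symm

end Out

end CfsgLib.ThType.Fusion
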