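import Cfsg.Agent.Lib.CoTwoRec.CoordsBase
import Cfsg.Agent.Lib.CoTwoRec.OutStd

/-!
# The tables for the signs of the two standard positions

In the split centraliser exactly one of the two lifts of each standard image can be a conjugate of the central
involution: for the other one no lift of a member of the other extraspecial subgroup has the relations it must have.
-/

set_option autoImplicit false
set_option maxRecDepth 100000
set_option Elab.async false

namespace CfsgLib.CoTwoRec

open CfsgLib.Schur.Tails.SpSix CfsgLib.ThType.Coords

/-- The element of the two-group with a number below five hundred and twelve. -/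
def qWord (i : ℕ) : List ℕ := pBits (i % 256) ++ if i < 256 then [] else tWord

/-- The image of a combination under a product. -/
def fW (w : List ℕ) (m : ℕ) : ℕ := w.foldr (fun k u => fT (Fin.ofNat 8 k) u) m

/-- The two standard images. -/
def stdW : List (List ℕ) := [[0], [0, 1, 6]]

/-- The excluded lift over a transvection. -/
def badLiftA : List ℕ := [0] ++ tWord

/-- The excluded lift over three transvections of a line. -/
def badLiftB : List ℕ := [0, 1, 6]

/-- A member of the other subgroup over the first image. -/
def memA : List ℕ := [6, 1, 0]

/-- Elements fixing it. -/
def fixA : List (List ℕ) := [[6], [5], [7]]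

/-- Elements carrying it to four members with product over the image. -/
def moveA : List (List ℕ) := [[], [4], [7, 4], [5, 7, 2, 5, 4, 7, 1, 4]]

/-- A member of the other subgroup over the second image. -/
def memB : List ℕ := [7, 2]

/-- An element carrying it to a member with which the product has square over the image. -/
def moveB : List ℕ := [4, 6, 5, 1, 4]

/-- The intersection over the second image. -/
def interB : List ℕ := [0, 8, 384, 392]

/-- A basis of the combinations fixed by the second image. -/
def fixB : List ℕ := [2, 4, 8, 32, 64, 128]

/-- The conjugate of a word by another. -/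
def cjW (k w : List ℕ) : List ℕ := k ++ w ++ k.reverse

/-- No lift over the member has the relations over the excluded lift. -/
noncomputable def signAB : Bool :=
  (fixA ++ moveA).all (fun k => sameC (k ++ badLiftA) (badLiftA ++ k)) &&
  (List.range 512).all fun i =>
    !(fixA.all (fun k => sameC (cjW k (memA ++ qWord i)) (memA ++ qWord i)) &&
      sameC ((moveA.map fun k => cjW k (memA ++ qWord i)).flatten) badLiftA)

/-- The same over three transvections of a line. -/
noncomputable def signBB : Bool :=
  sameC (moveB ++ badLiftB) (badLiftB ++ moveB) &&
  fixB.all (fun v => sameC (pBits v ++ badLiftB) (badLiftB ++ pBits v)) &&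
  (List.range 256).all (fun m => Nat.beq (fW badLiftB m) m ||
    interB.any fun d => sameC (pBits m ++ badLiftB) (qWord d ++ tWord ++ badLiftB ++ pBits m)) &&
  (List.range 512).all fun i =>
    !(fixB.all (fun v => interB.any fun d => sameC (memB ++ qWord i ++ pBits v) (qWord d ++ pBits v ++ (memB ++ qWord i))) &&
      sameC (memB ++ qWord i ++ cjW moveB (memB ++ qWord i) ++ (memB ++ qWord i ++ cjW moveB (memB ++ qWord i))) badLiftB)

/-- The lifts of the fixed combinations commute with the complement, and the perpendicular ones are commutators. -/
noncomputable def normB : Bool := stdW.all fun w =>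
  (List.range 256).all fun u =>
    ((!Nat.beq (fW w u) u) || sameC (w ++ pBits u) (pBits u ++ w)) &&
    (((List.range 256).any fun m => Nat.beq (fW w m) m && beta u m) ||
      (List.range 256).any fun v => Nat.beq (fW w v ^^^ v) u)

/-- The targets. -/
noncomputable def targetB : Bool :=
  sameC [0] [0] && (List.range 512).any fun i =>
    sameC (qWord i ++ ([0, 1, 6] ++ tWord)) ([0, 1, 6, 11] ++ qWord i)

theorem signA_ok : signAB = true := by decide +kernel

/-- The test of one lift over the second image. -/
noncomputable def rowBB (i : ℕ) : Bool :=
    !(fixB.all (fun v => interB.any fun d => sameC (memB ++ qWord i ++ pBits v) (qWord d ++ pBits v ++ (memB ++ qWord i))) &&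
      sameC (memB ++ qWord i ++ cjW moveB (memB ++ qWord i) ++ (memB ++ qWord i ++ cjW moveB (memB ++ qWord i))) badLiftB)
theorem rowBB_zero : ((List.range 128).all fun i => rowBB (128 * 0 + i)) = true := by decide +kernel
theorem rowBB_one : ((List.range 128).all fun i => rowBB (128 * 1 + i)) = true := by decide +kernel
theorem rowBB_two : ((List.range 128).all fun i => rowBB (128 * 2 + i)) = true := by decide +kernel
theorem rowBB_three : ((List.range 128).all fun i => rowBB (128 * 3 + i)) = true := by decide +kernel

theorem signB_head : (sameC (moveB ++ badLiftB) (badLiftB ++ moveB) &&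
  fixB.all (fun v => sameC (pBits v ++ badLiftB) (badLiftB ++ pBits v)) &&
  (List.range 256).all (fun m => Nat.beq (fW badLiftB m) m ||
    interB.any fun d => sameC (pBits m ++ badLiftB) (qWord d ++ tWord ++ badLiftB ++ pBits m))) = true := by
  decide +kernel

theorem signB_ok : signBB = true := by
  refine Bool.and_eq_true_iff.2 ⟨signB_head, List.all_eq_true.2 fun i hi => ?_⟩
  have key : ∀ k, k < 4 → ((List.range 128).all fun i => rowBB (128 * k + i)) = true := by
    intro k hk
    interval_cases k
    exacts [rowBB_zero, rowBB_one, rowBB_two, rowBB_three]
  rw [List.mem_range] at hi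
  have h := List.all_eq_true.1 (key (i / 128) (by omega)) (i % 128) (List.mem_range.2 (Nat.mod_lt _ (by norm_num)))
  rw [Nat.div_add_mod i 128] at h
  exact h

theorem norm_ok : normB = true := by decide +kernel

theorem target_ok : targetB = true := by decide +kernel

end CfsgLib.CoTwoRec
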