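import Cfsg.Agent.Lib.CoTwoRec.OutBase
import Cfsg.Agent.Lib.CoTwoRec.OutTables
import Cfsg.Agent.Lib.CoTwoRec.Coords

/-!
# A conjugate over a standard image is a conjugate of the complement up to the central involution

Both commute with the elements over the fixed vectors, so their quotient lies over a commutator of the image.
-/

set_option autoImplicit false
set_option linter.unusedSectionVars false
set_option maxRecDepth 100000

namespace CfsgLib.CoTwoRec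

open Cfsg CfsgLib.Rigid CfsgLib.ExtraNine CfsgLib.Schur.Tails.SpSix CfsgLib.ThType.Perm CfsgLib.ThType.Coords
  CfsgLib.ThType.Fusion Subgroup

theorem sameC_of_eq {u w : List ℕ} (hu : ∀ l ∈ u, l < 16) (hw : ∀ l ∈ w, l < 16) (h : ev xm u = ev xm w) :
    sameC u w = true := by
  have hu' : ∀ l ∈ u, l < 17 := fun l hl => (hu l hl).trans (by norm_num)
  have hw' : ∀ l ∈ w, l < 17 := fun l hl => (hw l hl).trans (by norm_num)
  have e : ev letter u = ev letter w := by rw [← coe_ev_xm hu, ← coe_ev_xm hw, h]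
  simp only [sameC, Bool.and_eq_true, List.all_eq_true, Nat.blt_eq, eqL_iff]
  exact ⟨⟨hu', hw'⟩, by rw [← code_ev hu', ← code_ev hw', e]⟩

theorem cmY_tvW : ∀ w : List ℕ, (∀ l ∈ w, l < 8) → cmY (tvW (w.map (Fin.ofNat 8))) = ev xm w
  | [], _ => by simp [tvW, ev]
  | l :: w, h => by
    rw [List.map_cons, show tvW (Fin.ofNat 8 l :: w.map (Fin.ofNat 8)) = tv (Fin.ofNat 8 l) * tvW (w.map (Fin.ofNat 8))
      by simp [tvW], map_mul, cmY_tv, cmY_tvW w fun k hk => h k (List.mem_cons_of_mem _ hk),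
      show ((Fin.ofNat 8 l : Fin 8) : ℕ) = l from Nat.mod_eq_of_lt (h l List.mem_cons_self)]
    simp [ev]

theorem ev_rev : ∀ w : List ℕ, (∀ l ∈ w, l < 16) → ev xm w.reverse = (ev xm w)⁻¹
  | [], _ => by simp [ev]
  | l :: w, h => by
    rw [List.reverse_cons, ev_append, ev_rev w fun k hk => h k (List.mem_cons_of_mem _ hk),
      show ev xm (l :: w) = xm l * ev xm w by simp [ev], mul_inv_rev,
      inv_eq_of_mul_eq_one_right (xm_sq (h l List.mem_cons_self))]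
    simp [ev]

theorem pBits_lt (m : ℕ) : ∀ l ∈ pBits m, l < 16 := by
  intro l hl
  simp only [pBits, List.mem_map, List.mem_filter, List.mem_range] at hl
  obtain ⟨a, ⟨ha, -⟩, rfl⟩ := hl
  omega

theorem qWord_lt (i : ℕ) : ∀ l ∈ qWord i, l < 16 := by
  intro l hl
  rw [qWord, List.mem_append] at hl
  rcases hl with hl | hl
  · exact pBits_lt _ l hl
  · split_ifs at hl
    · simp at hl
    · exact tWord_lt l hl

variable {G : Type*} [Group G] [Finite G] {V : Type*} [AddCommGroup V] {N : Nine G V} {A : Act Sp2 V}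

theorem fW_act (Sp : SpinChart N.S A) : ∀ (w : List ℕ) {m : ℕ}, m < 256 →
    fW w m < 256 ∧ A.σ (tvW (w.map (Fin.ofNat 8))) (Sp.c m) = Sp.c (fW w m)
  | [], m, hm => by simp [fW, tvW, hm]
  | k :: w, m, hm => by
    obtain ⟨h1, h2⟩ := fW_act Sp w hm
    refine ⟨Nat.blt_eq.mp (List.all_eq_true.1 (fT_lt _) _ (List.mem_range.2 h1)), ?_⟩
    rw [List.map_cons, show tvW (Fin.ofNat 8 k :: w.map (Fin.ofNat 8)) =
      tv (Fin.ofNat 8 k) * tvW (w.map (Fin.ofNat 8)) by simp [tvW], map_mul, Equiv.Perm.mul_apply, h2,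
      Sp.act _ _ h1]
    rfl

variable {g : G} (O : Out N g)
include O

/-- The conjugate is a conjugate of a lift commuting with the fixed vectors, or of its product. -/
theorem norm_lift (hp : PerpImage N.S (N.ρ O.inv')) (hlf : ∀ v, N.ρ O.inv' v = v → lf N g v = 0)
    {y : centralizer ({N.z} : Set G)} (hy : N.ρ y = N.ρ O.inv')
    (hc : ∀ q : ↥N.Q, N.ρ O.inv' (N.π q) = N.π q → (y : G) * q = q * y) :
    ∃ u : ↥N.Q, g * N.z * g⁻¹ = u * y * (u : G)⁻¹ ∨ g * N.z * g⁻¹ = u * y * (u : G)⁻¹ * N.z := by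
  set x := g * N.z * g⁻¹ with hx
  have hq0 : (y : G)⁻¹ * x ∈ N.Q := (N.ρ_eq_iff y O.inv').1 hy
  set q0 : ↥N.Q := ⟨_, hq0⟩ with hq0d
  obtain ⟨v, hv⟩ := hp (N.π q0) fun w hw => by
    obtain ⟨q, rfl⟩ := N.surj w
    refine (N.B_eq_zero_iff q0 q).2 ?_
    have h1 := mem_centralizer_singleton_iff.1 ((O.mem_sG_iff q).2 ⟨hw, hlf _ hw⟩).2
    have h2 := hc q hw
    show (y : G)⁻¹ * x * q = q * ((y : G)⁻¹ * x)
    calc (y : G)⁻¹ * x * q = (y : G)⁻¹ * ((q : G) * x) := by rw [mul_assoc, ← h1]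
      _ = (y : G)⁻¹ * ((q : G) * y) * ((y : G)⁻¹ * x) := by group
      _ = _ := by rw [← h2, inv_mul_cancel_left]
  obtain ⟨u, rfl⟩ := N.surj v
  let c : ↥N.Q := u * ⟨(y : G) * ((u⁻¹ : ↥N.Q) : G) * (y : G)⁻¹, N.conj_mem y.2 u⁻¹⟩
  let r : ↥N.Q := ⟨(y : G) * q0 * (y : G)⁻¹, N.conj_mem y.2 q0⟩
  have hcy : (u : G) * y * (u : G)⁻¹ = c * y := by
    show _ = (u : G) * ((y : G) * (u : G)⁻¹ * (y : G)⁻¹) * y
    group
  have hry : x = r * y := by
    show x = (y : G) * ((y : G)⁻¹ * x) * (y : G)⁻¹ * y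
    group
  have hπ : N.π c = N.π r := by
    have e1 : ∀ q : ↥N.Q, N.π ⟨(y : G) * q * (y : G)⁻¹, N.conj_mem y.2 q⟩ = N.ρ O.inv' (N.π q) := fun q =>
      (N.ρ_π y q).symm.trans (by rw [hy])
    show N.π (u * ⟨(y : G) * ((u⁻¹ : ↥N.Q) : G) * (y : G)⁻¹, N.conj_mem y.2 u⁻¹⟩) =
      N.π ⟨(y : G) * q0 * (y : G)⁻¹, N.conj_mem y.2 q0⟩
    rw [N.π_mul, e1, e1, N.π_inv, ← hv, O.fix_comm, add_comm]
  refine ⟨u, (N.π_eq hπ).imp (fun e => ?_) fun e => ?_⟩
  · rw [hry, hcy, e]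
  · have hzy := mem_centralizer_singleton_iff.1 y.2
    rw [hry, hcy, e, mul_assoc, ← hzy, ← mul_assoc]

end CfsgLib.CoTwoRec
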