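import Cfsg.Agent.Lib.CoTwoRec.Basic
import Cfsg.Agent.Lib.CoTwoRec.RankThreeData

/-!
# Co2 has rank three on the cosets of a maximal subgroup of index 2300
-/

set_option autoImplicit false
set_option maxRecDepth 100000

namespace CfsgLib.CoTwoRec

open Cfsg CfsgLib.Rigid MulAction

/-- Suborbits of lengths 891 and 1408 in an action on 2300 cosets make the subgroup maximal. -/
theorem isCoatom_of_suborbits {G : Type*} [Group G] [Finite G] {H : Subgroup G} (hi : H.index = 2300)
    {q₁ q₂ : G ⧸ H} (h1 : (orbit H q₁).ncard = 891) (h2 : (orbit H q₂).ncard = 1408) : IsCoatom H := by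
  classical
  refine ⟨fun h => by simp [h] at hi, fun K hK => ?_⟩
  set e : G ⧸ H := QuotientGroup.mk 1
  have horb : ∀ h : H, h • e = e := fun h => by
    show ((((h : G) * 1 : G)) : G ⧸ H) = ((1 : G) : G ⧸ H)
    rw [QuotientGroup.eq]
    simp
  have he : orbit H e = {e} := Set.eq_singleton_iff_unique_mem.2
    ⟨mem_orbit_self e, fun x ⟨h, hx⟩ => hx ▸ horb h⟩
  have hcov : orbit H e ∪ orbit H q₁ ∪ orbit H q₂ = Set.univ := by
    have d1 : Disjoint (orbit H e) (orbit H q₁) := (orbit.eq_or_disjoint e q₁).resolve_left fun h => by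
      rw [← h, he, Set.ncard_singleton] at h1; omega
    have d2 : Disjoint (orbit H e) (orbit H q₂) := (orbit.eq_or_disjoint e q₂).resolve_left fun h => by
      rw [← h, he, Set.ncard_singleton] at h2; omega
    have d3 : Disjoint (orbit H q₁) (orbit H q₂) := (orbit.eq_or_disjoint q₁ q₂).resolve_left fun h => by
      rw [h] at h1; omega
    refine Set.eq_of_subset_of_ncard_le (Set.subset_univ _) ?_
    rw [Set.ncard_univ, Set.ncard_union_eq (Set.disjoint_union_left.2 ⟨d2, d3⟩),
      Set.ncard_union_eq d1, he, h1, h2, Set.ncard_singleton, ← Subgroup.index, hi]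
  set S : Set (G ⧸ H) := (fun k : G => (k : G ⧸ H)) '' (K : Set G)
  have hSinv : ∀ q ∈ S, orbit H q ⊆ S := by
    rintro _ ⟨k, hk, rfl⟩ _ ⟨h, rfl⟩
    exact ⟨(h : G) * k, K.mul_mem (hK.le h.2) hk, rfl⟩
  have heS : e ∈ S := ⟨1, K.one_mem, rfl⟩
  have hne : ∃ q ∈ S, q ≠ e := by
    obtain ⟨k, hk, hkH⟩ := SetLike.exists_of_lt hK
    refine ⟨(k : G ⧸ H), ⟨k, hk, rfl⟩, fun h => hkH ?_⟩
    have := QuotientGroup.eq.1 h
    simpa using this
  have hcard : S.ncard * K.index = 2300 := by
    rw [← hi, ← Subgroup.relIndex_mul_index hK.le]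
    congr 1
    let f : K ⧸ H.subgroupOf K → G ⧸ H := Quotient.lift (fun k => ((k : G) : G ⧸ H)) fun a b h => by
      have h' := QuotientGroup.leftRel_apply.1 h
      exact QuotientGroup.eq.2 (by simpa [Subgroup.mem_subgroupOf] using h')
    have hf : Function.Injective f := fun a b => Quotient.inductionOn₂ a b fun a b h =>
      QuotientGroup.eq.2 (by simpa [Subgroup.mem_subgroupOf] using QuotientGroup.eq.1 h)
    have hr : Set.range f = S := by
      ext x
      constructor
      · rintro ⟨q, rfl⟩
        induction q using Quotient.inductionOn with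
        | h k => exact ⟨k.1, k.2, rfl⟩
      · rintro ⟨k, hk, rfl⟩
        exact ⟨QuotientGroup.mk ⟨k, hk⟩, rfl⟩
    rw [← hr, Set.ncard_range_of_injective hf, Subgroup.relIndex, Subgroup.index]
  have hdiv : S.ncard ∣ 2300 := ⟨_, hcard.symm⟩
  have hfull : S.ncard = 2300 := by
    obtain ⟨q, hq, hqe⟩ := hne
    have hsub : ∀ r, r ∈ orbit H q₁ → r ∈ S → orbit H q₁ ⊆ S := fun r hr hrS => by
      rw [← orbit_eq_iff.2 hr]; exact hSinv r hrS
    have hsub' : ∀ r, r ∈ orbit H q₂ → r ∈ S → orbit H q₂ ⊆ S := fun r hr hrS => by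
      rw [← orbit_eq_iff.2 hr]; exact hSinv r hrS
    have hu : ∀ x, x = e ∨ x ∈ orbit H q₁ ∨ x ∈ orbit H q₂ := fun x => by
      have := Set.mem_univ x
      rw [← hcov, he] at this
      simpa [or_assoc] using this
    have hn : Nat.card (G ⧸ H) = 2300 := hi
    have hall : (∀ x, x ∈ S) → S.ncard = 2300 := fun h => by
      rw [Set.eq_univ_of_forall h, Set.ncard_univ, hn]
    by_cases h21 : ∃ r ∈ orbit H q₁, r ∈ S
    · by_cases h22 : ∃ r ∈ orbit H q₂, r ∈ S
      · obtain ⟨r, hr, hrS⟩ := h21
        obtain ⟨r', hr', hrS'⟩ := h22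
        exact hall fun x => (hu x).elim (fun h => h ▸ heS)
          (fun h => h.elim (fun h => hsub r hr hrS h) (fun h => hsub' r' hr' hrS' h))
      · exfalso
        obtain ⟨r, hr, hrS⟩ := h21
        have hS : S = insert e (orbit H q₁) := Set.ext fun x => ⟨fun hx => (hu x).imp id fun h =>
          h.resolve_right fun h' => h22 ⟨x, h', hx⟩, fun h => h.elim (fun h => h ▸ heS) (hsub r hr hrS ·)⟩
        have hni : e ∉ orbit H q₁ := fun h => by
          have := orbit_eq_iff.2 h
          rw [← this, he, Set.ncard_singleton] at h1; omega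
        rw [hS, Set.ncard_insert_of_notMem hni, h1] at hdiv
        omega
    · exfalso
      have hq2 : q ∈ orbit H q₂ := ((hu q).resolve_left hqe).resolve_left fun h => h21 ⟨q, h, hq⟩
      have hS : S = insert e (orbit H q₂) := Set.ext fun x => ⟨fun hx => (hu x).imp id fun h =>
        h.resolve_left fun h' => h21 ⟨x, h', hx⟩, fun h => h.elim (fun h => h ▸ heS) (hsub' q hq2 hq ·)⟩
      have hni : e ∉ orbit H q₂ := fun h => by
        have := orbit_eq_iff.2 h
        rw [← this, he, Set.ncard_singleton] at h2; omega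
      rw [hS, Set.ncard_insert_of_notMem hni, h2] at hdiv
      omega
  rw [hfull] at hcard
  exact Subgroup.index_eq_one.1 (by omega)

/-- The stabiliser of the first base point. -/
noncomputable def pairStab : Subgroup CoG := cod.stab [Co2.lev0.b]

/-- The third orbit. -/
def farLev : Level := ⟨farPt, Co2.lev1.gi, farTree, []⟩

theorem far_ok : farLev.ok Co2.data.one Co2.data.known [Co2.lev0.b] = true := by decide +kernel

theorem far_split : (decide (Co2.lev0.pts.length = 2300) && decide (Co2.lev1.pts.length = 891) &&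
    decide (farLev.pts.length = 1408) && Co2.lev0.pts.contains farPt && Co2.lev0.pts.contains Co2.lev1.b &&
    ndTest 24 (Co2.lev0.b :: (Co2.lev1.pts ++ farLev.pts))) = true := by decide +kernel

theorem levels_facts : (∀ M ∈ Co2.data.known, cod.Mem ⊤ M) ∧
    cod.Full [] (Co2.data.levels.map fun L => (L.b, L.pts)) ∧
      cod.ChainOK ⊤ [] (Co2.data.levels.map fun L => (L.b, L.pts)) := by
  have := finite_co0
  obtain ⟨U, hU⟩ := Co2.exists_gen Co2.autU_ok fun k => (Co2.ent_row k).1
  obtain ⟨V, hV⟩ := Co2.exists_gen Co2.autV_ok fun k => (Co2.ent_row k).2.1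
  obtain ⟨W, hW⟩ := Co2.exists_gen Co2.autW_ok fun k => (Co2.ent_row k).2.2
  obtain ⟨cu, cv, cw, -⟩ := Co2.code_ok
  simp only [eqL_iff] at cu cv cw
  have hbase : ∀ M ∈ [Co2.data.u, Co2.data.v, Co2.data.w], cod.Mem ⊤ M := by
    intro M hM
    simp only [List.mem_cons, List.not_mem_nil, or_false] at hM
    rcases hM with rfl | rfl | rfl
    · exact ⟨U, trivial, hU.trans cu⟩
    · exact ⟨V, trivial, hV.trans cv⟩
    · exact ⟨W, trivial, hW.trans cw⟩
  have hknown := cod.slp_sound code_one Co2.data.ops _ hbase Co2.ops_ok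
  have hlev : cod.Levels Co2.data.one Co2.data.known [] Co2.data.levels := by
    refine levels_of_checks Co2.basis Co2.grp Co2.grp_fix _ _ _ Co2.baseCoef [] Co2.base_ok ?_
    intro i hi
    have hi' : i < 6 := hi
    interval_cases i
    exacts [Co2.level0_ok, Co2.level1_ok, Co2.level2_ok, Co2.level3_ok, Co2.level4_ok, Co2.level5_ok]
  have hchain := cod.chain_of_levels code_one hknown _ [] hlev
  exact ⟨hknown, (cod.full_of_card hchain (by rw [Co2.prod_ok, Co2.card_grp])).1, hchain⟩

theorem finite_coG : Finite CoG := by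
  have := finite_co0
  infer_instance

/-- The model has a maximal subgroup of index 2300 with suborbits 891 and 1408. -/
theorem rankThree : ∃ H : Subgroup CoG, IsCoatom H ∧ H.index = 2300 ∧
    ∃ q₁ q₂ : CoG ⧸ H, (orbit H q₁).ncard = 891 ∧ (orbit H q₂).ncard = 1408 := by
  classical
  have := finite_coG
  obtain ⟨hknown, hfull, hchain⟩ := levels_facts
  have hpt0 : cod.Pt Co2.lev0.b := hchain.1
  have horb0 : ∀ g : CoG, img (code g) Co2.lev0.b ∈ Co2.lev0.pts := fun g =>
    hfull.1 g (by rw [cod.stab_nil]; trivial)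
  have hreach0 : ∀ p ∈ Co2.lev0.pts, cod.Reach ⊤ [] Co2.lev0.b p := hchain.2.1
  have horb1 : ∀ g ∈ pairStab, img (code g) Co2.lev1.b ∈ Co2.lev1.pts := hfull.2.1
  have hreach1 : ∀ p ∈ Co2.lev1.pts, cod.Reach ⊤ [Co2.lev0.b] Co2.lev1.b p := hchain.2.2.2.2.1
  obtain ⟨hreach2, -, -⟩ := cod.level_sound code_one hknown far_ok
  have hs := far_split
  simp only [Bool.and_eq_true, decide_eq_true_eq, List.contains_iff_mem] at hs
  obtain ⟨⟨⟨⟨⟨hl0, hl1⟩, hl2⟩, hm2⟩, hm1⟩, hnd⟩ := hs
  have hnd := nodup_of_ndTest _ _ hnd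
  obtain ⟨hb01, hnd12⟩ := List.nodup_cons.1 hnd
  obtain ⟨hn1, hn2, h12⟩ := List.nodup_append.1 hnd12
  have hfix : ∀ g ∈ pairStab, img (code g) Co2.lev0.b = Co2.lev0.b := fun g hg =>
    hg _ List.mem_cons_self hpt0
  let f : CoG ⧸ pairStab → ℕ := Quotient.lift (fun g => img (code g) Co2.lev0.b) fun a b h => by
    have h' := QuotientGroup.leftRel_apply.1 h
    show img (code a) _ = img (code b) _
    conv_rhs => rw [show b = a * (a⁻¹ * b) by group]
    rw [show code (a * (a⁻¹ * b)) = mulF (code a) (code (a⁻¹ * b)) from code_mul _ _, img_mulF, hfix _ h']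
  have hf : Function.Injective f := fun a b => Quotient.inductionOn₂ a b fun a b h => QuotientGroup.eq.2 <| by
    show a⁻¹ * b ∈ cod.stab [Co2.lev0.b]
    intro x hx _
    rw [List.mem_singleton] at hx
    subst hx
    rw [cod.img_mul]
    show img (code a⁻¹) (img (code b) _) = _
    rw [← show img (code a) Co2.lev0.b = img (code b) Co2.lev0.b from h]
    exact cod.img_inv_img a hpt0
  have hrange : Set.range f = {p | p ∈ Co2.lev0.pts} := by
    ext p
    constructor
    · rintro ⟨q, rfl⟩
      induction q using Quotient.inductionOn with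
      | h g => exact horb0 g
    · intro hp
      obtain ⟨g, -, -, e⟩ := hreach0 p hp
      exact ⟨QuotientGroup.mk g, e⟩
  have hnc : ∀ l : List ℕ, l.Nodup → {p | p ∈ l}.ncard = l.length := fun l hl => by
    rw [← List.toFinset_card_of_nodup hl, ← Set.ncard_coe_finset]
    congr 1
    ext p
    simp
  have hidx : pairStab.index = 2300 := by
    rw [Subgroup.index, ← Set.ncard_range_of_injective hf, hrange, hnc _ hchain.2.2.1, hl0]
  have hact : ∀ (h : pairStab) (q : CoG ⧸ pairStab), f (h • q) = img (code (h : CoG)) (f q) := fun h q => by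
    induction q using Quotient.inductionOn with
    | h g =>
      show img (code ((h : CoG) * g)) _ = _
      rw [code_mul, img_mulF]
      rfl
  obtain ⟨g1, -, -, e1⟩ := hreach0 _ hm1
  obtain ⟨g2, -, -, e2⟩ := hreach0 _ hm2
  have horbit : ∀ g : CoG, f '' orbit pairStab (g : CoG ⧸ pairStab) =
      Set.range fun h : pairStab => img (code (h : CoG)) (img (code g) Co2.lev0.b) := fun g => by
    rw [orbit, ← Set.range_comp]
    exact congrArg Set.range (funext fun h => show f (h • (g : CoG ⧸ pairStab)) = _ from hact h _)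
  have c1 : (orbit pairStab (g1 : CoG ⧸ pairStab)).ncard = 891 := by
    rw [← Set.ncard_image_of_injective _ hf, horbit,
      show img (code g1) Co2.lev0.b = Co2.lev1.b from e1, ← hl1, ← hnc _ hn1]
    congr 1
    ext p
    constructor
    · rintro ⟨h, rfl⟩
      exact horb1 _ h.2
    · intro hp
      obtain ⟨g, -, hg, e⟩ := hreach1 p hp
      exact ⟨⟨g, hg⟩, e⟩
  have c2 : (orbit pairStab (g2 : CoG ⧸ pairStab)).ncard = 1408 := by
    rw [← Set.ncard_image_of_injective _ hf, horbit, show img (code g2) Co2.lev0.b = farPt from e2]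
    set R := Set.range fun h : pairStab => img (code (h : CoG)) farPt
    have hsub : {p | p ∈ farLev.pts} ⊆ R := fun p hp => by
      obtain ⟨g, -, hg, e⟩ := hreach2 p hp
      exact ⟨⟨g, hg⟩, e⟩
    have hptf : cod.Pt farPt := e2 ▸ cod.img_pt g2 _ hpt0
    have hup : R ⊆ {p | p ∈ Co2.lev0.pts} \ insert Co2.lev0.b {p | p ∈ Co2.lev1.pts} := by
      rintro _ ⟨h, rfl⟩
      refine ⟨?_, ?_⟩
      · show img (code (h : CoG)) farPt ∈ _
        rw [← show img (code g2) Co2.lev0.b = farPt from e2, ← img_mulF, ← code_mul]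
        exact horb0 _
      · intro hh
        have hback : ∀ q, img (code (h : CoG)) farPt = q →
            farPt = img (code ((h : CoG))⁻¹) q := fun q hq => by
          rw [← hq]; exact (cod.img_inv_img _ hptf).symm
        have hmem : farPt ∈ farLev.pts := by
          unfold farLev Level.pts
          split <;> simp [ptsP]
        rcases hh with hh | hh
        · refine hb01 (List.mem_append_right _ ?_)
          have := hback _ hh
          rw [hfix _ (pairStab.inv_mem h.2)] at this
          rwa [← this]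
        · obtain ⟨g, -, hg, e⟩ := hreach1 _ hh
          have hf1 : farPt ∈ Co2.lev1.pts := by
            rw [hback _ rfl, show img (code (h : CoG)) farPt = img (code g) Co2.lev1.b from e.symm]
            show img (code (h : CoG)⁻¹) (img (code g) Co2.lev1.b) ∈ _
            rw [← img_mulF, ← code_mul]
            exact horb1 _ (pairStab.mul_mem (pairStab.inv_mem h.2) hg)
          exact h12 _ hf1 _ hmem rfl
    have hfin : {p | p ∈ Co2.lev0.pts}.Finite := List.finite_toSet _
    have hle1 : (insert Co2.lev0.b {p | p ∈ Co2.lev1.pts}) ⊆ {p | p ∈ Co2.lev0.pts} := by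
      rintro p (rfl | hp)
      · have := horb0 1
        rwa [show code 1 = cod.C 1 from rfl, cod.one_img _ hpt0] at this
      · obtain ⟨g, -, -, e⟩ := hreach1 p hp
        show p ∈ Co2.lev0.pts
        rw [← e, ← show img (code g1) Co2.lev0.b = Co2.lev1.b from e1]
        show img (code g) (img (code g1) _) ∈ _
        rw [← img_mulF, ← code_mul]
        exact horb0 _
    have hd := Set.ncard_le_ncard hup hfin.sdiff
    rw [Set.ncard_sdiff hle1 (hfin.subset hle1),
      Set.ncard_insert_of_notMem (s := {p | p ∈ Co2.lev1.pts}) (fun h => hb01 (List.mem_append_left _ h))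
        (List.finite_toSet _),
      hnc _ hchain.2.2.1, hnc _ hn1, hl0, hl1] at hd
    have hge := Set.ncard_le_ncard hsub (Set.toFinite R)
    rw [hnc _ hn2, hl2] at hge
    omega
  exact ⟨pairStab, isCoatom_of_suborbits hidx c1 c2, hidx, _, _, c1, c2⟩

/-- The same in a group isomorphic to the model. -/
theorem rankThree_of_equiv {G : Type*} [Group G] (e : G ≃* CoG) : ∃ H : Subgroup G, IsCoatom H ∧
    H.index = 2300 ∧ ∃ q₁ q₂ : G ⧸ H, (orbit H q₁).ncard = 891 ∧ (orbit H q₂).ncard = 1408 := by
  have := finite_coG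
  have : Finite G := Finite.of_equiv _ e.symm.toEquiv
  obtain ⟨H, -, hi, q₁, q₂, c1, c2⟩ := rankThree
  set H' : Subgroup G := H.comap e.toMonoidHom with hH'
  have hi' : H'.index = 2300 := by rw [hH', H.index_comap_of_surjective e.surjective, hi]
  let f : G ⧸ H' → CoG ⧸ H := Quotient.lift (fun g => (e g : CoG ⧸ H)) fun a b h =>
    QuotientGroup.eq.2 (by simpa [hH', map_mul] using (QuotientGroup.leftRel_apply.1 h))
  have hf : Function.Injective f := fun a b => Quotient.inductionOn₂ a b fun a b h =>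
    QuotientGroup.eq.2 (by simpa [hH', map_mul] using QuotientGroup.eq.1 h)
  have hact : ∀ (h : H') (q : G ⧸ H'), f (h • q) = (⟨e h, h.2⟩ : H) • f q := fun h q => by
    induction q using Quotient.inductionOn with
    | h g => exact congrArg _ (map_mul e (h : G) g)
  have key : ∀ x : CoG ⧸ H, ∃ q : G ⧸ H', (orbit H' q).ncard = (orbit H x).ncard := by
    intro x
    induction x using Quotient.inductionOn with
    | h g =>
      refine ⟨(e.symm g : G ⧸ H'), ?_⟩
      rw [← Set.ncard_image_of_injective _ hf]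
      congr 1
      rw [orbit, orbit, ← Set.range_comp]
      ext y
      constructor
      · rintro ⟨h, rfl⟩
        refine ⟨⟨e h, h.2⟩, ?_⟩
        rw [Function.comp_apply, hact]
        exact congrArg _ (congrArg _ (e.apply_symm_apply g).symm)
      · rintro ⟨h, rfl⟩
        refine ⟨⟨e.symm h, by simp [hH']⟩, ?_⟩
        rw [Function.comp_apply, hact]
        exact congrArg₂ (fun (a : H) (b : CoG ⧸ H) => a • b) (Subtype.ext (e.apply_symm_apply h.1))
          (congrArg _ (e.apply_symm_apply g))
  obtain ⟨p₁, d1⟩ := key q₁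
  obtain ⟨p₂, d2⟩ := key q₂
  exact ⟨H', isCoatom_of_suborbits hi' (d1.trans c1) (d2.trans c2), hi', p₁, p₂, d1.trans c1, d2.trans c2⟩

end CfsgLib.CoTwoRec
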