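import Mathlib

/-!
# Schreier levels for centralisers, with checks on words

A level has generators, the word of a base element, representatives and the products of generators with
representatives. An element of the group of the generators commuting with the base element then lies in the group
of the next generators.
-/

set_option autoImplicit false
set_option linter.unusedSectionVars false

namespace CfsgLib.CoTwoRec

/-- The value of a word. -/
def wp {C : Type*} [Monoid C] (f : ℕ → C) (w : List ℕ) : C := (w.map f).prod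

theorem wp_append {C : Type*} [Monoid C] (f : ℕ → C) (u w : List ℕ) : wp f (u ++ w) = wp f u * wp f w := by
  simp [wp]

theorem wp_nil {C : Type*} [Monoid C] (f : ℕ → C) : wp f [] = 1 := rfl

/-- A test for equal values decides it. -/
def Decides {C : Type*} [Monoid C] (f : ℕ → C) (eqb : List ℕ → List ℕ → Bool) : Prop :=
  ∀ u v, eqb u v = true ↔ wp f u = wp f v

theorem Decides.eq {C : Type*} [Monoid C] {f : ℕ → C} {eqb : List ℕ → List ℕ → Bool} (D : Decides f eqb)
    {u v : List ℕ} (h : eqb u v = true) : wp f u = wp f v := (D u v).1 h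

theorem Decides.ne {C : Type*} [Monoid C] {f : ℕ → C} {eqb : List ℕ → List ℕ → Bool} (D : Decides f eqb)
    {u v : List ℕ} (h : eqb u v = false) : wp f u ≠ wp f v := fun e => by
  rw [(D u v).2 e] at h
  exact absurd h (by simp)

/-- The data of a level. -/
structure Lev where
  /-- The generators. -/
  gens : List (List ℕ)
  /-- The base element. -/
  base : List ℕ
  /-- The number of representatives. -/
  nrep : ℕ
  /-- The representatives, the empty word first. -/
  rep : ℕ → List ℕ
  /-- For each representative and generator: the new representative and a word in the next generators. -/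
  move : ℕ → ℕ → ℕ × List ℕ
  /-- The next generators. -/
  next : List (List ℕ)

/-- A word in some generators, written out. -/
def expand (G : List (List ℕ)) (h : List ℕ) : List ℕ := (h.map fun i => G.getD i []).flatten

/-- An entry of a table given in blocks. -/
def blk {α : Type*} (B : ℕ) (T : List (List α)) (d : α) (i : ℕ) : α := (T.getD (i / B) []).getD (i % B) d

/-- One product of a generator with a representative. -/
def Lev.moveB (eqb : List ℕ → List ℕ → Bool) (L : Lev) (i k : ℕ) : Bool :=
  let e := L.move i k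
  Nat.blt e.1 L.nrep && e.2.all (fun a => Nat.blt a L.next.length) &&
    eqb (L.gens.getD k [] ++ L.rep i) (L.rep e.1 ++ expand L.next e.2)

/-- The representatives are apart and the next generators commute with the base element. -/
def Lev.sideB (eqb : List ℕ → List ℕ → Bool) (L : Lev) : Bool :=
  Nat.blt 0 L.nrep && decide (L.rep 0 = []) &&
    (L.next.all fun g => eqb (g ++ L.base) (L.base ++ g)) &&
    ((List.range L.nrep).all fun i =>
      Nat.beq i 0 || !eqb (L.rep i ++ L.base) (L.base ++ L.rep i))

/-- The products in a range of representatives. -/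
def Lev.partB (eqb : List ℕ → List ℕ → Bool) (L : Lev) (a b : ℕ) : Bool :=
  (List.range' a b).all fun i => (List.range L.gens.length).all fun k => L.moveB eqb i k

/-- The group of some generators. -/
def genGrp {C : Type*} [Group C] (f : ℕ → C) (G : List (List ℕ)) : Subgroup C :=
  Subgroup.closure {c | ∃ g ∈ G, c = wp f g}

theorem wp_expand_mem {C : Type*} [Group C] {f : ℕ → C} {G : List (List ℕ)} :
    ∀ {h : List ℕ}, (∀ a ∈ h, a < G.length) → wp f (expand G h) ∈ genGrp f G
  | [], _ => by simp [expand, wp]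
  | a :: h, hh => by
    have e : expand G (a :: h) = G.getD a [] ++ expand G h := rfl
    rw [e, wp_append]
    refine mul_mem (Subgroup.subset_closure ⟨_, ?_, rfl⟩) (wp_expand_mem fun b hb => hh b (List.mem_cons_of_mem _ hb))
    rw [List.getD_eq_getElem _ _ (hh a List.mem_cons_self)]
    exact List.getElem_mem _

theorem genGrp_commute {C : Type*} [Group C] {f : ℕ → C} {G : List (List ℕ)} {b : C}
    (h : ∀ g ∈ G, Commute (wp f g) b) {c : C} (hc : c ∈ genGrp f G) : Commute c b := by
  refine Subgroup.mem_centralizer_singleton_iff.1 ((Subgroup.closure_le _).2 ?_ hc)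
  rintro _ ⟨g, hg, rfl⟩
  exact Subgroup.mem_centralizer_singleton_iff.2 (h g hg)

variable {C : Type*} [Group C] [Finite C] {f : ℕ → C} {eqb : List ℕ → List ℕ → Bool} {L : Lev}

/-- What the checks of a level give. -/
structure Lev.Good (f : ℕ → C) (L : Lev) : Prop where
  pos : 0 < L.nrep
  first : L.rep 0 = []
  comm : ∀ g ∈ L.next, Commute (wp f g) (wp f L.base)
  apart : ∀ i < L.nrep, i ≠ 0 → ¬ Commute (wp f (L.rep i)) (wp f L.base)
  move : ∀ i < L.nrep, ∀ g ∈ L.gens, ∃ j < L.nrep, ∃ h ∈ genGrp f L.next,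
    wp f g * wp f (L.rep i) = wp f (L.rep j) * h

theorem Lev.good_of_checks (D : Decides f eqb) (hs : L.sideB eqb = true)
    (hp : ∀ i < L.nrep, ∃ a b, L.partB eqb a b = true ∧ a ≤ i ∧ i < a + b) : L.Good f := by
  simp only [Lev.sideB, Bool.and_eq_true, Nat.blt_eq, decide_eq_true_eq, List.all_eq_true, List.mem_range,
    Bool.or_eq_true, Nat.beq_eq, Bool.not_eq_true'] at hs
  obtain ⟨⟨⟨h1, h2⟩, h3⟩, h4⟩ := hs
  refine ⟨h1, h2, fun g hg => ?_, fun i hi hi0 hc => ?_, fun i hi g hg => ?_⟩
  · show _ * _ = _ * _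
    rw [← wp_append, ← wp_append]; exact D.eq (h3 g hg)
  · refine D.ne ((h4 i hi).resolve_left hi0) ?_
    rw [wp_append, wp_append]; exact hc.eq
  · obtain ⟨a, b, hab, ha, hb⟩ := hp i hi
    obtain ⟨k, hk, rfl⟩ := List.getElem_of_mem hg
    simp only [Lev.partB, List.all_eq_true, List.mem_range'_1, List.mem_range] at hab
    have h := hab i ⟨ha, hb⟩ k hk
    simp only [Lev.moveB, Bool.and_eq_true, Nat.blt_eq, List.all_eq_true] at h
    obtain ⟨⟨hj, hh⟩, he⟩ := h
    refine ⟨_, hj, _, wp_expand_mem hh, ?_⟩
    rw [← wp_append, ← wp_append, ← List.getD_eq_getElem _ [] hk]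
    exact D.eq he

theorem Lev.Good.decomp (H : L.Good f) {c : C} (hc : c ∈ genGrp f L.gens) :
    ∃ i < L.nrep, ∃ h ∈ genGrp f L.next, c = wp f (L.rep i) * h := by
  have h0 : wp f (L.rep 0) = 1 := by rw [H.first, wp_nil]
  let S : Set C := {c | ∃ i < L.nrep, ∃ h ∈ genGrp f L.next, c = wp f (L.rep i) * h}
  suffices key : ∀ s ∈ S, c * s ∈ S by
    have h := key 1 ⟨0, H.pos, 1, one_mem _, by rw [h0, one_mul]⟩
    rwa [mul_one] at h
  rw [genGrp] at hc
  induction hc using Subgroup.closure_induction with
  | mem y hy =>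
    obtain ⟨g, hg, rfl⟩ := hy
    rintro s ⟨i, hi, h, hh, rfl⟩
    obtain ⟨j, hj, h', hh', e⟩ := H.move i hi g hg
    exact ⟨j, hj, h' * h, mul_mem hh' hh, by rw [← mul_assoc, e, mul_assoc]⟩
  | one => intro s hs; simpa using hs
  | mul a b _ _ ha hb => intro s hs; rw [mul_assoc]; exact ha _ (hb s hs)
  | inv a _ ha =>
    intro s hs
    have hk : ∀ k : ℕ, a ^ k * s ∈ S := fun k => by
      induction k with
      | zero => simpa using hs
      | succ k ih => rw [pow_succ', mul_assoc]; exact ha _ ih
    have e : a⁻¹ = a ^ (Nat.card C - 1) := by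
      refine inv_eq_of_mul_eq_one_right ?_
      rw [← pow_succ', Nat.sub_add_cancel Nat.card_pos, pow_card_eq_one']
    rw [e]; exact hk _

/-- The centraliser of the base element is generated by the next generators. -/
theorem Lev.Good.cent (H : L.Good f) {c : C} (hc : c ∈ genGrp f L.gens) (hb : Commute c (wp f L.base)) :
    c ∈ genGrp f L.next := by
  obtain ⟨i, hi, h, hh, rfl⟩ := H.decomp hc
  by_cases hi0 : i = 0
  · subst hi0
    rw [H.first, wp_nil, one_mul]
    exact hh
  · refine absurd ?_ (H.apart i hi hi0)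
    have := hb.mul_left (genGrp_commute H.comm hh).inv_left
    rwa [mul_inv_cancel_right] at this

/-- The elements of a list are permuted by the generators. -/
def orbitB (eqb : List ℕ → List ℕ → Bool) (G : List (List ℕ)) (N : ℕ) (Y : ℕ → List ℕ) (mv : ℕ → ℕ → ℕ)
    (a b : ℕ) : Bool :=
  (List.range' a b).all fun i => (List.range G.length).all fun k =>
    let j := mv i k
    Nat.blt j N && eqb (G.getD k [] ++ Y i) (Y j ++ G.getD k [])

theorem orbit_mem {G : List (List ℕ)} {N : ℕ} {Y : ℕ → List ℕ} {mv : ℕ → ℕ → ℕ} (D : Decides f eqb)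
    (hp : ∀ i < N, ∃ a b, orbitB eqb G N Y mv a b = true ∧ a ≤ i ∧ i < a + b) {c : C}
    (hc : c ∈ genGrp f G) {i : ℕ} (hi : i < N) :
    ∃ j < N, c * wp f (Y i) * c⁻¹ = wp f (Y j) := by
  have step : ∀ g ∈ G, ∀ i < N, ∃ j < N, wp f g * wp f (Y i) * (wp f g)⁻¹ = wp f (Y j) := by
    intro g hg i hi
    obtain ⟨a, b, hab, ha, hb⟩ := hp i hi
    obtain ⟨k, hk, rfl⟩ := List.getElem_of_mem hg
    simp only [orbitB, List.all_eq_true, List.mem_range'_1, List.mem_range, Bool.and_eq_true, Nat.blt_eq] at hab
    obtain ⟨hj, he⟩ := hab i ⟨ha, hb⟩ k hk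
    refine ⟨_, hj, mul_inv_eq_iff_eq_mul.2 ?_⟩
    rw [← wp_append, ← wp_append, ← List.getD_eq_getElem _ [] hk]
    exact D.eq he
  rw [genGrp] at hc
  induction hc using Subgroup.closure_induction generalizing i with
  | mem y hy =>
    obtain ⟨g, hg, rfl⟩ := hy
    exact step g hg i hi
  | one => exact ⟨i, hi, by simp⟩
  | mul a b _ _ ha hb =>
    obtain ⟨j, hj, e⟩ := hb hi
    obtain ⟨k, hk, e'⟩ := ha hj
    exact ⟨k, hk, by rw [← e', ← e]; group⟩
  | inv a _ ha =>
    have hk : ∀ n : ℕ, ∃ j < N, a ^ n * wp f (Y i) * (a ^ n)⁻¹ = wp f (Y j) := fun n => by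
      induction n with
      | zero => exact ⟨i, hi, by simp⟩
      | succ n ih =>
        obtain ⟨j, hj, e⟩ := ih
        obtain ⟨k, hk, e'⟩ := ha hj
        exact ⟨k, hk, by rw [← e', ← e, pow_succ']; group⟩
    have e : a⁻¹ = a ^ (Nat.card C - 1) := by
      refine inv_eq_of_mul_eq_one_right ?_
      rw [← pow_succ', Nat.sub_add_cancel Nat.card_pos, pow_card_eq_one']
    rw [e]; exact hk _

end CfsgLib.CoTwoRec
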