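import Mathlib.Data.Nat.Notation

/-!
# The triangle and its variants (generated)
-/

set_option autoImplicit false
set_option maxRecDepth 100000

namespace CfsgLib.CoTwoRec

/-- The routes through the triangle. -/
def routeTab : List (ℕ × List ℕ × List ℕ × List ℕ) := [
  (22, [22], [21, 20, 16, 19, 17, 20, 19, 16, 22], [23]),
  (23, [23], [22], [21, 20, 16, 19, 17, 20, 19, 16, 22]),
  (333, [20, 16, 18, 19, 20, 18, 16], [18, 19, 21, 18, 16, 19, 16, 18, 21, 19, 18], [17, 19, 18, 21, 18, 16, 18, 21, 18, 19, 17]),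
  (320, [18, 19, 21, 18, 16, 19, 16, 18, 21, 19, 18], [17, 19, 18, 21, 18, 16, 18, 21, 18, 19, 17], [19, 17, 20, 16, 19, 20, 17, 16, 19]),
  (200, [20, 16, 19, 17, 20, 19, 16, 22], [20, 21, 19, 20, 18, 21, 20, 19, 22], [20, 21, 16, 18, 17, 21, 20, 17, 16, 22]),
  (50, [20, 19, 17, 16, 19, 20, 16, 18, 21, 18, 19, 16], [20, 21, 20, 19, 18, 19, 16, 18, 21, 17, 20, 16, 22, 23], [20, 19, 17, 16, 19, 20, 16, 18, 21, 18, 19, 16])]

/-- Four involutions generating the centre of the stabiliser of the triangle. -/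
def zTab : List ℕ := [22, 23, 29, 47]

/-- The refutations of the wrong variants. -/
def killTab : List (ℕ × ℕ × List (List ℕ)) := [
  (1, 0, [[], [], [17, 20, 18, 19, 20, 18, 17, 22]]),
  (2, 0, [[], [], [17, 20, 18, 19, 20, 18, 17, 23]]),
  (3, 0, [[], [], [17, 20, 18, 19, 20, 18, 17, 22, 23]]),
  (4, 0, [[], [], [21, 20, 17, 19, 17, 16, 19, 17, 20, 19, 16, 22]]),
  (5, 0, [[], [], [21, 20, 17, 19, 17, 16, 19, 17, 20, 19, 16]]),
  (6, 0, [[], [], [21, 20, 17, 19, 17, 16, 19, 17, 20, 19, 16, 22, 23]]),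
  (7, 2, [[], [21, 18, 16, 18, 17, 21, 18, 17, 19, 16], [18, 19, 16], [18, 19, 18, 21, 16, 18, 17, 21, 17, 16, 22], [16, 19, 18], [20, 18, 17, 21, 16, 19, 16, 18, 21, 19, 20, 22, 23], [21, 17, 16, 19, 18, 16, 18, 19, 17, 21, 16, 22]]),
  (8, 2, [[], [21, 17, 19, 21, 17, 19, 18, 16], [18, 19, 16], [18, 21, 19, 18, 16, 18, 17, 19, 17, 16, 19, 22, 23], [16, 19, 18], [19, 17, 19, 18, 16, 18, 21, 19, 18, 21, 17, 23], [21, 19, 18, 16, 19, 17, 19, 21, 17, 16, 23]]),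
  (9, 0, [[], [], [19, 17, 21, 20, 17, 20, 17, 22]]),
  (10, 0, [[], [], [19, 17, 21, 20, 17, 20, 17, 23]]),
  (11, 0, [[], [], [19, 17, 21, 20, 17, 20, 17, 22, 23]]),
  (12, 0, [[], [], [20, 16, 19, 17, 16, 19, 20, 16, 22, 23]]),
  (13, 0, [[], [], [20, 16, 19, 17, 16, 19, 20, 16, 23]]),
  (14, 0, [[], [], [20, 16, 19, 17, 16, 19, 20, 16, 22]]),
  (15, 2, [[], [17, 20, 19, 20, 17, 16, 19, 18], [18, 16, 19, 18], [18, 19, 21, 16, 19, 16, 18, 19, 21, 22, 23], [18], [19, 21, 18, 17, 16, 19, 21, 17, 19, 22], [21, 19, 18, 21, 16, 19, 18, 21]])]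

end CfsgLib.CoTwoRec
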