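import Mathlib.Data.Nat.Notation

/-!
# The letters as words in the generators of the top level (generated)
-/

set_option autoImplicit false

namespace CfsgLib.CoTwoRec

/-- The letters as words in the first nine. -/
def letWord : List (List ℕ) := [
  [0],
  [1],
  [2],
  [3],
  [4],
  [5],
  [6],
  [7],
  [8],
  [3, 0, 6, 3, 8, 2, 8, 6, 5, 8, 2, 8, 6, 5, 8, 2, 8, 3, 0, 6, 3, 5],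
  [8, 2, 8, 5, 2, 7, 8, 2, 8, 2, 7, 5, 8, 2, 8, 5, 6, 8, 2, 8, 3, 0, 6, 3, 6, 4, 1, 6, 4, 3, 0, 6, 3, 8, 2, 8, 2, 7, 5, 2, 7, 5, 5, 6, 7, 2, 5, 7, 2, 8, 2, 8, 3, 6, 0, 3, 4, 6, 1, 4, 6, 8, 2, 8, 3, 6, 0, 3],
  [4, 1, 6, 4, 6, 4, 1, 6, 4, 3, 0, 6, 3, 6, 3, 0, 6, 3, 6, 6, 8, 2, 8, 4, 1, 6, 4, 2, 7, 4, 1, 6, 4, 3, 0, 6, 3, 6, 3, 0, 6, 3, 8, 2, 8, 5, 8, 2, 8, 5, 4, 6, 1, 4, 8, 2, 8, 5, 6, 8, 2, 8, 7, 2, 4, 6, 1, 4],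
  [2, 8, 2, 8],
  [2, 7, 8, 2, 8, 2, 7, 6, 8, 2, 8, 6, 6, 8, 2, 8, 3, 0, 6, 3, 6, 4, 1, 6, 4, 3, 0, 6, 3, 8, 2, 8, 2, 7, 5, 2, 7, 5, 5, 6, 7, 2, 5, 7, 2, 8, 2, 8, 3, 6, 0, 3, 4, 6, 1, 4, 6, 8, 2, 8, 3, 6, 0, 3],
  [8, 2, 8, 2, 7, 8, 2, 8, 2, 7],
  [3, 0, 6, 3, 8, 2, 8, 3, 0, 6, 3, 8, 2, 8]]

end CfsgLib.CoTwoRec
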