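import Cfsg.Agent.Lib.CoTwoRec.RelChain

/-!
# The levels (generated)
-/

set_option autoImplicit false
set_option maxRecDepth 100000

namespace CfsgLib.CoTwoRec

/-- Part of a table. -/
def lev0Rep0 : List (List ℕ) := [
  [], [2], [3], [4],
  [8], [3, 2], [4, 2], [5, 2],
  [0, 3], [4, 3], [8, 3], [1, 4],
  [7, 4], [8, 4], [0, 3, 2], [4, 3, 2],
  [5, 3, 2], [1, 4, 2], [5, 4, 2], [7, 4, 2],
  [4, 0, 3], [1, 4, 3], [6, 4, 3], [7, 4, 3],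
  [8, 4, 3], [0, 8, 3], [7, 1, 4], [5, 7, 4],
  [1, 8, 4], [7, 8, 4], [4, 0, 3, 2], [5, 0, 3, 2]]

/-- Part of a table. -/
def lev0Rep1 : List (List ℕ) := [
  [1, 4, 3, 2], [5, 4, 3, 2], [6, 4, 3, 2], [7, 4, 3, 2],
  [5, 1, 4, 2], [7, 1, 4, 2], [7, 5, 4, 2], [5, 7, 4, 2],
  [1, 4, 0, 3], [6, 4, 0, 3], [7, 4, 0, 3], [6, 1, 4, 3],
  [7, 1, 4, 3], [7, 6, 4, 3], [8, 6, 4, 3], [5, 7, 4, 3],
  [0, 8, 4, 3], [1, 8, 4, 3], [7, 8, 4, 3], [4, 7, 1, 4],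
  [5, 7, 1, 4], [8, 7, 1, 4], [2, 5, 7, 4], [5, 7, 8, 4],
  [1, 4, 0, 3, 2], [5, 4, 0, 3, 2], [6, 4, 0, 3, 2], [7, 4, 0, 3, 2],
  [5, 1, 4, 3, 2], [6, 1, 4, 3, 2], [7, 1, 4, 3, 2], [6, 5, 4, 3, 2]]

/-- Part of a table. -/
def lev0Rep2 : List (List ℕ) := [
  [7, 5, 4, 3, 2], [7, 6, 4, 3, 2], [5, 7, 4, 3, 2], [7, 5, 1, 4, 2],
  [4, 7, 1, 4, 2], [5, 7, 1, 4, 2], [5, 7, 5, 4, 2], [2, 5, 7, 4, 2],
  [6, 1, 4, 0, 3], [7, 1, 4, 0, 3], [3, 6, 4, 0, 3], [7, 6, 4, 0, 3],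
  [8, 6, 4, 0, 3], [5, 7, 4, 0, 3], [7, 6, 1, 4, 3], [8, 6, 1, 4, 3],
  [4, 7, 1, 4, 3], [5, 7, 1, 4, 3], [8, 7, 1, 4, 3], [4, 7, 6, 4, 3],
  [5, 7, 6, 4, 3], [8, 7, 6, 4, 3], [7, 8, 6, 4, 3], [2, 5, 7, 4, 3],
  [1, 0, 8, 4, 3], [7, 0, 8, 4, 3], [5, 7, 8, 4, 3], [5, 4, 7, 1, 4],
  [8, 4, 7, 1, 4], [2, 5, 7, 1, 4], [8, 5, 7, 1, 4], [2, 5, 7, 8, 4]]

/-- Part of a table. -/
def lev0Rep3 : List (List ℕ) := [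
  [5, 1, 4, 0, 3, 2], [6, 1, 4, 0, 3, 2], [7, 1, 4, 0, 3, 2], [6, 5, 4, 0, 3, 2],
  [7, 5, 4, 0, 3, 2], [3, 6, 4, 0, 3, 2], [7, 6, 4, 0, 3, 2], [5, 7, 4, 0, 3, 2],
  [6, 5, 1, 4, 3, 2], [7, 5, 1, 4, 3, 2], [7, 6, 1, 4, 3, 2], [4, 7, 1, 4, 3, 2],
  [5, 7, 1, 4, 3, 2], [5, 7, 5, 4, 3, 2], [4, 7, 6, 4, 3, 2], [5, 7, 6, 4, 3, 2],
  [2, 5, 7, 4, 3, 2], [4, 7, 5, 1, 4, 2], [5, 7, 5, 1, 4, 2], [5, 4, 7, 1, 4, 2],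
  [2, 5, 7, 1, 4, 2], [2, 5, 7, 5, 4, 2], [3, 6, 1, 4, 0, 3], [7, 6, 1, 4, 0, 3],
  [4, 7, 1, 4, 0, 3], [5, 7, 1, 4, 0, 3], [7, 3, 6, 4, 0, 3], [8, 3, 6, 4, 0, 3],
  [4, 7, 6, 4, 0, 3], [5, 7, 6, 4, 0, 3], [1, 8, 6, 4, 0, 3], [7, 8, 6, 4, 0, 3]]

/-- Part of a table. -/
def lev0Rep4 : List (List ℕ) := [
  [2, 5, 7, 4, 0, 3], [4, 7, 6, 1, 4, 3], [5, 7, 6, 1, 4, 3], [8, 7, 6, 1, 4, 3],
  [7, 8, 6, 1, 4, 3], [5, 4, 7, 1, 4, 3], [6, 4, 7, 1, 4, 3], [8, 4, 7, 1, 4, 3],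
  [2, 5, 7, 1, 4, 3], [8, 5, 7, 1, 4, 3], [0, 8, 7, 1, 4, 3], [1, 4, 7, 6, 4, 3],
  [5, 4, 7, 6, 4, 3], [8, 4, 7, 6, 4, 3], [2, 5, 7, 6, 4, 3], [8, 5, 7, 6, 4, 3],
  [0, 8, 7, 6, 4, 3], [4, 7, 8, 6, 4, 3], [5, 7, 8, 6, 4, 3], [5, 7, 0, 8, 4, 3],
  [2, 5, 7, 8, 4, 3], [2, 5, 4, 7, 1, 4], [7, 5, 4, 7, 1, 4], [8, 5, 4, 7, 1, 4],
  [2, 8, 5, 7, 1, 4], [6, 5, 1, 4, 0, 3, 2], [7, 5, 1, 4, 0, 3, 2], [3, 6, 1, 4, 0, 3, 2],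
  [7, 6, 1, 4, 0, 3, 2], [4, 7, 1, 4, 0, 3, 2], [5, 7, 1, 4, 0, 3, 2], [3, 6, 5, 4, 0, 3, 2]]

/-- Part of a table. -/
def lev0Rep5 : List (List ℕ) := [
  [5, 7, 5, 4, 0, 3, 2], [7, 3, 6, 4, 0, 3, 2], [4, 7, 6, 4, 0, 3, 2], [5, 7, 6, 4, 0, 3, 2],
  [2, 5, 7, 4, 0, 3, 2], [4, 7, 5, 1, 4, 3, 2], [5, 7, 5, 1, 4, 3, 2], [4, 7, 6, 1, 4, 3, 2],
  [5, 7, 6, 1, 4, 3, 2], [5, 4, 7, 1, 4, 3, 2], [6, 4, 7, 1, 4, 3, 2], [2, 5, 7, 1, 4, 3, 2],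
  [2, 5, 7, 5, 4, 3, 2], [1, 4, 7, 6, 4, 3, 2], [5, 4, 7, 6, 4, 3, 2], [2, 5, 7, 6, 4, 3, 2],
  [5, 4, 7, 5, 1, 4, 2], [2, 5, 7, 5, 1, 4, 2], [2, 5, 4, 7, 1, 4, 2], [7, 5, 4, 7, 1, 4, 2],
  [7, 3, 6, 1, 4, 0, 3], [4, 7, 6, 1, 4, 0, 3], [5, 7, 6, 1, 4, 0, 3], [8, 7, 6, 1, 4, 0, 3],
  [5, 4, 7, 1, 4, 0, 3], [6, 4, 7, 1, 4, 0, 3], [2, 5, 7, 1, 4, 0, 3], [4, 7, 3, 6, 4, 0, 3],
  [5, 7, 3, 6, 4, 0, 3], [0, 8, 3, 6, 4, 0, 3], [7, 8, 3, 6, 4, 0, 3], [1, 4, 7, 6, 4, 0, 3]]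

/-- Part of a table. -/
def lev0Rep6 : List (List ℕ) := [
  [5, 4, 7, 6, 4, 0, 3], [2, 5, 7, 6, 4, 0, 3], [4, 7, 8, 6, 4, 0, 3], [5, 7, 8, 6, 4, 0, 3],
  [1, 4, 7, 6, 1, 4, 3], [5, 4, 7, 6, 1, 4, 3], [6, 4, 7, 6, 1, 4, 3], [8, 4, 7, 6, 1, 4, 3],
  [2, 5, 7, 6, 1, 4, 3], [8, 5, 7, 6, 1, 4, 3], [0, 8, 7, 6, 1, 4, 3], [4, 7, 8, 6, 1, 4, 3],
  [5, 7, 8, 6, 1, 4, 3], [2, 5, 4, 7, 1, 4, 3], [6, 5, 4, 7, 1, 4, 3], [7, 5, 4, 7, 1, 4, 3],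
  [8, 5, 4, 7, 1, 4, 3], [0, 8, 4, 7, 1, 4, 3], [6, 8, 4, 7, 1, 4, 3], [0, 8, 5, 7, 1, 4, 3],
  [2, 8, 5, 7, 1, 4, 3], [5, 1, 4, 7, 6, 4, 3], [2, 5, 4, 7, 6, 4, 3], [7, 5, 4, 7, 6, 4, 3],
  [8, 5, 4, 7, 6, 4, 3], [0, 8, 4, 7, 6, 4, 3], [1, 8, 4, 7, 6, 4, 3], [0, 8, 5, 7, 6, 4, 3],
  [2, 8, 5, 7, 6, 4, 3], [3, 0, 8, 7, 6, 4, 3], [1, 4, 7, 8, 6, 4, 3], [5, 4, 7, 8, 6, 4, 3]]

/-- Part of a table. -/
def lev0Rep7 : List (List ℕ) := [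
  [2, 5, 7, 8, 6, 4, 3], [2, 5, 7, 0, 8, 4, 3], [7, 2, 5, 4, 7, 1, 4], [2, 8, 5, 4, 7, 1, 4],
  [7, 8, 5, 4, 7, 1, 4], [3, 6, 5, 1, 4, 0, 3, 2], [4, 7, 5, 1, 4, 0, 3, 2], [5, 7, 5, 1, 4, 0, 3, 2],
  [7, 3, 6, 1, 4, 0, 3, 2], [4, 7, 6, 1, 4, 0, 3, 2], [5, 7, 6, 1, 4, 0, 3, 2], [5, 4, 7, 1, 4, 0, 3, 2],
  [6, 4, 7, 1, 4, 0, 3, 2], [2, 5, 7, 1, 4, 0, 3, 2], [2, 5, 7, 5, 4, 0, 3, 2], [4, 7, 3, 6, 4, 0, 3, 2],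
  [5, 7, 3, 6, 4, 0, 3, 2], [1, 4, 7, 6, 4, 0, 3, 2], [5, 4, 7, 6, 4, 0, 3, 2], [2, 5, 7, 6, 4, 0, 3, 2],
  [5, 4, 7, 5, 1, 4, 3, 2], [6, 4, 7, 5, 1, 4, 3, 2], [2, 5, 7, 5, 1, 4, 3, 2], [1, 4, 7, 6, 1, 4, 3, 2],
  [5, 4, 7, 6, 1, 4, 3, 2], [6, 4, 7, 6, 1, 4, 3, 2], [2, 5, 7, 6, 1, 4, 3, 2], [2, 5, 4, 7, 1, 4, 3, 2],
  [6, 5, 4, 7, 1, 4, 3, 2], [7, 5, 4, 7, 1, 4, 3, 2], [5, 1, 4, 7, 6, 4, 3, 2], [2, 5, 4, 7, 6, 4, 3, 2]]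

/-- Part of a table. -/
def lev0Rep8 : List (List ℕ) := [
  [7, 5, 4, 7, 6, 4, 3, 2], [2, 5, 4, 7, 5, 1, 4, 2], [7, 5, 4, 7, 5, 1, 4, 2], [7, 2, 5, 4, 7, 1, 4, 2],
  [4, 7, 3, 6, 1, 4, 0, 3], [5, 7, 3, 6, 1, 4, 0, 3], [8, 7, 3, 6, 1, 4, 0, 3], [1, 4, 7, 6, 1, 4, 0, 3],
  [5, 4, 7, 6, 1, 4, 0, 3], [6, 4, 7, 6, 1, 4, 0, 3], [8, 4, 7, 6, 1, 4, 0, 3], [2, 5, 7, 6, 1, 4, 0, 3],
  [8, 5, 7, 6, 1, 4, 0, 3], [2, 5, 4, 7, 1, 4, 0, 3], [6, 5, 4, 7, 1, 4, 0, 3], [7, 5, 4, 7, 1, 4, 0, 3],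
  [3, 6, 4, 7, 1, 4, 0, 3], [8, 6, 4, 7, 1, 4, 0, 3], [1, 4, 7, 3, 6, 4, 0, 3], [5, 4, 7, 3, 6, 4, 0, 3],
  [6, 4, 7, 3, 6, 4, 0, 3], [2, 5, 7, 3, 6, 4, 0, 3], [4, 7, 8, 3, 6, 4, 0, 3], [5, 7, 8, 3, 6, 4, 0, 3],
  [5, 1, 4, 7, 6, 4, 0, 3], [8, 1, 4, 7, 6, 4, 0, 3], [2, 5, 4, 7, 6, 4, 0, 3], [7, 5, 4, 7, 6, 4, 0, 3],
  [1, 4, 7, 8, 6, 4, 0, 3], [5, 4, 7, 8, 6, 4, 0, 3], [2, 5, 7, 8, 6, 4, 0, 3], [5, 1, 4, 7, 6, 1, 4, 3]]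

/-- Part of a table. -/
def lev0Rep9 : List (List ℕ) := [
  [6, 1, 4, 7, 6, 1, 4, 3], [2, 5, 4, 7, 6, 1, 4, 3], [6, 5, 4, 7, 6, 1, 4, 3], [7, 5, 4, 7, 6, 1, 4, 3],
  [8, 5, 4, 7, 6, 1, 4, 3], [0, 8, 4, 7, 6, 1, 4, 3], [1, 8, 4, 7, 6, 1, 4, 3], [6, 8, 4, 7, 6, 1, 4, 3],
  [7, 8, 4, 7, 6, 1, 4, 3], [0, 8, 5, 7, 6, 1, 4, 3], [2, 8, 5, 7, 6, 1, 4, 3], [3, 0, 8, 7, 6, 1, 4, 3],
  [1, 4, 7, 8, 6, 1, 4, 3], [5, 4, 7, 8, 6, 1, 4, 3], [6, 4, 7, 8, 6, 1, 4, 3], [2, 5, 7, 8, 6, 1, 4, 3],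
  [6, 2, 5, 4, 7, 1, 4, 3], [7, 2, 5, 4, 7, 1, 4, 3], [7, 6, 5, 4, 7, 1, 4, 3], [0, 8, 5, 4, 7, 1, 4, 3],
  [2, 8, 5, 4, 7, 1, 4, 3], [6, 8, 5, 4, 7, 1, 4, 3], [7, 8, 5, 4, 7, 1, 4, 3], [2, 0, 8, 5, 7, 1, 4, 3],
  [2, 5, 1, 4, 7, 6, 4, 3], [7, 5, 1, 4, 7, 6, 4, 3], [7, 2, 5, 4, 7, 6, 4, 3], [8, 7, 5, 4, 7, 6, 4, 3],
  [0, 8, 5, 4, 7, 6, 4, 3], [1, 8, 5, 4, 7, 6, 4, 3], [2, 8, 5, 4, 7, 6, 4, 3], [7, 8, 5, 4, 7, 6, 4, 3]]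

/-- Part of a table. -/
def lev0Rep10 : List (List ℕ) := [
  [2, 0, 8, 5, 7, 6, 4, 3], [3, 0, 8, 5, 7, 6, 4, 3], [5, 1, 4, 7, 8, 6, 4, 3], [2, 5, 4, 7, 8, 6, 4, 3],
  [5, 7, 2, 5, 4, 7, 1, 4], [8, 7, 2, 5, 4, 7, 1, 4], [5, 4, 7, 5, 1, 4, 0, 3, 2], [6, 4, 7, 5, 1, 4, 0, 3, 2],
  [2, 5, 7, 5, 1, 4, 0, 3, 2], [4, 7, 3, 6, 1, 4, 0, 3, 2], [5, 7, 3, 6, 1, 4, 0, 3, 2], [1, 4, 7, 6, 1, 4, 0, 3, 2],
  [5, 4, 7, 6, 1, 4, 0, 3, 2], [6, 4, 7, 6, 1, 4, 0, 3, 2], [2, 5, 7, 6, 1, 4, 0, 3, 2], [2, 5, 4, 7, 1, 4, 0, 3, 2],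
  [6, 5, 4, 7, 1, 4, 0, 3, 2], [7, 5, 4, 7, 1, 4, 0, 3, 2], [3, 6, 4, 7, 1, 4, 0, 3, 2], [1, 4, 7, 3, 6, 4, 0, 3, 2],
  [5, 4, 7, 3, 6, 4, 0, 3, 2], [6, 4, 7, 3, 6, 4, 0, 3, 2], [2, 5, 7, 3, 6, 4, 0, 3, 2], [5, 1, 4, 7, 6, 4, 0, 3, 2],
  [2, 5, 4, 7, 6, 4, 0, 3, 2], [7, 5, 4, 7, 6, 4, 0, 3, 2], [2, 5, 4, 7, 5, 1, 4, 3, 2], [6, 5, 4, 7, 5, 1, 4, 3, 2],
  [7, 5, 4, 7, 5, 1, 4, 3, 2], [5, 1, 4, 7, 6, 1, 4, 3, 2], [6, 1, 4, 7, 6, 1, 4, 3, 2], [2, 5, 4, 7, 6, 1, 4, 3, 2]]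

/-- Part of a table. -/
def lev0Rep11 : List (List ℕ) := [
  [6, 5, 4, 7, 6, 1, 4, 3, 2], [7, 5, 4, 7, 6, 1, 4, 3, 2], [6, 2, 5, 4, 7, 1, 4, 3, 2], [7, 2, 5, 4, 7, 1, 4, 3, 2],
  [7, 6, 5, 4, 7, 1, 4, 3, 2], [2, 5, 1, 4, 7, 6, 4, 3, 2], [7, 5, 1, 4, 7, 6, 4, 3, 2], [7, 2, 5, 4, 7, 6, 4, 3, 2],
  [7, 2, 5, 4, 7, 5, 1, 4, 2], [5, 7, 2, 5, 4, 7, 1, 4, 2], [1, 4, 7, 3, 6, 1, 4, 0, 3], [5, 4, 7, 3, 6, 1, 4, 0, 3],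
  [6, 4, 7, 3, 6, 1, 4, 0, 3], [8, 4, 7, 3, 6, 1, 4, 0, 3], [2, 5, 7, 3, 6, 1, 4, 0, 3], [8, 5, 7, 3, 6, 1, 4, 0, 3],
  [5, 1, 4, 7, 6, 1, 4, 0, 3], [6, 1, 4, 7, 6, 1, 4, 0, 3], [8, 1, 4, 7, 6, 1, 4, 0, 3], [2, 5, 4, 7, 6, 1, 4, 0, 3],
  [6, 5, 4, 7, 6, 1, 4, 0, 3], [7, 5, 4, 7, 6, 1, 4, 0, 3], [8, 5, 4, 7, 6, 1, 4, 0, 3], [3, 6, 4, 7, 6, 1, 4, 0, 3],
  [8, 6, 4, 7, 6, 1, 4, 0, 3], [1, 8, 4, 7, 6, 1, 4, 0, 3], [2, 8, 5, 7, 6, 1, 4, 0, 3], [6, 2, 5, 4, 7, 1, 4, 0, 3],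
  [7, 2, 5, 4, 7, 1, 4, 0, 3], [3, 6, 5, 4, 7, 1, 4, 0, 3], [7, 6, 5, 4, 7, 1, 4, 0, 3], [8, 6, 5, 4, 7, 1, 4, 0, 3]]

/-- Part of a table. -/
def lev0Rep12 : List (List ℕ) := [
  [8, 3, 6, 4, 7, 1, 4, 0, 3], [5, 1, 4, 7, 3, 6, 4, 0, 3], [6, 1, 4, 7, 3, 6, 4, 0, 3], [8, 1, 4, 7, 3, 6, 4, 0, 3],
  [2, 5, 4, 7, 3, 6, 4, 0, 3], [6, 5, 4, 7, 3, 6, 4, 0, 3], [7, 5, 4, 7, 3, 6, 4, 0, 3], [1, 4, 7, 8, 3, 6, 4, 0, 3],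
  [5, 4, 7, 8, 3, 6, 4, 0, 3], [6, 4, 7, 8, 3, 6, 4, 0, 3], [2, 5, 7, 8, 3, 6, 4, 0, 3], [2, 5, 1, 4, 7, 6, 4, 0, 3],
  [7, 5, 1, 4, 7, 6, 4, 0, 3], [8, 5, 1, 4, 7, 6, 4, 0, 3], [7, 2, 5, 4, 7, 6, 4, 0, 3], [8, 7, 5, 4, 7, 6, 4, 0, 3],
  [5, 1, 4, 7, 8, 6, 4, 0, 3], [2, 5, 4, 7, 8, 6, 4, 0, 3], [2, 5, 1, 4, 7, 6, 1, 4, 3], [6, 5, 1, 4, 7, 6, 1, 4, 3],
  [7, 5, 1, 4, 7, 6, 1, 4, 3], [6, 2, 5, 4, 7, 6, 1, 4, 3], [7, 2, 5, 4, 7, 6, 1, 4, 3], [7, 6, 5, 4, 7, 6, 1, 4, 3],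
  [8, 7, 5, 4, 7, 6, 1, 4, 3], [0, 8, 5, 4, 7, 6, 1, 4, 3], [1, 8, 5, 4, 7, 6, 1, 4, 3], [2, 8, 5, 4, 7, 6, 1, 4, 3],
  [6, 8, 5, 4, 7, 6, 1, 4, 3], [7, 8, 5, 4, 7, 6, 1, 4, 3], [3, 0, 8, 4, 7, 6, 1, 4, 3], [6, 0, 8, 4, 7, 6, 1, 4, 3]]

/-- Part of a table. -/
def lev0Rep13 : List (List ℕ) := [
  [6, 1, 8, 4, 7, 6, 1, 4, 3], [7, 6, 8, 4, 7, 6, 1, 4, 3], [5, 7, 8, 4, 7, 6, 1, 4, 3], [2, 0, 8, 5, 7, 6, 1, 4, 3],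
  [3, 0, 8, 5, 7, 6, 1, 4, 3], [5, 1, 4, 7, 8, 6, 1, 4, 3], [6, 1, 4, 7, 8, 6, 1, 4, 3], [2, 5, 4, 7, 8, 6, 1, 4, 3],
  [6, 5, 4, 7, 8, 6, 1, 4, 3], [7, 6, 2, 5, 4, 7, 1, 4, 3], [5, 7, 2, 5, 4, 7, 1, 4, 3], [8, 7, 2, 5, 4, 7, 1, 4, 3],
  [4, 7, 6, 5, 4, 7, 1, 4, 3], [2, 0, 8, 5, 4, 7, 1, 4, 3], [7, 0, 8, 5, 4, 7, 1, 4, 3], [6, 2, 8, 5, 4, 7, 1, 4, 3],
  [7, 6, 8, 5, 4, 7, 1, 4, 3], [7, 2, 5, 1, 4, 7, 6, 4, 3], [4, 7, 5, 1, 4, 7, 6, 4, 3], [8, 7, 5, 1, 4, 7, 6, 4, 3],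
  [5, 7, 2, 5, 4, 7, 6, 4, 3], [8, 7, 2, 5, 4, 7, 6, 4, 3], [1, 8, 7, 5, 4, 7, 6, 4, 3], [2, 0, 8, 5, 4, 7, 6, 4, 3],
  [7, 0, 8, 5, 4, 7, 6, 4, 3], [2, 1, 8, 5, 4, 7, 6, 4, 3], [7, 2, 8, 5, 4, 7, 6, 4, 3], [3, 2, 0, 8, 5, 7, 6, 4, 3],
  [2, 5, 1, 4, 7, 8, 6, 4, 3], [8, 5, 7, 2, 5, 4, 7, 1, 4], [2, 5, 4, 7, 5, 1, 4, 0, 3, 2], [6, 5, 4, 7, 5, 1, 4, 0, 3, 2]]

/-- Part of a table. -/
def lev0Rep14 : List (List ℕ) := [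
  [7, 5, 4, 7, 5, 1, 4, 0, 3, 2], [3, 6, 4, 7, 5, 1, 4, 0, 3, 2], [1, 4, 7, 3, 6, 1, 4, 0, 3, 2], [5, 4, 7, 3, 6, 1, 4, 0, 3, 2],
  [6, 4, 7, 3, 6, 1, 4, 0, 3, 2], [2, 5, 7, 3, 6, 1, 4, 0, 3, 2], [5, 1, 4, 7, 6, 1, 4, 0, 3, 2], [6, 1, 4, 7, 6, 1, 4, 0, 3, 2],
  [2, 5, 4, 7, 6, 1, 4, 0, 3, 2], [6, 5, 4, 7, 6, 1, 4, 0, 3, 2], [7, 5, 4, 7, 6, 1, 4, 0, 3, 2], [3, 6, 4, 7, 6, 1, 4, 0, 3, 2],
  [6, 2, 5, 4, 7, 1, 4, 0, 3, 2], [7, 2, 5, 4, 7, 1, 4, 0, 3, 2], [3, 6, 5, 4, 7, 1, 4, 0, 3, 2], [7, 6, 5, 4, 7, 1, 4, 0, 3, 2],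
  [5, 1, 4, 7, 3, 6, 4, 0, 3, 2], [6, 1, 4, 7, 3, 6, 4, 0, 3, 2], [2, 5, 4, 7, 3, 6, 4, 0, 3, 2], [6, 5, 4, 7, 3, 6, 4, 0, 3, 2],
  [7, 5, 4, 7, 3, 6, 4, 0, 3, 2], [2, 5, 1, 4, 7, 6, 4, 0, 3, 2], [7, 5, 1, 4, 7, 6, 4, 0, 3, 2], [7, 2, 5, 4, 7, 6, 4, 0, 3, 2],
  [6, 2, 5, 4, 7, 5, 1, 4, 3, 2], [7, 2, 5, 4, 7, 5, 1, 4, 3, 2], [7, 6, 5, 4, 7, 5, 1, 4, 3, 2], [2, 5, 1, 4, 7, 6, 1, 4, 3, 2],
  [6, 5, 1, 4, 7, 6, 1, 4, 3, 2], [7, 5, 1, 4, 7, 6, 1, 4, 3, 2], [6, 2, 5, 4, 7, 6, 1, 4, 3, 2], [7, 2, 5, 4, 7, 6, 1, 4, 3, 2]]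

/-- Part of a table. -/
def lev0Rep15 : List (List ℕ) := [
  [7, 6, 5, 4, 7, 6, 1, 4, 3, 2], [7, 6, 2, 5, 4, 7, 1, 4, 3, 2], [5, 7, 2, 5, 4, 7, 1, 4, 3, 2], [4, 7, 6, 5, 4, 7, 1, 4, 3, 2],
  [7, 2, 5, 1, 4, 7, 6, 4, 3, 2], [4, 7, 5, 1, 4, 7, 6, 4, 3, 2], [5, 7, 2, 5, 4, 7, 6, 4, 3, 2], [5, 7, 2, 5, 4, 7, 5, 1, 4, 2],
  [5, 1, 4, 7, 3, 6, 1, 4, 0, 3], [6, 1, 4, 7, 3, 6, 1, 4, 0, 3], [8, 1, 4, 7, 3, 6, 1, 4, 0, 3], [2, 5, 4, 7, 3, 6, 1, 4, 0, 3],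
  [6, 5, 4, 7, 3, 6, 1, 4, 0, 3], [7, 5, 4, 7, 3, 6, 1, 4, 0, 3], [8, 5, 4, 7, 3, 6, 1, 4, 0, 3], [3, 6, 4, 7, 3, 6, 1, 4, 0, 3],
  [1, 8, 4, 7, 3, 6, 1, 4, 0, 3], [6, 8, 4, 7, 3, 6, 1, 4, 0, 3], [2, 8, 5, 7, 3, 6, 1, 4, 0, 3], [2, 5, 1, 4, 7, 6, 1, 4, 0, 3],
  [6, 5, 1, 4, 7, 6, 1, 4, 0, 3], [7, 5, 1, 4, 7, 6, 1, 4, 0, 3], [8, 5, 1, 4, 7, 6, 1, 4, 0, 3], [3, 6, 1, 4, 7, 6, 1, 4, 0, 3],
  [6, 8, 1, 4, 7, 6, 1, 4, 0, 3], [6, 2, 5, 4, 7, 6, 1, 4, 0, 3], [7, 2, 5, 4, 7, 6, 1, 4, 0, 3], [3, 6, 5, 4, 7, 6, 1, 4, 0, 3],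
  [7, 6, 5, 4, 7, 6, 1, 4, 0, 3], [8, 6, 5, 4, 7, 6, 1, 4, 0, 3], [1, 8, 5, 4, 7, 6, 1, 4, 0, 3], [2, 8, 5, 4, 7, 6, 1, 4, 0, 3]]

/-- Part of a table. -/
def lev0Rep16 : List (List ℕ) := [
  [7, 8, 5, 4, 7, 6, 1, 4, 0, 3], [8, 3, 6, 4, 7, 6, 1, 4, 0, 3], [1, 8, 6, 4, 7, 6, 1, 4, 0, 3], [3, 6, 2, 5, 4, 7, 1, 4, 0, 3],
  [7, 6, 2, 5, 4, 7, 1, 4, 0, 3], [5, 7, 2, 5, 4, 7, 1, 4, 0, 3], [7, 3, 6, 5, 4, 7, 1, 4, 0, 3], [8, 3, 6, 5, 4, 7, 1, 4, 0, 3],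
  [4, 7, 6, 5, 4, 7, 1, 4, 0, 3], [2, 8, 6, 5, 4, 7, 1, 4, 0, 3], [7, 8, 6, 5, 4, 7, 1, 4, 0, 3], [2, 5, 1, 4, 7, 3, 6, 4, 0, 3],
  [6, 5, 1, 4, 7, 3, 6, 4, 0, 3], [7, 5, 1, 4, 7, 3, 6, 4, 0, 3], [8, 5, 1, 4, 7, 3, 6, 4, 0, 3], [4, 6, 1, 4, 7, 3, 6, 4, 0, 3],
  [6, 8, 1, 4, 7, 3, 6, 4, 0, 3], [6, 2, 5, 4, 7, 3, 6, 4, 0, 3], [7, 2, 5, 4, 7, 3, 6, 4, 0, 3], [7, 6, 5, 4, 7, 3, 6, 4, 0, 3],
  [8, 7, 5, 4, 7, 3, 6, 4, 0, 3], [5, 1, 4, 7, 8, 3, 6, 4, 0, 3], [6, 1, 4, 7, 8, 3, 6, 4, 0, 3], [2, 5, 4, 7, 8, 3, 6, 4, 0, 3],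
  [6, 5, 4, 7, 8, 3, 6, 4, 0, 3], [7, 2, 5, 1, 4, 7, 6, 4, 0, 3], [4, 7, 5, 1, 4, 7, 6, 4, 0, 3], [8, 7, 5, 1, 4, 7, 6, 4, 0, 3],
  [2, 8, 5, 1, 4, 7, 6, 4, 0, 3], [5, 7, 2, 5, 4, 7, 6, 4, 0, 3], [1, 8, 7, 5, 4, 7, 6, 4, 0, 3], [2, 8, 7, 5, 4, 7, 6, 4, 0, 3]]

/-- Part of a table. -/
def lev0Rep17 : List (List ℕ) := [
  [2, 5, 1, 4, 7, 8, 6, 4, 0, 3], [6, 2, 5, 1, 4, 7, 6, 1, 4, 3], [7, 2, 5, 1, 4, 7, 6, 1, 4, 3], [7, 6, 5, 1, 4, 7, 6, 1, 4, 3],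
  [4, 7, 5, 1, 4, 7, 6, 1, 4, 3], [8, 7, 5, 1, 4, 7, 6, 1, 4, 3], [7, 6, 2, 5, 4, 7, 6, 1, 4, 3], [5, 7, 2, 5, 4, 7, 6, 1, 4, 3],
  [8, 7, 2, 5, 4, 7, 6, 1, 4, 3], [4, 7, 6, 5, 4, 7, 6, 1, 4, 3], [1, 8, 7, 5, 4, 7, 6, 1, 4, 3], [6, 8, 7, 5, 4, 7, 6, 1, 4, 3],
  [2, 0, 8, 5, 4, 7, 6, 1, 4, 3], [3, 0, 8, 5, 4, 7, 6, 1, 4, 3], [6, 0, 8, 5, 4, 7, 6, 1, 4, 3], [7, 0, 8, 5, 4, 7, 6, 1, 4, 3],
  [2, 1, 8, 5, 4, 7, 6, 1, 4, 3], [6, 1, 8, 5, 4, 7, 6, 1, 4, 3], [6, 2, 8, 5, 4, 7, 6, 1, 4, 3], [7, 2, 8, 5, 4, 7, 6, 1, 4, 3],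
  [7, 6, 8, 5, 4, 7, 6, 1, 4, 3], [5, 7, 8, 5, 4, 7, 6, 1, 4, 3], [6, 3, 0, 8, 4, 7, 6, 1, 4, 3], [3, 6, 0, 8, 4, 7, 6, 1, 4, 3],
  [5, 7, 6, 8, 4, 7, 6, 1, 4, 3], [2, 5, 7, 8, 4, 7, 6, 1, 4, 3], [3, 2, 0, 8, 5, 7, 6, 1, 4, 3], [2, 5, 1, 4, 7, 8, 6, 1, 4, 3],
  [6, 5, 1, 4, 7, 8, 6, 1, 4, 3], [6, 2, 5, 4, 7, 8, 6, 1, 4, 3], [4, 7, 6, 2, 5, 4, 7, 1, 4, 3], [5, 7, 6, 2, 5, 4, 7, 1, 4, 3]]

/-- Part of a table. -/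
def lev0Rep18 : List (List ℕ) := [
  [8, 5, 7, 2, 5, 4, 7, 1, 4, 3], [0, 8, 7, 2, 5, 4, 7, 1, 4, 3], [6, 8, 7, 2, 5, 4, 7, 1, 4, 3], [1, 4, 7, 6, 5, 4, 7, 1, 4, 3],
  [4, 7, 6, 8, 5, 4, 7, 1, 4, 3], [4, 7, 2, 5, 1, 4, 7, 6, 4, 3], [5, 7, 2, 5, 1, 4, 7, 6, 4, 3], [6, 4, 7, 5, 1, 4, 7, 6, 4, 3],
  [8, 4, 7, 5, 1, 4, 7, 6, 4, 3], [2, 8, 7, 5, 1, 4, 7, 6, 4, 3], [8, 5, 7, 2, 5, 4, 7, 6, 4, 3], [1, 8, 7, 2, 5, 4, 7, 6, 4, 3],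
  [4, 1, 8, 7, 5, 4, 7, 6, 4, 3], [7, 2, 0, 8, 5, 4, 7, 6, 4, 3], [5, 7, 2, 8, 5, 4, 7, 6, 4, 3], [6, 2, 5, 4, 7, 5, 1, 4, 0, 3, 2],
  [7, 2, 5, 4, 7, 5, 1, 4, 0, 3, 2], [3, 6, 5, 4, 7, 5, 1, 4, 0, 3, 2], [7, 6, 5, 4, 7, 5, 1, 4, 0, 3, 2], [5, 1, 4, 7, 3, 6, 1, 4, 0, 3, 2],
  [6, 1, 4, 7, 3, 6, 1, 4, 0, 3, 2], [2, 5, 4, 7, 3, 6, 1, 4, 0, 3, 2], [6, 5, 4, 7, 3, 6, 1, 4, 0, 3, 2], [7, 5, 4, 7, 3, 6, 1, 4, 0, 3, 2],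
  [3, 6, 4, 7, 3, 6, 1, 4, 0, 3, 2], [2, 5, 1, 4, 7, 6, 1, 4, 0, 3, 2], [6, 5, 1, 4, 7, 6, 1, 4, 0, 3, 2], [7, 5, 1, 4, 7, 6, 1, 4, 0, 3, 2],
  [3, 6, 1, 4, 7, 6, 1, 4, 0, 3, 2], [6, 2, 5, 4, 7, 6, 1, 4, 0, 3, 2], [7, 2, 5, 4, 7, 6, 1, 4, 0, 3, 2], [3, 6, 5, 4, 7, 6, 1, 4, 0, 3, 2]]

/-- Part of a table. -/
def lev0Rep19 : List (List ℕ) := [
  [7, 6, 5, 4, 7, 6, 1, 4, 0, 3, 2], [3, 6, 2, 5, 4, 7, 1, 4, 0, 3, 2], [7, 6, 2, 5, 4, 7, 1, 4, 0, 3, 2], [5, 7, 2, 5, 4, 7, 1, 4, 0, 3, 2],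
  [7, 3, 6, 5, 4, 7, 1, 4, 0, 3, 2], [4, 7, 6, 5, 4, 7, 1, 4, 0, 3, 2], [2, 5, 1, 4, 7, 3, 6, 4, 0, 3, 2], [6, 5, 1, 4, 7, 3, 6, 4, 0, 3, 2],
  [7, 5, 1, 4, 7, 3, 6, 4, 0, 3, 2], [4, 6, 1, 4, 7, 3, 6, 4, 0, 3, 2], [6, 2, 5, 4, 7, 3, 6, 4, 0, 3, 2], [7, 2, 5, 4, 7, 3, 6, 4, 0, 3, 2],
  [7, 6, 5, 4, 7, 3, 6, 4, 0, 3, 2], [7, 2, 5, 1, 4, 7, 6, 4, 0, 3, 2], [4, 7, 5, 1, 4, 7, 6, 4, 0, 3, 2], [5, 7, 2, 5, 4, 7, 6, 4, 0, 3, 2],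
  [7, 6, 2, 5, 4, 7, 5, 1, 4, 3, 2], [5, 7, 2, 5, 4, 7, 5, 1, 4, 3, 2], [4, 7, 6, 5, 4, 7, 5, 1, 4, 3, 2], [6, 2, 5, 1, 4, 7, 6, 1, 4, 3, 2],
  [7, 2, 5, 1, 4, 7, 6, 1, 4, 3, 2], [7, 6, 5, 1, 4, 7, 6, 1, 4, 3, 2], [4, 7, 5, 1, 4, 7, 6, 1, 4, 3, 2], [7, 6, 2, 5, 4, 7, 6, 1, 4, 3, 2],
  [5, 7, 2, 5, 4, 7, 6, 1, 4, 3, 2], [4, 7, 6, 5, 4, 7, 6, 1, 4, 3, 2], [4, 7, 6, 2, 5, 4, 7, 1, 4, 3, 2], [5, 7, 6, 2, 5, 4, 7, 1, 4, 3, 2],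
  [1, 4, 7, 6, 5, 4, 7, 1, 4, 3, 2], [4, 7, 2, 5, 1, 4, 7, 6, 4, 3, 2], [5, 7, 2, 5, 1, 4, 7, 6, 4, 3, 2], [6, 4, 7, 5, 1, 4, 7, 6, 4, 3, 2]]

/-- Part of a table. -/
def lev0Rep20 : List (List ℕ) := [
  [2, 5, 1, 4, 7, 3, 6, 1, 4, 0, 3], [6, 5, 1, 4, 7, 3, 6, 1, 4, 0, 3], [7, 5, 1, 4, 7, 3, 6, 1, 4, 0, 3], [8, 5, 1, 4, 7, 3, 6, 1, 4, 0, 3],
  [3, 6, 1, 4, 7, 3, 6, 1, 4, 0, 3], [4, 6, 1, 4, 7, 3, 6, 1, 4, 0, 3], [8, 6, 1, 4, 7, 3, 6, 1, 4, 0, 3], [6, 8, 1, 4, 7, 3, 6, 1, 4, 0, 3],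
  [6, 2, 5, 4, 7, 3, 6, 1, 4, 0, 3], [7, 2, 5, 4, 7, 3, 6, 1, 4, 0, 3], [3, 6, 5, 4, 7, 3, 6, 1, 4, 0, 3], [7, 6, 5, 4, 7, 3, 6, 1, 4, 0, 3],
  [1, 8, 5, 4, 7, 3, 6, 1, 4, 0, 3], [2, 8, 5, 4, 7, 3, 6, 1, 4, 0, 3], [6, 8, 5, 4, 7, 3, 6, 1, 4, 0, 3], [7, 8, 5, 4, 7, 3, 6, 1, 4, 0, 3],
  [3, 6, 8, 4, 7, 3, 6, 1, 4, 0, 3], [6, 2, 5, 1, 4, 7, 6, 1, 4, 0, 3], [7, 2, 5, 1, 4, 7, 6, 1, 4, 0, 3], [3, 6, 5, 1, 4, 7, 6, 1, 4, 0, 3],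
  [7, 6, 5, 1, 4, 7, 6, 1, 4, 0, 3], [4, 7, 5, 1, 4, 7, 6, 1, 4, 0, 3], [2, 8, 5, 1, 4, 7, 6, 1, 4, 0, 3], [6, 8, 5, 1, 4, 7, 6, 1, 4, 0, 3],
  [7, 8, 5, 1, 4, 7, 6, 1, 4, 0, 3], [3, 6, 8, 1, 4, 7, 6, 1, 4, 0, 3], [3, 6, 2, 5, 4, 7, 6, 1, 4, 0, 3], [7, 6, 2, 5, 4, 7, 6, 1, 4, 0, 3],
  [5, 7, 2, 5, 4, 7, 6, 1, 4, 0, 3], [8, 7, 2, 5, 4, 7, 6, 1, 4, 0, 3], [7, 3, 6, 5, 4, 7, 6, 1, 4, 0, 3], [8, 3, 6, 5, 4, 7, 6, 1, 4, 0, 3]]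

/-- Part of a table. -/
def lev0Rep21 : List (List ℕ) := [
  [4, 7, 6, 5, 4, 7, 6, 1, 4, 0, 3], [8, 7, 6, 5, 4, 7, 6, 1, 4, 0, 3], [1, 8, 6, 5, 4, 7, 6, 1, 4, 0, 3], [2, 8, 6, 5, 4, 7, 6, 1, 4, 0, 3],
  [2, 1, 8, 5, 4, 7, 6, 1, 4, 0, 3], [7, 1, 8, 5, 4, 7, 6, 1, 4, 0, 3], [1, 8, 3, 6, 4, 7, 6, 1, 4, 0, 3], [7, 3, 6, 2, 5, 4, 7, 1, 4, 0, 3],
  [4, 7, 6, 2, 5, 4, 7, 1, 4, 0, 3], [5, 7, 6, 2, 5, 4, 7, 1, 4, 0, 3], [8, 7, 6, 2, 5, 4, 7, 1, 4, 0, 3], [4, 7, 3, 6, 5, 4, 7, 1, 4, 0, 3],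
  [2, 8, 3, 6, 5, 4, 7, 1, 4, 0, 3], [7, 8, 3, 6, 5, 4, 7, 1, 4, 0, 3], [1, 4, 7, 6, 5, 4, 7, 1, 4, 0, 3], [4, 7, 8, 6, 5, 4, 7, 1, 4, 0, 3],
  [6, 2, 5, 1, 4, 7, 3, 6, 4, 0, 3], [7, 2, 5, 1, 4, 7, 3, 6, 4, 0, 3], [4, 6, 5, 1, 4, 7, 3, 6, 4, 0, 3], [7, 6, 5, 1, 4, 7, 3, 6, 4, 0, 3],
  [4, 7, 5, 1, 4, 7, 3, 6, 4, 0, 3], [8, 7, 5, 1, 4, 7, 3, 6, 4, 0, 3], [2, 8, 5, 1, 4, 7, 3, 6, 4, 0, 3], [6, 8, 5, 1, 4, 7, 3, 6, 4, 0, 3],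
  [4, 6, 8, 1, 4, 7, 3, 6, 4, 0, 3], [7, 6, 2, 5, 4, 7, 3, 6, 4, 0, 3], [5, 7, 2, 5, 4, 7, 3, 6, 4, 0, 3], [4, 7, 6, 5, 4, 7, 3, 6, 4, 0, 3],
  [1, 8, 7, 5, 4, 7, 3, 6, 4, 0, 3], [2, 8, 7, 5, 4, 7, 3, 6, 4, 0, 3], [6, 8, 7, 5, 4, 7, 3, 6, 4, 0, 3], [2, 5, 1, 4, 7, 8, 3, 6, 4, 0, 3]]

/-- Part of a table. -/
def lev0Rep22 : List (List ℕ) := [
  [6, 5, 1, 4, 7, 8, 3, 6, 4, 0, 3], [4, 6, 1, 4, 7, 8, 3, 6, 4, 0, 3], [6, 2, 5, 4, 7, 8, 3, 6, 4, 0, 3], [4, 7, 2, 5, 1, 4, 7, 6, 4, 0, 3],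
  [5, 7, 2, 5, 1, 4, 7, 6, 4, 0, 3], [8, 7, 2, 5, 1, 4, 7, 6, 4, 0, 3], [6, 4, 7, 5, 1, 4, 7, 6, 4, 0, 3], [8, 4, 7, 5, 1, 4, 7, 6, 4, 0, 3],
  [2, 8, 7, 5, 1, 4, 7, 6, 4, 0, 3], [4, 1, 8, 7, 5, 4, 7, 6, 4, 0, 3], [5, 2, 8, 7, 5, 4, 7, 6, 4, 0, 3], [7, 6, 2, 5, 1, 4, 7, 6, 1, 4, 3],
  [4, 7, 2, 5, 1, 4, 7, 6, 1, 4, 3], [5, 7, 2, 5, 1, 4, 7, 6, 1, 4, 3], [4, 7, 6, 5, 1, 4, 7, 6, 1, 4, 3], [6, 4, 7, 5, 1, 4, 7, 6, 1, 4, 3],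
  [8, 4, 7, 5, 1, 4, 7, 6, 1, 4, 3], [2, 8, 7, 5, 1, 4, 7, 6, 1, 4, 3], [6, 8, 7, 5, 1, 4, 7, 6, 1, 4, 3], [4, 7, 6, 2, 5, 4, 7, 6, 1, 4, 3],
  [5, 7, 6, 2, 5, 4, 7, 6, 1, 4, 3], [8, 5, 7, 2, 5, 4, 7, 6, 1, 4, 3], [1, 8, 7, 2, 5, 4, 7, 6, 1, 4, 3], [6, 8, 7, 2, 5, 4, 7, 6, 1, 4, 3],
  [1, 4, 7, 6, 5, 4, 7, 6, 1, 4, 3], [4, 1, 8, 7, 5, 4, 7, 6, 1, 4, 3], [6, 1, 8, 7, 5, 4, 7, 6, 1, 4, 3], [4, 6, 8, 7, 5, 4, 7, 6, 1, 4, 3],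
  [3, 2, 0, 8, 5, 4, 7, 6, 1, 4, 3], [6, 2, 0, 8, 5, 4, 7, 6, 1, 4, 3], [7, 2, 0, 8, 5, 4, 7, 6, 1, 4, 3], [6, 3, 0, 8, 5, 4, 7, 6, 1, 4, 3]]

/-- Part of a table. -/
def lev0Rep23 : List (List ℕ) := [
  [7, 3, 0, 8, 5, 4, 7, 6, 1, 4, 3], [3, 6, 0, 8, 5, 4, 7, 6, 1, 4, 3], [7, 6, 0, 8, 5, 4, 7, 6, 1, 4, 3], [6, 2, 1, 8, 5, 4, 7, 6, 1, 4, 3],
  [7, 6, 2, 8, 5, 4, 7, 6, 1, 4, 3], [5, 7, 2, 8, 5, 4, 7, 6, 1, 4, 3], [4, 7, 6, 8, 5, 4, 7, 6, 1, 4, 3], [5, 7, 6, 8, 5, 4, 7, 6, 1, 4, 3],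
  [2, 5, 7, 8, 5, 4, 7, 6, 1, 4, 3], [3, 6, 3, 0, 8, 4, 7, 6, 1, 4, 3], [2, 5, 7, 6, 8, 4, 7, 6, 1, 4, 3], [6, 2, 5, 1, 4, 7, 8, 6, 1, 4, 3],
  [1, 4, 7, 6, 2, 5, 4, 7, 1, 4, 3], [5, 4, 7, 6, 2, 5, 4, 7, 1, 4, 3], [0, 8, 5, 7, 2, 5, 4, 7, 1, 4, 3], [6, 8, 5, 7, 2, 5, 4, 7, 1, 4, 3],
  [4, 6, 8, 7, 2, 5, 4, 7, 1, 4, 3], [1, 4, 7, 6, 8, 5, 4, 7, 1, 4, 3], [5, 4, 7, 2, 5, 1, 4, 7, 6, 4, 3], [6, 4, 7, 2, 5, 1, 4, 7, 6, 4, 3],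
  [3, 6, 4, 7, 5, 1, 4, 7, 6, 4, 3], [2, 8, 4, 7, 5, 1, 4, 7, 6, 4, 3], [6, 8, 4, 7, 5, 1, 4, 7, 6, 4, 3], [5, 2, 8, 7, 5, 1, 4, 7, 6, 4, 3],
  [1, 8, 5, 7, 2, 5, 4, 7, 6, 4, 3], [4, 1, 8, 7, 2, 5, 4, 7, 6, 4, 3], [6, 4, 1, 8, 7, 5, 4, 7, 6, 4, 3], [5, 7, 2, 0, 8, 5, 4, 7, 6, 4, 3],
  [3, 6, 2, 5, 4, 7, 5, 1, 4, 0, 3, 2], [7, 6, 2, 5, 4, 7, 5, 1, 4, 0, 3, 2], [5, 7, 2, 5, 4, 7, 5, 1, 4, 0, 3, 2], [7, 3, 6, 5, 4, 7, 5, 1, 4, 0, 3, 2]]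

/-- Part of a table. -/
def lev0Rep24 : List (List ℕ) := [
  [4, 7, 6, 5, 4, 7, 5, 1, 4, 0, 3, 2], [2, 5, 1, 4, 7, 3, 6, 1, 4, 0, 3, 2], [6, 5, 1, 4, 7, 3, 6, 1, 4, 0, 3, 2], [7, 5, 1, 4, 7, 3, 6, 1, 4, 0, 3, 2],
  [3, 6, 1, 4, 7, 3, 6, 1, 4, 0, 3, 2], [4, 6, 1, 4, 7, 3, 6, 1, 4, 0, 3, 2], [6, 2, 5, 4, 7, 3, 6, 1, 4, 0, 3, 2], [7, 2, 5, 4, 7, 3, 6, 1, 4, 0, 3, 2],
  [3, 6, 5, 4, 7, 3, 6, 1, 4, 0, 3, 2], [7, 6, 5, 4, 7, 3, 6, 1, 4, 0, 3, 2], [6, 2, 5, 1, 4, 7, 6, 1, 4, 0, 3, 2], [7, 2, 5, 1, 4, 7, 6, 1, 4, 0, 3, 2],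
  [3, 6, 5, 1, 4, 7, 6, 1, 4, 0, 3, 2], [7, 6, 5, 1, 4, 7, 6, 1, 4, 0, 3, 2], [4, 7, 5, 1, 4, 7, 6, 1, 4, 0, 3, 2], [3, 6, 2, 5, 4, 7, 6, 1, 4, 0, 3, 2],
  [7, 6, 2, 5, 4, 7, 6, 1, 4, 0, 3, 2], [5, 7, 2, 5, 4, 7, 6, 1, 4, 0, 3, 2], [7, 3, 6, 5, 4, 7, 6, 1, 4, 0, 3, 2], [4, 7, 6, 5, 4, 7, 6, 1, 4, 0, 3, 2],
  [7, 3, 6, 2, 5, 4, 7, 1, 4, 0, 3, 2], [4, 7, 6, 2, 5, 4, 7, 1, 4, 0, 3, 2], [5, 7, 6, 2, 5, 4, 7, 1, 4, 0, 3, 2], [4, 7, 3, 6, 5, 4, 7, 1, 4, 0, 3, 2],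
  [1, 4, 7, 6, 5, 4, 7, 1, 4, 0, 3, 2], [6, 2, 5, 1, 4, 7, 3, 6, 4, 0, 3, 2], [7, 2, 5, 1, 4, 7, 3, 6, 4, 0, 3, 2], [4, 6, 5, 1, 4, 7, 3, 6, 4, 0, 3, 2],
  [7, 6, 5, 1, 4, 7, 3, 6, 4, 0, 3, 2], [4, 7, 5, 1, 4, 7, 3, 6, 4, 0, 3, 2], [7, 6, 2, 5, 4, 7, 3, 6, 4, 0, 3, 2], [5, 7, 2, 5, 4, 7, 3, 6, 4, 0, 3, 2]]

/-- Part of a table. -/
def lev0Rep25 : List (List ℕ) := [
  [4, 7, 6, 5, 4, 7, 3, 6, 4, 0, 3, 2], [4, 7, 2, 5, 1, 4, 7, 6, 4, 0, 3, 2], [5, 7, 2, 5, 1, 4, 7, 6, 4, 0, 3, 2], [6, 4, 7, 5, 1, 4, 7, 6, 4, 0, 3, 2],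
  [4, 7, 6, 2, 5, 4, 7, 5, 1, 4, 3, 2], [5, 7, 6, 2, 5, 4, 7, 5, 1, 4, 3, 2], [1, 4, 7, 6, 5, 4, 7, 5, 1, 4, 3, 2], [7, 6, 2, 5, 1, 4, 7, 6, 1, 4, 3, 2],
  [4, 7, 2, 5, 1, 4, 7, 6, 1, 4, 3, 2], [5, 7, 2, 5, 1, 4, 7, 6, 1, 4, 3, 2], [4, 7, 6, 5, 1, 4, 7, 6, 1, 4, 3, 2], [6, 4, 7, 5, 1, 4, 7, 6, 1, 4, 3, 2],
  [4, 7, 6, 2, 5, 4, 7, 6, 1, 4, 3, 2], [5, 7, 6, 2, 5, 4, 7, 6, 1, 4, 3, 2], [1, 4, 7, 6, 5, 4, 7, 6, 1, 4, 3, 2], [1, 4, 7, 6, 2, 5, 4, 7, 1, 4, 3, 2],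
  [5, 4, 7, 6, 2, 5, 4, 7, 1, 4, 3, 2], [5, 4, 7, 2, 5, 1, 4, 7, 6, 4, 3, 2], [6, 4, 7, 2, 5, 1, 4, 7, 6, 4, 3, 2], [3, 6, 4, 7, 5, 1, 4, 7, 6, 4, 3, 2],
  [6, 2, 5, 1, 4, 7, 3, 6, 1, 4, 0, 3], [7, 2, 5, 1, 4, 7, 3, 6, 1, 4, 0, 3], [3, 6, 5, 1, 4, 7, 3, 6, 1, 4, 0, 3], [4, 6, 5, 1, 4, 7, 3, 6, 1, 4, 0, 3],
  [7, 6, 5, 1, 4, 7, 3, 6, 1, 4, 0, 3], [8, 6, 5, 1, 4, 7, 3, 6, 1, 4, 0, 3], [4, 7, 5, 1, 4, 7, 3, 6, 1, 4, 0, 3], [2, 8, 5, 1, 4, 7, 3, 6, 1, 4, 0, 3],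
  [6, 8, 5, 1, 4, 7, 3, 6, 1, 4, 0, 3], [7, 8, 5, 1, 4, 7, 3, 6, 1, 4, 0, 3], [4, 3, 6, 1, 4, 7, 3, 6, 1, 4, 0, 3], [8, 3, 6, 1, 4, 7, 3, 6, 1, 4, 0, 3]]

/-- Part of a table. -/
def lev0Rep26 : List (List ℕ) := [
  [8, 4, 6, 1, 4, 7, 3, 6, 1, 4, 0, 3], [3, 6, 8, 1, 4, 7, 3, 6, 1, 4, 0, 3], [4, 6, 8, 1, 4, 7, 3, 6, 1, 4, 0, 3], [3, 6, 2, 5, 4, 7, 3, 6, 1, 4, 0, 3],
  [7, 6, 2, 5, 4, 7, 3, 6, 1, 4, 0, 3], [5, 7, 2, 5, 4, 7, 3, 6, 1, 4, 0, 3], [8, 7, 2, 5, 4, 7, 3, 6, 1, 4, 0, 3], [7, 3, 6, 5, 4, 7, 3, 6, 1, 4, 0, 3],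
  [4, 7, 6, 5, 4, 7, 3, 6, 1, 4, 0, 3], [8, 7, 6, 5, 4, 7, 3, 6, 1, 4, 0, 3], [2, 1, 8, 5, 4, 7, 3, 6, 1, 4, 0, 3], [7, 1, 8, 5, 4, 7, 3, 6, 1, 4, 0, 3],
  [6, 2, 8, 5, 4, 7, 3, 6, 1, 4, 0, 3], [3, 6, 8, 5, 4, 7, 3, 6, 1, 4, 0, 3], [3, 6, 2, 5, 1, 4, 7, 6, 1, 4, 0, 3], [7, 6, 2, 5, 1, 4, 7, 6, 1, 4, 0, 3],
  [4, 7, 2, 5, 1, 4, 7, 6, 1, 4, 0, 3], [5, 7, 2, 5, 1, 4, 7, 6, 1, 4, 0, 3], [8, 7, 2, 5, 1, 4, 7, 6, 1, 4, 0, 3], [7, 3, 6, 5, 1, 4, 7, 6, 1, 4, 0, 3],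
  [4, 7, 6, 5, 1, 4, 7, 6, 1, 4, 0, 3], [8, 7, 6, 5, 1, 4, 7, 6, 1, 4, 0, 3], [6, 4, 7, 5, 1, 4, 7, 6, 1, 4, 0, 3], [6, 2, 8, 5, 1, 4, 7, 6, 1, 4, 0, 3],
  [3, 6, 8, 5, 1, 4, 7, 6, 1, 4, 0, 3], [4, 7, 8, 5, 1, 4, 7, 6, 1, 4, 0, 3], [7, 3, 6, 2, 5, 4, 7, 6, 1, 4, 0, 3], [4, 7, 6, 2, 5, 4, 7, 6, 1, 4, 0, 3],
  [5, 7, 6, 2, 5, 4, 7, 6, 1, 4, 0, 3], [8, 7, 6, 2, 5, 4, 7, 6, 1, 4, 0, 3], [8, 5, 7, 2, 5, 4, 7, 6, 1, 4, 0, 3], [1, 8, 7, 2, 5, 4, 7, 6, 1, 4, 0, 3]]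

/-- Part of a table. -/
def lev0Rep27 : List (List ℕ) := [
  [6, 8, 7, 2, 5, 4, 7, 6, 1, 4, 0, 3], [4, 7, 3, 6, 5, 4, 7, 6, 1, 4, 0, 3], [8, 7, 3, 6, 5, 4, 7, 6, 1, 4, 0, 3], [1, 8, 3, 6, 5, 4, 7, 6, 1, 4, 0, 3],
  [2, 8, 3, 6, 5, 4, 7, 6, 1, 4, 0, 3], [1, 4, 7, 6, 5, 4, 7, 6, 1, 4, 0, 3], [8, 4, 7, 6, 5, 4, 7, 6, 1, 4, 0, 3], [1, 8, 7, 6, 5, 4, 7, 6, 1, 4, 0, 3],
  [2, 1, 8, 6, 5, 4, 7, 6, 1, 4, 0, 3], [4, 7, 1, 8, 5, 4, 7, 6, 1, 4, 0, 3], [4, 7, 3, 6, 2, 5, 4, 7, 1, 4, 0, 3], [5, 7, 3, 6, 2, 5, 4, 7, 1, 4, 0, 3],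
  [8, 7, 3, 6, 2, 5, 4, 7, 1, 4, 0, 3], [1, 4, 7, 6, 2, 5, 4, 7, 1, 4, 0, 3], [5, 4, 7, 6, 2, 5, 4, 7, 1, 4, 0, 3], [8, 4, 7, 6, 2, 5, 4, 7, 1, 4, 0, 3],
  [8, 5, 7, 6, 2, 5, 4, 7, 1, 4, 0, 3], [1, 4, 7, 3, 6, 5, 4, 7, 1, 4, 0, 3], [6, 4, 7, 3, 6, 5, 4, 7, 1, 4, 0, 3], [4, 7, 8, 3, 6, 5, 4, 7, 1, 4, 0, 3],
  [1, 4, 7, 8, 6, 5, 4, 7, 1, 4, 0, 3], [4, 6, 2, 5, 1, 4, 7, 3, 6, 4, 0, 3], [7, 6, 2, 5, 1, 4, 7, 3, 6, 4, 0, 3], [4, 7, 2, 5, 1, 4, 7, 3, 6, 4, 0, 3],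
  [5, 7, 2, 5, 1, 4, 7, 3, 6, 4, 0, 3], [8, 7, 2, 5, 1, 4, 7, 3, 6, 4, 0, 3], [8, 4, 7, 5, 1, 4, 7, 3, 6, 4, 0, 3], [2, 8, 7, 5, 1, 4, 7, 3, 6, 4, 0, 3],
  [6, 8, 7, 5, 1, 4, 7, 3, 6, 4, 0, 3], [6, 2, 8, 5, 1, 4, 7, 3, 6, 4, 0, 3], [4, 6, 8, 5, 1, 4, 7, 3, 6, 4, 0, 3], [4, 7, 6, 2, 5, 4, 7, 3, 6, 4, 0, 3]]

/-- Part of a table. -/
def lev0Rep28 : List (List ℕ) := [
  [5, 7, 6, 2, 5, 4, 7, 3, 6, 4, 0, 3], [4, 1, 8, 7, 5, 4, 7, 3, 6, 4, 0, 3], [6, 1, 8, 7, 5, 4, 7, 3, 6, 4, 0, 3], [5, 2, 8, 7, 5, 4, 7, 3, 6, 4, 0, 3],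
  [6, 2, 8, 7, 5, 4, 7, 3, 6, 4, 0, 3], [4, 6, 8, 7, 5, 4, 7, 3, 6, 4, 0, 3], [6, 2, 5, 1, 4, 7, 8, 3, 6, 4, 0, 3], [4, 6, 5, 1, 4, 7, 8, 3, 6, 4, 0, 3],
  [5, 4, 7, 2, 5, 1, 4, 7, 6, 4, 0, 3], [6, 4, 7, 2, 5, 1, 4, 7, 6, 4, 0, 3], [8, 4, 7, 2, 5, 1, 4, 7, 6, 4, 0, 3], [8, 5, 7, 2, 5, 1, 4, 7, 6, 4, 0, 3],
  [2, 8, 4, 7, 5, 1, 4, 7, 6, 4, 0, 3], [6, 8, 4, 7, 5, 1, 4, 7, 6, 4, 0, 3], [5, 2, 8, 7, 5, 1, 4, 7, 6, 4, 0, 3], [6, 4, 1, 8, 7, 5, 4, 7, 6, 4, 0, 3],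
  [4, 7, 6, 2, 5, 1, 4, 7, 6, 1, 4, 3], [5, 4, 7, 2, 5, 1, 4, 7, 6, 1, 4, 3], [8, 6, 4, 7, 5, 1, 4, 7, 6, 1, 4, 3], [2, 8, 4, 7, 5, 1, 4, 7, 6, 1, 4, 3],
  [6, 8, 4, 7, 5, 1, 4, 7, 6, 1, 4, 3], [5, 2, 8, 7, 5, 1, 4, 7, 6, 1, 4, 3], [6, 2, 8, 7, 5, 1, 4, 7, 6, 1, 4, 3], [4, 6, 8, 7, 5, 1, 4, 7, 6, 1, 4, 3],
  [1, 4, 7, 6, 2, 5, 4, 7, 6, 1, 4, 3], [1, 8, 5, 7, 2, 5, 4, 7, 6, 1, 4, 3], [6, 8, 5, 7, 2, 5, 4, 7, 6, 1, 4, 3], [4, 1, 8, 7, 2, 5, 4, 7, 6, 1, 4, 3],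
  [6, 1, 8, 7, 2, 5, 4, 7, 6, 1, 4, 3], [4, 6, 8, 7, 2, 5, 4, 7, 6, 1, 4, 3], [4, 6, 1, 8, 7, 5, 4, 7, 6, 1, 4, 3], [1, 4, 6, 8, 7, 5, 4, 7, 6, 1, 4, 3]]

/-- Part of a table. -/
def lev0Rep29 : List (List ℕ) := [
  [6, 3, 2, 0, 8, 5, 4, 7, 6, 1, 4, 3], [7, 3, 2, 0, 8, 5, 4, 7, 6, 1, 4, 3], [3, 6, 2, 0, 8, 5, 4, 7, 6, 1, 4, 3], [5, 7, 2, 0, 8, 5, 4, 7, 6, 1, 4, 3],
  [3, 6, 3, 0, 8, 5, 4, 7, 6, 1, 4, 3], [7, 6, 3, 0, 8, 5, 4, 7, 6, 1, 4, 3], [7, 3, 6, 0, 8, 5, 4, 7, 6, 1, 4, 3], [4, 7, 6, 0, 8, 5, 4, 7, 6, 1, 4, 3],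
  [4, 7, 6, 2, 8, 5, 4, 7, 6, 1, 4, 3], [5, 7, 6, 2, 8, 5, 4, 7, 6, 1, 4, 3], [2, 5, 7, 2, 8, 5, 4, 7, 6, 1, 4, 3], [1, 4, 7, 6, 8, 5, 4, 7, 6, 1, 4, 3],
  [5, 4, 7, 6, 8, 5, 4, 7, 6, 1, 4, 3], [2, 5, 7, 6, 8, 5, 4, 7, 6, 1, 4, 3], [5, 1, 4, 7, 6, 2, 5, 4, 7, 1, 4, 3], [4, 6, 8, 5, 7, 2, 5, 4, 7, 1, 4, 3],
  [1, 4, 6, 8, 7, 2, 5, 4, 7, 1, 4, 3], [6, 5, 4, 7, 2, 5, 1, 4, 7, 6, 4, 3], [5, 2, 8, 4, 7, 5, 1, 4, 7, 6, 4, 3], [6, 2, 8, 4, 7, 5, 1, 4, 7, 6, 4, 3],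
  [3, 6, 8, 4, 7, 5, 1, 4, 7, 6, 4, 3], [4, 1, 8, 5, 7, 2, 5, 4, 7, 6, 4, 3], [6, 4, 1, 8, 7, 2, 5, 4, 7, 6, 4, 3], [3, 6, 4, 1, 8, 7, 5, 4, 7, 6, 4, 3],
  [7, 3, 6, 2, 5, 4, 7, 5, 1, 4, 0, 3, 2], [4, 7, 6, 2, 5, 4, 7, 5, 1, 4, 0, 3, 2], [5, 7, 6, 2, 5, 4, 7, 5, 1, 4, 0, 3, 2], [4, 7, 3, 6, 5, 4, 7, 5, 1, 4, 0, 3, 2],
  [1, 4, 7, 6, 5, 4, 7, 5, 1, 4, 0, 3, 2], [6, 2, 5, 1, 4, 7, 3, 6, 1, 4, 0, 3, 2], [7, 2, 5, 1, 4, 7, 3, 6, 1, 4, 0, 3, 2], [3, 6, 5, 1, 4, 7, 3, 6, 1, 4, 0, 3, 2]]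

/-- Part of a table. -/
def lev0Rep30 : List (List ℕ) := [
  [4, 6, 5, 1, 4, 7, 3, 6, 1, 4, 0, 3, 2], [7, 6, 5, 1, 4, 7, 3, 6, 1, 4, 0, 3, 2], [4, 7, 5, 1, 4, 7, 3, 6, 1, 4, 0, 3, 2], [4, 3, 6, 1, 4, 7, 3, 6, 1, 4, 0, 3, 2],
  [3, 6, 2, 5, 4, 7, 3, 6, 1, 4, 0, 3, 2], [7, 6, 2, 5, 4, 7, 3, 6, 1, 4, 0, 3, 2], [5, 7, 2, 5, 4, 7, 3, 6, 1, 4, 0, 3, 2], [7, 3, 6, 5, 4, 7, 3, 6, 1, 4, 0, 3, 2],
  [4, 7, 6, 5, 4, 7, 3, 6, 1, 4, 0, 3, 2], [3, 6, 2, 5, 1, 4, 7, 6, 1, 4, 0, 3, 2], [7, 6, 2, 5, 1, 4, 7, 6, 1, 4, 0, 3, 2], [4, 7, 2, 5, 1, 4, 7, 6, 1, 4, 0, 3, 2],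
  [5, 7, 2, 5, 1, 4, 7, 6, 1, 4, 0, 3, 2], [7, 3, 6, 5, 1, 4, 7, 6, 1, 4, 0, 3, 2], [4, 7, 6, 5, 1, 4, 7, 6, 1, 4, 0, 3, 2], [6, 4, 7, 5, 1, 4, 7, 6, 1, 4, 0, 3, 2],
  [7, 3, 6, 2, 5, 4, 7, 6, 1, 4, 0, 3, 2], [4, 7, 6, 2, 5, 4, 7, 6, 1, 4, 0, 3, 2], [5, 7, 6, 2, 5, 4, 7, 6, 1, 4, 0, 3, 2], [4, 7, 3, 6, 5, 4, 7, 6, 1, 4, 0, 3, 2],
  [1, 4, 7, 6, 5, 4, 7, 6, 1, 4, 0, 3, 2], [4, 7, 3, 6, 2, 5, 4, 7, 1, 4, 0, 3, 2], [5, 7, 3, 6, 2, 5, 4, 7, 1, 4, 0, 3, 2], [1, 4, 7, 6, 2, 5, 4, 7, 1, 4, 0, 3, 2],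
  [5, 4, 7, 6, 2, 5, 4, 7, 1, 4, 0, 3, 2], [1, 4, 7, 3, 6, 5, 4, 7, 1, 4, 0, 3, 2], [6, 4, 7, 3, 6, 5, 4, 7, 1, 4, 0, 3, 2], [4, 6, 2, 5, 1, 4, 7, 3, 6, 4, 0, 3, 2],
  [7, 6, 2, 5, 1, 4, 7, 3, 6, 4, 0, 3, 2], [4, 7, 2, 5, 1, 4, 7, 3, 6, 4, 0, 3, 2], [5, 7, 2, 5, 1, 4, 7, 3, 6, 4, 0, 3, 2], [4, 7, 6, 2, 5, 4, 7, 3, 6, 4, 0, 3, 2]]

/-- Part of a table. -/
def lev0Rep31 : List (List ℕ) := [
  [5, 7, 6, 2, 5, 4, 7, 3, 6, 4, 0, 3, 2], [5, 4, 7, 2, 5, 1, 4, 7, 6, 4, 0, 3, 2], [6, 4, 7, 2, 5, 1, 4, 7, 6, 4, 0, 3, 2], [1, 4, 7, 6, 2, 5, 4, 7, 5, 1, 4, 3, 2],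
  [5, 4, 7, 6, 2, 5, 4, 7, 5, 1, 4, 3, 2], [4, 7, 6, 2, 5, 1, 4, 7, 6, 1, 4, 3, 2], [5, 4, 7, 2, 5, 1, 4, 7, 6, 1, 4, 3, 2], [1, 4, 7, 6, 2, 5, 4, 7, 6, 1, 4, 3, 2],
  [5, 1, 4, 7, 6, 2, 5, 4, 7, 1, 4, 3, 2], [6, 5, 4, 7, 2, 5, 1, 4, 7, 6, 4, 3, 2], [3, 6, 2, 5, 1, 4, 7, 3, 6, 1, 4, 0, 3], [4, 6, 2, 5, 1, 4, 7, 3, 6, 1, 4, 0, 3],
  [7, 6, 2, 5, 1, 4, 7, 3, 6, 1, 4, 0, 3], [4, 7, 2, 5, 1, 4, 7, 3, 6, 1, 4, 0, 3], [5, 7, 2, 5, 1, 4, 7, 3, 6, 1, 4, 0, 3], [8, 7, 2, 5, 1, 4, 7, 3, 6, 1, 4, 0, 3],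
  [4, 3, 6, 5, 1, 4, 7, 3, 6, 1, 4, 0, 3], [7, 3, 6, 5, 1, 4, 7, 3, 6, 1, 4, 0, 3], [8, 3, 6, 5, 1, 4, 7, 3, 6, 1, 4, 0, 3], [8, 4, 6, 5, 1, 4, 7, 3, 6, 1, 4, 0, 3],
  [8, 7, 6, 5, 1, 4, 7, 3, 6, 1, 4, 0, 3], [2, 8, 6, 5, 1, 4, 7, 3, 6, 1, 4, 0, 3], [7, 8, 6, 5, 1, 4, 7, 3, 6, 1, 4, 0, 3], [6, 2, 8, 5, 1, 4, 7, 3, 6, 1, 4, 0, 3],
  [3, 6, 8, 5, 1, 4, 7, 3, 6, 1, 4, 0, 3], [4, 6, 8, 5, 1, 4, 7, 3, 6, 1, 4, 0, 3], [4, 7, 8, 5, 1, 4, 7, 3, 6, 1, 4, 0, 3], [8, 4, 3, 6, 1, 4, 7, 3, 6, 1, 4, 0, 3],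
  [4, 3, 6, 8, 1, 4, 7, 3, 6, 1, 4, 0, 3], [7, 3, 6, 2, 5, 4, 7, 3, 6, 1, 4, 0, 3], [4, 7, 6, 2, 5, 4, 7, 3, 6, 1, 4, 0, 3], [5, 7, 6, 2, 5, 4, 7, 3, 6, 1, 4, 0, 3]]

/-- Part of a table. -/
def lev0Rep32 : List (List ℕ) := [
  [8, 5, 7, 2, 5, 4, 7, 3, 6, 1, 4, 0, 3], [1, 8, 7, 2, 5, 4, 7, 3, 6, 1, 4, 0, 3], [6, 8, 7, 2, 5, 4, 7, 3, 6, 1, 4, 0, 3], [4, 7, 3, 6, 5, 4, 7, 3, 6, 1, 4, 0, 3],
  [8, 7, 3, 6, 5, 4, 7, 3, 6, 1, 4, 0, 3], [8, 4, 7, 6, 5, 4, 7, 3, 6, 1, 4, 0, 3], [4, 7, 1, 8, 5, 4, 7, 3, 6, 1, 4, 0, 3], [3, 6, 2, 8, 5, 4, 7, 3, 6, 1, 4, 0, 3],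
  [7, 3, 6, 2, 5, 1, 4, 7, 6, 1, 4, 0, 3], [4, 7, 6, 2, 5, 1, 4, 7, 6, 1, 4, 0, 3], [5, 4, 7, 2, 5, 1, 4, 7, 6, 1, 4, 0, 3], [8, 4, 7, 2, 5, 1, 4, 7, 6, 1, 4, 0, 3],
  [8, 5, 7, 2, 5, 1, 4, 7, 6, 1, 4, 0, 3], [6, 8, 7, 2, 5, 1, 4, 7, 6, 1, 4, 0, 3], [4, 7, 3, 6, 5, 1, 4, 7, 6, 1, 4, 0, 3], [8, 7, 3, 6, 5, 1, 4, 7, 6, 1, 4, 0, 3],
  [8, 4, 7, 6, 5, 1, 4, 7, 6, 1, 4, 0, 3], [8, 6, 4, 7, 5, 1, 4, 7, 6, 1, 4, 0, 3], [3, 6, 2, 8, 5, 1, 4, 7, 6, 1, 4, 0, 3], [4, 7, 3, 6, 2, 5, 4, 7, 6, 1, 4, 0, 3],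
  [5, 7, 3, 6, 2, 5, 4, 7, 6, 1, 4, 0, 3], [8, 7, 3, 6, 2, 5, 4, 7, 6, 1, 4, 0, 3], [1, 4, 7, 6, 2, 5, 4, 7, 6, 1, 4, 0, 3], [8, 4, 7, 6, 2, 5, 4, 7, 6, 1, 4, 0, 3],
  [8, 5, 7, 6, 2, 5, 4, 7, 6, 1, 4, 0, 3], [1, 8, 5, 7, 2, 5, 4, 7, 6, 1, 4, 0, 3], [6, 8, 5, 7, 2, 5, 4, 7, 6, 1, 4, 0, 3], [4, 1, 8, 7, 2, 5, 4, 7, 6, 1, 4, 0, 3],
  [6, 1, 8, 7, 2, 5, 4, 7, 6, 1, 4, 0, 3], [3, 6, 8, 7, 2, 5, 4, 7, 6, 1, 4, 0, 3], [4, 6, 8, 7, 2, 5, 4, 7, 6, 1, 4, 0, 3], [1, 4, 7, 3, 6, 5, 4, 7, 6, 1, 4, 0, 3]]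

/-- Part of a table. -/
def lev0Rep33 : List (List ℕ) := [
  [6, 4, 7, 3, 6, 5, 4, 7, 6, 1, 4, 0, 3], [8, 4, 7, 3, 6, 5, 4, 7, 6, 1, 4, 0, 3], [1, 8, 7, 3, 6, 5, 4, 7, 6, 1, 4, 0, 3], [2, 1, 8, 3, 6, 5, 4, 7, 6, 1, 4, 0, 3],
  [1, 8, 4, 7, 6, 5, 4, 7, 6, 1, 4, 0, 3], [4, 1, 8, 7, 6, 5, 4, 7, 6, 1, 4, 0, 3], [6, 4, 7, 1, 8, 5, 4, 7, 6, 1, 4, 0, 3], [1, 4, 7, 3, 6, 2, 5, 4, 7, 1, 4, 0, 3],
  [5, 4, 7, 3, 6, 2, 5, 4, 7, 1, 4, 0, 3], [6, 4, 7, 3, 6, 2, 5, 4, 7, 1, 4, 0, 3], [8, 4, 7, 3, 6, 2, 5, 4, 7, 1, 4, 0, 3], [8, 5, 7, 3, 6, 2, 5, 4, 7, 1, 4, 0, 3],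
  [5, 1, 4, 7, 6, 2, 5, 4, 7, 1, 4, 0, 3], [8, 5, 4, 7, 6, 2, 5, 4, 7, 1, 4, 0, 3], [1, 8, 4, 7, 6, 2, 5, 4, 7, 1, 4, 0, 3], [6, 1, 4, 7, 3, 6, 5, 4, 7, 1, 4, 0, 3],
  [1, 4, 7, 8, 3, 6, 5, 4, 7, 1, 4, 0, 3], [6, 4, 7, 8, 3, 6, 5, 4, 7, 1, 4, 0, 3], [8, 4, 7, 2, 5, 1, 4, 7, 3, 6, 4, 0, 3], [8, 5, 7, 2, 5, 1, 4, 7, 3, 6, 4, 0, 3],
  [6, 8, 7, 2, 5, 1, 4, 7, 3, 6, 4, 0, 3], [2, 8, 4, 7, 5, 1, 4, 7, 3, 6, 4, 0, 3], [5, 2, 8, 7, 5, 1, 4, 7, 3, 6, 4, 0, 3], [6, 2, 8, 7, 5, 1, 4, 7, 3, 6, 4, 0, 3],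
  [4, 6, 2, 8, 5, 1, 4, 7, 3, 6, 4, 0, 3], [6, 5, 2, 8, 7, 5, 4, 7, 3, 6, 4, 0, 3], [4, 6, 2, 8, 7, 5, 4, 7, 3, 6, 4, 0, 3], [4, 6, 2, 5, 1, 4, 7, 8, 3, 6, 4, 0, 3],
  [8, 5, 4, 7, 2, 5, 1, 4, 7, 6, 4, 0, 3], [6, 8, 4, 7, 2, 5, 1, 4, 7, 6, 4, 0, 3], [5, 2, 8, 4, 7, 5, 1, 4, 7, 6, 4, 0, 3], [6, 2, 8, 4, 7, 5, 1, 4, 7, 6, 4, 0, 3]]

/-- Part of a table. -/
def lev0Rep34 : List (List ℕ) := [
  [2, 8, 6, 4, 7, 5, 1, 4, 7, 6, 1, 4, 3], [5, 2, 8, 4, 7, 5, 1, 4, 7, 6, 1, 4, 3], [6, 5, 2, 8, 7, 5, 1, 4, 7, 6, 1, 4, 3], [1, 4, 6, 8, 7, 5, 1, 4, 7, 6, 1, 4, 3],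
  [6, 1, 8, 5, 7, 2, 5, 4, 7, 6, 1, 4, 3], [4, 6, 8, 5, 7, 2, 5, 4, 7, 6, 1, 4, 3], [3, 6, 3, 2, 0, 8, 5, 4, 7, 6, 1, 4, 3], [7, 6, 3, 2, 0, 8, 5, 4, 7, 6, 1, 4, 3],
  [5, 7, 3, 2, 0, 8, 5, 4, 7, 6, 1, 4, 3], [7, 3, 6, 3, 0, 8, 5, 4, 7, 6, 1, 4, 3], [4, 7, 6, 3, 0, 8, 5, 4, 7, 6, 1, 4, 3], [4, 7, 3, 6, 0, 8, 5, 4, 7, 6, 1, 4, 3],
  [1, 4, 7, 6, 0, 8, 5, 4, 7, 6, 1, 4, 3], [1, 4, 7, 6, 2, 8, 5, 4, 7, 6, 1, 4, 3], [5, 1, 4, 7, 6, 8, 5, 4, 7, 6, 1, 4, 3], [1, 4, 6, 8, 5, 7, 2, 5, 4, 7, 1, 4, 3],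
  [6, 5, 2, 8, 4, 7, 5, 1, 4, 7, 6, 4, 3], [6, 4, 1, 8, 5, 7, 2, 5, 4, 7, 6, 4, 3], [4, 7, 3, 6, 2, 5, 4, 7, 5, 1, 4, 0, 3, 2], [5, 7, 3, 6, 2, 5, 4, 7, 5, 1, 4, 0, 3, 2],
  [1, 4, 7, 6, 2, 5, 4, 7, 5, 1, 4, 0, 3, 2], [5, 4, 7, 6, 2, 5, 4, 7, 5, 1, 4, 0, 3, 2], [1, 4, 7, 3, 6, 5, 4, 7, 5, 1, 4, 0, 3, 2], [6, 4, 7, 3, 6, 5, 4, 7, 5, 1, 4, 0, 3, 2],
  [3, 6, 2, 5, 1, 4, 7, 3, 6, 1, 4, 0, 3, 2], [4, 6, 2, 5, 1, 4, 7, 3, 6, 1, 4, 0, 3, 2], [7, 6, 2, 5, 1, 4, 7, 3, 6, 1, 4, 0, 3, 2], [4, 7, 2, 5, 1, 4, 7, 3, 6, 1, 4, 0, 3, 2],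
  [5, 7, 2, 5, 1, 4, 7, 3, 6, 1, 4, 0, 3, 2], [4, 3, 6, 5, 1, 4, 7, 3, 6, 1, 4, 0, 3, 2], [7, 3, 6, 5, 1, 4, 7, 3, 6, 1, 4, 0, 3, 2], [7, 3, 6, 2, 5, 4, 7, 3, 6, 1, 4, 0, 3, 2]]

/-- Part of a table. -/
def lev0Rep35 : List (List ℕ) := [
  [4, 7, 6, 2, 5, 4, 7, 3, 6, 1, 4, 0, 3, 2], [5, 7, 6, 2, 5, 4, 7, 3, 6, 1, 4, 0, 3, 2], [4, 7, 3, 6, 5, 4, 7, 3, 6, 1, 4, 0, 3, 2], [7, 3, 6, 2, 5, 1, 4, 7, 6, 1, 4, 0, 3, 2],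
  [4, 7, 6, 2, 5, 1, 4, 7, 6, 1, 4, 0, 3, 2], [5, 4, 7, 2, 5, 1, 4, 7, 6, 1, 4, 0, 3, 2], [4, 7, 3, 6, 5, 1, 4, 7, 6, 1, 4, 0, 3, 2], [4, 7, 3, 6, 2, 5, 4, 7, 6, 1, 4, 0, 3, 2],
  [5, 7, 3, 6, 2, 5, 4, 7, 6, 1, 4, 0, 3, 2], [1, 4, 7, 6, 2, 5, 4, 7, 6, 1, 4, 0, 3, 2], [1, 4, 7, 3, 6, 5, 4, 7, 6, 1, 4, 0, 3, 2], [6, 4, 7, 3, 6, 5, 4, 7, 6, 1, 4, 0, 3, 2],
  [1, 4, 7, 3, 6, 2, 5, 4, 7, 1, 4, 0, 3, 2], [5, 4, 7, 3, 6, 2, 5, 4, 7, 1, 4, 0, 3, 2], [6, 4, 7, 3, 6, 2, 5, 4, 7, 1, 4, 0, 3, 2], [5, 1, 4, 7, 6, 2, 5, 4, 7, 1, 4, 0, 3, 2],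
  [6, 1, 4, 7, 3, 6, 5, 4, 7, 1, 4, 0, 3, 2], [5, 1, 4, 7, 6, 2, 5, 4, 7, 5, 1, 4, 3, 2], [4, 3, 6, 2, 5, 1, 4, 7, 3, 6, 1, 4, 0, 3], [7, 3, 6, 2, 5, 1, 4, 7, 3, 6, 1, 4, 0, 3],
  [8, 7, 6, 2, 5, 1, 4, 7, 3, 6, 1, 4, 0, 3], [8, 4, 7, 2, 5, 1, 4, 7, 3, 6, 1, 4, 0, 3], [8, 5, 7, 2, 5, 1, 4, 7, 3, 6, 1, 4, 0, 3], [8, 4, 3, 6, 5, 1, 4, 7, 3, 6, 1, 4, 0, 3],
  [8, 7, 3, 6, 5, 1, 4, 7, 3, 6, 1, 4, 0, 3], [2, 8, 3, 6, 5, 1, 4, 7, 3, 6, 1, 4, 0, 3], [7, 8, 3, 6, 5, 1, 4, 7, 3, 6, 1, 4, 0, 3], [2, 8, 4, 6, 5, 1, 4, 7, 3, 6, 1, 4, 0, 3],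
  [7, 2, 8, 6, 5, 1, 4, 7, 3, 6, 1, 4, 0, 3], [3, 6, 2, 8, 5, 1, 4, 7, 3, 6, 1, 4, 0, 3], [4, 6, 2, 8, 5, 1, 4, 7, 3, 6, 1, 4, 0, 3], [4, 3, 6, 8, 5, 1, 4, 7, 3, 6, 1, 4, 0, 3]]

/-- Part of a table. -/
def lev0Rep36 : List (List ℕ) := [
  [4, 7, 3, 6, 2, 5, 4, 7, 3, 6, 1, 4, 0, 3], [5, 7, 3, 6, 2, 5, 4, 7, 3, 6, 1, 4, 0, 3], [1, 8, 5, 7, 2, 5, 4, 7, 3, 6, 1, 4, 0, 3], [6, 8, 5, 7, 2, 5, 4, 7, 3, 6, 1, 4, 0, 3],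
  [4, 1, 8, 7, 2, 5, 4, 7, 3, 6, 1, 4, 0, 3], [3, 6, 8, 7, 2, 5, 4, 7, 3, 6, 1, 4, 0, 3], [4, 6, 8, 7, 2, 5, 4, 7, 3, 6, 1, 4, 0, 3], [6, 4, 7, 3, 6, 5, 4, 7, 3, 6, 1, 4, 0, 3],
  [8, 4, 7, 3, 6, 5, 4, 7, 3, 6, 1, 4, 0, 3], [4, 7, 3, 6, 2, 5, 1, 4, 7, 6, 1, 4, 0, 3], [8, 5, 4, 7, 2, 5, 1, 4, 7, 6, 1, 4, 0, 3], [6, 8, 5, 7, 2, 5, 1, 4, 7, 6, 1, 4, 0, 3],
  [3, 6, 8, 7, 2, 5, 1, 4, 7, 6, 1, 4, 0, 3], [8, 4, 7, 3, 6, 5, 1, 4, 7, 6, 1, 4, 0, 3], [1, 8, 4, 7, 6, 5, 1, 4, 7, 6, 1, 4, 0, 3], [1, 4, 7, 3, 6, 2, 5, 4, 7, 6, 1, 4, 0, 3],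
  [6, 4, 7, 3, 6, 2, 5, 4, 7, 6, 1, 4, 0, 3], [8, 4, 7, 3, 6, 2, 5, 4, 7, 6, 1, 4, 0, 3], [8, 5, 7, 3, 6, 2, 5, 4, 7, 6, 1, 4, 0, 3], [6, 8, 7, 3, 6, 2, 5, 4, 7, 6, 1, 4, 0, 3],
  [8, 1, 4, 7, 6, 2, 5, 4, 7, 6, 1, 4, 0, 3], [4, 1, 8, 5, 7, 2, 5, 4, 7, 6, 1, 4, 0, 3], [6, 1, 8, 5, 7, 2, 5, 4, 7, 6, 1, 4, 0, 3], [3, 6, 8, 5, 7, 2, 5, 4, 7, 6, 1, 4, 0, 3],
  [4, 6, 8, 5, 7, 2, 5, 4, 7, 6, 1, 4, 0, 3], [3, 6, 1, 8, 7, 2, 5, 4, 7, 6, 1, 4, 0, 3], [4, 3, 6, 8, 7, 2, 5, 4, 7, 6, 1, 4, 0, 3], [6, 1, 4, 7, 3, 6, 5, 4, 7, 6, 1, 4, 0, 3],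
  [1, 8, 4, 7, 3, 6, 5, 4, 7, 6, 1, 4, 0, 3], [6, 8, 4, 7, 3, 6, 5, 4, 7, 6, 1, 4, 0, 3], [4, 1, 8, 7, 3, 6, 5, 4, 7, 6, 1, 4, 0, 3], [5, 1, 4, 7, 3, 6, 2, 5, 4, 7, 1, 4, 0, 3]]

/-- Part of a table. -/
def lev0Rep37 : List (List ℕ) := [
  [6, 1, 4, 7, 3, 6, 2, 5, 4, 7, 1, 4, 0, 3], [6, 5, 4, 7, 3, 6, 2, 5, 4, 7, 1, 4, 0, 3], [8, 5, 4, 7, 3, 6, 2, 5, 4, 7, 1, 4, 0, 3], [1, 8, 4, 7, 3, 6, 2, 5, 4, 7, 1, 4, 0, 3],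
  [6, 8, 4, 7, 3, 6, 2, 5, 4, 7, 1, 4, 0, 3], [1, 8, 5, 4, 7, 6, 2, 5, 4, 7, 1, 4, 0, 3], [4, 6, 1, 4, 7, 3, 6, 5, 4, 7, 1, 4, 0, 3], [6, 1, 4, 7, 8, 3, 6, 5, 4, 7, 1, 4, 0, 3],
  [4, 7, 6, 3, 2, 0, 8, 5, 4, 7, 6, 1, 4, 3], [4, 7, 3, 6, 3, 0, 8, 5, 4, 7, 6, 1, 4, 3], [1, 4, 7, 3, 6, 0, 8, 5, 4, 7, 6, 1, 4, 3], [6, 4, 7, 3, 6, 0, 8, 5, 4, 7, 6, 1, 4, 3],
  [1, 4, 7, 3, 6, 2, 5, 4, 7, 5, 1, 4, 0, 3, 2], [5, 4, 7, 3, 6, 2, 5, 4, 7, 5, 1, 4, 0, 3, 2], [6, 4, 7, 3, 6, 2, 5, 4, 7, 5, 1, 4, 0, 3, 2], [5, 1, 4, 7, 6, 2, 5, 4, 7, 5, 1, 4, 0, 3, 2],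
  [6, 1, 4, 7, 3, 6, 5, 4, 7, 5, 1, 4, 0, 3, 2], [4, 3, 6, 2, 5, 1, 4, 7, 3, 6, 1, 4, 0, 3, 2], [7, 3, 6, 2, 5, 1, 4, 7, 3, 6, 1, 4, 0, 3, 2], [4, 7, 3, 6, 2, 5, 4, 7, 3, 6, 1, 4, 0, 3, 2],
  [5, 7, 3, 6, 2, 5, 4, 7, 3, 6, 1, 4, 0, 3, 2], [6, 4, 7, 3, 6, 5, 4, 7, 3, 6, 1, 4, 0, 3, 2], [4, 7, 3, 6, 2, 5, 1, 4, 7, 6, 1, 4, 0, 3, 2], [1, 4, 7, 3, 6, 2, 5, 4, 7, 6, 1, 4, 0, 3, 2],
  [6, 4, 7, 3, 6, 2, 5, 4, 7, 6, 1, 4, 0, 3, 2], [6, 1, 4, 7, 3, 6, 5, 4, 7, 6, 1, 4, 0, 3, 2], [5, 1, 4, 7, 3, 6, 2, 5, 4, 7, 1, 4, 0, 3, 2], [6, 1, 4, 7, 3, 6, 2, 5, 4, 7, 1, 4, 0, 3, 2],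
  [6, 5, 4, 7, 3, 6, 2, 5, 4, 7, 1, 4, 0, 3, 2], [4, 6, 1, 4, 7, 3, 6, 5, 4, 7, 1, 4, 0, 3, 2], [8, 7, 3, 6, 2, 5, 1, 4, 7, 3, 6, 1, 4, 0, 3], [2, 8, 4, 3, 6, 5, 1, 4, 7, 3, 6, 1, 4, 0, 3]]

/-- Part of a table. -/
def lev0Rep38 : List (List ℕ) := [
  [7, 2, 8, 3, 6, 5, 1, 4, 7, 3, 6, 1, 4, 0, 3], [4, 3, 6, 2, 8, 5, 1, 4, 7, 3, 6, 1, 4, 0, 3], [6, 4, 7, 3, 6, 2, 5, 4, 7, 3, 6, 1, 4, 0, 3], [3, 6, 8, 5, 7, 2, 5, 4, 7, 3, 6, 1, 4, 0, 3],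
  [4, 3, 6, 8, 7, 2, 5, 4, 7, 3, 6, 1, 4, 0, 3], [6, 8, 4, 7, 3, 6, 5, 4, 7, 3, 6, 1, 4, 0, 3], [3, 6, 8, 5, 7, 2, 5, 1, 4, 7, 6, 1, 4, 0, 3], [1, 8, 4, 7, 3, 6, 5, 1, 4, 7, 6, 1, 4, 0, 3],
  [6, 1, 4, 7, 3, 6, 2, 5, 4, 7, 6, 1, 4, 0, 3], [8, 1, 4, 7, 3, 6, 2, 5, 4, 7, 6, 1, 4, 0, 3], [8, 6, 4, 7, 3, 6, 2, 5, 4, 7, 6, 1, 4, 0, 3], [6, 8, 4, 7, 3, 6, 2, 5, 4, 7, 6, 1, 4, 0, 3],
  [4, 6, 8, 7, 3, 6, 2, 5, 4, 7, 6, 1, 4, 0, 3], [3, 6, 1, 8, 5, 7, 2, 5, 4, 7, 6, 1, 4, 0, 3], [4, 3, 6, 8, 5, 7, 2, 5, 4, 7, 6, 1, 4, 0, 3], [8, 6, 1, 4, 7, 3, 6, 5, 4, 7, 6, 1, 4, 0, 3],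
  [6, 5, 1, 4, 7, 3, 6, 2, 5, 4, 7, 1, 4, 0, 3], [4, 6, 1, 4, 7, 3, 6, 2, 5, 4, 7, 1, 4, 0, 3], [8, 6, 1, 4, 7, 3, 6, 2, 5, 4, 7, 1, 4, 0, 3], [1, 8, 5, 4, 7, 3, 6, 2, 5, 4, 7, 1, 4, 0, 3],
  [6, 8, 5, 4, 7, 3, 6, 2, 5, 4, 7, 1, 4, 0, 3], [4, 6, 1, 4, 7, 8, 3, 6, 5, 4, 7, 1, 4, 0, 3], [6, 4, 7, 3, 6, 3, 0, 8, 5, 4, 7, 6, 1, 4, 3], [6, 1, 4, 7, 3, 6, 0, 8, 5, 4, 7, 6, 1, 4, 3],
  [5, 1, 4, 7, 3, 6, 2, 5, 4, 7, 5, 1, 4, 0, 3, 2], [6, 1, 4, 7, 3, 6, 2, 5, 4, 7, 5, 1, 4, 0, 3, 2], [6, 5, 4, 7, 3, 6, 2, 5, 4, 7, 5, 1, 4, 0, 3, 2], [4, 6, 1, 4, 7, 3, 6, 5, 4, 7, 5, 1, 4, 0, 3, 2],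
  [6, 4, 7, 3, 6, 2, 5, 4, 7, 3, 6, 1, 4, 0, 3, 2], [6, 1, 4, 7, 3, 6, 2, 5, 4, 7, 6, 1, 4, 0, 3, 2], [6, 5, 1, 4, 7, 3, 6, 2, 5, 4, 7, 1, 4, 0, 3, 2], [4, 6, 1, 4, 7, 3, 6, 2, 5, 4, 7, 1, 4, 0, 3, 2]]

/-- Part of a table. -/
def lev0Rep39 : List (List ℕ) := [
  [8, 6, 4, 7, 3, 6, 2, 5, 4, 7, 3, 6, 1, 4, 0, 3], [8, 6, 1, 4, 7, 3, 6, 2, 5, 4, 7, 6, 1, 4, 0, 3], [6, 8, 1, 4, 7, 3, 6, 2, 5, 4, 7, 6, 1, 4, 0, 3], [4, 6, 8, 4, 7, 3, 6, 2, 5, 4, 7, 6, 1, 4, 0, 3],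
  [4, 6, 5, 1, 4, 7, 3, 6, 2, 5, 4, 7, 1, 4, 0, 3], [8, 6, 5, 1, 4, 7, 3, 6, 2, 5, 4, 7, 1, 4, 0, 3], [8, 4, 6, 1, 4, 7, 3, 6, 2, 5, 4, 7, 1, 4, 0, 3], [6, 5, 1, 4, 7, 3, 6, 2, 5, 4, 7, 5, 1, 4, 0, 3, 2],
  [4, 6, 1, 4, 7, 3, 6, 2, 5, 4, 7, 5, 1, 4, 0, 3, 2], [4, 6, 5, 1, 4, 7, 3, 6, 2, 5, 4, 7, 1, 4, 0, 3, 2], [8, 4, 6, 5, 1, 4, 7, 3, 6, 2, 5, 4, 7, 1, 4, 0, 3], [4, 6, 5, 1, 4, 7, 3, 6, 2, 5, 4, 7, 5, 1, 4, 0, 3, 2]]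

/-- A table in blocks. -/
def lev0RepTab : List (List (List ℕ)) := [
  lev0Rep0, lev0Rep1, lev0Rep2, lev0Rep3, lev0Rep4, lev0Rep5, lev0Rep6, lev0Rep7,
  lev0Rep8, lev0Rep9, lev0Rep10, lev0Rep11, lev0Rep12, lev0Rep13, lev0Rep14, lev0Rep15,
  lev0Rep16, lev0Rep17, lev0Rep18, lev0Rep19, lev0Rep20, lev0Rep21, lev0Rep22, lev0Rep23,
  lev0Rep24, lev0Rep25, lev0Rep26, lev0Rep27, lev0Rep28, lev0Rep29, lev0Rep30, lev0Rep31,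
  lev0Rep32, lev0Rep33, lev0Rep34, lev0Rep35, lev0Rep36, lev0Rep37, lev0Rep38, lev0Rep39]

/-- Part of a table. -/
def lev0Mov0 : List (List (ℕ × List ℕ)) := [
  [(0, [4, 1, 4]), (0, [5, 1, 5]), (1, []), (2, []), (3, []), (0, [0]), (0, [1]), (1, [2]), (4, [])],
  [(1, [4, 1, 4]), (1, [5, 1, 5]), (0, []), (5, []), (6, []), (7, []), (1, [1]), (0, [2]), (7, [0, 3, 0])],
  [(8, []), (2, [5, 1, 5]), (5, []), (0, []), (9, []), (2, [0]), (8, [4]), (5, [2]), (10, [])],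
  [(3, [4, 1, 4]), (11, []), (6, []), (9, []), (0, []), (3, [0]), (11, [5]), (12, []), (13, [])],
  [(4, [4, 3, 1, 0, 3, 1, 0, 3, 1, 4, 0]), (4, [3, 5, 1, 5, 0, 3, 0, 2, 3, 2, 0]), (4, [3]), (10, []), (13, []), (4, [0]), (4, [3, 1, 0, 3, 1, 0, 3, 1, 0]), (4, [0, 2, 0, 3, 0, 2, 0]), (0, [])],
  [(14, []), (5, [5, 1, 5]), (2, []), (1, []), (15, []), (16, []), (14, [4]), (2, [2]), (16, [0, 3, 0])],
  [(6, [4, 1, 4]), (17, []), (3, []), (15, []), (1, []), (18, []), (17, [5]), (19, []), (18, [0, 3, 0])],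
  [(7, [4, 1, 4]), (7, [5, 1, 5]), (7, [0]), (16, []), (18, []), (1, []), (7, [1]), (7, [2, 0, 2]), (1, [0, 3, 0])],
  [(2, []), (8, [5, 1, 5]), (14, []), (8, [4, 1, 4]), (20, []), (8, [0]), (2, [4]), (14, [2]), (8, [4, 3, 1, 0, 3, 1, 0, 3, 4, 0])],
  [(20, []), (21, []), (15, []), (3, []), (2, []), (9, [0]), (22, []), (23, []), (24, [])],
  [(25, []), (10, [3, 5, 1, 5, 0, 3, 0, 2, 3, 2, 0]), (10, [3]), (4, []), (24, []), (10, [0]), (25, [5, 1, 5, 1, 4, 1, 6, 7]), (10, [0, 2, 0, 3, 0, 2, 0]), (2, [])],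
  [(11, [4, 1, 4]), (3, []), (17, []), (21, []), (11, [5, 1, 5]), (11, [0]), (3, [5]), (26, []), (11, [3, 0, 2, 3, 2, 0, 3, 0])],
  [(12, [4, 1, 4]), (26, []), (19, []), (23, []), (19, [2]), (27, []), (26, [5]), (3, []), (19, [0, 2, 3, 2, 0, 3, 0, 6])],
  [(13, [4, 3, 1, 0, 3, 1, 0, 3, 1, 4, 0]), (28, []), (13, [3]), (24, []), (4, []), (13, [0]), (28, [1, 5, 4, 1, 4, 1, 6, 7]), (29, []), (3, [])],
  [(5, []), (14, [5, 1, 5]), (8, []), (14, [4, 1, 4]), (30, []), (31, []), (5, [4]), (8, [2]), (14, [0, 2, 3, 2, 1, 3, 1, 0, 6])],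
  [(30, []), (32, []), (9, []), (6, []), (5, []), (33, []), (34, []), (35, []), (33, [0, 3, 0])],
  [(31, []), (16, [5, 1, 5]), (16, [0]), (7, []), (33, []), (5, []), (31, [4]), (16, [2, 0, 2]), (5, [0, 3, 0])],
  [(17, [4, 1, 4]), (6, []), (11, []), (32, []), (17, [5, 1, 5]), (36, []), (6, [5]), (37, []), (17, [0, 3, 2, 3, 2, 0])],
  [(18, [4, 1, 4]), (36, []), (18, [0]), (33, []), (7, []), (6, []), (36, [5]), (38, []), (6, [0, 3, 0])],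
  [(19, [4, 1, 4]), (37, []), (12, []), (35, []), (12, [2]), (39, []), (37, [5]), (6, []), (12, [0, 3, 0, 2, 3, 2, 0, 6])],
  [(9, []), (40, []), (30, []), (20, [4, 1, 4]), (8, []), (20, [0]), (41, []), (42, []), (20, [4, 3, 1, 0, 3, 1, 0, 3, 4, 0])],
  [(40, []), (9, []), (32, []), (11, []), (21, [5, 1, 5]), (21, [0]), (43, []), (44, []), (21, [3, 0, 2, 3, 2, 0, 3, 0])],
  [(41, []), (43, []), (34, []), (43, [5]), (41, [4]), (22, [0]), (9, []), (45, []), (46, [])],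
  [(42, []), (44, []), (35, []), (12, []), (35, [2]), (47, []), (45, []), (9, []), (35, [0, 2, 3, 2, 0, 3, 0, 6])],
  [(48, []), (49, []), (24, [3]), (13, []), (10, []), (24, [0]), (46, [3, 1, 0, 3, 1, 0, 3, 0]), (50, []), (9, [])],
  [(10, []), (25, [3, 5, 1, 5, 0, 3, 0, 2, 3, 2, 0]), (25, [3]), (25, [4, 3, 1, 0, 3, 1, 0, 3, 1, 4, 0]), (48, []), (25, [0]), (10, [5, 1, 5, 1, 4, 1, 6, 7]), (25, [0, 2, 0, 3, 0, 2, 0]), (25, [4, 3, 1, 0, 3, 1, 0, 3, 4, 0])],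
  [(26, [4, 1, 4]), (12, []), (37, []), (44, []), (51, []), (52, []), (12, [5]), (11, []), (53, [])],
  [(27, [4, 1, 4]), (52, []), (54, []), (47, []), (39, [2]), (12, []), (52, [5]), (27, [0]), (39, [0, 2, 3, 2, 0, 3, 0, 6])],
  [(28, [4, 3, 1, 0, 3, 1, 0, 3, 1, 4, 0]), (13, []), (28, [3]), (49, []), (28, [3, 5, 1, 5, 0, 3, 0, 2, 3, 2, 0]), (28, [0]), (13, [1, 5, 4, 1, 4, 1, 6, 7]), (53, [3, 2, 3, 2, 6]), (28, [3, 0, 2, 3, 2, 0, 3, 0])],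
  [(29, [4, 3, 1, 0, 3, 1, 0, 3, 1, 4, 0]), (53, [3, 2, 3, 2, 6]), (29, [3]), (50, []), (29, [0, 2, 0, 3, 0, 2, 0]), (55, []), (53, [3, 1, 5, 4, 1, 4, 3, 1, 7]), (13, []), (38, [0, 2, 3, 2, 0, 3, 6])],
  [(15, []), (56, []), (20, []), (30, [4, 1, 4]), (14, []), (57, []), (58, []), (59, []), (30, [0, 2, 3, 2, 1, 3, 1, 0, 6])],
  [(16, []), (31, [5, 1, 5]), (31, [0]), (31, [4, 1, 4]), (57, []), (14, []), (16, [4]), (31, [2, 0, 2]), (31, [0, 2, 3, 2, 1, 3, 1, 0, 6])]]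

/-- Part of a table. -/
def lev0Mov1 : List (List (ℕ × List ℕ)) := [
  [(56, []), (15, []), (21, []), (17, []), (32, [5, 1, 5]), (60, []), (61, []), (62, []), (32, [0, 3, 2, 3, 2, 0])],
  [(57, []), (60, []), (33, [0]), (18, []), (16, []), (15, []), (63, []), (64, []), (15, [0, 3, 0])],
  [(58, []), (61, []), (22, []), (61, [5]), (58, [4]), (63, []), (15, []), (65, []), (63, [1, 0, 3, 1, 0])],
  [(59, []), (62, []), (23, []), (19, []), (23, [2]), (66, []), (65, []), (15, []), (23, [0, 3, 0, 2, 3, 2, 0, 6])],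
  [(36, [4, 1, 4]), (18, []), (36, [0]), (60, []), (36, [5, 1, 5]), (17, []), (18, [5]), (67, []), (36, [0, 3, 2, 3, 2, 0])],
  [(37, [4, 1, 4]), (19, []), (26, []), (62, []), (68, []), (69, []), (19, [5]), (17, []), (67, [3, 0, 2, 3, 2, 6])],
  [(38, [4, 1, 4]), (67, []), (38, [0]), (64, []), (38, [2, 0, 2]), (70, []), (67, [5]), (18, []), (29, [3, 0, 2, 3, 2, 0, 6])],
  [(39, [4, 1, 4]), (69, []), (71, []), (66, []), (27, [2]), (19, []), (69, [5]), (70, []), (27, [0, 3, 0, 2, 3, 2, 0, 6])],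
  [(21, []), (20, []), (56, []), (40, [4, 1, 4]), (40, [5, 1, 5]), (40, [0]), (72, []), (73, []), (40, [5, 1, 5, 4, 1, 4, 1, 7])],
  [(22, []), (72, []), (58, []), (74, []), (22, [4]), (41, [0]), (20, []), (75, []), (76, [])],
  [(23, []), (73, []), (59, []), (42, [4, 1, 4]), (59, [2]), (77, []), (75, []), (20, []), (42, [5, 1, 5, 4, 3, 1, 4, 3, 1, 7])],
  [(72, []), (22, []), (61, []), (22, [5]), (74, [4, 5]), (43, [0]), (21, []), (78, []), (79, [])],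
  [(73, []), (23, []), (62, []), (26, []), (80, []), (81, []), (78, []), (21, []), (82, [])],
  [(75, []), (78, []), (65, []), (78, [5]), (83, []), (84, []), (23, []), (22, []), (85, [])],
  [(76, [1, 3, 0, 2, 3, 2, 0, 3, 1, 0]), (79, [3, 0, 2, 1, 3, 2, 1, 0, 3, 0]), (46, [1, 3, 1]), (79, [5]), (76, [4]), (46, [0]), (24, [3, 1, 0, 3, 1, 0, 3, 0]), (86, []), (22, [])],
  [(77, []), (81, []), (87, []), (27, []), (66, [2]), (23, []), (84, []), (47, [0]), (66, [0, 2, 3, 2, 0, 3, 0, 6])],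
  [(24, []), (88, []), (48, [3]), (48, [4, 3, 1, 0, 3, 1, 0, 3, 1, 4, 0]), (25, []), (48, [0]), (76, [3, 0, 2, 1, 3, 2, 1, 0, 3, 0, 6]), (89, []), (48, [4, 3, 1, 0, 3, 1, 0, 3, 4, 0])],
  [(88, []), (24, []), (49, [3]), (28, []), (49, [3, 5, 1, 5, 0, 3, 0, 2, 3, 2, 0]), (49, [0]), (79, [1, 3, 0, 2, 3, 2, 0, 3, 1, 0, 6]), (82, [3, 2, 3, 2, 6]), (49, [3, 0, 2, 3, 2, 0, 3, 0])],
  [(89, []), (82, [3, 2, 3, 2, 6]), (50, [3]), (29, []), (50, [0, 2, 0, 3, 0, 2, 0]), (90, []), (86, [3, 1, 0, 3, 1, 0, 3, 0]), (24, []), (64, [0, 2, 3, 2, 0, 3, 6])],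
  [(51, [4, 1, 4]), (68, [2]), (68, []), (80, []), (26, []), (91, []), (68, [5, 2, 5]), (51, [5, 1, 5]), (92, [])],
  [(52, [4, 1, 4]), (27, []), (93, []), (81, []), (91, []), (26, []), (27, [5]), (52, [0]), (94, [])],
  [(53, [3, 4, 1, 0, 3, 1, 0, 3, 1, 4, 0]), (29, [3, 2, 3, 2, 6]), (53, [3]), (82, []), (92, []), (94, []), (29, [4, 1, 4, 3, 1, 5, 3, 1, 6, 7]), (28, [3, 2, 3, 2, 6]), (26, [])],
  [(54, [4, 1, 4]), (93, []), (27, []), (87, []), (71, [2]), (71, []), (93, [5]), (54, [0]), (54, [3, 2, 3, 2])],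
  [(55, [4, 3, 1, 0, 3, 1, 0, 3, 1, 4, 0]), (94, [3, 2, 3, 2, 6]), (95, []), (90, []), (55, [0, 2, 0, 3, 0, 2, 0]), (29, []), (94, [3, 1, 5, 4, 1, 4, 3, 1, 7]), (55, [0]), (70, [0, 2, 3, 2, 0, 3, 6])],
  [(32, []), (30, []), (40, []), (56, [4, 1, 4]), (56, [5, 1, 5]), (96, []), (97, []), (98, []), (56, [4, 0, 3, 4, 3, 0, 6])],
  [(33, []), (96, []), (57, [0]), (57, [4, 1, 4]), (31, []), (30, []), (99, []), (100, []), (57, [0, 2, 3, 2, 1, 3, 1, 0, 6])],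
  [(34, []), (97, []), (41, []), (101, []), (34, [4]), (99, []), (30, []), (102, []), (99, [0, 2, 1, 3, 2, 1, 0])],
  [(35, []), (98, []), (42, []), (59, [4, 1, 4]), (42, [2]), (103, []), (102, []), (30, []), (59, [5, 1, 5, 3, 4, 1, 4, 3, 1, 6, 7])],
  [(96, []), (33, []), (60, [0]), (36, []), (60, [5, 1, 5]), (32, []), (104, []), (105, []), (60, [0, 3, 2, 3, 2, 0])],
  [(97, []), (34, []), (43, []), (34, [5]), (101, [4, 5]), (104, []), (32, []), (106, []), (104, [4, 0, 2, 3, 4, 2, 0])],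
  [(98, []), (35, []), (44, []), (37, []), (107, []), (108, []), (106, []), (32, []), (105, [3, 0, 2, 3, 2, 6])],
  [(99, []), (104, []), (63, [0]), (104, [5]), (99, [4]), (34, []), (33, []), (85, [1, 3, 1, 4, 0, 2, 3, 4, 2, 0, 6]), (34, [1, 0, 3, 1, 0])]]

/-- Part of a table. -/
def lev0Mov2 : List (List (ℕ × List ℕ)) := [
  [(100, []), (105, []), (64, [0]), (38, []), (64, [2, 0, 2]), (109, []), (85, [1, 3, 1, 4, 0, 2, 3, 4, 2, 0, 6]), (33, []), (50, [3, 0, 2, 3, 2, 0, 6])],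
  [(102, []), (106, []), (45, []), (106, [5]), (110, []), (111, []), (35, []), (34, []), (86, [1, 3, 0, 2, 3, 2, 1, 3, 0])],
  [(103, []), (108, []), (112, []), (39, []), (47, [2]), (35, []), (111, []), (109, []), (47, [0, 3, 0, 2, 3, 2, 0, 6])],
  [(67, [4, 1, 4]), (38, []), (67, [0]), (105, []), (113, []), (114, []), (38, [5]), (36, []), (37, [2, 3, 2, 0, 3, 6])],
  [(68, [4, 1, 4]), (51, [2]), (51, []), (107, []), (37, []), (115, []), (51, [5, 2, 5]), (68, [5, 1, 5]), (113, [3, 0, 2, 3, 2, 6])],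
  [(69, [4, 1, 4]), (39, []), (116, []), (108, []), (115, []), (37, []), (39, [5]), (114, []), (114, [3, 0, 2, 3, 2, 6])],
  [(70, [4, 1, 4]), (114, []), (117, []), (109, []), (70, [2, 0, 2]), (38, []), (114, [5]), (39, []), (55, [3, 0, 2, 3, 2, 0, 6])],
  [(71, [4, 1, 4]), (116, []), (39, []), (112, []), (54, [2]), (54, []), (116, [5]), (117, []), (71, [3, 2, 3, 2])],
  [(43, []), (41, []), (97, []), (118, []), (118, [4, 5, 4]), (72, [0]), (40, []), (119, []), (72, [3, 1, 4, 0, 3, 4, 1, 0, 3, 0])],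
  [(44, []), (42, []), (98, []), (73, [4, 1, 4]), (120, []), (121, []), (119, []), (40, []), (73, [3, 4, 1, 0, 3, 1, 0, 3, 4, 0])],
  [(118, [5]), (118, []), (101, []), (41, []), (43, [5, 4]), (74, [0]), (74, [4, 1, 4]), (122, []), (123, [])],
  [(45, []), (119, []), (102, []), (122, []), (124, []), (125, []), (42, []), (41, []), (102, [0, 2, 3, 2, 0, 2, 1, 3, 2, 1, 0, 6])],
  [(46, [1, 3, 0, 2, 3, 2, 0, 3, 1, 0]), (126, []), (76, [2, 1, 3, 2, 1]), (123, []), (46, [4]), (76, [0]), (48, [3, 0, 2, 1, 3, 2, 1, 0, 3, 0, 6]), (127, []), (41, [])],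
  [(47, []), (121, []), (128, []), (77, [4, 1, 4]), (103, [2]), (42, []), (125, []), (77, [0]), (77, [5, 1, 5, 4, 3, 1, 4, 3, 1, 7])],
  [(119, []), (45, []), (106, []), (45, [5]), (129, []), (130, []), (44, []), (43, []), (131, [])],
  [(126, [3, 1, 0, 3, 1, 0, 3, 0, 6]), (46, [3, 0, 2, 1, 3, 2, 1, 0, 3, 0]), (79, [4, 2, 3, 4, 2]), (46, [5]), (123, [4, 5]), (79, [0]), (49, [1, 3, 0, 2, 3, 2, 0, 3, 1, 0, 6]), (132, []), (43, [])],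
  [(120, []), (107, [2]), (107, []), (51, []), (44, []), (133, []), (134, []), (80, [5, 1, 5]), (135, [])],
  [(121, []), (47, []), (136, []), (52, []), (133, []), (44, []), (130, []), (81, [0]), (137, [])],
  [(138, []), (50, [3, 2, 3, 2, 6]), (82, [3]), (53, []), (135, []), (137, []), (132, [3, 4, 0, 3, 4, 0, 2, 3, 2, 0]), (49, [3, 2, 3, 2, 6]), (44, [])],
  [(124, []), (139, []), (110, []), (129, [5]), (45, []), (140, []), (110, [2]), (124, [4]), (141, [])],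
  [(125, []), (130, []), (142, []), (130, [5]), (140, []), (45, []), (47, []), (84, [0]), (143, [])],
  [(144, []), (131, [0, 3, 2, 1, 3, 2, 1, 0, 6]), (85, [4, 2, 3, 4, 2]), (131, [5]), (141, []), (143, []), (64, [0, 3, 2, 1, 3, 2, 0, 3, 1, 0]), (63, [0, 3, 2, 1, 3, 2, 0, 3, 1, 0]), (45, [])],
  [(127, [1, 3, 0, 2, 3, 2, 0, 3, 1, 0]), (132, [3, 0, 2, 1, 3, 2, 1, 0, 3, 0]), (86, [1, 3, 1]), (132, [5]), (145, []), (146, []), (50, [3, 1, 0, 3, 1, 0, 3, 0]), (46, []), (65, [0, 3, 2, 1, 3, 2, 0, 3, 1])],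
  [(128, []), (136, []), (47, []), (54, []), (112, [2]), (112, []), (142, []), (87, [0]), (87, [3, 2, 3, 2])],
  [(49, []), (48, []), (88, [3]), (88, [4, 3, 1, 0, 3, 1, 0, 3, 1, 4, 0]), (88, [3, 5, 1, 5, 0, 3, 0, 2, 3, 2, 0]), (88, [0]), (126, [3, 0, 2, 1, 3, 2, 1, 0, 3, 0, 6]), (138, [3, 2, 3, 2, 6]), (88, [5, 1, 5, 4, 1, 4, 1, 7])],
  [(50, []), (138, [3, 2, 3, 2, 6]), (89, [3]), (89, [4, 3, 1, 0, 3, 1, 0, 3, 1, 4, 0]), (89, [0, 2, 0, 3, 0, 2, 0]), (147, []), (127, [3, 0, 2, 1, 3, 2, 1, 0, 3, 0, 6]), (48, []), (89, [5, 1, 5, 4, 3, 1, 4, 3, 1, 7])],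
  [(147, []), (137, [3, 2, 3, 2, 6]), (148, []), (55, []), (90, [0, 2, 0, 3, 0, 2, 0]), (50, []), (146, [3, 1, 0, 3, 1, 0, 3, 0]), (90, [0]), (109, [0, 2, 3, 2, 0, 3, 6])],
  [(91, [4, 1, 4]), (115, [2]), (149, []), (133, []), (52, []), (51, []), (115, [5, 2, 5]), (150, []), (151, [])],
  [(92, [3, 4, 1, 0, 3, 1, 0, 3, 1, 4, 0]), (92, [0, 2, 0, 3, 0, 2, 0]), (92, [3]), (135, []), (53, []), (151, []), (92, [5, 0, 2, 0, 3, 0, 2, 5, 0]), (92, [3, 5, 1, 5, 0, 3, 0, 2, 3, 2, 0]), (51, [])],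
  [(93, [4, 1, 4]), (54, []), (52, []), (136, []), (149, []), (116, []), (54, [5]), (93, [0]), (116, [3])],
  [(94, [3, 4, 1, 0, 3, 1, 0, 3, 1, 4, 0]), (55, [3, 2, 3, 2, 6]), (152, []), (137, []), (151, []), (53, []), (55, [4, 1, 4, 3, 1, 5, 3, 1, 6, 7]), (94, [3, 0, 2, 3, 2, 0, 3]), (52, [])],
  [(95, [4, 3, 1, 0, 3, 1, 0, 3, 1, 4, 0]), (152, [3, 2, 3, 2, 6]), (55, []), (148, []), (95, [0, 2, 0, 3, 0, 2, 0]), (95, [3]), (152, [3, 1, 5, 4, 1, 4, 3, 1, 7]), (95, [0]), (95, [3, 2, 3, 2])]]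

/-- Part of a table. -/
def lev0Mov3 : List (List (ℕ × List ℕ)) := [
  [(60, []), (57, []), (96, [0]), (96, [4, 1, 4]), (96, [5, 1, 5]), (56, []), (153, []), (154, []), (96, [4, 0, 3, 4, 3, 0, 6])],
  [(61, []), (58, []), (72, []), (155, []), (155, [4, 5, 4]), (153, []), (56, []), (156, []), (97, [0, 2, 3, 1, 3, 2, 1, 0])],
  [(62, []), (59, []), (73, []), (98, [4, 1, 4]), (157, []), (158, []), (156, []), (56, []), (98, [3, 4, 0, 3, 1, 0, 3, 1, 4, 0])],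
  [(63, []), (153, []), (99, [0]), (159, []), (63, [4]), (58, []), (57, []), (144, [1, 3, 1, 4, 0, 2, 3, 4, 2, 0, 6]), (58, [0, 2, 1, 3, 2, 1, 0])],
  [(64, []), (154, []), (100, [0]), (100, [4, 1, 4]), (100, [2, 0, 2]), (160, []), (144, [1, 3, 1, 4, 0, 2, 3, 4, 2, 0, 6]), (57, []), (100, [4, 3, 1, 0, 3, 1, 4, 0, 3, 0])],
  [(155, [5]), (155, []), (74, []), (58, []), (61, [5, 4]), (159, []), (101, [4, 1, 4]), (161, []), (159, [0, 2, 1, 3, 2, 1, 0])],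
  [(65, []), (156, []), (75, []), (161, []), (162, []), (163, []), (59, []), (58, []), (75, [4, 1, 3, 1, 0, 3, 4, 1, 3, 1, 0])],
  [(66, []), (158, []), (164, []), (103, [4, 1, 4]), (77, [2]), (59, []), (163, []), (160, []), (103, [5, 1, 5, 3, 4, 1, 4, 3, 1, 6, 7])],
  [(153, []), (63, []), (104, [0]), (63, [5]), (159, [4, 5]), (61, []), (60, []), (131, [3, 2, 1, 3, 2, 0, 3, 1]), (61, [4, 0, 2, 3, 4, 2, 0])],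
  [(154, []), (64, []), (105, [0]), (67, []), (165, []), (166, []), (131, [3, 2, 1, 3, 2, 0, 3, 1]), (60, []), (62, [2, 3, 2, 0, 3, 6])],
  [(156, []), (65, []), (78, []), (65, [5]), (167, []), (168, []), (62, []), (61, []), (132, [0, 3, 2, 1, 3, 2, 0, 3, 1])],
  [(157, []), (80, [2]), (80, []), (68, []), (62, []), (169, []), (170, []), (107, [5, 1, 5]), (165, [3, 0, 2, 3, 2, 6])],
  [(158, []), (66, []), (171, []), (69, []), (169, []), (62, []), (168, []), (166, []), (166, [3, 0, 2, 3, 2, 6])],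
  [(160, []), (166, []), (172, []), (70, []), (109, [2, 0, 2]), (64, []), (143, [1, 3, 1, 4, 0, 2, 3, 4, 2, 0, 6]), (66, []), (90, [3, 0, 2, 3, 2, 0, 6])],
  [(162, []), (173, []), (83, []), (167, [5]), (65, []), (174, []), (83, [2]), (162, [4]), (145, [1, 3, 0, 2, 3, 2, 1, 3, 0])],
  [(163, []), (168, []), (175, []), (168, [5]), (174, []), (65, []), (66, []), (143, [1, 3, 1, 4, 0, 2, 3, 4, 2, 0, 6]), (146, [1, 3, 0, 2, 3, 2, 1, 3, 0])],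
  [(164, []), (171, []), (66, []), (71, []), (87, [2]), (87, []), (175, []), (172, []), (112, [3, 2, 3, 2])],
  [(113, [4, 1, 4]), (113, [2, 0, 2]), (113, [0]), (165, []), (67, []), (176, []), (113, [5, 2, 0, 2, 5]), (113, [5, 1, 5]), (68, [2, 3, 2, 0, 3, 6])],
  [(114, [4, 1, 4]), (70, []), (177, []), (166, []), (176, []), (67, []), (70, [5]), (69, []), (69, [2, 3, 2, 0, 3, 6])],
  [(115, [4, 1, 4]), (91, [2]), (178, []), (169, []), (69, []), (68, []), (91, [5, 2, 5]), (179, []), (176, [3, 0, 2, 3, 2, 6])],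
  [(116, [4, 1, 4]), (71, []), (69, []), (171, []), (178, []), (93, []), (71, [5]), (177, []), (93, [3])],
  [(117, [4, 1, 4]), (177, []), (70, []), (172, []), (117, [2, 0, 2]), (117, [0]), (177, [5]), (71, []), (117, [3, 0, 2, 3, 2, 0, 3, 0])],
  [(74, [5]), (74, []), (155, []), (72, []), (72, [4, 5, 4]), (118, [0]), (118, [4, 1, 4]), (180, []), (118, [3, 1, 4, 0, 3, 4, 1, 0, 3, 0])],
  [(78, []), (75, []), (156, []), (180, []), (181, []), (182, []), (73, []), (72, []), (183, [])],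
  [(80, []), (157, [2]), (157, []), (120, [4, 1, 4]), (73, []), (184, []), (185, []), (120, [5, 1, 5]), (120, [3, 4, 1, 0, 3, 1, 0, 3, 4, 0])],
  [(81, []), (77, []), (186, []), (121, [4, 1, 4]), (184, []), (73, []), (182, []), (121, [0]), (121, [3, 4, 1, 0, 3, 1, 0, 3, 4, 0])],
  [(180, [5]), (180, []), (161, []), (75, []), (187, []), (188, []), (122, [4, 1, 4]), (74, []), (161, [0, 2, 3, 2, 0, 2, 1, 3, 2, 1, 0, 6])],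
  [(189, []), (189, [1, 5, 4, 1, 4, 1, 6, 7]), (123, [2, 1, 3, 2, 1]), (76, []), (79, [5, 4]), (123, [0]), (123, [4, 3, 1, 0, 3, 1, 0, 3, 1, 4, 0]), (190, []), (74, [])],
  [(83, []), (191, []), (162, []), (187, []), (75, []), (192, []), (162, [2]), (83, [4]), (162, [0, 2, 3, 2, 0, 2, 1, 3, 2, 1, 0, 6])],
  [(84, []), (182, []), (193, []), (188, []), (192, []), (75, []), (77, []), (125, [0]), (163, [0, 2, 3, 2, 0, 2, 1, 3, 2, 1, 0, 6])],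
  [(79, [3, 1, 0, 3, 1, 0, 3, 0, 6]), (76, []), (126, [2, 1, 3, 2, 1]), (189, [1, 5, 4, 1, 4, 1, 6, 7]), (189, [4, 5, 3, 1, 0, 3, 1, 0, 3, 0, 6]), (126, [0]), (88, [3, 0, 2, 1, 3, 2, 1, 0, 3, 0, 6]), (183, [2, 3, 1, 3, 2, 1, 6]), (126, [3, 1, 4, 0, 3, 4, 1, 0, 3, 0])],
  [(86, [1, 3, 0, 2, 3, 2, 0, 3, 1, 0]), (183, [2, 3, 1, 3, 2, 1, 6]), (127, [2, 1, 3, 2, 1]), (190, []), (194, []), (195, []), (89, [3, 0, 2, 1, 3, 2, 1, 0, 3, 0, 6]), (76, []), (144, [4, 1, 5, 3, 1, 5, 4, 3, 1, 7])]]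

/-- Part of a table. -/
def lev0Mov4 : List (List (ℕ × List ℕ)) := [
  [(87, []), (186, []), (77, []), (128, [4, 1, 4]), (164, [2]), (164, []), (193, []), (128, [0]), (128, [4, 3, 4, 3, 6])],
  [(181, []), (196, []), (167, []), (83, [5]), (78, []), (197, []), (198, []), (187, [4, 5]), (199, [])],
  [(182, []), (84, []), (200, []), (84, [5]), (197, []), (78, []), (81, []), (130, [0]), (201, [])],
  [(202, []), (85, [0, 3, 2, 1, 3, 2, 1, 0, 6]), (131, [1, 3, 1]), (85, [5]), (199, []), (201, []), (105, [1, 3, 0, 2, 3, 2, 1, 3]), (104, [1, 3, 0, 2, 3, 2, 1, 3]), (78, [])],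
  [(183, [4, 3, 4, 0, 3, 1, 0, 3, 1, 0, 6]), (86, [3, 0, 2, 1, 3, 2, 1, 0, 3, 0]), (132, [4, 2, 3, 4, 2]), (86, [5]), (203, []), (204, []), (82, [3, 4, 0, 3, 4, 0, 2, 3, 2, 0]), (79, []), (106, [1, 3, 0, 2, 3, 2, 1, 3, 0])],
  [(184, []), (169, [2]), (205, []), (91, []), (81, []), (80, []), (206, []), (207, []), (208, [])],
  [(185, []), (170, [2]), (170, []), (170, [5, 2, 5]), (198, []), (206, []), (80, []), (134, [5, 1, 5]), (170, [1, 4, 3, 4, 0, 3, 1, 3, 0, 6])],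
  [(209, []), (135, [0, 2, 0, 3, 0, 2, 0]), (135, [3]), (92, []), (82, []), (208, []), (210, []), (135, [3, 5, 1, 5, 0, 3, 0, 2, 3, 2, 0]), (80, [])],
  [(186, []), (87, []), (81, []), (93, []), (205, []), (171, []), (200, []), (136, [0]), (171, [3])],
  [(211, []), (90, [3, 2, 3, 2, 6]), (212, []), (94, []), (208, []), (82, []), (204, [3, 4, 0, 3, 4, 0, 2, 3, 2, 0]), (137, [3, 0, 2, 3, 2, 0, 3]), (81, [])],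
  [(82, []), (89, [3, 2, 3, 2, 6]), (138, [3]), (138, [3, 4, 1, 0, 3, 1, 0, 3, 1, 4, 0]), (209, []), (211, []), (183, [0, 3, 2, 1, 3, 2, 1, 0]), (88, [3, 2, 3, 2, 6]), (138, [3, 4, 1, 0, 3, 1, 0, 3, 4, 0])],
  [(191, []), (83, []), (173, []), (196, [5]), (196, []), (213, []), (173, [2]), (191, [4]), (139, [0, 3, 2, 1, 3, 2, 1, 0, 6])],
  [(192, []), (213, []), (214, []), (197, [5]), (84, []), (83, []), (174, [2]), (215, []), (216, [])],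
  [(217, []), (218, []), (141, [4, 2, 3, 4, 2]), (199, [5]), (85, []), (216, []), (141, [0, 2, 0, 3, 0, 2, 0]), (217, [1, 5, 3, 1, 5, 4, 3, 1, 7]), (83, [])],
  [(193, []), (200, []), (84, []), (200, [5]), (214, []), (175, []), (87, []), (142, [0]), (175, [4, 2, 3, 4, 2])],
  [(219, []), (201, [0, 3, 2, 1, 3, 2, 1, 0, 6]), (220, []), (201, [5]), (216, []), (85, []), (109, [0, 3, 2, 1, 3, 2, 0, 3, 1, 0]), (111, [0, 3, 2, 1, 3, 2, 0, 3, 1, 0]), (84, [])],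
  [(85, []), (202, [0, 3, 2, 1, 3, 2, 1, 0, 6]), (144, [4, 2, 3, 4, 2]), (221, []), (217, []), (219, []), (100, [0, 3, 2, 1, 3, 2, 0, 3, 1, 0]), (99, [0, 3, 2, 1, 3, 2, 0, 3, 1, 0]), (127, [4, 1, 5, 3, 1, 5, 4, 3, 1, 7])],
  [(194, [1, 3, 0, 2, 3, 2, 0, 3, 1, 0]), (222, []), (145, [1, 3, 1]), (203, [5]), (86, []), (223, []), (145, [0, 2, 1, 0, 3, 0, 2, 1, 0]), (194, [4]), (110, [0, 3, 2, 1, 3, 2, 0, 3, 1])],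
  [(195, [1, 3, 0, 2, 3, 2, 0, 3, 1, 0]), (204, [3, 0, 2, 1, 3, 2, 1, 0, 3, 0]), (224, []), (204, [5]), (223, []), (86, []), (90, [3, 1, 0, 3, 1, 0, 3, 0]), (146, [0]), (111, [0, 3, 2, 1, 3, 2, 0, 3, 1])],
  [(90, []), (211, [3, 2, 3, 2, 6]), (225, []), (147, [4, 3, 1, 0, 3, 1, 0, 3, 1, 4, 0]), (147, [0, 2, 0, 3, 0, 2, 0]), (89, []), (195, [3, 0, 2, 1, 3, 2, 1, 0, 3, 0, 6]), (147, [0]), (147, [5, 1, 5, 4, 3, 1, 4, 3, 1, 7])],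
  [(225, []), (212, [3, 2, 3, 2, 6]), (90, []), (95, []), (148, [0, 2, 0, 3, 0, 2, 0]), (148, [3]), (224, [3, 1, 0, 3, 1, 0, 3, 0]), (148, [0]), (148, [3, 2, 3, 2])],
  [(149, [4, 1, 4]), (178, [2]), (91, []), (205, []), (93, []), (178, []), (178, [5, 2, 5]), (226, []), (178, [3])],
  [(150, [4, 1, 4]), (179, [2]), (226, []), (207, []), (150, [0]), (150, [5, 1, 5]), (179, [5, 2, 5]), (91, []), (150, [3, 0, 2, 3, 2, 0, 3, 0])],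
  [(151, [3, 4, 1, 0, 3, 1, 0, 3, 1, 4, 0]), (151, [0, 2, 0, 3, 0, 2, 0]), (227, []), (208, []), (94, []), (92, []), (151, [5, 0, 2, 0, 3, 0, 2, 5, 0]), (228, []), (91, [])],
  [(152, [3, 4, 1, 0, 3, 1, 0, 3, 1, 4, 0]), (95, [3, 2, 3, 2, 6]), (94, []), (212, []), (227, []), (152, [3]), (95, [4, 1, 4, 3, 1, 5, 3, 1, 6, 7]), (152, [3, 0, 2, 3, 2, 0, 3]), (177, [0, 3, 0, 2, 3, 2, 6])],
  [(104, []), (99, []), (153, [0]), (229, []), (229, [4, 5, 4]), (97, []), (96, []), (202, [3, 2, 1, 3, 2, 0, 3, 1]), (153, [0, 2, 3, 1, 3, 2, 1, 0])],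
  [(105, []), (100, []), (154, [0]), (154, [4, 1, 4]), (230, []), (231, []), (202, [3, 2, 1, 3, 2, 0, 3, 1]), (96, []), (154, [3, 4, 3, 1, 0, 3, 1, 4, 3, 0, 6])],
  [(101, [5]), (101, []), (118, []), (97, []), (97, [4, 5, 4]), (229, []), (155, [4, 1, 4]), (232, []), (155, [0, 2, 3, 1, 3, 2, 1, 0])],
  [(106, []), (102, []), (119, []), (232, []), (233, []), (234, []), (98, []), (97, []), (202, [1, 4, 0, 2, 3, 2, 0, 3, 4, 1, 0, 6])],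
  [(107, []), (120, [2]), (120, []), (157, [4, 1, 4]), (98, []), (235, []), (236, []), (157, [5, 1, 5]), (157, [3, 4, 0, 3, 1, 0, 3, 1, 4, 0])],
  [(108, []), (103, []), (237, []), (158, [4, 1, 4]), (235, []), (98, []), (234, []), (231, []), (158, [3, 4, 0, 3, 1, 0, 3, 1, 4, 0])],
  [(229, [5]), (229, []), (159, [0]), (99, []), (104, [5, 4]), (101, []), (159, [4, 1, 4]), (221, [1, 3, 1, 4, 0, 2, 3, 4, 2, 0, 6]), (101, [0, 2, 1, 3, 2, 1, 0])]]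

/-- Part of a table. -/
def lev0Mov5 : List (List (ℕ × List ℕ)) := [
  [(109, []), (231, []), (238, []), (160, [4, 1, 4]), (160, [2, 0, 2]), (100, []), (219, [1, 3, 1, 4, 0, 2, 3, 4, 2, 0, 6]), (103, []), (160, [4, 3, 1, 0, 3, 1, 4, 0, 3, 0])],
  [(232, [5]), (232, []), (122, []), (102, []), (239, []), (240, []), (161, [4, 1, 4]), (101, []), (122, [4, 1, 3, 1, 0, 3, 4, 1, 3, 1, 0])],
  [(110, []), (241, []), (124, []), (239, []), (102, []), (242, []), (124, [2]), (110, [4]), (124, [4, 1, 3, 1, 0, 3, 4, 1, 3, 1, 0])],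
  [(111, []), (234, []), (243, []), (240, []), (242, []), (102, []), (103, []), (219, [1, 3, 1, 4, 0, 2, 3, 4, 2, 0, 6]), (125, [4, 1, 3, 1, 0, 3, 4, 1, 3, 1, 0])],
  [(112, []), (237, []), (103, []), (164, [4, 1, 4]), (128, [2]), (128, []), (243, []), (238, []), (164, [4, 3, 4, 3, 6])],
  [(230, []), (165, [2, 0, 2]), (165, [0]), (113, []), (105, []), (244, []), (245, []), (165, [5, 1, 5]), (107, [2, 3, 2, 0, 3, 6])],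
  [(231, []), (109, []), (246, []), (114, []), (244, []), (105, []), (201, [3, 2, 1, 3, 2, 0, 3, 1]), (108, []), (108, [2, 3, 2, 0, 3, 6])],
  [(233, []), (247, []), (129, []), (110, [5]), (106, []), (248, []), (249, []), (239, [4, 5]), (203, [0, 3, 2, 1, 3, 2, 0, 3, 1])],
  [(234, []), (111, []), (250, []), (111, [5]), (248, []), (106, []), (108, []), (201, [3, 2, 1, 3, 2, 0, 3, 1]), (204, [0, 3, 2, 1, 3, 2, 0, 3, 1])],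
  [(235, []), (133, [2]), (251, []), (115, []), (108, []), (107, []), (252, []), (253, []), (244, [3, 0, 2, 3, 2, 6])],
  [(236, []), (134, [2]), (134, []), (134, [5, 2, 5]), (249, []), (252, []), (107, []), (170, [5, 1, 5]), (134, [4, 3, 4, 0, 3, 1, 3, 1, 0, 6])],
  [(237, []), (112, []), (108, []), (116, []), (251, []), (136, []), (250, []), (246, []), (136, [3])],
  [(238, []), (246, []), (109, []), (117, []), (172, [2, 0, 2]), (172, [0]), (220, [1, 3, 1, 4, 0, 2, 3, 4, 2, 0, 6]), (112, []), (172, [3, 0, 2, 3, 2, 0, 3, 0])],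
  [(241, []), (110, []), (139, []), (247, [5]), (247, []), (254, []), (139, [2]), (241, [4]), (173, [3, 0, 2, 1, 3, 2, 1, 0, 3, 0])],
  [(242, []), (254, []), (255, []), (248, [5]), (111, []), (110, []), (140, [2]), (256, []), (223, [1, 3, 0, 2, 3, 2, 1, 3, 0])],
  [(243, []), (250, []), (111, []), (250, [5]), (255, []), (142, []), (112, []), (220, [1, 3, 1, 4, 0, 2, 3, 4, 2, 0, 6]), (142, [4, 2, 3, 4, 2])],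
  [(176, [4, 1, 4]), (176, [2, 0, 2]), (257, []), (244, []), (114, []), (113, []), (176, [5, 2, 0, 2, 5]), (258, []), (115, [2, 3, 2, 0, 3, 6])],
  [(177, [4, 1, 4]), (117, []), (114, []), (246, []), (257, []), (177, [0]), (117, [5]), (116, []), (152, [2, 3, 2, 0, 3, 0, 6])],
  [(178, [4, 1, 4]), (149, [2]), (115, []), (251, []), (116, []), (149, []), (149, [5, 2, 5]), (259, []), (149, [3])],
  [(179, [4, 1, 4]), (150, [2]), (259, []), (253, []), (258, []), (179, [5, 1, 5]), (150, [5, 2, 5]), (115, []), (179, [0, 3, 2, 3, 2, 0])],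
  [(122, [5]), (122, []), (232, []), (119, []), (260, []), (261, []), (180, [4, 1, 4]), (118, []), (262, [])],
  [(129, []), (263, []), (233, []), (260, []), (119, []), (264, []), (265, []), (260, [4, 5, 4]), (266, [])],
  [(130, []), (125, []), (267, []), (261, []), (264, []), (119, []), (121, []), (182, [0]), (268, [])],
  [(132, [4, 3, 4, 0, 3, 1, 0, 3, 1, 0, 6]), (127, [2, 3, 1, 3, 2, 1, 6]), (183, [2, 1, 3, 2, 1]), (262, []), (266, []), (268, []), (138, [0, 3, 2, 1, 3, 2, 1, 0]), (126, [2, 3, 1, 3, 2, 1, 6]), (119, [])],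
  [(133, []), (235, [2]), (269, []), (184, [4, 1, 4]), (121, []), (120, []), (270, []), (271, []), (184, [3, 4, 1, 0, 3, 1, 0, 3, 4, 0])],
  [(134, []), (236, [2]), (236, []), (272, []), (265, []), (270, []), (120, []), (185, [5, 1, 5]), (273, [])],
  [(136, []), (128, []), (121, []), (186, [4, 1, 4]), (269, []), (237, []), (267, []), (186, [0]), (186, [2, 3, 2, 1, 3, 1, 6])],
  [(260, [5]), (274, []), (239, []), (124, []), (122, []), (275, []), (276, []), (129, [5, 4]), (239, [0, 2, 3, 2, 0, 2, 1, 3, 2, 1, 0, 6])],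
  [(261, [5]), (261, []), (277, []), (125, []), (275, []), (122, []), (188, [4, 1, 4]), (188, [0]), (240, [0, 2, 3, 2, 0, 2, 1, 3, 2, 1, 0, 6])],
  [(123, []), (123, [1, 5, 4, 1, 4, 1, 6, 7]), (189, [2, 1, 3, 2, 1]), (126, [1, 5, 4, 1, 4, 1, 6, 7]), (126, [5, 4, 3, 0, 2, 3, 2, 0, 3, 0, 6]), (189, [0]), (189, [4, 3, 1, 0, 3, 1, 0, 3, 1, 4, 0]), (262, [4, 1, 3, 4, 1, 5, 3, 1, 7]), (189, [1, 3, 0, 2, 3, 2, 0, 3, 1, 0])],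
  [(262, [4, 1, 3, 4, 1, 5, 3, 1, 7]), (262, [2, 3, 1, 3, 2, 1, 6]), (190, [2, 1, 3, 2, 1]), (127, []), (278, []), (279, []), (190, [4, 3, 1, 0, 3, 1, 0, 3, 1, 4, 0]), (123, []), (221, [4, 1, 5, 3, 1, 5, 4, 3, 1, 7])],
  [(139, []), (124, []), (241, []), (274, []), (263, []), (280, []), (241, [2]), (139, [4]), (281, [])]]

/-- Part of a table. -/
def lev0Mov6 : List (List (ℕ × List ℕ)) := [
  [(140, []), (280, []), (282, []), (275, []), (125, []), (124, []), (242, [2]), (283, []), (242, [0, 2, 3, 2, 0, 2, 1, 3, 2, 1, 0, 6])],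
  [(142, []), (267, []), (125, []), (277, []), (282, []), (243, []), (128, []), (193, [0]), (193, [2, 3, 1, 3, 2, 1])],
  [(145, [1, 3, 0, 2, 3, 2, 0, 3, 1, 0]), (284, []), (194, [2, 1, 3, 2, 1]), (278, []), (127, []), (285, []), (194, [1, 0, 3, 2, 0, 2, 3, 1, 0]), (145, [4]), (217, [4, 1, 5, 3, 1, 5, 4, 3, 1, 7])],
  [(146, [1, 3, 0, 2, 3, 2, 0, 3, 1, 0]), (268, [2, 3, 1, 3, 2, 1, 6]), (286, []), (279, []), (285, []), (127, []), (147, [3, 0, 2, 1, 3, 2, 1, 0, 3, 0, 6]), (195, [0]), (219, [4, 1, 5, 3, 1, 5, 4, 3, 1, 7])],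
  [(263, []), (129, []), (247, []), (139, [5]), (139, []), (287, []), (288, []), (274, [4, 5]), (196, [0, 3, 2, 1, 3, 2, 1, 0, 6])],
  [(264, []), (287, []), (289, []), (140, [5]), (130, []), (129, []), (290, []), (291, []), (292, [])],
  [(265, []), (288, []), (249, []), (249, [5, 2, 5]), (134, []), (290, []), (129, []), (276, [4, 5]), (249, [1, 4, 3, 4, 0, 3, 1, 3, 0, 6])],
  [(293, []), (294, []), (199, [1, 3, 1]), (141, [5]), (131, []), (292, []), (295, []), (296, []), (129, [])],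
  [(267, []), (142, []), (130, []), (142, [5]), (289, []), (250, []), (136, []), (200, [0]), (250, [1, 3, 1])],
  [(297, []), (143, [0, 3, 2, 1, 3, 2, 1, 0, 6]), (298, []), (143, [5]), (292, []), (131, []), (166, [1, 3, 0, 2, 3, 2, 1, 3]), (168, [1, 3, 0, 2, 3, 2, 1, 3]), (130, [])],
  [(131, []), (144, [0, 3, 2, 1, 3, 2, 1, 0, 6]), (202, [1, 3, 1]), (299, []), (293, []), (297, []), (154, [1, 3, 0, 2, 3, 2, 1, 3]), (153, [1, 3, 0, 2, 3, 2, 1, 3]), (156, [1, 4, 3, 4, 0, 3, 2, 3, 2, 1, 0, 6])],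
  [(266, [4, 3, 4, 0, 3, 1, 0, 3, 1, 0, 6]), (300, []), (203, [4, 2, 3, 4, 2]), (145, [5]), (132, []), (301, []), (302, []), (278, [4, 5]), (167, [1, 3, 0, 2, 3, 2, 1, 3, 0])],
  [(268, [4, 3, 4, 0, 3, 1, 0, 3, 1, 0, 6]), (146, [3, 0, 2, 1, 3, 2, 1, 0, 3, 0]), (303, []), (146, [5]), (301, []), (132, []), (137, [3, 4, 0, 3, 4, 0, 2, 3, 2, 0]), (204, [0]), (168, [1, 3, 0, 2, 3, 2, 1, 3, 0])],
  [(269, []), (251, [2]), (133, []), (149, []), (136, []), (251, []), (304, []), (305, []), (251, [3])],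
  [(270, []), (252, [2]), (304, []), (252, [5, 2, 5]), (290, []), (134, []), (133, []), (306, []), (252, [1, 4, 3, 4, 0, 3, 1, 3, 0, 6])],
  [(271, []), (253, [2]), (305, []), (150, []), (207, [0]), (207, [5, 1, 5]), (306, []), (133, []), (207, [3, 0, 2, 3, 2, 0, 3, 0])],
  [(307, []), (208, [0, 2, 0, 3, 0, 2, 0]), (308, []), (151, []), (137, []), (135, []), (309, []), (310, []), (133, [])],
  [(135, []), (209, [0, 2, 0, 3, 0, 2, 0]), (209, [3]), (209, [3, 4, 1, 0, 3, 1, 0, 3, 1, 4, 0]), (138, []), (307, []), (273, [5, 1, 5, 4, 3, 1, 4, 3, 1, 6, 7]), (209, [3, 5, 1, 5, 0, 3, 0, 2, 3, 2, 0]), (209, [3, 4, 1, 0, 3, 1, 0, 3, 4, 0])],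
  [(273, [5, 1, 5, 4, 3, 1, 4, 3, 1, 6, 7]), (210, [0, 2, 0, 3, 0, 2, 0]), (210, [3]), (210, [5, 0, 2, 0, 3, 0, 2, 5, 0]), (302, [3, 4, 0, 3, 4, 0, 2, 3, 2, 0]), (309, []), (135, []), (210, [3, 5, 1, 5, 0, 3, 0, 2, 3, 2, 0]), (245, [1, 3, 0, 2, 3, 2, 1, 3])],
  [(137, []), (147, [3, 2, 3, 2, 6]), (311, []), (211, [3, 4, 1, 0, 3, 1, 0, 3, 1, 4, 0]), (307, []), (138, []), (268, [0, 3, 2, 1, 3, 2, 1, 0]), (211, [3, 0, 2, 3, 2, 0, 3]), (211, [3, 4, 1, 0, 3, 1, 0, 3, 4, 0])],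
  [(311, []), (148, [3, 2, 3, 2, 6]), (137, []), (152, []), (308, []), (212, [3]), (303, [3, 4, 0, 3, 4, 0, 2, 3, 2, 0]), (212, [3, 0, 2, 3, 2, 0, 3]), (246, [0, 3, 0, 2, 3, 2, 6])],
  [(280, []), (140, []), (312, []), (287, [5]), (287, []), (139, []), (254, [2]), (313, []), (213, [0, 3, 2, 1, 3, 2, 1, 0, 6])],
  [(282, []), (312, []), (140, []), (289, [5]), (142, []), (255, []), (255, [2]), (314, []), (255, [4, 2, 3, 4, 2])],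
  [(283, []), (313, []), (314, []), (291, [5]), (215, [0]), (283, [4]), (256, [2]), (140, []), (315, [])],
  [(316, []), (317, []), (318, []), (292, [5]), (143, []), (141, []), (216, [0, 2, 0, 3, 0, 2, 0]), (319, []), (140, [])],
  [(141, []), (281, [5, 1, 5, 4, 3, 1, 4, 3, 1, 6, 7]), (217, [4, 2, 3, 4, 2]), (296, [3, 1, 5, 3, 1, 4, 1, 6, 7]), (144, []), (316, []), (217, [0, 2, 0, 3, 0, 2, 0]), (141, [1, 5, 3, 1, 5, 4, 3, 1, 7]), (194, [4, 1, 5, 3, 1, 5, 4, 3, 1, 7])],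
  [(281, [5, 1, 5, 4, 3, 1, 4, 3, 1, 6, 7]), (141, []), (218, [4, 2, 3, 4, 2]), (294, [5]), (294, [0, 3, 2, 1, 3, 2, 1, 0, 6]), (317, []), (218, [0, 2, 0, 3, 0, 2, 0]), (281, [1, 3, 1, 4, 3]), (218, [0, 3, 2, 1, 3, 2, 1, 0, 6])],
  [(143, []), (297, [0, 3, 2, 1, 3, 2, 1, 0, 6]), (320, []), (321, []), (316, []), (144, []), (160, [0, 3, 2, 1, 3, 2, 0, 3, 1, 0]), (163, [0, 3, 2, 1, 3, 2, 0, 3, 1, 0]), (195, [4, 1, 5, 3, 1, 5, 4, 3, 1, 7])],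
  [(320, []), (298, [0, 3, 2, 1, 3, 2, 1, 0, 6]), (143, []), (298, [5]), (318, []), (220, [4, 2, 3, 4, 2]), (172, [0, 3, 2, 1, 3, 2, 0, 3, 1, 0]), (175, [0, 3, 2, 1, 3, 2, 0, 3, 1, 0]), (224, [0, 3, 2, 1, 3, 2, 1, 0])],
  [(299, [5]), (299, [0, 3, 2, 1, 3, 2, 1, 0, 6]), (221, [4, 2, 3, 4, 2]), (144, []), (296, [3, 1, 5, 3, 1, 4, 1, 6, 7]), (321, []), (221, [4, 0, 3, 1, 4, 3, 0, 6]), (159, [0, 3, 2, 1, 3, 2, 0, 3, 1, 0]), (190, [4, 1, 5, 3, 1, 5, 4, 3, 1, 7])],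
  [(284, [1, 3, 0, 2, 3, 2, 0, 3, 1, 0]), (145, []), (222, [1, 3, 1]), (300, [5]), (300, [3, 0, 2, 1, 3, 2, 1, 0, 3, 0]), (322, []), (222, [0, 2, 1, 0, 3, 0, 2, 1, 0]), (284, [4]), (222, [0, 3, 2, 1, 3, 2, 1, 0, 6])],
  [(285, [1, 3, 0, 2, 3, 2, 0, 3, 1, 0]), (322, []), (323, []), (301, [5]), (146, []), (145, []), (223, [0, 2, 1, 0, 3, 0, 2, 1, 0]), (315, []), (174, [0, 3, 2, 1, 3, 2, 0, 3, 1])]]

/-- Part of a table. -/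
def lev0Mov7 : List (List (ℕ × List ℕ)) := [
  [(286, [1, 3, 0, 2, 3, 2, 0, 3, 1, 0]), (303, [3, 0, 2, 1, 3, 2, 1, 0, 3, 0]), (146, []), (303, [5]), (323, []), (224, [1, 3, 1]), (148, [3, 1, 0, 3, 1, 0, 3, 0]), (224, [0]), (220, [0, 3, 2, 1, 3, 2, 1, 0])],
  [(148, []), (311, [3, 2, 3, 2, 6]), (147, []), (225, [4, 3, 1, 0, 3, 1, 0, 3, 1, 4, 0]), (225, [0, 2, 0, 3, 0, 2, 0]), (225, [3]), (286, [3, 0, 2, 1, 3, 2, 1, 0, 3, 0, 6]), (225, [0]), (225, [4, 3, 4, 3])],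
  [(226, [4, 1, 4]), (259, [2]), (150, []), (305, []), (226, [0]), (324, []), (259, [5, 2, 5]), (149, []), (325, [])],
  [(227, [3, 4, 1, 0, 3, 1, 0, 3, 1, 4, 0]), (227, [0, 2, 0, 3, 0, 2, 0]), (151, []), (308, []), (152, []), (227, [3]), (227, [5, 0, 2, 0, 3, 0, 2, 5, 0]), (325, [3, 2, 3, 2, 6]), (257, [0, 3, 0, 2, 3, 2, 6])],
  [(228, [3, 4, 1, 0, 3, 1, 0, 3, 1, 4, 0]), (228, [0, 2, 0, 3, 0, 2, 0]), (325, [3, 2, 3, 2, 6]), (310, []), (228, [3, 0, 2, 3, 2, 0, 3]), (228, [3, 5, 1, 5, 0, 3, 0, 2, 3, 2, 0]), (228, [5, 0, 2, 0, 3, 0, 2, 5, 0]), (151, []), (228, [3, 0, 2, 3, 2, 0, 3, 0])],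
  [(159, [5]), (159, []), (229, [0]), (153, []), (153, [4, 5, 4]), (155, []), (229, [4, 1, 4]), (299, [3, 2, 1, 3, 2, 0, 3, 1]), (229, [0, 2, 3, 1, 3, 2, 1, 0])],
  [(165, []), (230, [2, 0, 2]), (230, [0]), (230, [4, 1, 4]), (154, []), (326, []), (327, []), (230, [5, 1, 5]), (230, [3, 4, 3, 1, 0, 3, 1, 4, 3, 0, 6])],
  [(166, []), (160, []), (328, []), (231, [4, 1, 4]), (326, []), (154, []), (297, [3, 2, 1, 3, 2, 0, 3, 1]), (158, []), (231, [3, 4, 3, 1, 0, 3, 1, 4, 3, 0, 6])],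
  [(161, [5]), (161, []), (180, []), (156, []), (329, []), (330, []), (232, [4, 1, 4]), (155, []), (299, [1, 4, 0, 2, 3, 2, 0, 3, 4, 1, 0, 6])],
  [(167, []), (331, []), (181, []), (329, []), (156, []), (332, []), (333, []), (329, [4, 5, 4]), (293, [1, 4, 0, 2, 3, 2, 0, 3, 4, 1, 0, 6])],
  [(168, []), (163, []), (334, []), (330, []), (332, []), (156, []), (158, []), (297, [3, 2, 1, 3, 2, 0, 3, 1]), (297, [1, 4, 0, 2, 3, 2, 0, 3, 4, 1, 0, 6])],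
  [(169, []), (184, [2]), (335, []), (235, [4, 1, 4]), (158, []), (157, []), (336, []), (337, []), (235, [3, 4, 0, 3, 1, 0, 3, 1, 4, 0])],
  [(170, []), (185, [2]), (185, []), (338, []), (333, []), (336, []), (157, []), (236, [5, 1, 5]), (327, [5, 3, 0, 2, 3, 2, 5, 6])],
  [(171, []), (164, []), (158, []), (237, [4, 1, 4]), (335, []), (186, []), (334, []), (328, []), (237, [2, 3, 2, 1, 3, 1, 6])],
  [(172, []), (328, []), (160, []), (238, [4, 1, 4]), (238, [2, 0, 2]), (238, [0]), (320, [1, 3, 1, 4, 0, 2, 3, 4, 2, 0, 6]), (164, []), (238, [5, 1, 5, 4, 1, 4, 1, 7])],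
  [(329, [5]), (339, []), (187, []), (162, []), (161, []), (340, []), (341, []), (167, [5, 4]), (187, [4, 1, 3, 1, 0, 3, 4, 1, 3, 1, 0])],
  [(330, [5]), (330, []), (342, []), (163, []), (340, []), (161, []), (240, [4, 1, 4]), (321, [1, 3, 1, 4, 0, 2, 3, 4, 2, 0, 6]), (188, [4, 1, 3, 1, 0, 3, 4, 1, 3, 1, 0])],
  [(173, []), (162, []), (191, []), (339, []), (331, []), (343, []), (191, [2]), (173, [4]), (284, [0, 2, 3, 2, 0, 2, 1, 3, 2, 1, 0])],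
  [(174, []), (343, []), (344, []), (340, []), (163, []), (162, []), (192, [2]), (345, []), (192, [4, 1, 3, 1, 0, 3, 4, 1, 3, 1, 0])],
  [(175, []), (334, []), (163, []), (342, []), (344, []), (193, []), (164, []), (320, [1, 3, 1, 4, 0, 2, 3, 4, 2, 0, 6]), (243, [2, 3, 1, 3, 2, 1])],
  [(326, []), (244, [2, 0, 2]), (346, []), (176, []), (166, []), (165, []), (347, []), (348, []), (169, [2, 3, 2, 0, 3, 6])],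
  [(327, []), (245, [2, 0, 2]), (245, [0]), (245, [5, 2, 0, 2, 5]), (295, [3, 2, 1, 3, 2, 0, 3, 1]), (347, []), (165, []), (245, [5, 1, 5]), (210, [3, 2, 1, 3, 2, 0, 3, 1])],
  [(328, []), (172, []), (166, []), (177, []), (346, []), (246, [0]), (298, [3, 2, 1, 3, 2, 0, 3, 1]), (171, []), (212, [2, 3, 2, 0, 3, 0, 6])],
  [(331, []), (167, []), (196, []), (173, [5]), (173, []), (349, []), (350, []), (339, [4, 5]), (247, [3, 0, 2, 1, 3, 2, 1, 0, 3, 0])],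
  [(332, []), (349, []), (351, []), (174, [5]), (168, []), (167, []), (352, []), (353, []), (301, [0, 3, 2, 1, 3, 2, 0, 3, 1])],
  [(333, []), (350, []), (198, []), (198, [5, 2, 5]), (170, []), (352, []), (167, []), (341, [4, 5]), (198, [4, 3, 4, 0, 3, 1, 3, 1, 0, 6])],
  [(334, []), (175, []), (168, []), (175, [5]), (351, []), (200, []), (171, []), (298, [3, 2, 1, 3, 2, 0, 3, 1]), (200, [1, 3, 1])],
  [(335, []), (205, [2]), (169, []), (178, []), (171, []), (205, []), (354, []), (355, []), (205, [3])],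
  [(336, []), (206, [2]), (354, []), (206, [5, 2, 5]), (352, []), (170, []), (169, []), (356, []), (206, [4, 3, 4, 0, 3, 1, 3, 1, 0, 6])],
  [(337, []), (207, [2]), (355, []), (179, []), (348, []), (253, [5, 1, 5]), (356, []), (169, []), (253, [0, 3, 2, 3, 2, 0])],
  [(343, []), (174, []), (357, []), (349, [5]), (349, []), (173, []), (213, [2]), (358, []), (254, [3, 0, 2, 1, 3, 2, 1, 0, 3, 0])],
  [(344, []), (357, []), (174, []), (351, [5]), (175, []), (214, []), (214, [2]), (359, []), (214, [4, 2, 3, 4, 2])]]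

/-- Part of a table. -/
def lev0Mov8 : List (List (ℕ × List ℕ)) := [
  [(345, []), (358, []), (359, []), (353, [5]), (319, [1, 3, 1, 4, 0, 2, 3, 4, 2, 0, 6]), (345, [4]), (215, [2]), (174, []), (319, [1, 3, 0, 2, 3, 2, 1, 3, 0])],
  [(257, [4, 1, 4]), (257, [2, 0, 2]), (176, []), (346, []), (177, []), (257, [0]), (257, [5, 2, 0, 2, 5]), (360, []), (227, [2, 3, 2, 0, 3, 0, 6])],
  [(258, [4, 1, 4]), (258, [2, 0, 2]), (360, []), (348, []), (179, []), (258, [5, 1, 5]), (258, [5, 2, 0, 2, 5]), (176, []), (258, [0, 3, 2, 3, 2, 0])],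
  [(259, [4, 1, 4]), (226, [2]), (179, []), (355, []), (360, []), (361, []), (226, [5, 2, 5]), (178, []), (360, [0, 3, 0])],
  [(187, [5]), (362, []), (329, []), (181, []), (180, []), (363, []), (364, []), (181, [4, 5, 4]), (365, [])],
  [(188, [5]), (188, []), (366, []), (182, []), (363, []), (180, []), (261, [4, 1, 4]), (261, [0]), (367, [])],
  [(190, [4, 3, 1, 4, 1, 5, 3, 1, 6, 7]), (190, [2, 3, 1, 3, 2, 1, 6]), (262, [2, 1, 3, 2, 1]), (183, []), (365, []), (367, []), (262, [3, 4, 1, 0, 3, 1, 0, 3, 1, 4, 0]), (189, [4, 3, 1, 4, 1, 5, 3, 1, 6, 7]), (180, [])],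
  [(196, []), (181, []), (331, []), (362, []), (191, []), (368, []), (369, []), (362, [4, 5, 4]), (370, [])],
  [(197, []), (368, []), (371, []), (363, []), (182, []), (181, []), (372, []), (373, []), (374, [])],
  [(198, []), (369, []), (333, []), (375, []), (185, []), (372, []), (181, []), (364, [4, 5, 4]), (376, [])],
  [(203, [4, 3, 4, 0, 3, 1, 0, 3, 1, 0, 6]), (377, []), (266, [2, 1, 3, 2, 1]), (365, []), (183, []), (374, []), (376, [3, 4, 1, 0, 3, 1, 0, 3, 4, 0]), (365, [5, 3, 4, 0, 2, 3, 2, 5, 0, 3, 0]), (181, [])],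
  [(200, []), (193, []), (182, []), (366, []), (371, []), (334, []), (186, []), (267, [0]), (334, [2, 1, 3, 2, 1])],
  [(204, [4, 3, 4, 0, 3, 1, 0, 3, 1, 0, 6]), (195, [2, 3, 1, 3, 2, 1, 6]), (378, []), (367, []), (374, []), (183, []), (211, [0, 3, 2, 1, 3, 2, 1, 0]), (268, [3, 1, 4, 0, 3, 4, 1, 0, 3]), (182, [])],
  [(205, []), (335, [2]), (184, []), (269, [4, 1, 4]), (186, []), (335, []), (379, []), (380, []), (269, [2, 3, 2, 1, 3, 1, 6])],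
  [(206, []), (336, [2]), (379, []), (381, []), (372, []), (185, []), (184, []), (382, []), (383, [])],
  [(207, []), (337, [2]), (380, []), (271, [4, 1, 4]), (271, [0]), (271, [5, 1, 5]), (382, []), (184, []), (271, [5, 1, 5, 4, 1, 4, 1, 7])],
  [(338, [5, 2, 5]), (338, [2]), (338, []), (185, []), (375, []), (381, []), (272, [4, 1, 4]), (272, [5, 1, 5]), (384, [])],
  [(210, [5, 1, 5, 4, 3, 1, 4, 3, 1, 6, 7]), (273, [0, 2, 0, 3, 0, 2, 0]), (273, [4, 3, 4]), (384, []), (376, []), (383, []), (209, [5, 1, 5, 4, 3, 1, 4, 3, 1, 6, 7]), (273, [5, 3, 1, 5, 0, 3, 0, 2, 3, 2, 0]), (185, [])],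
  [(362, [5]), (187, []), (339, []), (191, []), (362, []), (385, []), (386, []), (196, [5, 4]), (387, [])],
  [(363, [5]), (385, []), (388, []), (192, []), (188, []), (187, []), (389, []), (390, []), (340, [0, 2, 3, 2, 0, 2, 1, 3, 2, 1, 0, 6])],
  [(364, [5]), (386, []), (341, []), (341, [2]), (276, [4, 1, 4]), (389, []), (187, []), (198, [5, 4]), (276, [5, 1, 5, 4, 3, 1, 4, 3, 1, 7])],
  [(366, [5]), (366, []), (188, []), (193, []), (388, []), (342, []), (277, [4, 1, 4]), (277, [0]), (277, [2, 3, 1, 3, 2, 1])],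
  [(365, [4, 1, 3, 4, 1, 5, 3, 1, 7]), (391, []), (278, [2, 1, 3, 2, 1]), (194, []), (190, []), (392, []), (393, []), (203, [5, 4]), (296, [5, 4])],
  [(367, [4, 1, 3, 4, 1, 5, 3, 1, 7]), (367, [2, 3, 1, 3, 2, 1, 6]), (394, []), (195, []), (392, []), (190, []), (279, [4, 3, 1, 0, 3, 1, 0, 3, 1, 4, 0]), (279, [0]), (321, [4, 1, 5, 3, 1, 5, 4, 3, 1, 7])],
  [(213, []), (192, []), (395, []), (385, []), (368, []), (191, []), (343, [2]), (396, []), (397, [])],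
  [(218, [5, 1, 5, 4, 3, 1, 4, 3, 1, 6, 7]), (217, [5, 1, 5, 4, 3, 1, 4, 3, 1, 6, 7]), (281, [2, 3, 2]), (387, []), (370, []), (397, []), (281, [0, 2, 0, 3, 0, 2, 0]), (218, [3, 4, 1, 3, 1]), (191, [])],
  [(214, []), (395, []), (192, []), (388, []), (193, []), (344, []), (344, [2]), (398, []), (282, [2, 3, 1, 3, 2, 1])],
  [(215, []), (396, []), (398, []), (390, []), (283, [0]), (215, [4]), (345, [2]), (192, []), (399, [])],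
  [(222, [1, 3, 0, 2, 3, 2, 0, 3, 1, 0]), (194, []), (284, [2, 1, 3, 2, 1]), (391, []), (377, [2, 3, 1, 3, 2, 1, 6]), (400, []), (284, [1, 0, 3, 2, 0, 2, 3, 1, 0]), (222, [4]), (241, [4, 1, 3, 1, 0, 3, 4, 1, 3, 1, 0, 6])],
  [(223, [1, 3, 0, 2, 3, 2, 0, 3, 1, 0]), (400, []), (401, []), (392, []), (195, []), (194, []), (285, [1, 0, 3, 2, 0, 2, 3, 1, 0]), (399, []), (316, [4, 1, 5, 3, 1, 5, 4, 3, 1, 7])],
  [(224, [1, 3, 0, 2, 3, 2, 0, 3, 1, 0]), (378, [2, 3, 1, 3, 2, 1, 6]), (195, []), (394, []), (401, []), (286, [2, 1, 3, 2, 1]), (225, [3, 0, 2, 1, 3, 2, 1, 0, 3, 0, 6]), (286, [0]), (286, [2, 3, 1, 3, 2, 1])],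
  [(368, []), (197, []), (402, []), (213, [5]), (213, []), (196, []), (403, []), (404, []), (287, [0, 3, 2, 1, 3, 2, 1, 0, 6])]]

/-- Part of a table. -/
def lev0Mov9 : List (List (ℕ × List ℕ)) := [
  [(369, []), (198, []), (350, []), (350, [5, 2, 5]), (350, [2]), (403, []), (196, []), (386, [4, 5]), (288, [5, 1, 5, 4, 3, 1, 4, 3, 1, 7])],
  [(371, []), (402, []), (197, []), (214, [5]), (200, []), (351, []), (405, []), (406, []), (351, [1, 3, 1])],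
  [(372, []), (403, []), (405, []), (352, [5, 2, 5]), (206, []), (198, []), (197, []), (407, []), (352, [1, 4, 3, 4, 0, 3, 1, 3, 0, 6])],
  [(373, []), (404, []), (406, []), (215, [5]), (291, [0]), (390, [4, 5]), (407, []), (197, []), (408, [])],
  [(409, []), (410, []), (411, []), (216, [5]), (201, []), (199, []), (412, []), (413, []), (197, [])],
  [(199, []), (370, [3, 4, 1, 0, 3, 1, 0, 3, 4, 0, 6]), (293, [1, 3, 1]), (414, []), (202, []), (409, []), (415, []), (414, [4, 3, 1, 5, 1, 4, 3, 1, 6, 7]), (233, [1, 4, 3, 4, 0, 3, 2, 3, 2, 1, 0, 6])],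
  [(370, [3, 4, 1, 0, 3, 1, 0, 3, 4, 0, 6]), (199, []), (294, [1, 3, 1]), (218, [5]), (218, [0, 3, 2, 1, 3, 2, 1, 0, 6]), (410, []), (416, []), (387, [1, 3, 1, 4, 3, 5]), (294, [0, 3, 2, 1, 3, 2, 1, 0, 6])],
  [(415, []), (416, []), (295, [1, 3, 1]), (295, [5, 0, 2, 0, 3, 0, 2, 5, 0]), (245, [1, 3, 0, 2, 3, 2, 1, 3]), (412, []), (199, []), (417, []), (302, [3, 4, 0, 3, 4, 0, 2, 3, 2, 0])],
  [(414, [4, 3, 1, 5, 1, 4, 3, 1, 6, 7]), (387, [1, 3, 1, 4, 3, 5]), (296, [1, 3, 1]), (217, [3, 1, 4, 1, 5, 3, 1, 6, 7]), (221, [3, 1, 4, 1, 5, 3, 1, 6, 7]), (418, []), (417, []), (199, []), (278, [4, 5])],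
  [(201, []), (219, [0, 3, 2, 1, 3, 2, 1, 0, 6]), (419, []), (420, []), (409, []), (202, []), (231, [1, 3, 0, 2, 3, 2, 1, 3]), (234, [1, 3, 0, 2, 3, 2, 1, 3]), (234, [1, 4, 3, 4, 0, 3, 2, 3, 2, 1, 0, 6])],
  [(419, []), (220, [0, 3, 2, 1, 3, 2, 1, 0, 6]), (201, []), (220, [5]), (411, []), (298, [1, 3, 1]), (246, [1, 3, 0, 2, 3, 2, 1, 3]), (250, [1, 3, 0, 2, 3, 2, 1, 3]), (303, [0, 3, 2, 1, 3, 2, 1, 0])],
  [(221, [5]), (221, [0, 3, 2, 1, 3, 2, 1, 0, 6]), (299, [1, 3, 1]), (202, []), (414, []), (420, []), (299, [4, 0, 3, 1, 4, 3, 0, 6]), (229, [1, 3, 0, 2, 3, 2, 1, 3]), (232, [1, 4, 3, 4, 0, 3, 2, 3, 2, 1, 0, 6])],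
  [(377, [4, 3, 4, 0, 3, 1, 0, 3, 1, 0, 6]), (203, []), (300, [4, 2, 3, 4, 2]), (222, [5]), (222, [3, 0, 2, 1, 3, 2, 1, 0, 3, 0]), (421, []), (422, []), (391, [4, 5]), (300, [0, 3, 2, 1, 3, 2, 1, 0, 6])],
  [(374, [4, 3, 4, 0, 3, 1, 0, 3, 1, 0, 6]), (421, []), (423, []), (223, [5]), (204, []), (203, []), (424, []), (408, []), (248, [1, 3, 0, 2, 3, 2, 1, 3, 0])],
  [(376, [1, 3, 0, 2, 1, 3, 2, 0, 3, 0, 6]), (422, []), (302, [4, 2, 3, 4, 2]), (302, [5, 0, 2, 1, 0, 3, 0, 2, 1, 5, 0]), (210, [3, 4, 0, 3, 4, 0, 2, 3, 2, 0]), (424, []), (203, []), (393, [4, 5]), (295, [3, 4, 0, 3, 4, 0, 2, 3, 2, 0])],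
  [(378, [4, 3, 4, 0, 3, 1, 0, 3, 1, 0, 6]), (224, [3, 0, 2, 1, 3, 2, 1, 0, 3, 0]), (204, []), (224, [5]), (423, []), (303, [4, 2, 3, 4, 2]), (212, [3, 4, 0, 3, 4, 0, 2, 3, 2, 0]), (303, [0]), (298, [0, 3, 2, 1, 3, 2, 1, 0])],
  [(379, []), (354, [2]), (206, []), (354, [5, 2, 5]), (405, []), (354, []), (205, []), (425, []), (304, [3, 1, 3, 1])],
  [(380, []), (355, [2]), (207, []), (226, []), (305, [0]), (426, []), (425, []), (205, []), (427, [])],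
  [(382, []), (356, [2]), (425, []), (356, [5, 2, 5]), (428, []), (306, [5, 1, 5]), (207, []), (206, []), (306, [4, 1, 3, 5, 1, 5, 4, 3, 1, 7])],
  [(208, []), (307, [0, 2, 0, 3, 0, 2, 0]), (429, []), (307, [3, 4, 1, 0, 3, 1, 0, 3, 1, 4, 0]), (211, []), (209, []), (383, [5, 1, 5, 4, 3, 1, 4, 3, 1, 6, 7]), (430, []), (307, [3, 4, 1, 0, 3, 1, 0, 3, 4, 0])],
  [(429, []), (308, [0, 2, 0, 3, 0, 2, 0]), (208, []), (227, []), (212, []), (308, [3]), (431, []), (427, [3, 2, 3, 2, 6]), (346, [0, 3, 0, 2, 3, 2, 6])],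
  [(383, [5, 1, 5, 4, 3, 1, 4, 3, 1, 6, 7]), (309, [0, 2, 0, 3, 0, 2, 0]), (431, []), (309, [5, 0, 2, 0, 3, 0, 2, 5, 0]), (424, [3, 4, 0, 3, 4, 0, 2, 3, 2, 0]), (210, []), (208, []), (432, []), (347, [1, 3, 0, 2, 3, 2, 1, 3])],
  [(430, []), (310, [0, 2, 0, 3, 0, 2, 0]), (427, [3, 2, 3, 2, 6]), (228, []), (310, [3, 0, 2, 3, 2, 0, 3]), (310, [3, 5, 1, 5, 0, 3, 0, 2, 3, 2, 0]), (432, []), (208, []), (310, [3, 0, 2, 3, 2, 0, 3, 0])],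
  [(212, []), (225, [3, 2, 3, 2, 6]), (211, []), (311, [3, 4, 1, 0, 3, 1, 0, 3, 1, 4, 0]), (429, []), (311, [3]), (378, [0, 3, 2, 1, 3, 2, 1, 0]), (311, [3, 0, 2, 3, 2, 0, 3]), (311, [2, 3, 2, 1, 3, 1, 6])],
  [(395, []), (214, []), (213, []), (402, [5]), (402, []), (357, []), (357, [2]), (433, []), (312, [3, 2, 1, 3, 2, 1, 6])],
  [(396, []), (215, []), (433, []), (404, [5]), (434, []), (396, [4]), (358, [2]), (213, []), (435, [])],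
  [(398, []), (433, []), (215, []), (406, [5]), (314, [0]), (436, []), (359, [2]), (214, []), (437, [])],
  [(399, [1, 3, 0, 2, 3, 2, 0, 3, 1, 0]), (438, []), (437, [3, 0, 2, 1, 3, 2, 1, 0, 3, 0]), (408, [5]), (315, [0]), (399, [4]), (315, [0, 2, 1, 0, 3, 0, 2, 1, 0]), (223, []), (215, [])],
  [(216, []), (397, [5, 1, 5, 4, 3, 1, 4, 3, 1, 6, 7]), (439, []), (418, [3, 1, 5, 3, 1, 4, 1, 6, 7]), (219, []), (217, []), (316, [0, 2, 0, 3, 0, 2, 0]), (440, []), (285, [4, 1, 5, 3, 1, 5, 4, 3, 1, 7])],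
  [(397, [5, 1, 5, 4, 3, 1, 4, 3, 1, 6, 7]), (216, []), (441, []), (410, [5]), (410, [0, 3, 2, 1, 3, 2, 1, 0, 6]), (218, []), (317, [0, 2, 0, 3, 0, 2, 0]), (435, [3, 0, 2, 1, 3, 2, 1, 0, 3, 0, 6]), (317, [0, 3, 2, 1, 3, 2, 1, 0, 6])],
  [(439, []), (441, []), (216, []), (411, [5]), (220, []), (318, [4, 2, 3, 4, 2]), (318, [0, 2, 0, 3, 0, 2, 0]), (442, []), (323, [0, 3, 2, 1, 3, 2, 1, 0])],
  [(440, []), (435, [3, 0, 2, 1, 3, 2, 1, 0, 3, 0, 6]), (442, []), (413, [5]), (256, [0, 3, 2, 1, 3, 2, 0, 3, 1, 0]), (440, [1, 5, 3, 1, 5, 4, 3, 1, 7]), (319, [0, 2, 0, 3, 0, 2, 0]), (216, []), (256, [0, 3, 2, 1, 3, 2, 0, 3, 1])]]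

/-- Part of a table. -/
def lev0Mov10 : List (List (ℕ × List ℕ)) := [
  [(220, []), (419, [0, 3, 2, 1, 3, 2, 1, 0, 6]), (219, []), (443, []), (439, []), (320, [4, 2, 3, 4, 2]), (238, [0, 3, 2, 1, 3, 2, 0, 3, 1, 0]), (243, [0, 3, 2, 1, 3, 2, 0, 3, 1, 0]), (320, [2, 3, 1, 3, 2, 1])],
  [(420, [5]), (420, [0, 3, 2, 1, 3, 2, 1, 0, 6]), (443, []), (219, []), (418, [3, 1, 5, 3, 1, 4, 1, 6, 7]), (221, []), (321, [4, 0, 3, 1, 4, 3, 0, 6]), (240, [0, 3, 2, 1, 3, 2, 0, 3, 1, 0]), (279, [4, 1, 5, 3, 1, 5, 4, 3, 1, 7])],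
  [(400, [1, 3, 0, 2, 3, 2, 0, 3, 1, 0]), (223, []), (444, []), (421, [5]), (421, [3, 0, 2, 1, 3, 2, 1, 0, 3, 0]), (222, []), (322, [0, 2, 1, 0, 3, 0, 2, 1, 0]), (438, []), (322, [0, 3, 2, 1, 3, 2, 1, 0, 6])],
  [(401, [1, 3, 0, 2, 3, 2, 0, 3, 1, 0]), (444, []), (223, []), (423, [5]), (224, []), (323, [1, 3, 1]), (323, [0, 2, 1, 0, 3, 0, 2, 1, 0]), (437, [3, 0, 2, 1, 3, 2, 1, 0, 3, 0]), (318, [0, 3, 2, 1, 3, 2, 1, 0])],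
  [(324, [4, 1, 4]), (361, [2]), (324, [5, 1, 5]), (426, []), (324, [0]), (226, []), (361, [5, 2, 5]), (361, []), (445, [])],
  [(325, [4, 3, 1, 0, 3, 1, 0, 3, 1, 4, 0]), (325, [0, 2, 0, 3, 0, 2, 0]), (228, [3, 2, 3, 2, 6]), (427, []), (325, [0]), (445, []), (325, [3, 5, 2, 5, 0, 3, 1, 3, 1, 0, 6]), (227, [3, 2, 3, 2, 6]), (226, [])],
  [(244, []), (326, [2, 0, 2]), (446, []), (326, [4, 1, 4]), (231, []), (230, []), (447, []), (448, []), (326, [3, 4, 3, 1, 0, 3, 1, 4, 3, 0, 6])],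
  [(245, []), (327, [2, 0, 2]), (327, [0]), (449, []), (415, [3, 2, 1, 3, 2, 0, 3, 1]), (447, []), (230, []), (327, [5, 1, 5]), (236, [5, 2, 3, 2, 0, 3, 5, 6])],
  [(246, []), (238, []), (231, []), (328, [4, 1, 4]), (446, []), (328, [0]), (419, [3, 2, 1, 3, 2, 0, 3, 1]), (237, []), (328, [4, 3, 1, 0, 3, 1, 0, 3, 4, 0])],
  [(239, [5]), (450, []), (260, []), (233, []), (232, []), (451, []), (452, []), (233, [4, 5, 4]), (414, [1, 4, 0, 2, 3, 2, 0, 3, 4, 1, 0, 6])],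
  [(240, [5]), (240, []), (453, []), (234, []), (451, []), (232, []), (330, [4, 1, 4]), (420, [3, 2, 1, 3, 2, 0, 3, 1]), (420, [1, 4, 0, 2, 3, 2, 0, 3, 4, 1, 0, 6])],
  [(247, []), (233, []), (263, []), (450, []), (241, []), (454, []), (455, []), (450, [4, 5, 4]), (377, [4, 1, 3, 1, 0, 3, 4, 1, 3, 1, 0])],
  [(248, []), (454, []), (456, []), (451, []), (234, []), (233, []), (457, []), (458, []), (409, [1, 4, 0, 2, 3, 2, 0, 3, 4, 1, 0, 6])],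
  [(249, []), (455, []), (265, []), (459, []), (236, []), (457, []), (233, []), (452, [4, 5, 4]), (415, [4, 1, 3, 1, 0, 3, 4, 1, 3, 1, 0, 6])],
  [(250, []), (243, []), (234, []), (453, []), (456, []), (267, []), (237, []), (419, [3, 2, 1, 3, 2, 0, 3, 1]), (267, [2, 1, 3, 2, 1])],
  [(251, []), (269, [2]), (235, []), (335, [4, 1, 4]), (237, []), (269, []), (460, []), (461, []), (335, [2, 3, 2, 1, 3, 1, 6])],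
  [(252, []), (270, [2]), (460, []), (462, []), (457, []), (236, []), (235, []), (463, []), (447, [5, 3, 0, 2, 3, 2, 5, 6])],
  [(253, []), (271, [2]), (461, []), (337, [4, 1, 4]), (448, []), (337, [5, 1, 5]), (463, []), (235, []), (337, [4, 0, 3, 4, 3, 0, 6])],
  [(272, [5, 2, 5]), (272, [2]), (272, []), (236, []), (459, []), (462, []), (338, [4, 1, 4]), (338, [5, 1, 5]), (449, [5, 3, 0, 2, 3, 2, 5, 6])],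
  [(450, [5]), (239, []), (274, []), (241, []), (450, []), (464, []), (465, []), (247, [5, 4]), (391, [0, 2, 3, 2, 0, 2, 1, 3, 2, 1, 0])],
  [(451, [5]), (464, []), (466, []), (242, []), (240, []), (239, []), (467, []), (468, []), (275, [4, 1, 3, 1, 0, 3, 4, 1, 3, 1, 0])],
  [(452, [5]), (465, []), (276, []), (276, [2]), (341, [4, 1, 4]), (467, []), (239, []), (249, [5, 4]), (341, [5, 1, 5, 3, 4, 1, 4, 3, 1, 6, 7])],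
  [(453, [5]), (453, []), (240, []), (243, []), (466, []), (277, []), (342, [4, 1, 4]), (443, [1, 3, 1, 4, 0, 2, 3, 4, 2, 0, 6]), (342, [2, 3, 1, 3, 2, 1])],
  [(254, []), (242, []), (469, []), (464, []), (454, []), (241, []), (280, [2]), (470, []), (400, [0, 2, 3, 2, 0, 2, 1, 3, 2, 1, 0])],
  [(255, []), (469, []), (242, []), (466, []), (243, []), (282, []), (282, [2]), (471, []), (344, [2, 3, 1, 3, 2, 1])],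
  [(256, []), (470, []), (471, []), (468, []), (440, [1, 3, 1, 4, 0, 2, 3, 4, 2, 0, 6]), (256, [4]), (283, [2]), (242, []), (440, [1, 0, 3, 1, 0, 3, 0])],
  [(446, []), (346, [2, 0, 2]), (244, []), (257, []), (246, []), (346, [0]), (472, []), (473, []), (308, [2, 3, 2, 0, 3, 0, 6])],
  [(447, []), (347, [2, 0, 2]), (472, []), (347, [5, 2, 0, 2, 5]), (412, [3, 2, 1, 3, 2, 0, 3, 1]), (245, []), (244, []), (474, []), (309, [3, 2, 1, 3, 2, 0, 3, 1])],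
  [(448, []), (348, [2, 0, 2]), (473, []), (258, []), (253, []), (348, [5, 1, 5]), (474, []), (244, []), (348, [0, 3, 2, 3, 2, 0])],
  [(454, []), (248, []), (475, []), (254, [5]), (254, []), (247, []), (476, []), (477, []), (349, [3, 0, 2, 1, 3, 2, 1, 0, 3, 0])],
  [(455, []), (249, []), (288, []), (288, [5, 2, 5]), (288, [2]), (476, []), (247, []), (465, [4, 5]), (350, [5, 1, 5, 3, 4, 1, 4, 3, 1, 6, 7])],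
  [(456, []), (475, []), (248, []), (255, [5]), (250, []), (289, []), (478, []), (479, []), (289, [1, 3, 1])]]

/-- Part of a table. -/
def lev0Mov11 : List (List (ℕ × List ℕ)) := [
  [(457, []), (476, []), (478, []), (290, [5, 2, 5]), (252, []), (249, []), (248, []), (480, []), (290, [4, 3, 4, 0, 3, 1, 3, 1, 0, 6])],
  [(458, []), (477, []), (479, []), (256, [5]), (413, [3, 2, 1, 3, 2, 0, 3, 1]), (468, [4, 5]), (480, []), (248, []), (413, [0, 3, 2, 1, 3, 2, 0, 3, 1])],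
  [(460, []), (304, [2]), (252, []), (304, [5, 2, 5]), (478, []), (304, []), (251, []), (481, []), (354, [3, 1, 3, 1])],
  [(461, []), (305, [2]), (253, []), (259, []), (473, []), (482, []), (481, []), (251, []), (473, [0, 3, 0])],
  [(463, []), (306, [2]), (481, []), (306, [5, 2, 5]), (483, []), (356, [5, 1, 5]), (253, []), (252, []), (356, [4, 1, 5, 3, 1, 5, 4, 3, 1, 6, 7])],
  [(469, []), (255, []), (254, []), (475, [5]), (475, []), (312, []), (312, [2]), (484, []), (357, [3, 2, 1, 3, 2, 1, 6])],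
  [(470, []), (256, []), (484, []), (477, [5]), (485, []), (470, [4]), (313, [2]), (254, []), (438, [1, 3, 1])],
  [(471, []), (484, []), (256, []), (479, [5]), (442, [1, 3, 1, 4, 0, 2, 3, 4, 2, 0, 6]), (486, []), (314, [2]), (255, []), (442, [1, 3, 1, 6])],
  [(360, [4, 1, 4]), (360, [2, 0, 2]), (258, []), (473, []), (259, []), (487, []), (360, [5, 2, 0, 2, 5]), (257, []), (259, [0, 3, 0])],
  [(361, [4, 1, 4]), (324, [2]), (361, [5, 1, 5]), (482, []), (487, []), (259, []), (324, [5, 2, 5]), (324, []), (487, [0, 3, 0])],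
  [(274, [5]), (260, []), (450, []), (263, []), (274, []), (488, []), (489, []), (263, [4, 5, 4]), (490, [])],
  [(275, [5]), (488, []), (491, []), (264, []), (261, []), (260, []), (492, []), (493, []), (494, [])],
  [(276, [5]), (489, []), (452, []), (495, []), (364, [4, 1, 4]), (492, []), (260, []), (265, [4, 5, 4]), (364, [3, 4, 1, 0, 3, 1, 0, 3, 4, 0])],
  [(278, [4, 3, 1, 4, 1, 5, 3, 1, 6, 7]), (496, []), (365, [2, 1, 3, 2, 1]), (266, []), (262, []), (494, []), (497, []), (266, [5, 3, 4, 0, 2, 3, 2, 5, 0, 3, 0]), (260, [])],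
  [(277, [5]), (277, []), (261, []), (267, []), (491, []), (453, []), (366, [4, 1, 4]), (366, [0]), (453, [2, 1, 3, 2, 1])],
  [(279, [4, 3, 1, 4, 1, 5, 3, 1, 6, 7]), (279, [2, 3, 1, 3, 2, 1, 6]), (498, []), (268, []), (494, []), (262, []), (367, [3, 4, 1, 0, 3, 1, 0, 3, 1, 4, 0]), (367, [3, 1, 4, 0, 3, 4, 1, 0, 3]), (261, [])],
  [(287, []), (264, []), (499, []), (488, []), (280, []), (263, []), (500, []), (501, []), (502, [])],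
  [(288, []), (265, []), (455, []), (503, []), (455, [2]), (500, []), (263, []), (489, [4, 5, 4]), (455, [0, 2, 3, 2, 0, 3, 0, 6])],
  [(294, [3, 4, 1, 0, 3, 1, 0, 3, 4, 0, 6]), (293, [3, 4, 1, 0, 3, 1, 0, 3, 4, 0, 6]), (370, [2, 3, 2]), (490, []), (281, []), (502, []), (504, []), (490, [4, 5, 0, 3, 4, 1, 3, 1, 0, 6]), (263, [])],
  [(289, []), (499, []), (264, []), (491, []), (267, []), (456, []), (505, []), (506, []), (456, [2, 1, 3, 2, 1])],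
  [(290, []), (500, []), (505, []), (507, []), (270, []), (265, []), (264, []), (508, []), (509, [])],
  [(291, []), (501, []), (506, []), (493, []), (373, [0]), (493, [4, 5, 4]), (508, []), (264, []), (373, [3, 1, 4, 0, 3, 4, 1, 0, 3, 0])],
  [(301, [4, 3, 4, 0, 3, 1, 0, 3, 1, 0, 6]), (510, []), (511, []), (494, []), (268, []), (266, []), (509, [3, 4, 1, 0, 3, 1, 0, 3, 4, 0]), (512, []), (264, [])],
  [(459, [5, 2, 5]), (503, []), (459, []), (265, []), (272, []), (507, []), (495, []), (495, [4, 5, 4]), (513, [])],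
  [(302, [1, 3, 0, 2, 1, 3, 2, 0, 3, 0]), (514, []), (376, [4, 3, 4]), (513, []), (273, []), (509, []), (266, [3, 4, 1, 0, 3, 1, 0, 3, 4, 0]), (497, [4, 5, 3, 0, 2, 3, 4, 2, 0, 3, 0, 6]), (265, [])],
  [(300, [4, 3, 4, 0, 3, 1, 0, 3, 1, 0, 6]), (266, []), (377, [2, 1, 3, 2, 1]), (496, []), (284, [2, 3, 1, 3, 2, 1, 6]), (510, []), (514, [3, 4, 1, 0, 3, 1, 0, 3, 4, 0]), (496, [5, 3, 4, 0, 2, 3, 2, 5, 0, 3, 0]), (331, [0, 2, 3, 2, 0, 2, 1, 3, 2, 1, 0, 6])],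
  [(303, [4, 3, 4, 0, 3, 1, 0, 3, 1, 0, 6]), (286, [2, 3, 1, 3, 2, 1, 6]), (268, []), (498, []), (511, []), (378, [2, 1, 3, 2, 1]), (311, [0, 3, 2, 1, 3, 2, 1, 0]), (378, [3, 1, 4, 0, 3, 4, 1, 0, 3]), (419, [4, 3, 0, 2, 3, 4, 2, 0, 3, 0, 6])],
  [(304, []), (460, [2]), (270, []), (515, []), (505, []), (460, []), (269, []), (516, []), (460, [4, 3, 4])],
  [(305, []), (461, [2]), (271, []), (380, [4, 1, 4]), (380, [0]), (517, []), (516, []), (269, []), (380, [4, 3, 1, 0, 3, 1, 0, 3, 4, 0])],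
  [(462, [5, 2, 5]), (462, [2]), (515, []), (270, []), (507, []), (272, []), (381, [4, 1, 4]), (518, []), (519, [])],
  [(306, []), (463, [2]), (516, []), (518, []), (520, []), (382, [5, 1, 5]), (271, []), (270, []), (382, [4, 3, 4, 0, 2, 3, 2, 0, 3, 0])],
  [(309, [5, 1, 5, 4, 3, 1, 4, 3, 1, 6, 7]), (383, [0, 2, 0, 3, 0, 2, 0]), (521, []), (519, []), (509, []), (273, []), (307, [5, 1, 5, 4, 3, 1, 4, 3, 1, 6, 7]), (522, []), (270, [])]]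

/-- Part of a table. -/
def lev0Mov12 : List (List (ℕ × List ℕ)) := [
  [(384, [5, 0, 2, 0, 3, 0, 2, 5, 0]), (384, [0, 2, 0, 3, 0, 2, 0]), (384, [4, 3, 4]), (273, []), (513, []), (519, []), (384, [3, 4, 1, 0, 3, 1, 0, 3, 1, 4, 0]), (384, [5, 3, 1, 5, 0, 3, 0, 2, 3, 2, 0]), (272, [])],
  [(488, [5]), (275, []), (523, []), (280, []), (488, []), (274, []), (524, []), (525, []), (526, [])],
  [(489, [5]), (276, []), (465, []), (465, [2]), (527, []), (524, []), (274, []), (288, [5, 4]), (465, [0, 2, 3, 2, 0, 3, 0, 6])],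
  [(490, [5, 0, 3, 2, 1, 3, 2, 1, 0, 6]), (296, [5, 3, 4, 1, 3, 1]), (387, [2, 3, 2]), (281, []), (490, []), (526, []), (528, []), (294, [5, 3, 4, 1, 3, 1]), (274, [])],
  [(491, [5]), (523, []), (275, []), (282, []), (277, []), (466, []), (529, []), (530, []), (388, [2, 3, 1, 3, 2, 1])],
  [(492, [5]), (524, []), (529, []), (467, [2]), (389, [4, 1, 4]), (276, []), (275, []), (531, []), (389, [5, 1, 5, 4, 3, 1, 4, 3, 1, 7])],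
  [(493, [5]), (525, []), (530, []), (283, []), (390, [0]), (291, [5, 4]), (531, []), (275, []), (532, [])],
  [(496, [4, 1, 3, 4, 1, 5, 3, 1, 7]), (278, []), (391, [2, 1, 3, 2, 1]), (284, []), (496, [2, 3, 1, 3, 2, 1, 6]), (533, []), (534, []), (300, [5, 4]), (339, [4, 1, 3, 1, 0, 3, 4, 1, 3, 1, 0, 6])],
  [(494, [4, 1, 3, 4, 1, 5, 3, 1, 7]), (533, []), (535, []), (285, []), (279, []), (278, []), (536, []), (532, []), (418, [5, 4])],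
  [(497, [4, 1, 3, 4, 1, 5, 3, 1, 7]), (534, []), (393, [2, 1, 3, 2, 1]), (393, [1, 0, 3, 2, 0, 2, 3, 1, 0]), (393, [4, 3, 1, 0, 3, 1, 0, 3, 1, 4, 0]), (536, []), (278, []), (302, [5, 4]), (393, [5, 1, 5, 4, 3, 1, 4, 3, 1, 7])],
  [(498, [4, 1, 3, 4, 1, 5, 3, 1, 7]), (498, [2, 3, 1, 3, 2, 1, 6]), (279, []), (286, []), (535, []), (394, [2, 1, 3, 2, 1]), (394, [4, 3, 1, 0, 3, 1, 0, 3, 1, 4, 0]), (394, [0]), (394, [2, 3, 1, 3, 2, 1])],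
  [(312, []), (282, []), (280, []), (523, []), (499, []), (469, []), (469, [2]), (537, []), (469, [2, 3, 2])],
  [(313, []), (283, []), (537, []), (525, []), (538, []), (313, [4]), (470, [2]), (280, []), (539, [])],
  [(317, [5, 1, 5, 4, 3, 1, 4, 3, 1, 6, 7]), (316, [5, 1, 5, 4, 3, 1, 4, 3, 1, 6, 7]), (540, []), (526, []), (502, []), (281, []), (397, [0, 2, 0, 3, 0, 2, 0]), (539, [0, 2, 3, 1, 3, 2, 1, 0]), (280, [])],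
  [(314, []), (537, []), (283, []), (530, []), (398, [0]), (541, []), (471, [2]), (282, []), (398, [3, 1, 4, 0, 3, 4, 1, 0, 3, 0])],
  [(315, [1, 3, 0, 2, 3, 2, 0, 3, 1, 0]), (542, []), (543, []), (532, []), (399, [0]), (315, [4]), (399, [1, 0, 3, 2, 0, 2, 3, 1, 0]), (285, []), (283, [])],
  [(322, [1, 3, 0, 2, 3, 2, 0, 3, 1, 0]), (285, []), (544, []), (533, []), (510, [2, 3, 1, 3, 2, 1, 6]), (284, []), (400, [1, 0, 3, 2, 0, 2, 3, 1, 0]), (542, []), (343, [4, 1, 3, 1, 0, 3, 4, 1, 3, 1, 0, 6])],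
  [(323, [1, 3, 0, 2, 3, 2, 0, 3, 1, 0]), (544, []), (285, []), (535, []), (286, []), (401, [2, 1, 3, 2, 1]), (401, [1, 0, 3, 2, 0, 2, 3, 1, 0]), (543, []), (401, [2, 3, 1, 3, 2, 1])],
  [(499, []), (289, []), (287, []), (312, [5]), (312, []), (475, []), (545, []), (546, []), (402, [3, 2, 1, 3, 2, 1, 6])],
  [(500, []), (290, []), (545, []), (476, [5, 2, 5]), (476, [2]), (288, []), (287, []), (547, []), (403, [5, 1, 5, 4, 3, 1, 4, 3, 1, 7])],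
  [(501, []), (291, []), (546, []), (313, [5]), (548, []), (525, [4, 5]), (547, []), (287, []), (549, [])],
  [(505, []), (545, []), (290, []), (478, [5, 2, 5]), (304, []), (478, []), (289, []), (550, []), (405, [3, 1, 3, 1])],
  [(506, []), (546, []), (291, []), (314, [5]), (406, [0]), (551, []), (550, []), (289, []), (552, [])],
  [(508, []), (547, []), (550, []), (480, [5, 2, 5]), (553, []), (531, [4, 5]), (291, []), (290, []), (480, [2, 1, 0, 3, 1, 0, 3, 0, 2, 6])],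
  [(512, [4, 3, 4, 0, 3, 1, 0, 3, 1, 0, 6]), (554, []), (552, [3, 0, 2, 1, 3, 2, 1, 0, 3, 0]), (315, [5]), (408, [0]), (532, [4, 5]), (555, []), (301, []), (291, [])],
  [(292, []), (502, [3, 4, 1, 0, 3, 1, 0, 3, 4, 0, 6]), (556, []), (557, []), (297, []), (293, []), (558, []), (559, []), (332, [1, 4, 3, 4, 0, 3, 2, 3, 2, 1, 0, 6])],
  [(502, [3, 4, 1, 0, 3, 1, 0, 3, 4, 0, 6]), (292, []), (560, []), (317, [5]), (317, [0, 3, 2, 1, 3, 2, 1, 0, 6]), (294, []), (561, []), (549, [3, 0, 2, 1, 3, 2, 1, 0, 3, 0, 6]), (410, [0, 3, 2, 1, 3, 2, 1, 0, 6])],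
  [(556, []), (560, []), (292, []), (318, [5]), (298, []), (411, [1, 3, 1]), (562, []), (563, []), (423, [0, 3, 2, 1, 3, 2, 1, 0])],
  [(558, []), (561, []), (562, []), (412, [5, 0, 2, 0, 3, 0, 2, 5, 0]), (347, [1, 3, 0, 2, 3, 2, 1, 3]), (295, []), (292, []), (564, []), (424, [3, 4, 0, 3, 4, 0, 2, 3, 2, 0])],
  [(559, []), (549, [3, 0, 2, 1, 3, 2, 1, 0, 3, 0, 6]), (563, []), (319, [5]), (353, [1, 3, 0, 2, 3, 2, 1, 3]), (565, []), (564, []), (292, []), (353, [1, 3, 0, 2, 3, 2, 1, 3, 0])],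
  [(296, [4, 3, 1, 5, 1, 4, 3, 1, 6, 7]), (490, [3, 4, 1, 0, 3, 1, 0, 3, 4, 0, 6]), (414, [1, 3, 1]), (293, []), (299, []), (557, []), (566, []), (293, [4, 3, 1, 5, 1, 4, 3, 1, 6, 7]), (329, [1, 4, 3, 4, 0, 3, 2, 3, 2, 1, 0, 6])],
  [(295, []), (504, [3, 4, 1, 0, 3, 1, 0, 3, 4, 0, 6]), (415, [1, 3, 1]), (567, []), (327, [1, 3, 0, 2, 3, 2, 1, 3]), (558, []), (293, []), (566, [4, 3, 1, 5, 1, 4, 3, 1, 6, 7]), (333, [0, 2, 3, 2, 0, 2, 1, 3, 2, 1, 0])]]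

/-- Part of a table. -/
def lev0Mov13 : List (List (ℕ × List ℕ)) := [
  [(504, [3, 4, 1, 0, 3, 1, 0, 3, 4, 0, 6]), (295, []), (416, [1, 3, 1]), (416, [5, 0, 2, 0, 3, 0, 2, 5, 0]), (416, [1, 4, 0, 3, 2, 0, 2, 3, 4, 1, 0]), (561, []), (294, []), (528, [1, 3, 1, 4, 3, 5]), (416, [5, 1, 5, 4, 3, 1, 4, 3, 1, 7])],
  [(566, [4, 3, 1, 5, 1, 4, 3, 1, 6, 7]), (528, [1, 3, 1, 4, 3, 5]), (417, [1, 3, 1]), (417, [5, 0, 2, 0, 3, 0, 2, 5, 0]), (417, [4, 0, 3, 1, 4, 1, 3, 0, 6, 7]), (568, []), (296, []), (295, []), (417, [4, 1, 3, 5, 1, 5, 4, 3, 1, 7])],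
  [(557, [4, 3, 1, 5, 1, 4, 3, 1, 6, 7]), (526, [1, 3, 1, 4, 3, 5]), (569, []), (316, [3, 1, 4, 1, 5, 3, 1, 6, 7]), (321, [3, 1, 4, 1, 5, 3, 1, 6, 7]), (296, []), (568, []), (565, []), (392, [4, 5])],
  [(298, []), (320, [0, 3, 2, 1, 3, 2, 1, 0, 6]), (297, []), (570, []), (556, []), (419, [1, 3, 1]), (328, [1, 3, 0, 2, 3, 2, 1, 3]), (334, [1, 3, 0, 2, 3, 2, 1, 3]), (378, [4, 3, 0, 2, 3, 4, 2, 0, 3, 0, 6])],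
  [(321, [5]), (321, [0, 3, 2, 1, 3, 2, 1, 0, 6]), (570, []), (297, []), (557, []), (299, []), (420, [4, 0, 3, 1, 4, 3, 0, 6]), (330, [1, 3, 0, 2, 3, 2, 1, 3]), (330, [1, 4, 3, 4, 0, 3, 2, 3, 2, 1, 0, 6])],
  [(510, [4, 3, 4, 0, 3, 1, 0, 3, 1, 0, 6]), (301, []), (571, []), (322, [5]), (322, [3, 0, 2, 1, 3, 2, 1, 0, 3, 0]), (300, []), (572, []), (554, []), (421, [0, 3, 2, 1, 3, 2, 1, 0, 6])],
  [(514, [1, 3, 0, 2, 1, 3, 2, 0, 3, 0, 6]), (302, []), (422, [4, 2, 3, 4, 2]), (422, [5, 0, 2, 1, 0, 3, 0, 2, 1, 5, 0]), (422, [4, 0, 3, 2, 0, 2, 3, 4, 0]), (572, []), (300, []), (534, [4, 5]), (422, [5, 1, 5, 4, 3, 1, 4, 3, 1, 6, 7])],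
  [(511, [4, 3, 4, 0, 3, 1, 0, 3, 1, 0, 6]), (571, []), (301, []), (323, [5]), (303, []), (423, [4, 2, 3, 4, 2]), (573, []), (552, [3, 0, 2, 1, 3, 2, 1, 0, 3, 0]), (411, [0, 3, 2, 1, 3, 2, 1, 0])],
  [(509, [1, 3, 0, 2, 1, 3, 2, 0, 3, 0, 6]), (572, []), (573, []), (424, [5, 0, 2, 1, 0, 3, 0, 2, 1, 5, 0]), (309, [3, 4, 0, 3, 4, 0, 2, 3, 2, 0]), (302, []), (301, []), (555, []), (412, [3, 4, 0, 3, 4, 0, 2, 3, 2, 0])],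
  [(516, []), (481, [2]), (306, []), (481, [5, 2, 5]), (574, []), (575, []), (305, []), (304, []), (481, [1, 0, 3, 1, 0, 3, 0, 6])],
  [(517, []), (482, [2]), (426, [5, 1, 5]), (324, []), (426, [0]), (305, []), (575, []), (482, []), (576, [])],
  [(577, []), (427, [0, 2, 0, 3, 0, 2, 0]), (310, [3, 2, 3, 2, 6]), (325, []), (427, [0]), (576, []), (578, []), (308, [3, 2, 3, 2, 6]), (305, [])],
  [(520, []), (579, []), (574, []), (483, [5, 2, 5]), (306, []), (428, [5, 1, 5]), (428, [0]), (553, []), (428, [4, 1, 3, 5, 1, 5, 4, 3, 1, 7])],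
  [(308, []), (429, [0, 2, 0, 3, 0, 2, 0]), (307, []), (429, [3, 4, 1, 0, 3, 1, 0, 3, 1, 4, 0]), (311, []), (429, [3]), (521, [5, 1, 5, 4, 3, 1, 4, 3, 1, 6, 7]), (577, [3, 2, 3, 2, 6]), (429, [2, 3, 2, 1, 3, 1, 6])],
  [(310, []), (430, [0, 2, 0, 3, 0, 2, 0]), (577, [3, 2, 3, 2, 6]), (430, [3, 4, 1, 0, 3, 1, 0, 3, 1, 4, 0]), (430, [3, 0, 2, 3, 2, 0, 3]), (430, [3, 5, 1, 5, 0, 3, 0, 2, 3, 2, 0]), (522, [5, 1, 5, 4, 3, 1, 4, 3, 1, 6, 7]), (307, []), (430, [5, 1, 5, 4, 1, 4, 1, 7])],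
  [(521, [5, 1, 5, 4, 3, 1, 4, 3, 1, 6, 7]), (431, [0, 2, 0, 3, 0, 2, 0]), (309, []), (431, [5, 0, 2, 0, 3, 0, 2, 5, 0]), (573, [3, 4, 0, 3, 4, 0, 2, 3, 2, 0]), (431, [3]), (308, []), (578, [3, 2, 3, 2, 6]), (431, [3, 1, 3, 1])],
  [(522, [5, 1, 5, 4, 3, 1, 4, 3, 1, 6, 7]), (432, [0, 2, 0, 3, 0, 2, 0]), (578, [3, 2, 3, 2, 6]), (432, [5, 0, 2, 0, 3, 0, 2, 5, 0]), (580, []), (432, [3, 5, 1, 5, 0, 3, 0, 2, 3, 2, 0]), (310, []), (309, []), (432, [4, 1, 3, 5, 1, 5, 4, 3, 1, 7])],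
  [(537, []), (314, []), (313, []), (546, [5]), (581, []), (582, []), (484, [2]), (312, []), (484, [1, 3, 0, 2, 3, 2, 1, 3, 0])],
  [(538, []), (434, [0]), (581, []), (548, [5]), (313, []), (538, [4]), (583, []), (548, []), (584, [])],
  [(539, [1, 0, 3, 2, 3, 2, 1, 0]), (319, [3, 0, 2, 1, 3, 2, 1, 0, 3, 0, 6]), (585, []), (549, [5]), (584, []), (539, [4]), (435, [1, 0, 3, 2, 0, 2, 3, 1, 0]), (317, [3, 0, 2, 1, 3, 2, 1, 0, 3, 0, 6]), (313, [])],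
  [(541, []), (582, []), (541, [4]), (551, [5]), (436, [0]), (314, []), (486, [2]), (486, []), (586, [])],
  [(543, [3, 1, 0, 3, 1, 0, 3, 0, 6]), (587, []), (315, [3, 0, 2, 1, 3, 2, 1, 0, 3, 0]), (552, [5]), (437, [0]), (586, []), (437, [4, 0, 3, 2, 0, 2, 3, 4, 0]), (323, [3, 0, 2, 1, 3, 2, 1, 0, 3, 0]), (314, [])],
  [(542, [1, 3, 0, 2, 3, 2, 0, 3, 1, 0]), (315, []), (587, [3, 0, 2, 1, 3, 2, 1, 0, 3, 0]), (554, [5]), (588, []), (542, [4]), (438, [0, 2, 1, 0, 3, 0, 2, 1, 0]), (322, []), (358, [1, 3, 1])],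
  [(318, []), (540, [5, 1, 5, 4, 3, 1, 4, 3, 1, 6, 7]), (316, []), (569, [3, 1, 5, 3, 1, 4, 1, 6, 7]), (320, []), (439, [4, 2, 3, 4, 2]), (439, [0, 2, 0, 3, 0, 2, 0]), (589, []), (439, [2, 3, 1, 3, 2, 1])],
  [(319, []), (539, [3, 2, 1, 3, 2, 0, 3, 1, 3, 0]), (589, []), (565, [3, 1, 5, 3, 1, 4, 1, 6, 7]), (345, [0, 3, 2, 1, 3, 2, 0, 3, 1, 0]), (319, [1, 5, 3, 1, 5, 4, 3, 1, 7]), (440, [0, 2, 0, 3, 0, 2, 0]), (316, []), (345, [0, 3, 1, 0, 3, 1, 0])],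
  [(540, [5, 1, 5, 4, 3, 1, 4, 3, 1, 6, 7]), (318, []), (317, []), (560, [5]), (560, [0, 3, 2, 1, 3, 2, 1, 0, 6]), (441, [4, 2, 3, 4, 2]), (441, [0, 2, 0, 3, 0, 2, 0]), (585, [3, 0, 2, 1, 3, 2, 1, 0, 3, 0, 6]), (441, [3, 2, 1, 3, 2, 1, 6])],
  [(589, []), (585, [3, 0, 2, 1, 3, 2, 1, 0, 3, 0, 6]), (319, []), (563, [5]), (359, [0, 3, 2, 1, 3, 2, 0, 3, 1, 0]), (590, []), (442, [0, 2, 0, 3, 0, 2, 0]), (318, []), (359, [1, 3, 1, 6])],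
  [(570, [5]), (570, [0, 3, 2, 1, 3, 2, 1, 0, 6]), (321, []), (320, []), (569, [3, 1, 5, 3, 1, 4, 1, 6, 7]), (443, [4, 2, 3, 4, 2]), (443, [4, 0, 3, 1, 4, 3, 0, 6]), (342, [0, 3, 2, 1, 3, 2, 0, 3, 1, 0]), (443, [2, 3, 1, 3, 2, 1])],
  [(544, [1, 3, 0, 2, 3, 2, 0, 3, 1, 0]), (323, []), (322, []), (571, [5]), (571, [3, 0, 2, 1, 3, 2, 1, 0, 3, 0]), (444, [1, 3, 1]), (444, [0, 2, 1, 0, 3, 0, 2, 1, 0]), (587, [3, 0, 2, 1, 3, 2, 1, 0, 3, 0]), (444, [3, 2, 1, 3, 2, 1, 6])],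
  [(445, [4, 3, 1, 0, 3, 1, 0, 3, 1, 4, 0]), (445, [0, 2, 0, 3, 0, 2, 0]), (445, [3, 5, 1, 5, 0, 3, 0, 2, 3, 2, 0]), (576, []), (445, [0]), (325, []), (445, [3, 5, 2, 5, 0, 3, 1, 3, 1, 0, 6]), (445, [3]), (324, [])],
  [(346, []), (446, [2, 0, 2]), (326, []), (446, [4, 1, 4]), (328, []), (446, [0]), (591, []), (592, []), (446, [4, 3, 1, 0, 3, 1, 0, 3, 4, 0])],
  [(347, []), (447, [2, 0, 2]), (591, []), (593, []), (558, [3, 2, 1, 3, 2, 0, 3, 1]), (327, []), (326, []), (594, []), (336, [5, 2, 3, 2, 0, 3, 5, 6])]]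

/-- Part of a table. -/
def lev0Mov14 : List (List (ℕ × List ℕ)) := [
  [(348, []), (448, [2, 0, 2]), (592, []), (448, [4, 1, 4]), (337, []), (448, [5, 1, 5]), (594, []), (326, []), (448, [4, 0, 3, 4, 3, 0, 6])],
  [(449, [5, 2, 0, 2, 5]), (449, [2, 0, 2]), (449, [0]), (327, []), (567, [3, 2, 1, 3, 2, 0, 3, 1]), (593, []), (449, [4, 1, 4]), (449, [5, 1, 5]), (338, [5, 2, 3, 2, 0, 3, 5, 6])],
  [(339, [5]), (329, []), (362, []), (331, []), (339, []), (595, []), (596, []), (331, [4, 5, 4]), (496, [4, 1, 3, 1, 0, 3, 4, 1, 3, 1, 0])],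
  [(340, [5]), (595, []), (597, []), (332, []), (330, []), (329, []), (598, []), (599, []), (557, [1, 4, 0, 2, 3, 2, 0, 3, 4, 1, 0, 6])],
  [(341, [5]), (596, []), (364, []), (600, []), (452, [4, 1, 4]), (598, []), (329, []), (333, [4, 5, 4]), (452, [3, 4, 0, 3, 1, 0, 3, 1, 4, 0])],
  [(342, [5]), (342, []), (330, []), (334, []), (597, []), (366, []), (453, [4, 1, 4]), (570, [3, 2, 1, 3, 2, 0, 3, 1]), (366, [2, 1, 3, 2, 1])],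
  [(349, []), (332, []), (601, []), (595, []), (343, []), (331, []), (602, []), (603, []), (510, [4, 1, 3, 1, 0, 3, 4, 1, 3, 1, 0])],
  [(350, []), (333, []), (369, []), (604, []), (369, [2]), (602, []), (331, []), (596, [4, 5, 4]), (369, [0, 3, 0, 2, 3, 2, 0, 6])],
  [(351, []), (601, []), (332, []), (597, []), (334, []), (371, []), (605, []), (606, []), (371, [2, 1, 3, 2, 1])],
  [(352, []), (602, []), (605, []), (607, []), (336, []), (333, []), (332, []), (608, []), (558, [4, 1, 3, 1, 0, 3, 4, 1, 3, 1, 0, 6])],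
  [(353, []), (603, []), (606, []), (599, []), (559, [3, 2, 1, 3, 2, 0, 3, 1]), (599, [4, 5, 4]), (608, []), (332, []), (458, [0, 2, 3, 1, 3, 2, 1, 0])],
  [(375, [5, 2, 5]), (604, []), (375, []), (333, []), (338, []), (607, []), (600, []), (600, [4, 5, 4]), (567, [4, 1, 3, 1, 0, 3, 4, 1, 3, 1, 0, 6])],
  [(354, []), (379, [2]), (336, []), (609, []), (605, []), (379, []), (335, []), (610, []), (379, [4, 3, 4])],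
  [(355, []), (380, [2]), (337, []), (461, [4, 1, 4]), (592, []), (611, []), (610, []), (335, []), (461, [0, 2, 3, 2, 1, 3, 1, 0, 6])],
  [(381, [5, 2, 5]), (381, [2]), (609, []), (336, []), (607, []), (338, []), (462, [4, 1, 4]), (612, []), (593, [5, 3, 0, 2, 3, 2, 5, 6])],
  [(356, []), (382, [2]), (610, []), (612, []), (613, []), (463, [5, 1, 5]), (337, []), (336, []), (463, [4, 3, 4, 0, 3, 0, 2, 3, 2, 0])],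
  [(595, [5]), (340, []), (614, []), (343, []), (595, []), (339, []), (615, []), (616, []), (533, [0, 2, 3, 2, 0, 2, 1, 3, 2, 1, 0])],
  [(596, [5]), (341, []), (386, []), (386, [2]), (617, []), (615, []), (339, []), (350, [5, 4]), (386, [0, 3, 0, 2, 3, 2, 0, 6])],
  [(597, [5]), (614, []), (340, []), (344, []), (342, []), (388, []), (618, []), (619, []), (466, [2, 3, 1, 3, 2, 1])],
  [(598, [5]), (615, []), (618, []), (389, [2]), (467, [4, 1, 4]), (341, []), (340, []), (620, []), (467, [5, 1, 5, 3, 4, 1, 4, 3, 1, 6, 7])],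
  [(599, [5]), (616, []), (619, []), (345, []), (565, [5, 1, 3, 1, 4, 0, 2, 3, 2, 0, 6]), (353, [5, 4]), (620, []), (340, []), (565, [5, 1, 3, 1, 0, 3, 4, 1, 3, 1, 0])],
  [(357, []), (344, []), (343, []), (614, []), (601, []), (395, []), (395, [2]), (621, []), (395, [2, 3, 2])],
  [(358, []), (345, []), (621, []), (616, []), (622, []), (358, [4]), (396, [2]), (343, []), (542, [2, 1, 3, 2, 1])],
  [(359, []), (621, []), (345, []), (619, []), (589, [1, 3, 1, 4, 0, 2, 3, 4, 2, 0, 6]), (623, []), (398, [2]), (344, []), (471, [0, 2, 3, 1, 3, 2, 1, 0])],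
  [(591, []), (472, [2, 0, 2]), (347, []), (472, [5, 2, 0, 2, 5]), (562, [3, 2, 1, 3, 2, 0, 3, 1]), (472, [0]), (346, []), (624, []), (472, [3, 1, 0, 3, 1, 0, 3, 0])],
  [(592, []), (473, [2, 0, 2]), (348, []), (360, []), (355, []), (625, []), (624, []), (346, []), (355, [0, 3, 0])],
  [(594, []), (474, [2, 0, 2]), (624, []), (474, [5, 2, 0, 2, 5]), (626, []), (474, [5, 1, 5]), (348, []), (347, []), (474, [4, 3, 0, 2, 3, 4, 2, 0, 3, 0])],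
  [(601, []), (351, []), (349, []), (357, [5]), (357, []), (402, []), (627, []), (628, []), (475, [3, 2, 1, 3, 2, 1, 6])],
  [(602, []), (352, []), (627, []), (403, [5, 2, 5]), (403, [2]), (350, []), (349, []), (629, []), (476, [5, 1, 5, 3, 4, 1, 4, 3, 1, 6, 7])],
  [(603, []), (353, []), (628, []), (358, [5]), (630, []), (616, [4, 5]), (629, []), (349, []), (554, [4, 2, 3, 4, 2])],
  [(605, []), (627, []), (352, []), (405, [5, 2, 5]), (354, []), (405, []), (351, []), (631, []), (478, [3, 1, 3, 1])],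
  [(606, []), (628, []), (353, []), (359, [5]), (563, [3, 2, 1, 3, 2, 0, 3, 1]), (632, []), (631, []), (351, []), (563, [4, 2, 3, 4, 2, 6])]]

/-- Part of a table. -/
def lev0Mov15 : List (List (ℕ × List ℕ)) := [
  [(608, []), (629, []), (631, []), (407, [5, 2, 5]), (633, []), (620, [4, 5]), (353, []), (352, []), (407, [2, 0, 3, 1, 0, 3, 0, 2, 1, 6])],
  [(610, []), (425, [2]), (356, []), (425, [5, 2, 5]), (634, []), (635, []), (355, []), (354, []), (425, [0, 3, 1, 0, 3, 1, 0, 6])],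
  [(611, []), (426, [2]), (482, [5, 1, 5]), (361, []), (625, []), (355, []), (635, []), (426, []), (625, [0, 3, 0])],
  [(613, []), (636, []), (634, []), (428, [5, 2, 5]), (356, []), (483, [5, 1, 5]), (626, []), (633, []), (483, [4, 1, 5, 3, 1, 5, 4, 3, 1, 6, 7])],
  [(621, []), (359, []), (358, []), (628, [5]), (637, []), (638, []), (433, [2]), (357, []), (433, [0, 3, 2, 1, 3, 2, 0, 3, 1])],
  [(622, []), (584, [1, 0, 3, 1]), (637, []), (630, [5]), (358, []), (622, [4]), (639, []), (630, []), (588, [1, 3, 1])],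
  [(623, []), (638, []), (623, [4]), (632, [5]), (590, [1, 3, 1, 4, 0, 2, 3, 4, 2, 0, 6]), (359, []), (436, [2]), (436, []), (590, [1, 3, 1, 6])],
  [(487, [4, 1, 4]), (487, [2, 0, 2]), (487, [5, 1, 5]), (625, []), (361, []), (360, []), (487, [5, 2, 0, 2, 5]), (487, [0]), (361, [0, 3, 0])],
  [(385, [5]), (363, []), (640, []), (368, []), (385, []), (362, []), (641, []), (642, []), (643, [])],
  [(386, [5]), (364, []), (596, []), (644, []), (645, []), (641, []), (362, []), (369, [4, 5, 4]), (646, [])],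
  [(387, [5, 0, 3, 2, 1, 3, 2, 1, 0, 6]), (414, [3, 4, 1, 0, 3, 1, 0, 3, 4, 0, 6]), (490, [2, 3, 2]), (370, []), (387, []), (643, []), (647, []), (370, [4, 5, 0, 3, 4, 1, 3, 1, 0, 6]), (362, [])],
  [(388, [5]), (640, []), (363, []), (371, []), (366, []), (597, []), (648, []), (649, []), (597, [2, 1, 3, 2, 1])],
  [(389, [5]), (641, []), (648, []), (650, []), (492, [4, 1, 4]), (364, []), (363, []), (651, []), (492, [3, 4, 1, 0, 3, 1, 0, 3, 4, 0])],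
  [(390, [5]), (642, []), (649, []), (373, []), (493, [0]), (373, [4, 5, 4]), (651, []), (363, []), (493, [3, 1, 4, 0, 3, 4, 1, 0, 3, 0])],
  [(392, [4, 3, 1, 4, 1, 5, 3, 1, 6, 7]), (652, []), (653, []), (374, []), (367, []), (365, []), (654, []), (655, []), (363, [])],
  [(600, [5, 2, 5]), (644, []), (600, []), (364, []), (495, [4, 1, 4]), (650, []), (375, []), (375, [4, 5, 4]), (495, [3, 4, 1, 0, 3, 1, 0, 3, 4, 0])],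
  [(391, [4, 3, 1, 4, 1, 5, 3, 1, 6, 7]), (365, []), (496, [2, 1, 3, 2, 1]), (377, []), (391, [2, 3, 1, 3, 2, 1, 6]), (652, []), (646, [0, 3, 2, 1, 3, 2, 1, 0]), (377, [5, 3, 4, 0, 2, 3, 2, 5, 0, 3, 0]), (450, [0, 2, 3, 2, 0, 2, 1, 3, 2, 1, 0, 6])],
  [(393, [4, 3, 1, 4, 1, 5, 3, 1, 6, 7]), (646, [0, 3, 2, 1, 3, 2, 1, 0]), (497, [2, 1, 3, 2, 1]), (656, []), (497, [3, 4, 1, 0, 3, 1, 0, 3, 1, 4, 0]), (654, []), (365, []), (376, [4, 5, 3, 1, 0, 3, 1, 4, 0, 3, 0, 6]), (497, [3, 4, 1, 0, 3, 1, 0, 3, 4, 0])],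
  [(394, [4, 3, 1, 4, 1, 5, 3, 1, 6, 7]), (394, [2, 3, 1, 3, 2, 1, 6]), (367, []), (378, []), (653, []), (498, [2, 1, 3, 2, 1]), (498, [3, 4, 1, 0, 3, 1, 0, 3, 1, 4, 0]), (498, [3, 1, 4, 0, 3, 4, 1, 0, 3]), (570, [4, 3, 0, 2, 3, 4, 2, 0, 3, 0, 6])],
  [(402, []), (371, []), (368, []), (640, []), (395, []), (601, []), (657, []), (658, []), (601, [2, 3, 2])],
  [(403, []), (372, []), (657, []), (659, []), (602, [2]), (369, []), (368, []), (660, []), (602, [0, 2, 3, 2, 0, 3, 0, 6])],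
  [(404, []), (373, []), (658, []), (642, []), (661, []), (642, [4, 5, 4]), (660, []), (368, []), (501, [0, 2, 3, 1, 3, 2, 1, 0])],
  [(410, [3, 4, 1, 0, 3, 1, 0, 3, 4, 0, 6]), (409, [3, 4, 1, 0, 3, 1, 0, 3, 4, 0, 6]), (662, []), (643, []), (397, []), (370, []), (663, []), (664, []), (368, [])],
  [(604, [5, 2, 5]), (375, []), (604, []), (369, []), (604, [2]), (659, []), (644, []), (644, [4, 5, 4]), (604, [0, 2, 3, 2, 0, 3, 0, 6])],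
  [(416, [3, 4, 1, 0, 3, 1, 0, 3, 4, 0, 6]), (415, [3, 4, 1, 0, 3, 1, 0, 3, 4, 0, 6]), (504, [2, 3, 2]), (665, []), (504, [0, 2, 0, 3, 0, 2, 0]), (663, []), (370, []), (647, [4, 5, 0, 3, 4, 1, 3, 1, 0, 6]), (514, [5, 1, 5, 4, 3, 1, 4, 3, 1, 6, 7])],
  [(405, []), (657, []), (372, []), (666, []), (379, []), (605, []), (371, []), (667, []), (605, [4, 3, 4])],
  [(406, []), (658, []), (373, []), (649, []), (506, [0]), (668, []), (667, []), (371, []), (669, [])],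
  [(607, [5, 2, 5]), (659, []), (666, []), (372, []), (381, []), (375, []), (650, []), (670, []), (671, [])],
  [(407, []), (660, []), (667, []), (670, []), (672, []), (651, [4, 5, 4]), (373, []), (372, []), (673, [])],
  [(424, [1, 3, 0, 2, 1, 3, 2, 0, 3, 0]), (674, []), (675, []), (671, []), (383, []), (376, []), (374, [3, 4, 1, 0, 3, 1, 0, 3, 4, 0]), (673, [4, 3, 4, 0, 2, 3, 2, 0, 3, 0]), (372, [])],
  [(421, [4, 3, 4, 0, 3, 1, 0, 3, 1, 0, 6]), (374, []), (676, []), (652, []), (400, [2, 3, 1, 3, 2, 1, 6]), (377, []), (674, [3, 4, 1, 0, 3, 1, 0, 3, 4, 0]), (677, []), (454, [0, 2, 3, 2, 0, 2, 1, 3, 2, 1, 0, 6])],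
  [(423, [4, 3, 4, 0, 3, 1, 0, 3, 1, 0, 6]), (676, []), (374, []), (653, []), (378, []), (511, [2, 1, 3, 2, 1]), (675, [3, 4, 1, 0, 3, 1, 0, 3, 4, 0]), (669, [2, 3, 1, 3, 2, 1, 6]), (556, [4, 3, 0, 2, 3, 4, 2, 0, 3, 0, 6])]]

/-- Part of a table. -/
def lev0Mov16 : List (List (ℕ × List ℕ)) := [
  [(408, [4, 3, 4, 0, 3, 1, 0, 3, 1, 0, 6]), (677, []), (669, [2, 3, 1, 3, 2, 1, 6]), (655, []), (512, [3, 1, 4, 0, 3, 4, 1, 0, 3]), (655, [5, 3, 4, 0, 2, 3, 2, 5, 0, 3, 0]), (673, [3, 1, 0, 3, 1, 0, 3, 0, 6]), (374, []), (512, [3, 1, 4, 0, 3, 4, 1, 0, 3, 0])],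
  [(513, [5, 0, 2, 0, 3, 0, 2, 5, 0]), (678, []), (513, [4, 3, 4]), (376, []), (384, []), (671, []), (656, [3, 4, 1, 0, 3, 1, 0, 3, 4, 0]), (656, [4, 5, 3, 0, 2, 3, 4, 2, 0, 3, 0, 6]), (375, [])],
  [(422, [1, 3, 0, 2, 1, 3, 2, 0, 3, 0]), (376, []), (514, [4, 3, 4]), (678, []), (514, [0, 2, 0, 3, 0, 2, 0]), (674, []), (377, [3, 4, 1, 0, 3, 1, 0, 3, 4, 0]), (646, [4, 5, 4, 3, 2, 3, 2, 6]), (504, [5, 1, 5, 4, 3, 1, 4, 3, 1, 6, 7])],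
  [(609, [5, 2, 5]), (609, [2]), (381, []), (379, []), (666, []), (609, []), (515, [4, 1, 4]), (679, []), (609, [4, 3, 4])],
  [(425, []), (610, [2]), (382, []), (679, []), (680, []), (681, []), (380, []), (379, []), (682, [])],
  [(426, []), (611, [2]), (517, [5, 1, 5]), (517, [4, 1, 4]), (517, [0]), (380, []), (681, []), (611, []), (517, [4, 3, 1, 0, 3, 1, 0, 3, 4, 0])],
  [(612, [5, 2, 5]), (612, [2]), (679, []), (382, []), (683, []), (518, [5, 1, 5]), (518, [4, 1, 4]), (381, []), (518, [4, 3, 4, 0, 2, 3, 2, 0, 3, 0])],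
  [(519, [5, 0, 2, 0, 3, 0, 2, 5, 0]), (519, [0, 2, 0, 3, 0, 2, 0]), (684, []), (383, []), (671, []), (384, []), (519, [3, 4, 1, 0, 3, 1, 0, 3, 1, 4, 0]), (685, []), (381, [])],
  [(428, []), (686, []), (680, []), (683, []), (382, []), (520, [5, 1, 5]), (520, [0]), (672, []), (520, [4, 3, 4, 0, 2, 3, 2, 0, 3, 0])],
  [(431, [5, 1, 5, 4, 3, 1, 4, 3, 1, 6, 7]), (521, [0, 2, 0, 3, 0, 2, 0]), (383, []), (684, []), (675, []), (521, [4, 3, 4]), (429, [5, 1, 5, 4, 3, 1, 4, 3, 1, 6, 7]), (682, [3, 2, 3, 2, 6]), (591, [4, 3, 4, 0, 3, 1, 3, 1, 6])],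
  [(432, [5, 1, 5, 4, 3, 1, 4, 3, 1, 6, 7]), (522, [0, 2, 0, 3, 0, 2, 0]), (682, [3, 2, 3, 2, 6]), (685, []), (687, []), (522, [5, 3, 1, 5, 0, 3, 0, 2, 3, 2, 0]), (430, [5, 1, 5, 4, 3, 1, 4, 3, 1, 6, 7]), (383, []), (522, [4, 3, 4, 0, 2, 3, 2, 0, 3, 0])],
  [(640, [5]), (388, []), (385, []), (395, []), (640, []), (614, []), (688, []), (689, []), (614, [2, 3, 2])],
  [(641, [5]), (389, []), (688, []), (615, [2]), (690, []), (386, []), (385, []), (691, []), (615, [0, 2, 3, 2, 0, 3, 0, 6])],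
  [(642, [5]), (390, []), (689, []), (396, []), (692, []), (404, [5, 4]), (691, []), (385, []), (693, [])],
  [(643, [5, 0, 3, 2, 1, 3, 2, 1, 0, 6]), (418, [5, 3, 4, 1, 3, 1]), (694, []), (397, []), (643, []), (387, []), (695, []), (693, [0, 2, 3, 1, 3, 2, 1, 0]), (385, [])],
  [(645, [5]), (527, [4, 1, 4]), (617, []), (617, [2]), (386, []), (690, []), (645, []), (617, [4, 5, 2, 5, 4]), (617, [0, 2, 3, 2, 0, 3, 0, 6])],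
  [(647, [5, 0, 3, 2, 1, 3, 2, 1, 0, 6]), (417, [5, 3, 4, 1, 3, 1]), (528, [2, 3, 2]), (528, [0, 2, 0, 3, 0, 2, 0]), (696, []), (695, []), (387, []), (416, [5, 3, 4, 1, 3, 1]), (534, [3, 0, 2, 1, 3, 1, 0, 3, 2, 0, 2, 6])],
  [(648, [5]), (688, []), (389, []), (618, [2]), (529, [4, 1, 4]), (618, []), (388, []), (697, []), (529, [4, 3, 4, 3, 6])],
  [(649, [5]), (689, []), (390, []), (398, []), (530, [0]), (698, []), (697, []), (388, []), (530, [3, 1, 4, 0, 3, 4, 1, 0, 3, 0])],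
  [(651, [5]), (691, []), (697, []), (620, [2]), (699, []), (407, [5, 4]), (390, []), (389, []), (620, [1, 0, 3, 0, 2, 3, 2, 1, 0, 6])],
  [(655, [4, 1, 3, 4, 1, 5, 3, 1, 7]), (700, []), (701, []), (399, []), (532, [0]), (408, [5, 4]), (702, []), (392, []), (390, [])],
  [(652, [4, 1, 3, 4, 1, 5, 3, 1, 7]), (392, []), (703, []), (400, []), (652, [2, 3, 1, 3, 2, 1, 6]), (391, []), (704, []), (700, []), (464, [4, 1, 3, 1, 0, 3, 4, 1, 3, 1, 0, 6])],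
  [(646, [5, 3, 0, 2, 3, 2, 1, 0, 3, 1, 0, 6]), (393, []), (534, [2, 1, 3, 2, 1]), (534, [1, 0, 3, 2, 0, 2, 3, 1, 0]), (705, []), (704, []), (391, []), (422, [5, 4]), (528, [3, 0, 2, 1, 3, 1, 0, 3, 2, 0, 2])],
  [(653, [4, 1, 3, 4, 1, 5, 3, 1, 7]), (703, []), (392, []), (401, []), (394, []), (535, [2, 1, 3, 2, 1]), (706, []), (701, []), (535, [2, 3, 1, 3, 2, 1])],
  [(654, [4, 1, 3, 4, 1, 5, 3, 1, 7]), (704, []), (706, []), (536, [1, 0, 3, 2, 0, 2, 3, 1, 0]), (536, [4, 3, 1, 0, 3, 1, 0, 3, 1, 4, 0]), (393, []), (392, []), (702, []), (536, [5, 1, 5, 4, 3, 1, 4, 3, 1, 7])],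
  [(433, []), (398, []), (396, []), (689, []), (707, []), (708, []), (621, [2]), (395, []), (709, [])],
  [(434, []), (538, [0]), (707, []), (692, []), (396, []), (434, [4]), (710, []), (661, []), (711, [])],
  [(435, [1, 0, 3, 2, 3, 2, 1, 0]), (440, [3, 2, 1, 3, 2, 0, 3, 1, 3, 0, 6]), (712, []), (693, []), (711, []), (435, [4]), (539, [0, 2, 1, 0, 3, 0, 2, 1, 0]), (397, [0, 2, 3, 1, 3, 2, 1, 0]), (396, [])],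
  [(441, [5, 1, 5, 4, 3, 1, 4, 3, 1, 6, 7]), (439, [5, 1, 5, 4, 3, 1, 4, 3, 1, 6, 7]), (397, []), (694, []), (662, []), (540, [2, 3, 2]), (540, [0, 2, 0, 3, 0, 2, 0]), (712, [0, 2, 3, 1, 3, 2, 1, 0]), (544, [3, 1, 4, 0, 3, 4, 1, 0, 3, 0])],
  [(436, []), (708, []), (436, [4]), (698, []), (541, [0]), (398, []), (623, [2]), (623, []), (541, [3, 1, 4, 0, 3, 4, 1, 0, 3, 0])],
  [(438, [1, 3, 0, 2, 3, 2, 0, 3, 1, 0]), (399, []), (709, [0, 2, 3, 1, 3, 2, 1, 0, 6]), (700, []), (713, []), (438, [4]), (542, [1, 0, 3, 2, 0, 2, 3, 1, 0]), (400, []), (470, [2, 1, 3, 2, 1])],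
  [(437, [3, 1, 0, 3, 1, 0, 3, 0, 6]), (709, [0, 2, 3, 1, 3, 2, 1, 0, 6]), (399, []), (701, []), (543, [0]), (714, []), (543, [1, 0, 3, 2, 0, 2, 3, 1, 0]), (401, []), (543, [3, 1, 4, 0, 3, 4, 1, 0, 3, 0])]]

/-- Part of a table. -/
def lev0Mov17 : List (List (ℕ × List ℕ)) := [
  [(444, [1, 3, 0, 2, 3, 2, 0, 3, 1, 0]), (401, []), (400, []), (703, []), (676, [2, 3, 1, 3, 2, 1, 6]), (544, [2, 1, 3, 2, 1]), (544, [1, 0, 3, 2, 0, 2, 3, 1, 0]), (709, [0, 2, 3, 1, 3, 2, 1, 0, 6]), (540, [3, 1, 4, 0, 3, 4, 1, 0, 3, 0])],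
  [(657, []), (405, []), (403, []), (627, [5, 2, 5]), (627, [2]), (627, []), (402, []), (715, []), (545, [4, 3, 4, 3, 6])],
  [(658, []), (406, []), (404, []), (433, [5]), (716, []), (717, []), (715, []), (402, []), (628, [0, 3, 2, 1, 3, 2, 0, 3, 1])],
  [(660, []), (407, []), (715, []), (629, [5, 2, 5]), (718, []), (691, [4, 5]), (404, []), (403, []), (629, [2, 0, 3, 1, 0, 3, 0, 2, 1, 6])],
  [(661, []), (548, [0]), (716, []), (434, [5]), (404, []), (692, [4, 5]), (719, []), (434, []), (720, [])],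
  [(664, [4, 0, 3, 4, 3, 0]), (413, [3, 0, 2, 1, 3, 2, 1, 0, 3, 0, 6]), (721, []), (435, [5]), (720, []), (693, [4, 5]), (722, []), (410, [3, 0, 2, 1, 3, 2, 1, 0, 3, 0, 6]), (404, [])],
  [(667, []), (715, []), (407, []), (631, [5, 2, 5]), (723, []), (724, []), (406, []), (405, []), (631, [0, 3, 1, 0, 3, 1, 0, 6])],
  [(668, []), (717, []), (698, [4, 5]), (436, [5]), (551, [0]), (406, []), (724, []), (632, []), (725, [])],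
  [(669, [1, 3, 0, 2, 3, 2, 0, 3, 1, 0]), (726, []), (408, [3, 0, 2, 1, 3, 2, 1, 0, 3, 0]), (437, [5]), (552, [0]), (725, []), (727, []), (423, [3, 0, 2, 1, 3, 2, 1, 0, 3, 0]), (406, [])],
  [(672, []), (728, []), (723, []), (633, [5, 2, 5]), (407, []), (699, [4, 5]), (553, [0]), (428, []), (633, [2, 1, 0, 3, 1, 0, 3, 0, 2, 6])],
  [(677, [4, 3, 4, 0, 3, 1, 0, 3, 1, 0, 6]), (408, []), (726, [3, 0, 2, 1, 3, 2, 1, 0, 3, 0]), (438, [5]), (729, []), (700, [4, 5]), (730, []), (421, []), (477, [4, 2, 3, 4, 2])],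
  [(673, [2, 3, 1, 3, 2, 1, 6]), (730, []), (727, [3, 0, 2, 1, 3, 2, 1, 0, 3, 0]), (555, [5, 0, 2, 1, 0, 3, 0, 2, 1, 5, 0]), (731, []), (702, [4, 5]), (408, []), (424, []), (564, [3, 0, 2, 3, 2, 0, 3, 0, 6])],
  [(411, []), (662, [3, 4, 1, 0, 3, 1, 0, 3, 4, 0, 6]), (409, []), (732, []), (419, []), (556, [1, 3, 1]), (733, []), (734, []), (511, [4, 3, 0, 2, 3, 4, 2, 0, 3, 0, 6])],
  [(418, [4, 3, 1, 5, 1, 4, 3, 1, 6, 7]), (643, [3, 4, 1, 0, 3, 1, 0, 3, 4, 0, 6]), (732, []), (409, []), (420, []), (414, []), (735, []), (736, []), (451, [1, 4, 3, 4, 0, 3, 2, 3, 2, 1, 0, 6])],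
  [(412, []), (663, [3, 4, 1, 0, 3, 1, 0, 3, 4, 0, 6]), (733, []), (737, []), (447, [1, 3, 0, 2, 3, 2, 1, 3]), (415, []), (409, []), (738, []), (457, [0, 2, 3, 2, 0, 2, 1, 3, 2, 1, 0])],
  [(413, []), (664, [3, 4, 1, 0, 3, 1, 0, 3, 4, 0, 6]), (734, []), (736, []), (458, [1, 3, 0, 2, 3, 2, 1, 3]), (736, [4, 3, 1, 5, 1, 4, 3, 1, 6, 7]), (738, []), (409, []), (559, [3, 1, 4, 0, 3, 4, 1, 0, 3, 0])],
  [(662, [3, 4, 1, 0, 3, 1, 0, 3, 4, 0, 6]), (411, []), (410, []), (441, [5]), (441, [0, 3, 2, 1, 3, 2, 1, 0, 6]), (560, [1, 3, 1]), (739, []), (721, [3, 0, 2, 1, 3, 2, 1, 0, 3, 0, 6]), (560, [3, 2, 1, 3, 2, 1, 6])],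
  [(663, [3, 4, 1, 0, 3, 1, 0, 3, 4, 0, 6]), (412, []), (739, []), (561, [5, 0, 2, 0, 3, 0, 2, 5, 0]), (561, [1, 4, 0, 3, 2, 0, 2, 3, 4, 1, 0]), (416, []), (410, []), (722, [3, 0, 2, 1, 3, 2, 1, 0, 3, 0, 6]), (561, [5, 1, 5, 4, 3, 1, 4, 3, 1, 7])],
  [(733, []), (739, []), (412, []), (562, [5, 0, 2, 0, 3, 0, 2, 5, 0]), (472, [1, 3, 0, 2, 3, 2, 1, 3]), (562, [1, 3, 1]), (411, []), (740, []), (562, [3, 1, 3, 1])],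
  [(734, []), (721, [3, 0, 2, 1, 3, 2, 1, 0, 3, 0, 6]), (413, []), (442, [5]), (479, [1, 3, 0, 2, 3, 2, 1, 3]), (741, []), (740, []), (411, []), (479, [4, 2, 3, 4, 2, 6])],
  [(738, []), (722, [3, 0, 2, 1, 3, 2, 1, 0, 3, 0, 6]), (740, []), (564, [5, 0, 2, 0, 3, 0, 2, 5, 0]), (742, []), (743, []), (413, []), (412, []), (555, [3, 0, 2, 3, 2, 0, 3, 0, 6])],
  [(736, [4, 3, 1, 5, 1, 4, 3, 1, 6, 7]), (693, [3, 1, 0, 3, 1, 4, 3, 5, 0, 3, 6]), (744, []), (440, [3, 1, 4, 1, 5, 3, 1, 6, 7]), (468, [4, 5, 1, 3, 0, 2, 3, 2, 1, 3]), (413, []), (743, []), (418, []), (468, [4, 5, 1, 3, 0, 2, 3, 2, 1, 3, 0])],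
  [(417, [4, 3, 1, 5, 1, 4, 3, 1, 6, 7]), (647, [3, 4, 1, 0, 3, 1, 0, 3, 4, 0, 6]), (566, [1, 3, 1]), (745, []), (566, [4, 0, 3, 1, 4, 3, 0, 6]), (735, []), (414, []), (415, [4, 3, 1, 5, 1, 4, 3, 1, 6, 7]), (566, [3, 4, 1, 0, 3, 1, 0, 3, 4, 0])],
  [(567, [5, 0, 2, 0, 3, 0, 2, 5, 0]), (665, [3, 4, 1, 0, 3, 1, 0, 3, 4, 0, 6]), (567, [1, 3, 1]), (415, []), (449, [1, 3, 0, 2, 3, 2, 1, 3]), (737, []), (745, []), (745, [4, 3, 1, 5, 1, 4, 3, 1, 6, 7]), (459, [0, 2, 3, 2, 0, 2, 1, 3, 2, 1, 0])],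
  [(735, [4, 3, 1, 5, 1, 4, 3, 1, 6, 7]), (695, [1, 3, 1, 4, 3, 5]), (746, []), (568, [5, 0, 2, 0, 3, 0, 2, 5, 0]), (568, [4, 0, 3, 1, 4, 1, 3, 0, 6, 7]), (417, []), (418, []), (743, []), (568, [4, 1, 3, 5, 1, 5, 4, 3, 1, 7])],
  [(732, [4, 3, 1, 5, 1, 4, 3, 1, 6, 7]), (694, [1, 3, 1, 4, 3, 5]), (418, []), (439, [3, 1, 4, 1, 5, 3, 1, 6, 7]), (443, [3, 1, 4, 1, 5, 3, 1, 6, 7]), (569, [1, 3, 1]), (746, []), (744, []), (569, [3, 2, 1, 3, 2, 1, 6])],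
  [(443, [5]), (443, [0, 3, 2, 1, 3, 2, 1, 0, 6]), (420, []), (419, []), (732, []), (570, [1, 3, 1]), (570, [4, 0, 3, 1, 4, 3, 0, 6]), (453, [1, 3, 0, 2, 3, 2, 1, 3]), (498, [4, 3, 0, 2, 3, 4, 2, 0, 3, 0, 6])],
  [(676, [4, 3, 4, 0, 3, 1, 0, 3, 1, 0, 6]), (423, []), (421, []), (444, [5]), (444, [3, 0, 2, 1, 3, 2, 1, 0, 3, 0]), (571, [4, 2, 3, 4, 2]), (747, []), (726, [3, 0, 2, 1, 3, 2, 1, 0, 3, 0]), (571, [3, 2, 1, 3, 2, 1, 6])],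
  [(674, [1, 3, 0, 2, 1, 3, 2, 0, 3, 0, 6]), (424, []), (747, []), (572, [5, 0, 2, 1, 0, 3, 0, 2, 1, 5, 0]), (572, [4, 0, 3, 2, 0, 2, 3, 4, 0]), (422, []), (421, []), (730, []), (572, [5, 1, 5, 4, 3, 1, 4, 3, 1, 6, 7])],
  [(675, [1, 3, 0, 2, 1, 3, 2, 0, 3, 0, 6]), (747, []), (424, []), (573, [5, 0, 2, 1, 0, 3, 0, 2, 1, 5, 0]), (431, [3, 4, 0, 3, 4, 0, 2, 3, 2, 0]), (573, [4, 2, 3, 4, 2]), (423, []), (727, [3, 0, 2, 1, 3, 2, 1, 0, 3, 0]), (573, [3, 1, 3, 1, 6])],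
  [(680, []), (748, []), (428, []), (634, [5, 2, 5]), (425, []), (749, []), (574, [0]), (723, []), (634, [1, 0, 3, 1, 0, 3, 0, 6])],
  [(681, []), (635, [2]), (575, [5, 1, 5]), (635, [5, 2, 5]), (749, []), (425, []), (426, []), (635, []), (635, [1, 0, 3, 1, 0, 3, 0, 6])]]

/-- Part of a table. -/
def lev0Mov18 : List (List (ℕ × List ℕ)) := [
  [(750, []), (576, [0, 2, 0, 3, 0, 2, 0]), (576, [3, 5, 1, 5, 0, 3, 0, 2, 3, 2, 0]), (445, []), (576, [0]), (427, []), (751, []), (576, [3]), (426, [])],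
  [(427, []), (577, [0, 2, 0, 3, 0, 2, 0]), (430, [3, 2, 3, 2, 6]), (577, [4, 3, 1, 0, 3, 1, 0, 3, 1, 4, 0]), (577, [0]), (750, []), (682, [5, 1, 5, 4, 3, 1, 4, 3, 1, 6, 7]), (429, [3, 2, 3, 2, 6]), (577, [4, 3, 1, 0, 3, 1, 0, 3, 4, 0])],
  [(682, [5, 1, 5, 4, 3, 1, 4, 3, 1, 6, 7]), (578, [0, 2, 0, 3, 0, 2, 0]), (432, [3, 2, 3, 2, 6]), (578, [3, 5, 2, 5, 0, 3, 1, 3, 1, 0, 6]), (752, []), (751, []), (427, []), (431, [3, 2, 3, 2, 6]), (624, [1, 0, 3, 1, 0, 3, 6])],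
  [(686, []), (428, []), (748, []), (636, [5, 2, 5]), (636, [2]), (579, [5, 1, 5]), (579, [0]), (728, []), (579, [4, 3, 4, 3, 6])],
  [(687, [5, 1, 5, 4, 3, 1, 4, 3, 1, 6, 7]), (753, []), (752, [3, 2, 3, 2, 6]), (580, [5, 0, 2, 0, 3, 0, 2, 5, 0]), (432, []), (580, [3, 5, 1, 5, 0, 3, 0, 2, 3, 2, 0]), (580, [3, 0, 2, 3, 2, 0, 3]), (731, [3, 4, 0, 3, 4, 0, 2, 3, 2, 0]), (580, [4, 1, 3, 5, 1, 5, 4, 3, 1, 7])],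
  [(707, []), (581, [0]), (434, []), (716, [5]), (433, []), (754, []), (755, []), (716, []), (637, [1, 3, 0, 2, 3, 2, 1, 3, 0])],
  [(708, []), (436, []), (708, [4]), (717, [5]), (754, []), (433, []), (638, [2]), (638, []), (638, [1, 3, 0, 2, 3, 2, 1, 3, 0])],
  [(710, []), (583, [0]), (755, []), (756, []), (639, [2]), (710, [4]), (434, []), (719, []), (639, [1, 0, 3, 0, 2, 3, 2, 1, 0, 6])],
  [(711, [1, 0, 3, 2, 3, 2, 1, 0]), (485, [1, 3, 1, 0]), (757, []), (720, [5]), (435, []), (711, [4]), (758, []), (720, [0, 3, 2, 1, 3, 2, 1, 0, 6]), (434, [])],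
  [(712, [1, 0, 3, 2, 3, 2, 1, 0]), (442, [3, 0, 2, 1, 3, 2, 1, 0, 3, 0, 6]), (435, []), (721, [5]), (757, []), (759, []), (585, [1, 0, 3, 2, 0, 2, 3, 1, 0]), (441, [3, 0, 2, 1, 3, 2, 1, 0, 3, 0, 6]), (587, [3, 2, 1, 3, 2, 1])],
  [(714, [3, 1, 0, 3, 1, 0, 3, 0, 6]), (760, []), (714, [4, 3, 0, 2, 1, 3, 2, 1, 0, 3, 0]), (725, [5]), (586, [0]), (437, []), (586, [4, 0, 3, 2, 0, 2, 3, 4, 0]), (586, [4, 2, 3, 4, 2]), (436, [])],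
  [(709, [3, 5, 1, 5, 4, 1, 4, 3, 1, 6, 7]), (437, []), (438, [3, 0, 2, 1, 3, 2, 1, 0, 3, 0]), (726, [5]), (761, []), (760, []), (587, [4, 0, 3, 2, 0, 2, 3, 4, 0]), (444, [3, 0, 2, 1, 3, 2, 1, 0, 3, 0]), (585, [3, 2, 1, 3, 2, 1])],
  [(713, [1, 3, 0, 2, 3, 2, 0, 3, 1, 0]), (588, [0]), (761, [3, 0, 2, 1, 3, 2, 1, 0, 3, 0]), (729, [5]), (438, []), (713, [4]), (762, []), (729, [3, 0, 2, 1, 3, 2, 1, 0, 3, 0]), (485, [1, 3, 1])],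
  [(442, []), (712, [3, 2, 1, 3, 2, 0, 3, 1, 3, 0]), (440, []), (744, [3, 1, 5, 3, 1, 4, 1, 6, 7]), (471, [0, 3, 2, 1, 3, 2, 0, 3, 1, 0]), (763, []), (589, [0, 2, 0, 3, 0, 2, 0]), (439, []), (589, [3, 1, 4, 0, 3, 4, 1, 0, 3, 0, 6])],
  [(763, []), (759, [3, 0, 2, 1, 3, 2, 1, 0, 3, 0, 6]), (763, [1, 5, 3, 1, 5, 4, 3, 1, 7]), (741, [5]), (486, [0, 3, 2, 1, 3, 2, 0, 3, 1, 0]), (442, []), (590, [0, 2, 0, 3, 0, 2, 0]), (590, [4, 2, 3, 4, 2]), (486, [1, 3, 1, 6])],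
  [(472, []), (591, [2, 0, 2]), (447, []), (764, []), (733, [3, 2, 1, 3, 2, 0, 3, 1]), (591, [0]), (446, []), (765, []), (521, [5, 2, 3, 2, 0, 3, 5, 0, 6])],
  [(473, []), (592, [2, 0, 2]), (448, []), (592, [4, 1, 4]), (461, []), (766, []), (765, []), (446, []), (592, [0, 2, 3, 2, 1, 3, 1, 0, 6])],
  [(593, [5, 2, 0, 2, 5]), (593, [2, 0, 2]), (764, []), (447, []), (737, [3, 2, 1, 3, 2, 0, 3, 1]), (449, []), (593, [4, 1, 4]), (767, []), (462, [5, 2, 3, 2, 0, 3, 5, 6])],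
  [(474, []), (594, [2, 0, 2]), (765, []), (767, []), (768, []), (594, [5, 1, 5]), (448, []), (447, []), (594, [3, 4, 0, 3, 4, 0, 2, 3, 2, 0, 6])],
  [(464, [5]), (451, []), (769, []), (454, []), (464, []), (450, []), (770, []), (771, []), (652, [4, 1, 3, 1, 0, 3, 4, 1, 3, 1, 0])],
  [(465, [5]), (452, []), (489, []), (772, []), (773, []), (770, []), (450, []), (455, [4, 5, 4]), (647, [0, 3, 0, 2, 3, 2, 0, 6])],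
  [(466, [5]), (769, []), (451, []), (456, []), (453, []), (491, []), (774, []), (775, []), (491, [2, 1, 3, 2, 1])],
  [(467, [5]), (770, []), (774, []), (776, []), (598, [4, 1, 4]), (452, []), (451, []), (777, []), (598, [3, 4, 0, 3, 1, 0, 3, 1, 4, 0])],
  [(468, [5]), (771, []), (775, []), (458, []), (736, [3, 2, 1, 3, 2, 0, 3, 1]), (458, [4, 5, 4]), (777, []), (451, []), (599, [0, 2, 3, 1, 3, 2, 1, 0])],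
  [(495, [5, 2, 5]), (772, []), (495, []), (452, []), (600, [4, 1, 4]), (776, []), (459, []), (459, [4, 5, 4]), (600, [3, 4, 0, 3, 1, 0, 3, 1, 4, 0])],
  [(475, []), (456, []), (454, []), (769, []), (469, []), (499, []), (778, []), (779, []), (499, [2, 3, 2])],
  [(476, []), (457, []), (778, []), (780, []), (500, [2]), (455, []), (454, []), (781, []), (500, [0, 3, 0, 2, 3, 2, 0, 6])],
  [(477, []), (458, []), (779, []), (771, []), (782, []), (771, [4, 5, 4]), (781, []), (454, []), (603, [3, 1, 4, 0, 3, 4, 1, 0, 3, 0])],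
  [(503, [5, 2, 5]), (459, []), (503, []), (455, []), (503, [2]), (780, []), (772, []), (772, [4, 5, 4]), (503, [0, 3, 0, 2, 3, 2, 0, 6])],
  [(478, []), (778, []), (457, []), (783, []), (460, []), (505, []), (456, []), (784, []), (505, [4, 3, 4])],
  [(479, []), (779, []), (458, []), (775, []), (734, [3, 2, 1, 3, 2, 0, 3, 1]), (785, []), (784, []), (456, []), (734, [4, 0, 2, 3, 4, 2, 0, 3, 0])],
  [(507, [5, 2, 5]), (780, []), (783, []), (457, []), (462, []), (459, []), (776, []), (786, []), (737, [4, 1, 3, 1, 0, 3, 4, 1, 3, 1, 0, 6])]]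

/-- Part of a table. -/
def lev0Mov19 : List (List (ℕ × List ℕ)) := [
  [(480, []), (781, []), (784, []), (786, []), (787, []), (777, [4, 5, 4]), (458, []), (457, []), (738, [0, 3, 4, 1, 3, 1, 0, 3, 4])],
  [(515, [5, 2, 5]), (515, [2]), (462, []), (460, []), (783, []), (515, []), (609, [4, 1, 4]), (788, []), (515, [4, 3, 4])],
  [(481, []), (516, [2]), (463, []), (788, []), (789, []), (790, []), (461, []), (460, []), (765, [4, 3, 1, 0, 3, 1, 4, 6])],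
  [(482, []), (517, [2]), (611, [5, 1, 5]), (611, [4, 1, 4]), (766, []), (461, []), (790, []), (517, []), (611, [0, 2, 3, 2, 1, 3, 1, 0, 6])],
  [(518, [5, 2, 5]), (518, [2]), (788, []), (463, []), (791, []), (612, [5, 1, 5]), (612, [4, 1, 4]), (462, []), (612, [4, 3, 4, 0, 3, 0, 2, 3, 2, 0])],
  [(483, []), (792, []), (789, []), (791, []), (463, []), (613, [5, 1, 5]), (768, []), (787, []), (613, [4, 3, 4, 0, 3, 0, 2, 3, 2, 0])],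
  [(769, [5]), (466, []), (464, []), (469, []), (769, []), (523, []), (793, []), (794, []), (523, [2, 3, 2])],
  [(770, [5]), (467, []), (793, []), (524, [2]), (795, []), (465, []), (464, []), (796, []), (524, [0, 3, 0, 2, 3, 2, 0, 6])],
  [(771, [5]), (468, []), (794, []), (470, []), (797, []), (477, [5, 4]), (796, []), (464, []), (700, [2, 1, 3, 2, 1])],
  [(773, [5]), (617, [4, 1, 4]), (527, []), (527, [2]), (465, []), (795, []), (773, []), (527, [4, 5, 2, 5, 4]), (527, [0, 3, 0, 2, 3, 2, 0, 6])],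
  [(774, [5]), (793, []), (467, []), (529, [2]), (618, [4, 1, 4]), (529, []), (466, []), (798, []), (618, [4, 3, 4, 3, 6])],
  [(775, [5]), (794, []), (468, []), (471, []), (744, [5, 1, 3, 1, 4, 0, 2, 3, 2, 0, 6]), (799, []), (798, []), (466, []), (619, [0, 2, 3, 1, 3, 2, 1, 0])],
  [(777, [5]), (796, []), (798, []), (531, [2]), (800, []), (480, [5, 4]), (468, []), (467, []), (531, [0, 2, 1, 3, 2, 0, 3, 1, 0, 6])],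
  [(484, []), (471, []), (470, []), (794, []), (801, []), (802, []), (537, [2]), (469, []), (712, [0, 2, 3, 2, 0, 2, 1, 3, 2, 1, 0, 6])],
  [(485, []), (711, [0, 2, 1, 3, 2, 1]), (801, []), (797, []), (470, []), (485, [4]), (803, []), (782, []), (713, [2, 1, 3, 2, 1])],
  [(486, []), (802, []), (486, [4]), (799, []), (763, [1, 3, 1, 4, 0, 2, 3, 4, 2, 0, 6]), (471, []), (541, [2]), (541, []), (623, [0, 2, 3, 1, 3, 2, 1, 0])],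
  [(765, []), (624, [2, 0, 2]), (474, []), (624, [5, 2, 0, 2, 5]), (804, []), (805, []), (473, []), (472, []), (578, [3, 1, 0, 3, 1, 0, 6])],
  [(766, []), (625, [2, 0, 2]), (625, [5, 1, 5]), (487, []), (482, []), (473, []), (805, []), (625, [0]), (482, [0, 3, 0])],
  [(768, []), (806, []), (804, []), (626, [5, 2, 0, 2, 5]), (474, []), (626, [5, 1, 5]), (483, []), (742, [3, 2, 1, 3, 2, 0, 3, 1]), (626, [4, 3, 0, 2, 3, 4, 2, 0, 3, 0])],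
  [(778, []), (478, []), (476, []), (545, [5, 2, 5]), (545, [2]), (545, []), (475, []), (807, []), (627, [4, 3, 4, 3, 6])],
  [(779, []), (479, []), (477, []), (484, [5]), (808, []), (809, []), (807, []), (475, []), (546, [1, 3, 0, 2, 3, 2, 1, 3, 0])],
  [(781, []), (480, []), (807, []), (547, [5, 2, 5]), (810, []), (796, [4, 5]), (477, []), (476, []), (547, [2, 1, 0, 3, 1, 0, 3, 0, 2, 6])],
  [(782, []), (720, [4, 0, 2, 3, 4, 2]), (808, []), (485, [5]), (477, []), (797, [4, 5]), (811, []), (485, []), (729, [4, 2, 3, 4, 2])],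
  [(784, []), (807, []), (480, []), (550, [5, 2, 5]), (812, []), (813, []), (479, []), (478, []), (550, [1, 0, 3, 1, 0, 3, 0, 6])],
  [(785, []), (809, []), (799, [4, 5]), (486, [5]), (741, [3, 2, 1, 3, 2, 0, 3, 1]), (479, []), (813, []), (551, []), (741, [4, 2, 3, 4, 2, 6])],
  [(787, []), (814, []), (812, []), (553, [5, 2, 5]), (480, []), (800, [4, 5]), (742, [3, 2, 1, 3, 2, 0, 3, 1]), (483, []), (553, [2, 0, 3, 1, 0, 3, 0, 2, 1, 6])],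
  [(789, []), (815, []), (483, []), (574, [5, 2, 5]), (481, []), (816, []), (804, []), (812, []), (574, [0, 3, 1, 0, 3, 1, 0, 6])],
  [(790, []), (575, [2]), (635, [5, 1, 5]), (575, [5, 2, 5]), (816, []), (481, []), (482, []), (575, []), (575, [0, 3, 1, 0, 3, 1, 0, 6])],
  [(792, []), (483, []), (815, []), (579, [5, 2, 5]), (579, [2]), (636, [5, 1, 5]), (806, []), (814, []), (636, [4, 3, 4, 3, 6])],
  [(801, []), (757, [1, 0, 3, 1]), (485, []), (808, [5]), (484, []), (817, []), (818, []), (808, []), (581, [0, 3, 2, 1, 3, 2, 0, 3, 1])],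
  [(802, []), (486, []), (802, [4]), (809, [5]), (817, []), (484, []), (582, [2]), (582, []), (582, [0, 3, 2, 1, 3, 2, 0, 3, 1])],
  [(803, []), (758, [1, 0, 3, 1]), (818, []), (819, []), (583, [2]), (803, [4]), (485, []), (811, []), (583, [0, 2, 1, 3, 2, 0, 3, 1, 0, 6])]]

/-- Part of a table. -/
def lev0Mov20 : List (List (ℕ × List ℕ)) := [
  [(523, [5]), (491, []), (488, []), (499, []), (523, []), (769, []), (820, []), (821, []), (769, [2, 3, 2])],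
  [(524, [5]), (492, []), (820, []), (822, []), (823, []), (489, []), (488, []), (824, []), (825, [])],
  [(525, [5]), (493, []), (821, []), (501, []), (826, []), (501, [4, 5, 4]), (824, []), (488, []), (642, [0, 2, 3, 1, 3, 2, 1, 0])],
  [(526, [5, 0, 3, 2, 1, 3, 2, 1, 0, 6]), (557, [3, 4, 1, 0, 3, 1, 0, 3, 4, 0, 6]), (827, []), (502, []), (526, []), (490, []), (828, []), (829, []), (488, [])],
  [(772, [5, 2, 5]), (495, []), (772, []), (489, []), (830, []), (822, []), (503, []), (503, [4, 5, 4]), (831, [])],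
  [(527, [5]), (645, [4, 1, 4]), (773, []), (830, []), (489, []), (823, []), (527, []), (773, [4, 5, 2, 5, 4]), (832, [])],
  [(534, [5, 3, 1, 0, 3, 0, 2, 1, 3, 2, 0]), (497, [0, 3, 2, 1, 3, 2, 1, 0]), (646, [3]), (831, []), (832, []), (825, []), (496, [0, 3, 2, 1, 3, 2, 1, 0]), (514, [4, 2, 3, 2, 5, 4, 3, 6]), (489, [])],
  [(528, [5, 0, 3, 2, 1, 3, 2, 1, 0, 6]), (566, [3, 4, 1, 0, 3, 1, 0, 3, 4, 0, 6]), (647, [2, 3, 2]), (833, []), (834, []), (828, []), (490, []), (504, [4, 5, 0, 3, 4, 1, 3, 1, 0, 6]), (596, [0, 2, 3, 2, 0, 3, 0, 6])],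
  [(529, [5]), (820, []), (492, []), (835, []), (648, [4, 1, 4]), (774, []), (491, []), (836, []), (648, [2, 3, 2, 1, 3, 1, 6])],
  [(530, [5]), (821, []), (493, []), (506, []), (649, [0]), (837, []), (836, []), (491, []), (838, [])],
  [(776, [5, 2, 5]), (822, []), (835, []), (492, []), (650, [4, 1, 4]), (495, []), (507, []), (839, []), (650, [3, 4, 1, 0, 3, 1, 0, 3, 4, 0])],
  [(531, [5]), (824, []), (836, []), (839, []), (840, []), (508, [4, 5, 4]), (493, []), (492, []), (841, [])],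
  [(533, [4, 3, 1, 4, 1, 5, 3, 1, 6, 7]), (494, []), (842, []), (510, []), (533, [2, 3, 1, 3, 2, 1, 6]), (496, []), (825, [0, 3, 2, 1, 3, 2, 1, 0]), (843, []), (595, [0, 2, 3, 2, 0, 2, 1, 3, 2, 1, 0, 6])],
  [(535, [4, 3, 1, 4, 1, 5, 3, 1, 6, 7]), (842, []), (494, []), (511, []), (498, []), (653, [2, 1, 3, 2, 1]), (844, []), (838, [2, 3, 1, 3, 2, 1, 6]), (732, [4, 3, 0, 2, 3, 4, 2, 0, 3, 0, 6])],
  [(536, [4, 3, 1, 4, 1, 5, 3, 1, 6, 7]), (825, [0, 3, 2, 1, 3, 2, 1, 0]), (844, []), (845, []), (654, [3, 4, 1, 0, 3, 1, 0, 3, 1, 4, 0]), (497, []), (494, []), (841, [5, 1, 5, 4, 1, 4, 1, 6, 7]), (654, [3, 4, 1, 0, 3, 1, 0, 3, 4, 0])],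
  [(532, [4, 3, 1, 4, 1, 5, 3, 1, 6, 7]), (843, []), (838, [2, 3, 1, 3, 2, 1, 6]), (512, []), (655, [3, 1, 4, 0, 3, 4, 1, 0, 3]), (512, [5, 3, 4, 0, 2, 3, 2, 5, 0, 3, 0]), (841, [5, 1, 5, 4, 1, 4, 1, 6, 7]), (494, []), (655, [3, 1, 4, 0, 3, 4, 1, 0, 3, 0])],
  [(656, [2, 5, 0, 3, 2, 0, 2, 3, 5, 0, 2]), (831, [0, 3, 2, 1, 3, 2, 1, 0]), (656, [2, 1, 3, 2, 1]), (497, []), (656, [3, 4, 1, 0, 3, 1, 0, 3, 1, 4, 0]), (845, []), (513, [3, 4, 1, 0, 3, 1, 0, 3, 4, 0]), (513, [4, 5, 3, 1, 0, 3, 1, 4, 0, 3, 0, 6]), (656, [3, 4, 1, 0, 3, 1, 0, 3, 4, 0])],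
  [(545, []), (505, []), (500, []), (846, []), (778, [2]), (778, []), (499, []), (847, []), (657, [3, 2, 3, 2])],
  [(546, []), (506, []), (501, []), (821, []), (848, []), (849, []), (847, []), (499, []), (850, [])],
  [(780, [5, 2, 5]), (507, []), (846, []), (500, []), (780, [2]), (503, []), (822, []), (851, []), (780, [0, 2, 3, 2, 0, 3, 0, 6])],
  [(547, []), (508, []), (847, []), (851, []), (852, []), (824, [4, 5, 4]), (501, []), (500, []), (853, [])],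
  [(548, []), (661, [0]), (848, []), (826, []), (501, []), (826, [4, 5, 4]), (854, []), (538, []), (661, [0, 2, 3, 1, 3, 2, 1, 0])],
  [(560, [3, 4, 1, 0, 3, 1, 0, 3, 4, 0, 6]), (556, [3, 4, 1, 0, 3, 1, 0, 3, 4, 0, 6]), (502, []), (827, []), (540, []), (662, [2, 3, 2]), (855, []), (850, [2, 3, 1, 3, 2, 1, 6]), (676, [0, 2, 3, 1, 3, 2, 1, 0, 6])],
  [(561, [3, 4, 1, 0, 3, 1, 0, 3, 4, 0, 6]), (558, [3, 4, 1, 0, 3, 1, 0, 3, 4, 0, 6]), (855, []), (856, []), (663, [0, 2, 0, 3, 0, 2, 0]), (504, []), (502, []), (853, [5, 3, 1, 5, 4, 1, 4, 3, 1, 7]), (674, [5, 1, 5, 4, 3, 1, 4, 3, 1, 6, 7])],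
  [(549, [4, 0, 3, 4, 3, 0]), (559, [3, 4, 1, 0, 3, 1, 0, 3, 4, 0, 6]), (850, [2, 3, 1, 3, 2, 1, 6]), (829, []), (857, []), (829, [4, 5, 0, 3, 4, 1, 3, 1, 0, 6]), (853, [5, 3, 1, 5, 4, 1, 4, 3, 1, 7]), (502, []), (664, [0, 2, 3, 1, 3, 2, 1, 0])],
  [(665, [2, 5, 0, 3, 2, 0, 2, 3, 5, 0, 2]), (567, [3, 4, 1, 0, 3, 1, 0, 3, 4, 0, 6]), (665, [2, 3, 2]), (504, []), (665, [0, 2, 0, 3, 0, 2, 0]), (856, []), (833, []), (833, [4, 5, 0, 3, 4, 1, 3, 1, 0, 6]), (678, [5, 1, 5, 4, 3, 1, 4, 3, 1, 6, 7])],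
  [(783, [5, 2, 5]), (846, []), (507, []), (505, []), (515, []), (783, []), (835, []), (858, []), (783, [4, 3, 4])],
  [(550, []), (847, []), (508, []), (858, []), (859, []), (860, []), (506, []), (505, []), (861, [])],
  [(551, []), (849, []), (837, [4, 5, 4]), (837, []), (668, [0]), (506, []), (860, []), (785, []), (862, [])],
  [(552, [1, 3, 0, 2, 3, 2, 0, 3, 1, 0]), (863, []), (512, [2, 3, 1, 3, 2, 1, 6]), (838, []), (669, [0]), (862, []), (864, []), (511, [2, 3, 1, 3, 2, 1, 6]), (506, [])],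
  [(786, [5, 2, 5]), (851, []), (858, []), (508, []), (865, []), (839, [4, 5, 4]), (839, []), (507, []), (866, [])],
  [(671, [5, 0, 2, 0, 3, 0, 2, 5, 0]), (867, []), (868, []), (509, []), (519, []), (513, []), (845, [3, 4, 1, 0, 3, 1, 0, 3, 4, 0]), (866, [4, 3, 4, 0, 2, 3, 2, 0, 3, 0]), (507, [])]]

/-- Part of a table. -/
def lev0Mov21 : List (List (ℕ × List ℕ)) := [
  [(553, []), (869, []), (859, []), (865, []), (508, []), (840, [4, 5, 4]), (672, [0]), (520, []), (870, [])],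
  [(555, [2, 3, 1, 3, 2, 1, 6]), (871, []), (864, [4, 3, 4, 0, 3, 1, 0, 3, 1, 0, 6]), (866, []), (870, []), (841, [4, 5, 4]), (512, [3, 1, 0, 3, 1, 0, 3, 0, 6]), (509, [4, 3, 4, 0, 2, 3, 2, 0, 3, 0]), (508, [])],
  [(572, [1, 3, 0, 2, 1, 3, 2, 0, 3, 0]), (509, []), (872, []), (867, []), (674, [0, 2, 0, 3, 0, 2, 0]), (514, []), (510, [3, 4, 1, 0, 3, 1, 0, 3, 4, 0]), (871, [4, 3, 4, 0, 2, 3, 2, 0, 3, 0]), (663, [5, 1, 5, 4, 3, 1, 4, 3, 1, 6, 7])],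
  [(573, [1, 3, 0, 2, 1, 3, 2, 0, 3, 0]), (872, []), (509, []), (868, []), (521, []), (675, [4, 3, 4]), (511, [3, 4, 1, 0, 3, 1, 0, 3, 4, 0]), (864, [3, 0, 2, 3, 2, 1, 0, 3, 1, 0]), (733, [3, 2, 0, 3, 1, 0, 3, 0, 2, 1, 6])],
  [(571, [4, 3, 4, 0, 3, 1, 0, 3, 1, 0, 6]), (511, []), (510, []), (842, []), (544, [2, 3, 1, 3, 2, 1, 6]), (676, [2, 1, 3, 2, 1]), (872, [3, 4, 1, 0, 3, 1, 0, 3, 4, 0]), (863, [2, 3, 1, 3, 2, 1, 6]), (662, [0, 2, 3, 1, 3, 2, 1, 0, 6])],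
  [(554, [4, 3, 4, 0, 3, 1, 0, 3, 1, 0, 6]), (512, []), (863, [2, 3, 1, 3, 2, 1, 6]), (843, []), (873, []), (843, [5, 3, 4, 0, 2, 3, 2, 5, 0, 3, 0]), (871, [3, 1, 0, 3, 1, 0, 3, 0, 6]), (510, []), (677, [0, 2, 3, 1, 3, 2, 1, 0])],
  [(678, [5, 0, 2, 0, 3, 0, 2, 5, 0]), (513, []), (678, [4, 3, 4]), (514, []), (678, [0, 2, 0, 3, 0, 2, 0]), (867, []), (831, [5, 1, 5, 4, 3, 1, 4, 3, 1, 6, 7]), (831, [4, 5, 4, 3, 2, 3, 2, 6]), (665, [5, 1, 5, 4, 3, 1, 4, 3, 1, 6, 7])],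
  [(788, [5, 2, 5]), (788, [2]), (518, []), (516, []), (874, []), (875, []), (679, [4, 1, 4]), (515, []), (876, [])],
  [(574, []), (877, []), (520, []), (874, []), (516, []), (878, []), (680, [0]), (859, []), (879, [])],
  [(575, []), (790, [2]), (681, [5, 1, 5]), (875, []), (878, []), (516, []), (517, []), (790, []), (880, [])],
  [(578, [5, 1, 5, 4, 3, 1, 4, 3, 1, 6, 7]), (682, [0, 2, 0, 3, 0, 2, 0]), (522, [3, 2, 3, 2, 6]), (876, []), (879, []), (880, []), (577, [5, 1, 5, 4, 3, 1, 4, 3, 1, 6, 7]), (521, [3, 2, 3, 2, 6]), (516, [])],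
  [(791, [5, 2, 5]), (881, []), (874, []), (520, []), (518, []), (683, [5, 1, 5]), (882, []), (865, []), (683, [4, 3, 4, 0, 2, 3, 2, 0, 3, 0])],
  [(684, [5, 0, 2, 0, 3, 0, 2, 5, 0]), (684, [0, 2, 0, 3, 0, 2, 0]), (519, []), (521, []), (868, []), (684, [4, 3, 4]), (684, [3, 4, 1, 0, 3, 1, 0, 3, 1, 4, 0]), (876, [3, 2, 3, 2, 6]), (764, [4, 3, 4, 0, 3, 1, 3, 1, 6])],
  [(685, [5, 0, 2, 0, 3, 0, 2, 5, 0]), (685, [0, 2, 0, 3, 0, 2, 0]), (876, [3, 2, 3, 2, 6]), (522, []), (883, []), (685, [5, 3, 1, 5, 0, 3, 0, 2, 3, 2, 0]), (685, [3, 4, 1, 0, 3, 1, 0, 3, 1, 4, 0]), (519, []), (685, [4, 3, 4, 0, 2, 3, 2, 0, 3, 0])],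
  [(579, []), (520, []), (877, []), (881, []), (792, [2]), (686, [5, 1, 5]), (686, [0]), (869, []), (686, [3, 2, 3, 2])],
  [(580, [5, 1, 5, 4, 3, 1, 4, 3, 1, 6, 7]), (884, []), (879, [3, 2, 3, 2, 6]), (883, []), (522, []), (687, [5, 3, 1, 5, 0, 3, 0, 2, 3, 2, 0]), (687, [3, 1, 0, 3, 1, 0, 3]), (870, [4, 3, 4, 0, 2, 3, 2, 0, 3, 0]), (687, [4, 3, 4, 0, 2, 3, 2, 0, 3, 0])],
  [(820, [5]), (529, []), (524, []), (793, [2]), (885, []), (793, []), (523, []), (886, []), (688, [3, 2, 3, 2])],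
  [(821, [5]), (530, []), (525, []), (537, []), (887, []), (888, []), (886, []), (523, []), (889, [])],
  [(823, [5]), (690, [4, 1, 4]), (885, []), (795, [2]), (524, []), (527, []), (823, []), (885, [2, 0, 2, 1, 5, 2, 0, 2, 1]), (795, [0, 2, 3, 2, 0, 3, 0, 6])],
  [(824, [5]), (531, []), (886, []), (796, [2]), (886, [2, 0, 2, 1, 5, 2, 0, 2, 1]), (547, [5, 4]), (525, []), (524, []), (796, [0, 2, 1, 3, 2, 0, 3, 1, 0, 6])],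
  [(826, [5]), (692, [0]), (887, []), (538, []), (525, []), (548, [5, 4]), (887, [2, 0, 2, 1, 5, 2, 0, 2, 1]), (826, []), (890, [])],
  [(829, [5, 0, 3, 2, 3, 2, 0, 6]), (565, [3, 5, 0, 3, 4, 1, 3, 1, 0, 3, 6]), (891, []), (539, []), (890, []), (549, [5, 4]), (892, []), (526, [0, 2, 3, 1, 3, 2, 1, 0]), (525, [])],
  [(827, [5, 0, 3, 2, 1, 3, 2, 1, 0, 6]), (569, [5, 3, 4, 1, 3, 1]), (526, []), (540, []), (827, []), (694, [2, 3, 2]), (893, []), (891, [0, 2, 3, 1, 3, 2, 1, 0]), (703, [3, 1, 4, 0, 3, 4, 1, 0, 3, 0])],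
  [(828, [5, 0, 3, 2, 1, 3, 2, 1, 0, 6]), (568, [5, 3, 4, 1, 3, 1]), (893, []), (695, [0, 2, 0, 3, 0, 2, 0]), (894, []), (528, []), (526, []), (892, [0, 2, 3, 1, 3, 2, 1, 0]), (704, [3, 0, 2, 1, 3, 1, 0, 3, 2, 0, 2, 6])],
  [(834, [5, 0, 3, 2, 1, 3, 2, 1, 0, 6]), (696, [4, 0, 3, 1, 4, 3, 0, 6]), (696, [2, 3, 2]), (696, [0, 2, 0, 3, 0, 2, 0]), (528, []), (894, []), (834, []), (696, [0, 2, 3, 5, 2, 0, 2, 5, 3, 2, 0]), (705, [3, 0, 2, 1, 3, 1, 0, 3, 2, 0, 2, 6])],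
  [(836, [5]), (886, []), (531, []), (798, [2]), (895, []), (896, []), (530, []), (529, []), (697, [3, 5, 1, 5, 4, 1, 4, 3, 1, 7])],
  [(837, [5]), (888, []), (551, [5, 4]), (541, []), (698, [0]), (530, []), (896, []), (799, []), (698, [3, 1, 4, 0, 3, 4, 1, 0, 3, 0])],
  [(840, [5]), (895, [2, 0, 2, 1, 5, 2, 0, 2, 1]), (895, []), (800, [2]), (531, []), (553, [5, 4]), (699, [0]), (699, [4, 1, 4]), (800, [1, 0, 3, 0, 2, 3, 2, 1, 0, 6])],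
  [(843, [4, 1, 3, 4, 1, 5, 3, 1, 7]), (532, []), (889, [0, 2, 3, 1, 3, 2, 1, 0, 6]), (542, []), (897, []), (554, [5, 4]), (898, []), (533, []), (616, [2, 1, 3, 2, 1])],
  [(838, [1, 5, 4, 1, 4, 1, 6, 7]), (889, [0, 2, 3, 1, 3, 2, 1, 0, 6]), (532, []), (543, []), (701, [0]), (899, []), (900, []), (535, []), (701, [3, 1, 4, 0, 3, 4, 1, 0, 3, 0])],
  [(841, [3, 5, 2, 3, 2]), (898, []), (900, []), (702, [1, 0, 3, 2, 0, 2, 3, 1, 0]), (901, []), (555, [5, 4]), (532, []), (536, []), (743, [3, 0, 2, 3, 2, 5, 4, 0, 3, 0, 6])],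
  [(842, [4, 1, 3, 4, 1, 5, 3, 1, 7]), (535, []), (533, []), (544, []), (842, [2, 3, 1, 3, 2, 1, 6]), (703, [2, 1, 3, 2, 1]), (902, []), (889, [0, 2, 3, 1, 3, 2, 1, 0, 6]), (694, [3, 1, 4, 0, 3, 4, 1, 0, 3, 0])]]

/-- Part of a table. -/
def lev0Mov22 : List (List (ℕ × List ℕ)) := [
  [(825, [5, 3, 0, 2, 3, 2, 1, 0, 3, 1, 0, 6]), (536, []), (902, []), (704, [1, 0, 3, 2, 0, 2, 3, 1, 0]), (903, []), (534, []), (533, []), (898, []), (695, [3, 0, 2, 1, 3, 1, 0, 3, 2, 0, 2])],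
  [(832, [5, 3, 0, 2, 3, 2, 1, 0, 3, 1, 0, 6]), (705, [4, 3, 1, 0, 3, 1, 0, 3, 1, 4, 0]), (705, [2, 1, 3, 2, 1]), (705, [1, 0, 3, 2, 0, 2, 3, 1, 0]), (534, []), (903, []), (832, [3, 0, 2, 1, 3, 1, 0, 3, 2, 0, 2]), (705, [4, 0, 3, 5, 2, 0, 2, 5, 3, 4, 0]), (696, [3, 0, 2, 1, 3, 1, 0, 3, 2, 0, 2])],
  [(844, [4, 1, 3, 4, 1, 5, 3, 1, 7]), (902, []), (536, []), (706, [1, 0, 3, 2, 0, 2, 3, 1, 0]), (706, [4, 3, 1, 0, 3, 1, 0, 3, 1, 4, 0]), (706, [2, 1, 3, 2, 1]), (535, []), (900, []), (706, [4, 3, 4, 3])],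
  [(581, []), (707, [0]), (538, []), (887, []), (537, []), (904, []), (905, []), (848, []), (906, [])],
  [(582, []), (541, []), (582, [4]), (888, []), (904, []), (537, []), (802, [2]), (802, []), (907, [])],
  [(587, [3, 5, 1, 5, 4, 1, 4, 3, 1, 6, 7]), (543, [0, 2, 3, 1, 3, 2, 1, 0, 6]), (542, [0, 2, 3, 1, 3, 2, 1, 0, 6]), (889, []), (906, []), (907, []), (709, [4, 0, 3, 2, 0, 2, 3, 4, 0]), (544, [0, 2, 3, 1, 3, 2, 1, 0, 6]), (537, [])],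
  [(583, []), (710, [0]), (905, []), (905, [2, 0, 2, 1, 5, 2, 0, 2, 1]), (803, [2]), (583, [4]), (538, []), (854, []), (803, [0, 2, 1, 3, 2, 0, 3, 1, 0, 6])],
  [(584, [1, 0, 3, 2, 3, 2, 1, 0]), (622, [2, 1, 3, 2, 1, 0]), (908, []), (890, []), (539, []), (584, [4]), (909, []), (857, [0, 2, 3, 1, 3, 2, 1, 0]), (538, [])],
  [(585, [1, 0, 3, 2, 3, 2, 1, 0]), (589, [3, 2, 1, 3, 2, 0, 3, 1, 3, 0, 6]), (539, []), (891, []), (908, []), (910, []), (712, [0, 2, 1, 0, 3, 0, 2, 1, 0]), (540, [0, 2, 3, 1, 3, 2, 1, 0]), (621, [4, 1, 3, 1, 0, 3, 4, 1, 3, 1, 0])],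
  [(588, [1, 3, 0, 2, 3, 2, 0, 3, 1, 0]), (713, [0]), (906, [0, 2, 3, 1, 3, 2, 1, 0, 6]), (897, []), (542, []), (588, [4]), (911, []), (873, [2, 3, 1, 3, 2, 1, 6]), (622, [2, 1, 3, 2, 1])],
  [(586, [3, 1, 0, 3, 1, 0, 3, 0, 6]), (907, [0, 2, 3, 1, 3, 2, 1, 0, 6]), (586, [3, 4, 1, 3, 0, 2, 3, 1, 3, 2, 0, 6]), (899, []), (714, [0]), (543, []), (714, [1, 0, 3, 2, 0, 2, 3, 1, 0]), (714, [2, 1, 3, 2, 1]), (714, [3, 1, 4, 0, 3, 4, 1, 0, 3, 0])],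
  [(847, []), (550, []), (547, []), (807, [5, 2, 5]), (912, []), (912, [5, 1, 5, 4, 2, 0, 2, 0]), (546, []), (545, []), (715, [4, 1, 5, 3, 1, 5, 4, 3, 1, 6, 7])],
  [(848, []), (716, [0]), (548, []), (581, [5]), (546, []), (913, []), (913, [5, 1, 5, 4, 2, 0, 2, 0]), (581, []), (808, [0, 3, 2, 1, 3, 2, 0, 3, 1])],
  [(849, []), (551, []), (888, [4, 5]), (582, [5]), (913, []), (546, []), (912, [5, 1, 5, 4, 2, 0, 2, 0]), (809, []), (809, [0, 3, 2, 1, 3, 2, 0, 3, 1])],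
  [(852, []), (896, [4, 1, 5, 4, 2, 0, 2, 0]), (912, []), (810, [5, 2, 5]), (547, []), (886, [4, 1, 5, 4, 2, 0, 2, 0]), (888, [4, 1, 5, 4, 2, 0, 2, 0]), (810, [2]), (810, [2, 0, 3, 1, 0, 3, 0, 2, 1, 6])],
  [(854, []), (719, [0]), (913, [5, 1, 5, 4, 2, 0, 2, 0]), (904, [4, 1, 5, 4, 2, 0, 2, 0]), (888, [4, 1, 5, 4, 2, 0, 2, 0]), (887, [4, 1, 5, 4, 2, 0, 2, 0]), (548, []), (583, []), (914, [])],
  [(857, [4, 0, 3, 4, 3, 0]), (630, [4, 2, 3, 4, 2, 0]), (915, []), (584, [5]), (549, []), (890, [4, 5]), (916, []), (584, [0, 3, 2, 1, 3, 2, 1, 0, 6]), (548, [])],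
  [(850, [5, 3, 1, 5, 4, 1, 4, 3, 1, 7]), (563, [3, 0, 2, 1, 3, 2, 1, 0, 3, 0, 6]), (549, []), (585, [5]), (915, []), (917, []), (918, []), (560, [3, 0, 2, 1, 3, 2, 1, 0, 3, 0, 6]), (726, [3, 2, 1, 3, 2, 1])],
  [(853, [2, 3, 1, 3, 2, 1, 6]), (564, [3, 0, 2, 1, 3, 2, 1, 0, 3, 0, 6]), (918, []), (722, [5, 1, 0, 3, 2, 0, 2, 3, 1, 5, 0]), (919, []), (892, [4, 5]), (549, []), (561, [3, 0, 2, 1, 3, 2, 1, 0, 3, 0, 6]), (730, [0, 2, 3, 1, 3, 2, 1, 0, 6])],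
  [(859, []), (920, []), (553, []), (812, [5, 2, 5]), (550, []), (920, [5, 1, 5, 4, 2, 0, 2, 0]), (723, [0]), (574, []), (812, [0, 3, 1, 0, 3, 1, 0, 6])],
  [(860, []), (912, [5, 1, 5, 4, 2, 0, 2, 0]), (896, [4, 5]), (813, [5, 2, 5]), (920, [5, 1, 5, 4, 2, 0, 2, 0]), (550, []), (551, []), (813, []), (813, [0, 3, 1, 0, 3, 1, 0, 6])],
  [(862, [1, 3, 0, 2, 3, 2, 0, 3, 1, 0]), (921, []), (899, [3, 1, 0, 3, 1, 4, 3, 5, 0, 3]), (586, [5]), (725, [0]), (552, []), (922, []), (725, [1, 3, 1]), (551, [])],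
  [(863, [1, 3, 0, 2, 3, 2, 0, 3, 1, 0]), (552, []), (554, [3, 0, 2, 1, 3, 2, 1, 0, 3, 0]), (587, [5]), (923, []), (921, []), (924, []), (571, [3, 0, 2, 1, 3, 2, 1, 0, 3, 0]), (721, [3, 2, 1, 3, 2, 1])],
  [(864, [1, 3, 0, 2, 3, 2, 0, 3, 1, 0]), (924, []), (555, [3, 0, 2, 1, 3, 2, 1, 0, 3, 0]), (727, [0, 3, 5, 2, 0, 2, 5, 3, 0]), (925, []), (922, []), (552, []), (573, [3, 0, 2, 1, 3, 2, 1, 0, 3, 0]), (740, [2, 1, 3, 2, 0, 3, 1, 0, 3, 0, 6])],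
  [(869, []), (553, []), (920, []), (814, [5, 2, 5]), (896, [4, 1, 5, 4, 2, 0, 2, 0]), (895, [4, 1, 5, 4, 2, 0, 2, 0]), (728, [0]), (579, []), (728, [2, 3, 1, 3, 2, 1])],
  [(873, [4, 3, 4, 0, 3, 1, 0, 3, 1, 0, 6]), (729, [0]), (923, [3, 0, 2, 1, 3, 2, 1, 0, 3, 0]), (588, [5]), (554, []), (897, [4, 5]), (914, [0, 2, 3, 1, 3, 2, 1, 0, 6]), (588, [3, 0, 2, 1, 3, 2, 1, 0, 3, 0]), (630, [4, 2, 3, 4, 2])],
  [(871, [2, 3, 1, 3, 2, 1, 6]), (555, []), (924, [3, 0, 2, 1, 3, 2, 1, 0, 3, 0]), (730, [5, 0, 2, 1, 0, 3, 0, 2, 1, 5, 0]), (926, []), (898, [4, 5]), (554, []), (572, []), (722, [0, 2, 3, 1, 3, 2, 1, 0, 6])],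
  [(870, [2, 3, 1, 3, 2, 1, 6]), (927, []), (925, [3, 0, 2, 1, 3, 2, 1, 0, 3, 0]), (731, [5, 0, 2, 1, 0, 3, 0, 2, 1, 5, 0]), (555, []), (901, [4, 5]), (731, [0]), (580, [3, 4, 0, 3, 4, 0, 2, 3, 2, 0]), (742, [3, 0, 2, 3, 2, 0, 3, 0, 6])],
  [(569, [4, 3, 1, 5, 1, 4, 3, 1, 6, 7]), (827, [3, 4, 1, 0, 3, 1, 0, 3, 4, 0, 6]), (557, []), (556, []), (570, []), (732, [1, 3, 1]), (928, []), (929, []), (653, [4, 3, 0, 2, 3, 4, 2, 0, 3, 0, 6])],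
  [(562, []), (855, [3, 4, 1, 0, 3, 1, 0, 3, 4, 0, 6]), (558, []), (930, []), (591, [1, 3, 0, 2, 3, 2, 1, 3]), (733, [1, 3, 1]), (556, []), (861, [2, 0, 3, 1, 3, 0, 2, 1, 6]), (675, [3, 2, 0, 3, 1, 0, 3, 0, 2, 1])],
  [(563, []), (850, [3, 0, 2, 3, 2, 1, 0, 3, 1, 0, 6]), (559, []), (929, []), (606, [1, 3, 0, 2, 3, 2, 1, 3]), (931, []), (861, [2, 0, 3, 1, 3, 0, 2, 1, 6]), (556, []), (606, [3, 1, 0, 3, 2, 3, 2, 1, 0, 6])],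
  [(568, [4, 3, 1, 5, 1, 4, 3, 1, 6, 7]), (828, [3, 4, 1, 0, 3, 1, 0, 3, 4, 0, 6]), (928, []), (932, []), (735, [4, 0, 3, 1, 4, 3, 0, 6]), (566, []), (557, []), (933, []), (735, [3, 4, 1, 0, 3, 1, 0, 3, 4, 0])]]

/-- Part of a table. -/
def lev0Mov23 : List (List (ℕ × List ℕ)) := [
  [(565, [4, 3, 1, 5, 1, 4, 3, 1, 6, 7]), (829, [3, 4, 1, 0, 3, 1, 0, 3, 4, 0, 6]), (929, []), (559, []), (599, [1, 3, 0, 2, 3, 2, 1, 3]), (559, [4, 3, 1, 5, 1, 4, 3, 1, 6, 7]), (933, []), (557, []), (736, [3, 1, 4, 0, 3, 4, 1, 0, 3, 0])],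
  [(737, [5, 0, 2, 0, 3, 0, 2, 5, 0]), (856, [3, 4, 1, 0, 3, 1, 0, 3, 4, 0, 6]), (930, []), (558, []), (593, [1, 3, 0, 2, 3, 2, 1, 3]), (567, []), (932, []), (934, []), (607, [0, 2, 3, 2, 0, 2, 1, 3, 2, 1, 0])],
  [(564, []), (853, [3, 2, 0, 2, 3, 1, 0, 3, 2, 1, 0, 6]), (861, [2, 0, 3, 1, 3, 0, 2, 1, 6]), (934, []), (935, []), (933, [4, 3, 1, 5, 1, 4, 3, 1, 6, 7]), (559, []), (558, []), (608, [4, 3, 1, 0, 3, 1, 4, 3, 0])],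
  [(855, [3, 4, 1, 0, 3, 1, 0, 3, 4, 0, 6]), (562, []), (561, []), (739, [5, 0, 2, 0, 3, 0, 2, 5, 0]), (739, [1, 4, 0, 3, 2, 0, 2, 3, 4, 1, 0]), (739, [1, 3, 1]), (560, []), (918, [3, 0, 2, 1, 3, 2, 1, 0, 3, 0, 6]), (739, [4, 3, 4, 3])],
  [(861, [2, 0, 3, 1, 3, 0, 2, 1, 6]), (918, [3, 0, 2, 1, 3, 2, 1, 0, 3, 0, 6]), (564, []), (740, [5, 0, 2, 0, 3, 0, 2, 5, 0]), (936, []), (937, []), (563, []), (562, []), (727, [2, 1, 3, 2, 0, 3, 1, 0, 3, 0])],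
  [(931, []), (917, [3, 0, 2, 1, 3, 2, 1, 0, 3, 0, 6]), (938, []), (590, [5]), (632, [1, 3, 0, 2, 3, 2, 1, 3]), (563, []), (937, []), (741, [1, 3, 1]), (632, [4, 2, 3, 4, 2, 6])],
  [(935, []), (939, []), (936, []), (742, [5, 0, 2, 0, 3, 0, 2, 5, 0]), (564, []), (940, []), (633, [1, 3, 0, 2, 3, 2, 1, 3]), (626, [1, 3, 0, 2, 3, 2, 1, 3]), (731, [3, 0, 2, 3, 2, 0, 3, 0, 6])],
  [(933, [4, 3, 1, 5, 1, 4, 3, 1, 6, 7]), (892, [3, 1, 0, 3, 1, 4, 3, 5, 0, 3, 6]), (941, []), (743, [5, 0, 2, 0, 3, 0, 2, 5, 0]), (940, []), (564, []), (565, []), (568, []), (702, [4, 5, 3, 0, 2, 3, 2, 0, 3, 0, 6])],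
  [(929, [4, 3, 1, 5, 1, 4, 3, 1, 6, 7]), (891, [3, 1, 0, 3, 1, 4, 3, 5, 0, 3, 6]), (565, []), (589, [3, 1, 4, 1, 5, 3, 1, 6, 7]), (619, [4, 5, 1, 3, 0, 2, 3, 2, 1, 3]), (938, []), (941, []), (569, []), (744, [3, 0, 2, 1, 3, 2, 1, 0, 3, 0])],
  [(745, [5, 0, 2, 0, 3, 0, 2, 5, 0]), (833, [3, 4, 1, 0, 3, 1, 0, 3, 4, 0, 6]), (745, [1, 3, 1]), (566, []), (745, [4, 0, 3, 1, 4, 3, 0, 6]), (932, []), (567, []), (567, [4, 3, 1, 5, 1, 4, 3, 1, 6, 7]), (745, [3, 4, 1, 0, 3, 1, 0, 3, 4, 0])],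
  [(928, [4, 3, 1, 5, 1, 4, 3, 1, 6, 7]), (893, [1, 3, 1, 4, 3, 5]), (568, []), (746, [5, 0, 2, 0, 3, 0, 2, 5, 0]), (746, [4, 0, 3, 1, 4, 1, 3, 0, 6, 7]), (746, [1, 3, 1]), (569, []), (941, []), (746, [4, 3, 4, 3])],
  [(872, [1, 3, 0, 2, 1, 3, 2, 0, 3, 0, 6]), (573, []), (572, []), (747, [5, 0, 2, 1, 0, 3, 0, 2, 1, 5, 0]), (747, [4, 0, 3, 2, 0, 2, 3, 4, 0]), (747, [4, 2, 3, 4, 2]), (571, []), (924, [3, 0, 2, 1, 3, 2, 1, 0, 3, 0]), (747, [4, 3, 4, 3])],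
  [(877, []), (574, []), (579, []), (815, [5, 2, 5]), (815, [2]), (942, []), (748, [0]), (920, []), (748, [5, 1, 5, 4, 3, 1, 4, 3, 1, 7])],
  [(878, []), (942, []), (749, [5, 1, 5]), (816, [5, 2, 5]), (575, []), (574, []), (749, [0]), (942, [5, 1, 5, 4, 2, 0, 2, 0]), (816, [1, 0, 3, 1, 0, 3, 0, 6])],
  [(576, []), (750, [0, 2, 0, 3, 0, 2, 0]), (750, [3, 5, 1, 5, 0, 3, 0, 2, 3, 2, 0]), (750, [4, 3, 1, 0, 3, 1, 0, 3, 1, 4, 0]), (750, [0]), (577, []), (880, [5, 1, 5, 4, 3, 1, 4, 3, 1, 6, 7]), (750, [3]), (750, [4, 3, 1, 0, 3, 1, 0, 3, 4, 0])],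
  [(880, [5, 1, 5, 4, 3, 1, 4, 3, 1, 6, 7]), (751, [0, 2, 0, 3, 0, 2, 0]), (751, [3, 5, 1, 5, 0, 3, 0, 2, 3, 2, 0]), (751, [3, 5, 2, 5, 0, 3, 1, 3, 1, 0, 6]), (943, []), (578, []), (576, []), (751, [3]), (805, [1, 0, 3, 1, 0, 3, 6])],
  [(879, [5, 1, 5, 4, 3, 1, 4, 3, 1, 6, 7]), (944, []), (580, [3, 2, 3, 2, 6]), (752, [3, 5, 2, 5, 0, 3, 1, 3, 1, 0, 6]), (578, []), (943, []), (752, [0]), (925, [3, 1, 0, 3, 1, 0, 3, 0]), (804, [1, 0, 3, 1, 0, 3, 6])],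
  [(884, [5, 1, 5, 4, 3, 1, 4, 3, 1, 6, 7]), (580, []), (944, [3, 2, 3, 2, 6]), (753, [5, 0, 2, 0, 3, 0, 2, 5, 0]), (753, [0, 2, 0, 3, 0, 2, 0]), (753, [3, 5, 1, 5, 0, 3, 0, 2, 3, 2, 0]), (753, [3, 0, 2, 3, 2, 0, 3]), (927, [3, 4, 0, 3, 4, 0, 2, 3, 2, 0]), (753, [4, 3, 4, 3])],
  [(904, []), (754, [0]), (904, [4]), (913, [5]), (582, []), (581, []), (945, []), (945, [5, 1, 5, 4, 2, 0, 2, 0]), (817, [1, 3, 0, 2, 3, 2, 1, 3, 0])],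
  [(905, []), (755, [0]), (583, []), (945, [5, 4, 2, 0, 2, 5, 1, 0]), (818, [2]), (945, []), (581, []), (913, [5, 1, 5, 4, 2, 0, 2, 0]), (755, [3, 5, 1, 5, 4, 1, 4, 3, 1, 7])],
  [(945, [4, 5, 4, 2, 0, 2, 5, 1, 0]), (756, [0]), (945, [5, 4, 2, 0, 2, 5, 1, 0]), (583, []), (819, [2]), (905, [4, 5, 4, 2, 0, 2, 5, 1, 0]), (904, [4, 5, 4, 2, 0, 2, 5, 1, 0]), (904, [4, 1, 5, 4, 2, 0, 2, 0]), (819, [1, 0, 3, 0, 2, 3, 2, 1, 0, 6])],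
  [(908, [1, 0, 3, 2, 3, 2, 1, 0]), (637, [1, 3, 1, 0]), (584, []), (915, [5]), (585, []), (946, []), (947, []), (915, [0, 3, 2, 1, 3, 2, 1, 0, 6]), (761, [3, 2, 1, 3, 2, 1])],
  [(909, [1, 0, 3, 2, 3, 2, 1, 0]), (639, [1, 3, 1, 0]), (947, []), (948, []), (758, [1, 0, 3, 2, 0, 2, 3, 1, 0]), (909, [4]), (584, []), (916, [0, 3, 2, 1, 3, 2, 1, 0, 6]), (762, [1, 0, 3, 2, 3, 2, 1, 0, 6])],
  [(910, [1, 0, 3, 2, 3, 2, 1, 0]), (590, [3, 0, 2, 1, 3, 2, 1, 0, 3, 0, 6]), (910, [4]), (917, [5]), (946, []), (585, []), (759, [1, 0, 3, 2, 0, 2, 3, 1, 0]), (759, [1, 3, 1]), (760, [3, 2, 1, 3, 2, 1])],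
  [(907, [3, 5, 1, 5, 4, 1, 4, 3, 1, 6, 7]), (586, []), (907, [1, 3, 1, 4, 3]), (921, [5]), (949, []), (587, []), (760, [4, 0, 3, 2, 0, 2, 3, 4, 0]), (760, [4, 2, 3, 4, 2]), (759, [3, 2, 1, 3, 2, 1])],
  [(906, [3, 5, 1, 5, 4, 1, 4, 3, 1, 6, 7]), (761, [0]), (588, [3, 0, 2, 1, 3, 2, 1, 0, 3, 0]), (923, [5]), (587, []), (949, []), (950, []), (923, [3, 0, 2, 1, 3, 2, 1, 0, 3, 0]), (757, [3, 2, 1, 3, 2, 1])],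
  [(911, [1, 3, 0, 2, 3, 2, 0, 3, 1, 0]), (762, [0]), (950, [3, 0, 2, 1, 3, 2, 1, 0, 3, 0]), (951, []), (762, [0, 2, 1, 0, 3, 0, 2, 1, 0]), (911, [4]), (588, []), (914, [2, 1, 3, 1, 0, 3, 2, 0, 2, 3, 0, 6]), (758, [1, 0, 3, 2, 3, 2, 1, 0, 6])],
  [(590, []), (910, [3, 2, 1, 3, 2, 0, 3, 1, 3, 0]), (590, [1, 5, 3, 1, 5, 4, 3, 1, 7]), (938, [3, 1, 5, 3, 1, 4, 1, 6, 7]), (623, [0, 3, 2, 1, 3, 2, 0, 3, 1, 0]), (589, []), (763, [0, 2, 0, 3, 0, 2, 0]), (763, [4, 2, 3, 4, 2]), (763, [3, 1, 4, 0, 3, 4, 1, 0, 3, 0, 6])],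
  [(764, [5, 2, 0, 2, 5]), (764, [2, 0, 2]), (593, []), (591, []), (930, [3, 2, 1, 3, 2, 0, 3, 1]), (764, [0]), (764, [4, 1, 4]), (952, []), (684, [5, 2, 3, 2, 0, 3, 5, 0, 6])],
  [(624, []), (765, [2, 0, 2]), (594, []), (952, []), (953, []), (954, []), (592, []), (591, []), (610, [4, 1, 3, 1, 0, 3, 4, 6])],
  [(625, []), (766, [2, 0, 2]), (766, [5, 1, 5]), (766, [4, 1, 4]), (611, []), (592, []), (954, []), (766, [0]), (766, [0, 2, 3, 2, 1, 3, 1, 0, 6])],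
  [(767, [5, 2, 0, 2, 5]), (767, [2, 0, 2]), (952, []), (594, []), (955, []), (767, [5, 1, 5]), (767, [4, 1, 4]), (593, []), (767, [3, 4, 0, 3, 4, 0, 2, 3, 2, 0, 6])]]

/-- Part of a table. -/
def lev0Mov24 : List (List (ℕ × List ℕ)) := [
  [(626, []), (956, []), (953, []), (955, []), (594, []), (768, [5, 1, 5]), (613, []), (935, [3, 2, 1, 3, 2, 0, 3, 1]), (768, [3, 4, 0, 3, 4, 0, 2, 3, 2, 0, 6])],
  [(614, [5]), (597, []), (595, []), (601, []), (614, []), (640, []), (957, []), (958, []), (640, [2, 3, 2])],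
  [(615, [5]), (598, []), (957, []), (959, []), (960, []), (596, []), (595, []), (961, []), (828, [0, 3, 0, 2, 3, 2, 0, 6])],
  [(616, [5]), (599, []), (958, []), (603, []), (962, []), (603, [4, 5, 4]), (961, []), (595, []), (771, [3, 1, 4, 0, 3, 4, 1, 0, 3, 0])],
  [(644, [5, 2, 5]), (600, []), (644, []), (596, []), (963, []), (959, []), (604, []), (604, [4, 5, 4]), (833, [0, 3, 0, 2, 3, 2, 0, 6])],
  [(617, [5]), (773, [4, 1, 4]), (645, []), (963, []), (596, []), (960, []), (617, []), (645, [4, 5, 2, 5, 4]), (834, [0, 3, 0, 2, 3, 2, 0, 6])],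
  [(618, [5]), (957, []), (598, []), (964, []), (774, [4, 1, 4]), (648, []), (597, []), (965, []), (774, [2, 3, 2, 1, 3, 1, 6])],
  [(619, [5]), (958, []), (599, []), (606, []), (929, [3, 2, 1, 3, 2, 0, 3, 1]), (966, []), (965, []), (597, []), (929, [4, 0, 2, 3, 4, 2, 0, 3, 0])],
  [(650, [5, 2, 5]), (959, []), (964, []), (598, []), (776, [4, 1, 4]), (600, []), (607, []), (967, []), (776, [3, 4, 0, 3, 1, 0, 3, 1, 4, 0])],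
  [(620, [5]), (961, []), (965, []), (967, []), (968, []), (608, [4, 5, 4]), (599, []), (598, []), (933, [0, 3, 2, 3, 2, 1, 0, 3, 1])],
  [(627, []), (605, []), (602, []), (969, []), (657, [2]), (657, []), (601, []), (970, []), (778, [3, 2, 3, 2])],
  [(628, []), (606, []), (603, []), (958, []), (971, []), (972, []), (970, []), (601, []), (863, [4, 1, 3, 1, 0, 3, 4, 1, 3, 1, 0])],
  [(659, [5, 2, 5]), (607, []), (969, []), (602, []), (659, [2]), (604, []), (959, []), (973, []), (659, [0, 3, 0, 2, 3, 2, 0, 6])],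
  [(629, []), (608, []), (970, []), (973, []), (974, []), (961, [4, 5, 4]), (603, []), (602, []), (871, [4, 2, 3, 4, 2])],
  [(630, []), (857, [0, 2, 3, 2]), (971, []), (962, []), (603, []), (962, [4, 5, 4]), (975, []), (622, []), (782, [3, 1, 4, 0, 3, 4, 1, 0, 3, 0])],
  [(666, [5, 2, 5]), (969, []), (607, []), (605, []), (609, []), (666, []), (964, []), (976, []), (666, [4, 3, 4])],
  [(631, []), (970, []), (608, []), (976, []), (977, []), (978, []), (606, []), (605, []), (864, [4, 1, 0, 3, 1, 0, 3, 4, 0, 6])],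
  [(632, []), (972, []), (966, [4, 5, 4]), (966, []), (931, [3, 2, 1, 3, 2, 0, 3, 1]), (606, []), (978, []), (668, []), (931, [4, 0, 2, 3, 4, 2, 0, 3, 0])],
  [(670, [5, 2, 5]), (973, []), (976, []), (608, []), (979, []), (967, [4, 5, 4]), (967, []), (607, []), (934, [0, 3, 4, 1, 3, 1, 0, 3, 4])],
  [(633, []), (980, []), (977, []), (979, []), (608, []), (968, [4, 5, 4]), (935, [3, 2, 1, 3, 2, 0, 3, 1]), (613, []), (935, [0, 3, 4, 1, 3, 1, 0, 3, 4])],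
  [(679, [5, 2, 5]), (679, [2]), (612, []), (610, []), (981, []), (982, []), (788, [4, 1, 4]), (609, []), (952, [4, 3, 1, 0, 3, 1, 4, 6])],
  [(634, []), (983, []), (613, []), (981, []), (610, []), (984, []), (953, []), (977, []), (953, [4, 3, 1, 0, 3, 1, 4, 6])],
  [(635, []), (681, [2]), (790, [5, 1, 5]), (982, []), (984, []), (610, []), (611, []), (681, []), (954, [4, 3, 1, 0, 3, 1, 4, 6])],
  [(683, [5, 2, 5]), (985, []), (981, []), (613, []), (612, []), (791, [5, 1, 5]), (986, []), (979, []), (791, [4, 3, 4, 0, 3, 0, 2, 3, 2, 0])],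
  [(636, []), (613, []), (983, []), (985, []), (686, [2]), (792, [5, 1, 5]), (956, []), (980, []), (792, [3, 2, 3, 2])],
  [(957, [5]), (618, []), (615, []), (688, [2]), (987, []), (688, []), (614, []), (988, []), (793, [3, 2, 3, 2])],
  [(958, [5]), (619, []), (616, []), (621, []), (989, []), (990, []), (988, []), (614, []), (891, [0, 2, 3, 2, 0, 2, 1, 3, 2, 1, 0, 6])],
  [(960, [5]), (795, [4, 1, 4]), (987, []), (690, [2]), (615, []), (617, []), (960, []), (987, [0, 2, 1, 5, 2, 1, 0]), (690, [0, 3, 0, 2, 3, 2, 0, 6])],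
  [(961, [5]), (620, []), (988, []), (691, [2]), (988, [0, 2, 1, 5, 2, 1, 0]), (629, [5, 4]), (616, []), (615, []), (691, [1, 0, 3, 0, 2, 3, 2, 1, 0, 6])],
  [(962, [5]), (890, [0, 2, 1, 3, 2, 1]), (989, []), (622, []), (616, []), (630, [5, 4]), (989, [0, 2, 1, 5, 2, 1, 0]), (962, []), (897, [2, 1, 3, 2, 1])],
  [(965, [5]), (988, []), (620, []), (697, [2]), (991, []), (992, []), (619, []), (618, []), (798, [5, 3, 1, 5, 4, 1, 4, 3, 1, 6, 7])],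
  [(966, [5]), (990, []), (632, [5, 4]), (623, []), (938, [5, 1, 3, 1, 4, 0, 2, 3, 2, 0, 6]), (619, []), (992, []), (698, []), (799, [0, 2, 3, 1, 3, 2, 1, 0])]]

/-- Part of a table. -/
def lev0Mov25 : List (List (ℕ × List ℕ)) := [
  [(968, [5]), (991, [0, 2, 1, 5, 2, 1, 0]), (991, []), (699, [2]), (620, []), (633, [5, 4]), (940, [5, 1, 3, 1, 4, 0, 2, 3, 2, 0, 6]), (800, [4, 1, 4]), (699, [0, 2, 1, 3, 2, 0, 3, 1, 0, 6])],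
  [(637, []), (908, [0, 2, 1, 3, 2, 1]), (622, []), (989, []), (621, []), (993, []), (994, []), (971, []), (908, [0, 2, 3, 2, 0, 2, 1, 3, 2, 1, 0, 6])],
  [(638, []), (623, []), (638, [4]), (990, []), (993, []), (621, []), (708, [2]), (708, []), (910, [0, 2, 3, 2, 0, 2, 1, 3, 2, 1, 0, 6])],
  [(639, []), (909, [0, 2, 1, 3, 2, 1]), (994, []), (994, [0, 2, 1, 5, 2, 1, 0]), (710, [2]), (639, [4]), (622, []), (975, []), (710, [1, 0, 3, 0, 2, 3, 2, 1, 0, 6])],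
  [(953, []), (995, []), (626, []), (804, [5, 2, 0, 2, 5]), (624, []), (996, []), (634, []), (936, [3, 2, 1, 3, 2, 0, 3, 1]), (752, [3, 1, 0, 3, 1, 0, 6])],
  [(954, []), (805, [2, 0, 2]), (805, [5, 1, 5]), (805, [5, 2, 0, 2, 5]), (996, []), (624, []), (625, []), (805, [0]), (751, [3, 1, 0, 3, 1, 0, 6])],
  [(956, []), (626, []), (995, []), (806, [5, 2, 0, 2, 5]), (806, [2, 0, 2]), (806, [5, 1, 5]), (636, []), (939, [3, 2, 1, 3, 2, 0, 3, 1]), (806, [5, 1, 5, 4, 1, 4, 1, 7])],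
  [(970, []), (631, []), (629, []), (715, [5, 2, 5]), (997, []), (997, [5, 1, 5, 4, 0, 2, 0]), (628, []), (627, []), (807, [4, 1, 3, 5, 1, 5, 4, 3, 1, 7])],
  [(971, []), (915, [4, 0, 2, 3, 4, 2]), (630, []), (637, [5]), (628, []), (998, []), (998, [5, 1, 5, 4, 0, 2, 0]), (637, []), (716, [1, 3, 0, 2, 3, 2, 1, 3, 0])],
  [(972, []), (632, []), (990, [4, 5]), (638, [5]), (998, []), (628, []), (997, [5, 1, 5, 4, 0, 2, 0]), (717, []), (717, [1, 3, 0, 2, 3, 2, 1, 3, 0])],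
  [(974, []), (992, [4, 1, 5, 4, 0, 2, 0]), (997, []), (718, [5, 2, 5]), (629, []), (988, [4, 1, 5, 4, 0, 2, 0]), (990, [4, 1, 5, 4, 0, 2, 0]), (718, [2]), (718, [2, 1, 0, 3, 1, 0, 3, 0, 2, 6])],
  [(975, []), (916, [4, 0, 2, 3, 4, 2]), (998, [5, 1, 5, 4, 0, 2, 0]), (993, [4, 1, 5, 4, 0, 2, 0]), (990, [4, 1, 5, 4, 0, 2, 0]), (989, [4, 1, 5, 4, 0, 2, 0]), (630, []), (639, []), (916, [2, 1, 0, 3, 1, 0, 3, 0, 2, 6])],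
  [(977, []), (999, []), (633, []), (723, [5, 2, 5]), (631, []), (999, [5, 1, 5, 4, 0, 2, 0]), (936, [3, 2, 1, 3, 2, 0, 3, 1]), (634, []), (723, [1, 0, 3, 1, 0, 3, 0, 6])],
  [(978, []), (997, [5, 1, 5, 4, 0, 2, 0]), (992, [4, 5]), (724, [5, 2, 5]), (999, [5, 1, 5, 4, 0, 2, 0]), (631, []), (632, []), (724, []), (724, [1, 0, 3, 1, 0, 3, 0, 6])],
  [(980, []), (633, []), (999, []), (728, [5, 2, 5]), (992, [4, 1, 5, 4, 0, 2, 0]), (991, [4, 1, 5, 4, 0, 2, 0]), (939, [3, 2, 1, 3, 2, 0, 3, 1]), (636, []), (814, [2, 3, 1, 3, 2, 1])],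
  [(983, []), (634, []), (636, []), (748, [5, 2, 5]), (748, [2]), (1000, []), (995, []), (999, []), (815, [5, 1, 5, 3, 4, 1, 4, 3, 1, 6, 7])],
  [(984, []), (1000, []), (816, [5, 1, 5]), (749, [5, 2, 5]), (635, []), (634, []), (996, []), (1000, [5, 1, 5, 4, 0, 2, 0]), (749, [0, 3, 1, 0, 3, 1, 0, 6])],
  [(993, []), (946, [1, 0, 3, 1]), (993, [4]), (998, [5]), (638, []), (637, []), (1001, []), (1001, [5, 1, 5, 4, 0, 2, 0]), (754, [0, 3, 2, 1, 3, 2, 0, 3, 1])],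
  [(994, []), (947, [1, 0, 3, 1]), (639, []), (1001, [5, 4, 0, 2, 5, 1, 0]), (755, [2]), (1001, []), (637, []), (998, [5, 1, 5, 4, 0, 2, 0]), (818, [5, 3, 1, 5, 4, 1, 4, 3, 1, 6, 7])],
  [(1001, [4, 5, 4, 0, 2, 5, 1, 0]), (948, [1, 0, 3, 1]), (1001, [5, 4, 0, 2, 5, 1, 0]), (639, []), (756, [2]), (994, [4, 5, 4, 0, 2, 5, 1, 0]), (993, [4, 5, 4, 0, 2, 5, 1, 0]), (993, [4, 1, 5, 4, 0, 2, 0]), (756, [0, 2, 1, 3, 2, 0, 3, 1, 0, 6])],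
  [(688, [5]), (648, []), (641, []), (1002, []), (1003, []), (957, []), (640, []), (1004, []), (957, [3])],
  [(689, [5]), (649, []), (642, []), (658, []), (1005, []), (1006, []), (1004, []), (640, []), (1007, [])],
  [(959, [5, 2, 5]), (650, []), (1002, []), (641, []), (1008, []), (644, []), (659, []), (1009, []), (1010, [])],
  [(690, [5]), (823, [4, 1, 4]), (1003, []), (1008, []), (641, []), (645, []), (690, []), (1003, [2, 0, 2, 1, 5, 2, 0, 2, 1]), (1011, [])],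
  [(691, [5]), (651, []), (1004, []), (1009, []), (1004, [2, 0, 2, 1, 5, 2, 0, 2, 1]), (660, [4, 5, 4]), (642, []), (641, []), (1012, [])],
  [(704, [5, 3, 1, 0, 3, 0, 2, 1, 3, 2, 0]), (654, [0, 3, 2, 1, 3, 2, 1, 0]), (1013, []), (1010, []), (1011, []), (646, []), (652, [0, 3, 2, 1, 3, 2, 1, 0]), (1014, []), (641, [])],
  [(692, [5]), (826, [0]), (1005, []), (661, []), (642, []), (661, [4, 5, 4]), (1005, [2, 0, 2, 1, 5, 2, 0, 2, 1]), (692, []), (826, [0, 2, 3, 1, 3, 2, 1, 0])],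
  [(694, [5, 0, 3, 2, 1, 3, 2, 1, 0, 6]), (732, [3, 4, 1, 0, 3, 1, 0, 3, 4, 0, 6]), (643, []), (662, []), (694, []), (827, [2, 3, 2]), (1015, []), (1007, [2, 3, 1, 3, 2, 1, 6]), (842, [0, 2, 3, 1, 3, 2, 1, 0, 6])],
  [(695, [5, 0, 3, 2, 1, 3, 2, 1, 0, 6]), (735, [3, 4, 1, 0, 3, 1, 0, 3, 4, 0, 6]), (1015, []), (1016, []), (1017, []), (647, []), (643, []), (1012, [4, 3, 4, 1, 0, 3, 1, 0, 3, 0, 6]), (770, [0, 2, 3, 2, 0, 3, 0, 6])],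
  [(693, [5, 0, 3, 1, 3, 1, 0, 6]), (736, [3, 4, 1, 0, 3, 1, 0, 3, 4, 0, 6]), (1007, [2, 3, 1, 3, 2, 1, 6]), (664, []), (1018, []), (664, [4, 5, 0, 3, 4, 1, 3, 1, 0, 6]), (1012, [4, 3, 4, 1, 0, 3, 1, 0, 3, 0, 6]), (643, []), (829, [0, 2, 3, 1, 3, 2, 1, 0])],
  [(963, [5, 2, 5]), (830, [4, 1, 4]), (963, []), (645, []), (644, []), (1008, []), (963, [2]), (963, [4, 5, 2, 5, 4]), (1019, [])],
  [(831, [5, 0, 2, 0, 3, 0, 2, 5, 0]), (656, [0, 3, 2, 1, 3, 2, 1, 0]), (831, [3]), (646, []), (1019, []), (1010, []), (678, [5, 1, 5, 4, 3, 1, 4, 3, 1, 6, 7]), (678, [4, 2, 3, 2, 5, 4, 3, 6]), (644, [])]]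

/-- Part of a table. -/
def lev0Mov26 : List (List (ℕ × List ℕ)) := [
  [(705, [5, 3, 1, 0, 3, 0, 2, 1, 3, 2, 0]), (832, [3, 4, 1, 0, 3, 1, 0, 3, 1, 4, 0]), (832, [3]), (1019, []), (646, []), (1011, []), (705, [3, 0, 2, 1, 3, 1, 0, 3, 2, 0, 2, 6]), (832, [4, 3, 1, 5, 2, 0, 3, 5, 1, 4, 3, 0, 6]), (645, [])],
  [(833, [2, 5, 0, 3, 2, 0, 2, 3, 5, 0, 2]), (745, [3, 4, 1, 0, 3, 1, 0, 3, 4, 0, 6]), (833, [2, 3, 2]), (647, []), (1020, []), (1016, []), (665, []), (665, [4, 5, 0, 3, 4, 1, 3, 1, 0, 6]), (772, [0, 2, 3, 2, 0, 3, 0, 6])],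
  [(696, [5, 0, 3, 2, 1, 3, 2, 1, 0, 6]), (834, [4, 0, 3, 1, 4, 3, 0, 6]), (834, [2, 3, 2]), (1020, []), (647, []), (1017, []), (696, []), (834, [0, 2, 3, 5, 2, 0, 2, 5, 3, 2, 0]), (773, [0, 2, 3, 2, 0, 3, 0, 6])],
  [(964, [5, 2, 5]), (1002, []), (650, []), (648, []), (835, [4, 1, 4]), (964, []), (666, []), (1021, []), (835, [2, 3, 2, 1, 3, 1, 6])],
  [(697, [5]), (1004, []), (651, []), (1021, []), (1022, []), (1023, []), (649, []), (648, []), (965, [4, 0, 3, 1, 0, 3, 1, 4, 0, 6])],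
  [(698, [5]), (1006, []), (668, [4, 5, 4]), (668, []), (837, [0]), (649, []), (1023, []), (966, []), (1024, [])],
  [(701, [1, 5, 4, 1, 4, 1, 6, 7]), (1025, []), (655, [2, 3, 1, 3, 2, 1, 6]), (669, []), (838, [0]), (1024, []), (1026, []), (653, [2, 3, 1, 3, 2, 1, 6]), (649, [])],
  [(967, [5, 2, 5]), (1009, []), (1021, []), (651, []), (1027, []), (670, [4, 5, 4]), (670, []), (650, []), (1028, [])],
  [(699, [5]), (1022, [2, 0, 2, 1, 5, 2, 0, 2, 1]), (1022, []), (1027, []), (651, []), (672, [4, 5, 4]), (840, [0]), (840, [4, 1, 4]), (1029, [])],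
  [(702, [3, 5, 1, 3, 1]), (1014, [3, 4, 0, 3, 1, 0, 3, 1, 4, 0, 6]), (1026, [3, 5, 1, 5, 4, 1, 4, 3, 1, 6, 7]), (1028, []), (1029, []), (673, [4, 5, 4]), (655, [5, 1, 5, 4, 1, 4, 1, 6, 7]), (654, [5, 1, 5, 4, 1, 4, 1, 6, 7]), (651, [])],
  [(703, [4, 3, 1, 4, 1, 5, 3, 1, 6, 7]), (653, []), (652, []), (676, []), (703, [2, 3, 1, 3, 2, 1, 6]), (842, [2, 1, 3, 2, 1]), (1013, [0, 3, 2, 1, 3, 2, 1, 0]), (1025, [2, 3, 1, 3, 2, 1, 6]), (827, [0, 2, 3, 1, 3, 2, 1, 0, 6])],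
  [(700, [4, 3, 1, 4, 1, 5, 3, 1, 6, 7]), (655, []), (1025, [2, 3, 1, 3, 2, 1, 6]), (677, []), (1030, []), (677, [5, 3, 4, 0, 2, 3, 2, 5, 0, 3, 0]), (1014, [0, 3, 2, 1, 3, 2, 1, 0]), (652, []), (843, [0, 2, 3, 1, 3, 2, 1, 0])],
  [(706, [4, 3, 1, 4, 1, 5, 3, 1, 6, 7]), (1013, [0, 3, 2, 1, 3, 2, 1, 0]), (654, []), (1031, []), (844, [3, 4, 1, 0, 3, 1, 0, 3, 1, 4, 0]), (844, [2, 1, 3, 2, 1]), (653, []), (1026, [2, 3, 1, 3, 2, 1, 6]), (844, [2, 3, 2, 1, 3, 1, 6])],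
  [(845, [2, 5, 0, 3, 2, 0, 2, 3, 5, 0, 2]), (1010, [0, 3, 2, 1, 3, 2, 1, 0]), (1031, []), (654, []), (845, [3, 4, 1, 0, 3, 1, 0, 3, 1, 4, 0]), (656, []), (671, [3, 4, 1, 0, 3, 1, 0, 3, 4, 0]), (1028, [5, 1, 5, 4, 1, 4, 1, 6, 7]), (845, [3, 4, 1, 0, 3, 1, 0, 3, 4, 0])],
  [(969, [5, 2, 5]), (666, []), (659, []), (657, []), (969, [2]), (969, []), (1002, []), (1032, []), (846, [3, 2, 3, 2])],
  [(715, []), (667, []), (660, []), (1032, []), (1033, []), (1033, [5, 1, 5, 4, 2, 0, 2, 0]), (658, []), (657, []), (847, [4, 3, 4, 0, 3, 0, 2, 3, 2, 0])],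
  [(716, []), (848, [0]), (661, []), (1005, []), (658, []), (1034, []), (1034, [5, 1, 5, 4, 2, 0, 2, 0]), (707, []), (1035, [])],
  [(717, []), (668, []), (1006, [4, 5, 4]), (1006, []), (1034, []), (658, []), (1033, [5, 1, 5, 4, 2, 0, 2, 0]), (972, []), (1036, [])],
  [(721, [5, 3, 1, 5, 4, 1, 4, 3, 1, 7]), (734, [3, 0, 2, 3, 2, 1, 0, 3, 1, 0]), (664, [2, 3, 1, 3, 2, 1, 6]), (1007, []), (1035, []), (1036, []), (1037, []), (662, [2, 3, 1, 3, 2, 1, 6]), (658, [])],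
  [(973, [5, 2, 5]), (670, []), (1032, []), (660, []), (1038, []), (1009, [4, 5, 4]), (1009, []), (659, []), (1039, [])],
  [(718, []), (1023, [4, 1, 5, 2, 0, 2, 0]), (1033, []), (1038, []), (660, []), (1004, [4, 1, 5, 2, 0, 2, 0]), (1006, [4, 1, 5, 2, 0, 2, 0]), (974, [2]), (1040, [])],
  [(722, [2, 3, 1, 3, 2, 1, 6]), (738, [3, 2, 0, 2, 3, 1, 0, 3, 2, 1, 0]), (1037, [4, 0, 3, 4, 3, 0]), (1039, []), (1040, []), (1012, [4, 5, 4]), (664, [5, 3, 1, 5, 4, 1, 4, 3, 1, 7]), (663, [5, 3, 1, 5, 4, 1, 4, 3, 1, 7]), (660, [])],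
  [(719, []), (854, [0]), (1034, [5, 1, 5, 4, 2, 0, 2, 0]), (1034, [4, 1, 5, 2, 0, 2, 0]), (1006, [4, 1, 5, 2, 0, 2, 0]), (1005, [4, 1, 5, 2, 0, 2, 0]), (661, []), (710, []), (1041, [])],
  [(739, [3, 4, 1, 0, 3, 1, 0, 3, 4, 0, 6]), (733, [3, 4, 1, 0, 3, 1, 0, 3, 4, 0, 6]), (663, []), (1042, []), (855, [0, 2, 0, 3, 0, 2, 0]), (855, [2, 3, 2]), (662, []), (1037, [2, 3, 1, 3, 2, 1, 6]), (855, [3, 2, 3, 2])],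
  [(856, [2, 5, 0, 3, 2, 0, 2, 3, 5, 0, 2]), (737, [3, 4, 1, 0, 3, 1, 0, 3, 4, 0, 6]), (1042, []), (663, []), (856, [0, 2, 0, 3, 0, 2, 0]), (665, []), (1016, []), (1039, [5, 3, 1, 5, 4, 1, 4, 3, 1, 7]), (867, [5, 1, 5, 4, 3, 1, 4, 3, 1, 6, 7])],
  [(720, [4, 0, 3, 4, 3, 0]), (782, [2, 3, 2, 0]), (1035, [2, 3, 1, 3, 2, 1, 6]), (1018, []), (664, []), (1018, [4, 5, 0, 3, 4, 1, 3, 1, 0, 6]), (1041, [4, 3, 4, 1, 0, 3, 1, 0, 3, 0, 6]), (711, [0, 2, 3, 1, 3, 2, 1, 0]), (857, [0, 2, 3, 1, 3, 2, 1, 0])],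
  [(976, [5, 2, 5]), (1032, []), (670, []), (667, []), (1043, []), (1044, []), (1021, []), (666, []), (1045, [])],
  [(723, []), (1046, []), (672, []), (1043, []), (667, []), (1046, [5, 1, 5, 4, 2, 0, 2, 0]), (859, [0]), (680, []), (1047, [])],
  [(724, []), (1033, [5, 1, 5, 4, 2, 0, 2, 0]), (1023, [4, 5, 4]), (1044, []), (1046, [5, 1, 5, 4, 2, 0, 2, 0]), (667, []), (668, []), (978, []), (1048, [])],
  [(740, [2, 0, 3, 1, 3, 0, 2, 1, 6]), (1037, [1, 3, 0, 2, 3, 2, 0, 3, 1, 0, 6]), (738, [2, 0, 3, 1, 3, 0, 2, 1, 6]), (1045, []), (1047, []), (1048, []), (734, [2, 0, 3, 1, 3, 0, 2, 1, 6]), (733, [2, 0, 3, 1, 3, 0, 2, 1, 6]), (667, [])],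
  [(725, [1, 3, 0, 2, 3, 2, 0, 3, 1, 0]), (1049, []), (1024, [5, 3, 4, 0, 2, 3, 2, 5, 0, 3, 0]), (1024, []), (862, [0]), (669, []), (1050, []), (862, [2, 1, 3, 2, 1]), (668, [])],
  [(726, [1, 3, 0, 2, 3, 2, 0, 3, 1, 0]), (669, []), (677, [2, 3, 1, 3, 2, 1, 6]), (1025, []), (1051, []), (1049, []), (1052, []), (676, [2, 3, 1, 3, 2, 1, 6]), (779, [0, 2, 3, 2, 0, 2, 1, 3, 2, 1, 0, 6])]]

/-- Part of a table. -/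
def lev0Mov27 : List (List (ℕ × List ℕ)) := [
  [(727, [1, 3, 0, 2, 3, 2, 0, 3, 1, 0]), (1052, []), (673, [4, 3, 4, 0, 3, 1, 0, 3, 1, 0, 6]), (1053, []), (1054, []), (1050, []), (669, []), (675, [3, 0, 2, 3, 2, 1, 0, 3, 1, 0, 6]), (784, [4, 0, 3, 1, 0, 3, 1, 4, 0, 6])],
  [(979, [5, 2, 5]), (1055, []), (1043, []), (672, []), (670, []), (1027, [4, 5, 4]), (1056, []), (683, []), (1057, [])],
  [(866, [5, 0, 2, 1, 0, 3, 0, 2, 1, 5, 0]), (1058, []), (1053, [4, 3, 4, 0, 3, 1, 0, 3, 1, 0, 6]), (673, []), (1057, []), (1028, [4, 5, 4]), (1028, [3, 1, 4, 0, 3, 4, 1, 0, 3, 0]), (671, [4, 3, 4, 0, 2, 3, 2, 0, 3, 0]), (670, [])],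
  [(867, [5, 0, 2, 0, 3, 0, 2, 5, 0]), (671, []), (1059, []), (674, []), (867, [0, 2, 0, 3, 0, 2, 0]), (678, []), (1010, [5, 1, 5, 4, 3, 1, 4, 3, 1, 6, 7]), (1058, [4, 3, 4, 0, 2, 3, 2, 0, 3, 0]), (856, [5, 1, 5, 4, 3, 1, 4, 3, 1, 6, 7])],
  [(868, [5, 0, 2, 0, 3, 0, 2, 5, 0]), (1059, []), (671, []), (675, []), (684, []), (868, [4, 3, 4]), (1031, [3, 4, 1, 0, 3, 1, 0, 3, 4, 0]), (1053, [3, 0, 2, 3, 2, 1, 0, 3, 1, 0]), (930, [3, 2, 0, 3, 1, 0, 3, 0, 2, 1, 6])],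
  [(728, []), (672, []), (1046, []), (1055, []), (1023, [4, 1, 5, 2, 0, 2, 0]), (1022, [4, 1, 5, 2, 0, 2, 0]), (869, [0]), (686, []), (980, [4, 2, 3, 4, 2])],
  [(731, [2, 3, 1, 3, 2, 1, 6]), (1060, []), (1054, [4, 3, 4, 0, 3, 1, 0, 3, 1, 0, 6]), (1057, []), (673, []), (1029, [4, 5, 4]), (870, [3, 1, 4, 0, 3, 4, 1, 0, 3]), (687, [4, 3, 4, 0, 2, 3, 2, 0, 3, 0]), (672, [])],
  [(730, [2, 3, 1, 3, 2, 1, 6]), (673, []), (1052, [4, 3, 4, 0, 3, 1, 0, 3, 1, 0, 6]), (1058, []), (1061, []), (1014, [5, 1, 0, 3, 4, 1, 5, 3, 1, 0, 7]), (677, [3, 1, 0, 3, 1, 0, 3, 0, 6]), (674, [4, 3, 4, 0, 2, 3, 2, 0, 3, 0]), (781, [4, 2, 3, 4, 2])],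
  [(747, [1, 3, 0, 2, 1, 3, 2, 0, 3, 0]), (675, []), (674, []), (1059, []), (872, [0, 2, 0, 3, 0, 2, 0]), (872, [4, 3, 4]), (676, [3, 4, 1, 0, 3, 1, 0, 3, 4, 0]), (1052, [3, 0, 2, 3, 2, 1, 0, 3, 1, 0]), (872, [3, 2, 3, 2])],
  [(729, [4, 3, 4, 0, 3, 1, 0, 3, 1, 0, 6]), (873, [3, 1, 4, 0, 3, 4, 1, 0, 3]), (1051, [2, 3, 1, 3, 2, 1, 6]), (1030, []), (677, []), (1030, [5, 3, 4, 0, 2, 3, 2, 5, 0, 3, 0]), (1062, []), (713, [2, 3, 1, 3, 2, 1, 6]), (873, [0, 2, 3, 1, 3, 2, 1, 0])],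
  [(981, [5, 2, 5]), (1063, []), (683, []), (680, []), (679, []), (1064, []), (1065, []), (1043, []), (1066, [])],
  [(982, [5, 2, 5]), (982, [2]), (875, [5, 1, 5]), (681, []), (1064, []), (679, []), (875, [4, 1, 4]), (982, []), (1067, [])],
  [(876, [3, 5, 2, 5, 0, 3, 1, 3, 1, 0, 6]), (876, [0, 2, 0, 3, 0, 2, 0]), (685, [3, 2, 3, 2, 6]), (682, []), (1066, []), (1067, []), (876, [4, 3, 1, 0, 3, 1, 0, 3, 1, 4, 0]), (684, [3, 2, 3, 2, 6]), (679, [])],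
  [(748, []), (680, []), (686, []), (1063, []), (983, [2]), (1068, []), (877, [0]), (1046, []), (983, [0, 2, 3, 2, 0, 3, 0, 6])],
  [(749, []), (1068, []), (878, [5, 1, 5]), (1064, []), (681, []), (680, []), (878, [0]), (1068, [5, 1, 5, 4, 2, 0, 2, 0]), (1069, [])],
  [(752, [5, 1, 5, 4, 3, 1, 4, 3, 1, 6, 7]), (1070, []), (687, [3, 2, 3, 2, 6]), (1066, []), (682, []), (1069, []), (879, [4, 3, 1, 0, 3, 1, 0, 3, 4]), (1054, [0, 2, 3, 2, 1, 3, 1, 0]), (680, [])],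
  [(751, [5, 1, 5, 4, 3, 1, 4, 3, 1, 6, 7]), (880, [0, 2, 0, 3, 0, 2, 0]), (880, [5, 3, 1, 5, 0, 3, 0, 2, 3, 2, 0]), (1067, []), (1069, []), (682, []), (750, [5, 1, 5, 4, 3, 1, 4, 3, 1, 6, 7]), (880, [4, 3, 4]), (681, [])],
  [(985, [5, 2, 5]), (683, []), (1063, []), (686, []), (985, [2]), (881, [5, 1, 5]), (1071, []), (1055, []), (881, [3, 2, 3, 2])],
  [(986, [5, 2, 5]), (1071, []), (1065, []), (882, [0]), (882, [4, 1, 4]), (882, [5, 1, 5]), (683, []), (1056, []), (882, [5, 1, 5, 4, 1, 4, 1, 7])],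
  [(883, [5, 0, 2, 0, 3, 0, 2, 5, 0]), (1072, []), (1066, [3, 2, 3, 2, 6]), (687, []), (685, []), (883, [5, 3, 1, 5, 0, 3, 0, 2, 3, 2, 0]), (1073, []), (1057, [4, 3, 4, 0, 2, 3, 2, 0, 3, 0]), (883, [4, 3, 4, 0, 2, 3, 2, 0, 3, 0])],
  [(753, [5, 1, 5, 4, 3, 1, 4, 3, 1, 6, 7]), (687, []), (1070, [3, 2, 3, 2, 6]), (1072, []), (884, [0, 2, 0, 3, 0, 2, 0]), (884, [5, 3, 1, 5, 0, 3, 0, 2, 3, 2, 0]), (884, [3, 1, 0, 3, 1, 0, 3]), (1060, [4, 3, 4, 0, 2, 3, 2, 0, 3, 0]), (884, [3, 2, 3, 2])],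
  [(1003, [5]), (885, [4, 1, 4]), (690, []), (987, [2]), (688, []), (987, []), (1003, []), (690, [2, 0, 2, 1, 5, 2, 0, 2, 1]), (885, [3, 2, 3, 2])],
  [(1004, [5]), (697, []), (691, []), (988, [2]), (691, [2, 0, 2, 1, 5, 2, 0, 2, 1]), (718, [4, 2, 0, 2, 5, 1, 4, 0]), (689, []), (688, []), (988, [4, 3, 4, 0, 3, 2, 3, 2, 0, 6])],
  [(1005, [5]), (887, [0]), (692, []), (707, []), (689, []), (719, [4, 2, 0, 2, 5, 1, 4, 0]), (692, [2, 0, 2, 1, 5, 2, 0, 2, 1]), (1005, []), (1074, [])],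
  [(1006, [5]), (698, []), (717, [5, 4]), (708, []), (719, [4, 2, 0, 2, 5, 1, 4, 0]), (689, []), (718, [4, 2, 0, 2, 5, 1, 4, 0]), (990, []), (1075, [])],
  [(1025, [3, 5, 0, 3, 1, 0, 3, 1, 0, 6]), (701, [0, 2, 3, 1, 3, 2, 1, 0, 6]), (700, [0, 2, 3, 1, 3, 2, 1, 0, 6]), (709, []), (1074, []), (1075, []), (1076, []), (703, [0, 2, 3, 1, 3, 2, 1, 0, 6]), (689, [])],
  [(1018, [5, 0, 3, 2, 3, 2, 0, 6]), (797, [2, 1, 3, 2, 1, 0]), (1077, []), (711, []), (693, []), (720, [5, 4]), (1077, [4, 3, 1, 4, 0, 2, 5, 2, 0, 3, 7]), (1018, [0, 2, 3, 1, 3, 2, 1, 0]), (692, [])],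
  [(1007, [3, 5, 0, 2, 3, 2, 0, 3, 0, 6]), (744, [3, 5, 0, 3, 4, 1, 3, 1, 0, 3, 6]), (693, []), (712, []), (1077, []), (1078, []), (1079, []), (694, [0, 2, 3, 1, 3, 2, 1, 0]), (794, [4, 1, 3, 1, 0, 3, 4, 1, 3, 1, 0])],
  [(1012, [3, 5, 2, 3, 2]), (743, [3, 5, 0, 3, 4, 1, 3, 1, 0, 3, 6]), (1079, []), (892, [0, 2, 1, 0, 3, 0, 2, 1, 0]), (1079, [4, 3, 1, 4, 0, 2, 5, 2, 0, 3, 7]), (722, [5, 4]), (693, []), (695, [0, 2, 3, 1, 3, 2, 1, 0]), (898, [1, 0, 3, 2, 3, 2, 1, 0, 6])],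
  [(1015, [5, 0, 3, 2, 1, 3, 2, 1, 0, 6]), (746, [5, 3, 4, 1, 3, 1]), (695, []), (893, [0, 2, 0, 3, 0, 2, 0]), (1080, []), (893, [2, 3, 2]), (694, []), (1079, [0, 2, 3, 1, 3, 2, 1, 0]), (893, [3, 2, 3, 2])],
  [(1017, [5, 0, 3, 2, 1, 3, 2, 1, 0, 6]), (894, [4, 0, 3, 1, 4, 3, 0, 6]), (1080, []), (894, [0, 2, 0, 3, 0, 2, 0]), (695, []), (696, []), (1017, []), (1080, [1, 0, 3, 0, 2, 5, 2, 0, 3, 1, 0]), (903, [3, 0, 2, 1, 3, 1, 0, 3, 2, 0, 2, 6])],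
  [(1022, [5]), (699, [2, 0, 2, 1, 5, 2, 0, 2, 1]), (699, []), (991, [2]), (697, []), (728, [4, 2, 0, 2, 5, 1, 4, 0]), (895, [0]), (895, [4, 1, 4]), (895, [3, 5, 1, 5, 4, 1, 4, 3, 1, 7])]]

/-- Part of a table. -/
def lev0Mov28 : List (List (ℕ × List ℕ)) := [
  [(1023, [5]), (718, [4, 2, 0, 2, 5, 1, 4, 0]), (724, [5, 4]), (992, [2]), (728, [4, 2, 0, 2, 5, 1, 4, 0]), (697, []), (698, []), (992, []), (896, [3, 5, 1, 5, 4, 1, 4, 3, 1, 7])],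
  [(1030, [4, 1, 3, 4, 1, 5, 3, 1, 7]), (897, [0]), (1074, [0, 2, 3, 1, 3, 2, 1, 0, 6]), (713, []), (700, []), (729, [5, 4]), (1074, [1, 3, 0, 2, 5, 2, 3, 1, 0, 3, 0, 6]), (1030, [2, 3, 1, 3, 2, 1, 6]), (797, [2, 1, 3, 2, 1])],
  [(1014, [5, 3, 0, 2, 3, 2, 1, 0, 3, 1, 0, 6]), (702, []), (1076, [0, 2, 3, 1, 3, 2, 1, 0, 6]), (898, [1, 0, 3, 2, 0, 2, 3, 1, 0]), (1076, [1, 3, 0, 2, 5, 2, 3, 1, 0, 3, 0, 6]), (730, [5, 4]), (700, []), (704, []), (892, [1, 0, 3, 2, 3, 2, 1, 0, 6])],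
  [(1024, [1, 5, 4, 1, 4, 1, 6, 7]), (1075, [0, 2, 3, 1, 3, 2, 1, 0, 6]), (725, [3, 5, 0, 3, 4, 1, 3, 1, 0, 3]), (714, []), (899, [0]), (701, []), (1081, []), (899, [2, 1, 3, 2, 1]), (899, [3, 1, 4, 0, 3, 4, 1, 0, 3, 0])],
  [(1026, [1, 5, 4, 1, 4, 1, 6, 7]), (1076, [0, 2, 3, 1, 3, 2, 1, 0, 6]), (702, []), (900, [1, 0, 3, 2, 0, 2, 3, 1, 0]), (1082, []), (1081, []), (701, []), (706, []), (900, [3, 5, 1, 5, 4, 1, 4, 3, 1, 7])],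
  [(1029, [3, 5, 2, 3, 2]), (1082, [2, 0, 2, 5, 4, 1, 4, 2, 0, 2, 6, 7]), (1082, []), (901, [1, 0, 3, 2, 0, 2, 3, 1, 0]), (702, []), (731, [5, 4]), (901, [0]), (901, [4, 3, 1, 0, 3, 1, 0, 3, 1, 4, 0]), (940, [3, 0, 2, 3, 2, 5, 4, 0, 3, 0, 6])],
  [(1013, [5, 3, 0, 2, 3, 2, 1, 0, 3, 1, 0, 6]), (706, []), (704, []), (902, [1, 0, 3, 2, 0, 2, 3, 1, 0]), (1083, []), (902, [2, 1, 3, 2, 1]), (703, []), (1076, [0, 2, 3, 1, 3, 2, 1, 0, 6]), (902, [3, 2, 3, 2, 6])],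
  [(1011, [5, 3, 0, 2, 3, 2, 1, 0, 3, 1, 0, 6]), (903, [4, 3, 1, 0, 3, 1, 0, 3, 1, 4, 0]), (1083, []), (903, [1, 0, 3, 2, 0, 2, 3, 1, 0]), (704, []), (705, []), (1011, [3, 0, 2, 1, 3, 1, 0, 3, 2, 0, 2]), (1083, [2, 0, 2, 5, 4, 1, 4, 2, 0, 2, 6, 7]), (894, [3, 0, 2, 1, 3, 1, 0, 3, 2, 0, 2])],
  [(754, []), (904, [0]), (754, [4]), (719, [4, 2, 0, 2, 5, 1, 4, 0]), (708, []), (707, []), (756, [5, 4, 2, 0, 2, 5, 1, 4, 0]), (756, [4, 2, 0, 2, 5, 1, 4, 0]), (1084, [])],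
  [(755, []), (905, [0]), (710, []), (710, [2, 0, 2, 1, 5, 2, 0, 2, 1]), (994, [2]), (756, [5, 4, 2, 0, 2, 5, 1, 4, 0]), (707, []), (1034, [5, 1, 5, 4, 2, 0, 2, 0]), (994, [4, 3, 4, 0, 3, 2, 3, 2, 0, 6])],
  [(761, [3, 5, 1, 5, 4, 1, 4, 3, 1, 6, 7]), (906, [3, 1, 4, 0, 3, 4, 1, 0, 3]), (713, [0, 2, 3, 1, 3, 2, 1, 0, 6]), (1074, []), (709, []), (1084, []), (1085, []), (1051, [0, 2, 3, 1, 3, 2, 1, 0, 6]), (707, [])],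
  [(760, [3, 5, 1, 5, 4, 1, 4, 3, 1, 6, 7]), (714, [0, 2, 3, 1, 3, 2, 1, 0, 6]), (760, [3, 4, 1, 3, 1]), (1075, []), (1084, []), (709, []), (907, [4, 0, 3, 2, 0, 2, 3, 4, 0]), (907, [2, 3, 2]), (708, [])],
  [(757, [1, 0, 3, 2, 3, 2, 1, 0]), (801, [2, 1, 3, 2, 1, 0]), (711, []), (1077, []), (712, []), (1086, []), (1087, []), (1035, [3, 1, 4, 0, 3, 4, 1, 0, 3, 0, 6]), (801, [4, 1, 3, 1, 0, 3, 4, 1, 3, 1, 0])],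
  [(758, [1, 0, 3, 2, 3, 2, 1, 0]), (803, [2, 1, 3, 2, 1, 0]), (1087, []), (1087, [4, 3, 1, 4, 0, 2, 5, 2, 0, 3, 7]), (909, [0, 2, 1, 0, 3, 0, 2, 1, 0]), (758, [4]), (711, []), (1041, [5, 3, 1, 5, 4, 1, 4, 3, 1, 7]), (911, [1, 0, 3, 2, 3, 2, 1, 0, 6])],
  [(759, [1, 0, 3, 2, 3, 2, 1, 0]), (763, [3, 2, 1, 3, 2, 0, 3, 1, 3, 0, 6]), (759, [4]), (1078, []), (1086, []), (712, []), (910, [0, 2, 1, 0, 3, 0, 2, 1, 0]), (910, [2, 1, 3, 2, 1]), (802, [4, 1, 3, 1, 0, 3, 4, 1, 3, 1, 0])],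
  [(762, [1, 3, 0, 2, 3, 2, 0, 3, 1, 0]), (911, [0]), (1085, [0, 2, 3, 1, 3, 2, 1, 0, 6]), (1085, [1, 3, 0, 2, 5, 2, 3, 1, 0, 3, 0, 6]), (911, [1, 0, 3, 2, 0, 2, 3, 1, 0]), (762, [4]), (713, []), (1062, [2, 3, 1, 3, 2, 1, 6]), (909, [1, 0, 3, 2, 3, 2, 1, 0, 6])],
  [(1033, []), (724, [5, 1, 5, 4, 2, 0, 2, 0]), (718, []), (997, [5, 2, 5]), (715, []), (715, [5, 1, 5, 4, 2, 0, 2, 0]), (717, [5, 1, 5, 4, 2, 0, 2, 0]), (997, [2]), (912, [4, 1, 5, 3, 1, 5, 4, 3, 1, 6, 7])],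
  [(1034, []), (913, [0]), (719, [5, 1, 5, 4, 2, 0, 2, 0]), (754, [5]), (717, []), (716, []), (716, [5, 1, 5, 4, 2, 0, 2, 0]), (755, [5, 1, 5, 4, 2, 0, 2, 0]), (998, [0, 3, 2, 1, 3, 2, 0, 3, 1])],
  [(1062, [5, 1, 5, 4, 1, 4, 1, 6, 7]), (914, [3, 1, 4, 0, 3, 4, 1, 0, 3]), (1088, []), (1084, [4, 1, 5, 4, 2, 0, 2, 0]), (1075, [4, 1, 5, 4, 2, 0, 2, 0]), (1074, [4, 1, 5, 4, 2, 0, 2, 0]), (729, [0, 2, 3, 1, 3, 2, 1, 0, 6]), (762, [2, 1, 3, 1, 0, 3, 2, 0, 2, 3, 0]), (719, [])],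
  [(1035, [5, 3, 1, 5, 4, 1, 4, 3, 1, 7]), (808, [4, 2, 3, 4, 2, 0]), (720, []), (757, [5]), (721, []), (1089, []), (1089, [3, 1, 3, 4, 3, 0, 2, 1, 0, 3, 7]), (757, [0, 3, 2, 1, 3, 2, 1, 0, 6]), (923, [3, 2, 1, 3, 2, 1])],
  [(1041, [3, 1, 4, 0, 3, 4, 1, 0, 3, 0, 6]), (811, [4, 2, 3, 4, 2, 0]), (1089, [3, 1, 3, 4, 3, 0, 2, 1, 0, 3, 7]), (1086, [4, 3, 5, 1, 4, 0, 2, 1, 0, 3, 7]), (1078, [4, 3, 5, 1, 4, 0, 2, 1, 0, 3, 7]), (1077, [4, 3, 5, 1, 4, 0, 2, 1, 0, 3, 7]), (720, []), (758, [0, 3, 2, 1, 3, 2, 1, 0, 6]), (811, [2, 0, 3, 1, 0, 3, 0, 2, 1, 6])],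
  [(1036, [5, 3, 1, 5, 4, 1, 4, 3, 1, 7]), (741, [3, 0, 2, 1, 3, 2, 1, 0, 3, 0, 6]), (1078, [4, 5]), (759, [5]), (1089, []), (721, []), (1090, []), (917, [4, 2, 3, 4, 2]), (921, [3, 2, 1, 3, 2, 1])],
  [(1037, [5, 3, 1, 5, 4, 1, 4, 3, 1, 7]), (740, [3, 0, 2, 1, 3, 2, 1, 0, 3, 0, 6]), (722, []), (918, [5, 1, 0, 3, 2, 0, 2, 3, 1, 5, 0]), (1090, [3, 1, 3, 4, 3, 0, 2, 1, 0, 3, 7]), (1090, []), (721, []), (739, [3, 0, 2, 1, 3, 2, 1, 0, 3, 0, 6]), (918, [4, 1, 5, 3, 1, 5, 4, 3, 1, 6, 7])],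
  [(1040, [2, 3, 1, 3, 2, 1, 6]), (1091, []), (1090, [3, 1, 3, 4, 3, 0, 2, 1, 0, 3, 7]), (919, [5, 1, 0, 3, 2, 0, 2, 3, 1, 5, 0]), (722, []), (1079, [4, 3, 5, 1, 4, 0, 2, 1, 0, 3, 7]), (1078, [4, 3, 5, 1, 4, 0, 2, 1, 0, 3, 7]), (919, [4, 0, 2, 0, 3, 4, 0, 2, 0]), (926, [0, 2, 3, 1, 3, 2, 1, 0, 6])],
  [(1046, []), (723, []), (728, []), (999, [5, 2, 5]), (724, [5, 1, 5, 4, 2, 0, 2, 0]), (723, [5, 1, 5, 4, 2, 0, 2, 0]), (920, [0]), (748, []), (999, [0, 2, 3, 2, 0, 2, 1, 3, 2, 1, 0, 6])],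
  [(1049, [1, 3, 0, 2, 3, 2, 0, 3, 1, 0]), (725, []), (1075, [1, 3, 1, 4, 3, 5]), (760, [5]), (1088, [3, 1, 4, 3, 2, 0, 2, 1, 0, 6, 7]), (726, []), (1092, []), (921, [1, 3, 1]), (917, [3, 2, 1, 3, 2, 1])],
  [(1050, [1, 3, 0, 2, 3, 2, 0, 3, 1, 0]), (1092, []), (1081, [3, 1, 0, 3, 1, 4, 3, 5, 0, 3]), (922, [0, 3, 5, 2, 0, 2, 5, 3, 0]), (1093, []), (727, []), (725, []), (922, [1, 3, 1]), (937, [2, 1, 3, 2, 0, 3, 1, 0, 3, 0, 6])],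
  [(1051, [1, 3, 0, 2, 3, 2, 0, 3, 1, 0]), (923, [0]), (729, [3, 0, 2, 1, 3, 2, 1, 0, 3, 0]), (761, [5]), (726, []), (1088, [3, 1, 4, 3, 2, 0, 2, 1, 0, 6, 7]), (1088, [2, 1, 3, 1, 0, 3, 2, 0, 2, 3, 0, 6]), (761, [3, 0, 2, 1, 3, 2, 1, 0, 3, 0]), (915, [3, 2, 1, 3, 2, 1])],
  [(1052, [1, 3, 0, 2, 3, 2, 0, 3, 1, 0]), (727, []), (730, [3, 0, 2, 1, 3, 2, 1, 0, 3, 0]), (924, [0, 3, 5, 2, 0, 2, 5, 3, 0]), (1092, [3, 1, 4, 0, 2, 1, 0, 3, 6, 7]), (1092, []), (726, []), (747, [3, 0, 2, 1, 3, 2, 1, 0, 3, 0]), (924, [4, 1, 5, 3, 1, 5, 4, 3, 1, 6, 7])],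
  [(1054, [1, 3, 0, 2, 3, 2, 0, 3, 1, 0]), (1093, [3, 1, 4, 0, 2, 1, 0, 3, 6, 7]), (731, [3, 0, 2, 1, 3, 2, 1, 0, 3, 0]), (925, [0, 3, 5, 2, 0, 2, 5, 3, 0]), (727, []), (1093, []), (925, [0]), (752, [3, 1, 0, 3, 1, 0, 3, 0]), (936, [2, 1, 3, 2, 0, 3, 1, 0, 3, 0, 6])],
  [(1061, [2, 3, 1, 3, 2, 1, 6]), (1081, [4, 5, 1, 4, 2, 0, 2, 1, 0, 6, 7]), (1092, [3, 1, 4, 0, 3, 2, 1, 0, 3, 0, 6, 7]), (926, [5, 0, 2, 1, 0, 3, 0, 2, 1, 5, 0]), (730, []), (1076, [4, 0, 3, 5, 1, 4, 2, 3, 0, 2, 1, 6, 7]), (1075, [4, 0, 3, 5, 1, 4, 2, 3, 0, 2, 1, 6, 7]), (926, [4, 0, 3, 2, 0, 2, 3, 4, 0]), (919, [0, 2, 3, 1, 3, 2, 1, 0, 6])],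
  [(1060, [2, 3, 1, 3, 2, 1, 6]), (731, []), (1093, [3, 1, 4, 0, 3, 2, 1, 0, 3, 0, 6, 7]), (927, [5, 0, 2, 1, 0, 3, 0, 2, 1, 5, 0]), (1081, [4, 5, 1, 4, 2, 0, 2, 1, 0, 6, 7]), (1082, [4, 5, 1, 4, 2, 0, 2, 1, 0, 6, 7]), (927, [0]), (753, [3, 4, 0, 3, 4, 0, 2, 3, 2, 0]), (927, [2, 3, 1, 3, 2, 1])]]

/-- Part of a table. -/
def lev0Mov29 : List (List (ℕ × List ℕ)) := [
  [(746, [4, 3, 1, 5, 1, 4, 3, 1, 6, 7]), (1015, [3, 4, 1, 0, 3, 1, 0, 3, 4, 0, 6]), (735, []), (1094, []), (928, [4, 0, 3, 1, 4, 3, 0, 6]), (928, [1, 3, 1]), (732, []), (1095, []), (928, [2, 3, 2, 1, 3, 1])],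
  [(744, [4, 3, 1, 5, 1, 4, 3, 1, 6, 7]), (1007, [3, 0, 2, 3, 2, 1, 0, 3, 1, 0, 6]), (736, []), (734, []), (775, [1, 3, 0, 2, 3, 2, 1, 3]), (1096, []), (1095, []), (732, []), (775, [3, 1, 0, 3, 2, 3, 2, 1, 0, 6])],
  [(930, [5, 0, 2, 0, 3, 0, 2, 5, 0]), (1042, [3, 4, 1, 0, 3, 1, 0, 3, 4, 0, 6]), (737, []), (733, []), (764, [1, 3, 0, 2, 3, 2, 1, 3]), (930, [1, 3, 1]), (1094, []), (1045, [2, 0, 3, 1, 3, 0, 2, 1, 6]), (868, [3, 2, 0, 3, 1, 0, 3, 0, 2, 1])],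
  [(741, []), (1036, [3, 0, 2, 3, 2, 1, 0, 3, 1, 0, 6]), (1096, [4, 3, 1, 5, 1, 4, 3, 1, 6, 7]), (1096, []), (785, [1, 3, 0, 2, 3, 2, 1, 3]), (734, []), (1048, [2, 0, 3, 1, 3, 0, 2, 1, 6]), (931, [1, 3, 1]), (785, [3, 1, 0, 3, 2, 3, 2, 1, 0, 6])],
  [(932, [5, 0, 2, 0, 3, 0, 2, 5, 0]), (1016, [3, 4, 1, 0, 3, 1, 0, 3, 4, 0, 6]), (1094, []), (735, []), (932, [4, 0, 3, 1, 4, 3, 0, 6]), (745, []), (737, []), (1097, []), (932, [3, 4, 1, 0, 3, 1, 0, 3, 4, 0])],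
  [(743, [4, 3, 1, 5, 1, 4, 3, 1, 6, 7]), (1012, [3, 0, 2, 3, 2, 0, 3, 0, 6]), (1095, []), (1097, []), (1098, []), (738, [4, 3, 1, 5, 1, 4, 3, 1, 6, 7]), (736, []), (735, []), (777, [1, 3, 1, 0, 3, 2, 3, 2, 0])],
  [(934, [5, 0, 2, 0, 3, 0, 2, 5, 0]), (1039, [3, 2, 0, 2, 3, 1, 0, 3, 2, 1, 0, 6]), (1045, [2, 0, 3, 1, 3, 0, 2, 1, 6]), (738, []), (1099, []), (1097, [4, 3, 1, 5, 1, 4, 3, 1, 6, 7]), (1097, []), (737, []), (786, [4, 3, 1, 0, 3, 1, 4, 3, 0])],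
  [(742, []), (1100, []), (1047, [2, 0, 3, 1, 3, 0, 2, 1, 6]), (1099, []), (738, []), (1098, [4, 3, 1, 5, 1, 4, 3, 1, 6, 7]), (787, [1, 3, 0, 2, 3, 2, 1, 3]), (768, [1, 3, 0, 2, 3, 2, 1, 3]), (787, [4, 3, 1, 0, 3, 1, 4, 3, 0])],
  [(1047, [2, 0, 3, 1, 3, 0, 2, 1, 6]), (1101, []), (742, []), (936, [5, 0, 2, 0, 3, 0, 2, 5, 0]), (740, []), (1101, [1, 3, 4, 3, 2, 0, 2, 1, 0, 7]), (812, [1, 3, 0, 2, 3, 2, 1, 3]), (804, [1, 3, 0, 2, 3, 2, 1, 3]), (925, [2, 1, 3, 2, 0, 3, 1, 0, 3, 0])],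
  [(1048, [2, 0, 3, 1, 3, 0, 2, 1, 6]), (1090, [3, 0, 2, 1, 3, 2, 1, 0, 3, 0, 6]), (1091, [3, 2, 1, 0, 3, 4, 1, 0, 3, 2, 0, 6, 7]), (937, [5, 0, 2, 0, 3, 0, 2, 5, 0]), (1101, [1, 3, 4, 3, 2, 0, 2, 1, 0, 7]), (740, []), (741, []), (937, [1, 3, 1]), (922, [2, 1, 3, 2, 0, 3, 1, 0, 3, 0])],
  [(1096, [4, 3, 1, 5, 1, 4, 3, 1, 6, 7]), (1078, [3, 1, 0, 3, 1, 4, 3, 5, 0, 3, 6]), (741, []), (763, [3, 1, 4, 1, 5, 3, 1, 6, 7]), (799, [4, 5, 1, 3, 0, 2, 3, 2, 1, 3]), (744, []), (1091, [3, 2, 1, 0, 3, 4, 1, 0, 3, 2, 0, 6, 7]), (938, [1, 3, 1]), (938, [3, 0, 2, 1, 3, 2, 1, 0, 3, 0])],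
  [(1100, []), (742, []), (1101, []), (939, [5, 0, 2, 0, 3, 0, 2, 5, 0]), (1091, [3, 0, 2, 1, 3, 2, 1, 0, 3, 0, 6]), (1102, []), (814, [1, 3, 0, 2, 3, 2, 1, 3]), (806, [1, 3, 0, 2, 3, 2, 1, 3]), (939, [2, 3, 1, 3, 2, 1, 6])],
  [(1098, [4, 3, 1, 5, 1, 4, 3, 1, 6, 7]), (1102, []), (1102, [1, 3, 4, 3, 2, 0, 2, 1, 0, 7]), (940, [5, 0, 2, 0, 3, 0, 2, 5, 0]), (743, []), (742, []), (800, [4, 5, 1, 3, 0, 2, 3, 2, 1, 3]), (940, [4, 0, 3, 1, 4, 1, 3, 0, 6, 7]), (901, [4, 5, 3, 0, 2, 3, 2, 0, 3, 0, 6])],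
  [(1095, [4, 3, 1, 5, 1, 4, 3, 1, 6, 7]), (1079, [3, 1, 0, 3, 1, 4, 3, 5, 0, 3, 6]), (743, []), (941, [5, 0, 2, 0, 3, 0, 2, 5, 0]), (1102, [1, 3, 4, 3, 2, 0, 2, 1, 0, 7]), (1091, [3, 2, 1, 0, 3, 4, 1, 0, 3, 2, 0, 6, 7]), (744, []), (746, []), (941, [5, 1, 5, 3, 4, 1, 4, 3, 1, 7])],
  [(1068, []), (749, []), (942, [5, 1, 5]), (1000, [5, 2, 5]), (1000, [2]), (748, []), (942, [0]), (749, [5, 1, 5, 4, 2, 0, 2, 0]), (942, [5, 1, 5, 4, 3, 1, 4, 3, 1, 7])],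
  [(1069, [5, 1, 5, 4, 3, 1, 4, 3, 1, 6, 7]), (1103, []), (943, [3, 5, 1, 5, 0, 3, 0, 2, 3, 2, 0]), (943, [3, 5, 2, 5, 0, 3, 1, 3, 1, 0, 6]), (751, []), (752, []), (943, [0]), (1103, [1, 4, 2, 0, 2, 1, 0, 6, 7]), (996, [1, 0, 3, 1, 0, 3, 6])],
  [(1070, [5, 1, 5, 4, 3, 1, 4, 3, 1, 6, 7]), (752, []), (753, [3, 2, 3, 2, 6]), (944, [3, 5, 2, 5, 0, 3, 1, 3, 1, 0, 6]), (944, [0, 2, 0, 3, 0, 2, 0]), (1103, []), (944, [0]), (1093, [3, 1, 4, 0, 2, 3, 1, 0, 3, 0, 6, 7]), (944, [5, 1, 5, 4, 3, 1, 4, 3, 1, 7])],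
  [(756, [5, 4, 2, 0, 2, 5, 1, 4, 0]), (945, [0]), (756, [5, 4, 2, 0, 2, 5, 1, 0]), (755, [5, 4, 2, 0, 2, 5, 1, 0]), (1001, [2]), (755, []), (754, []), (754, [5, 1, 5, 4, 2, 0, 2, 0]), (945, [3, 5, 1, 5, 4, 1, 4, 3, 1, 7])],
  [(1086, [1, 0, 3, 2, 3, 2, 1, 0]), (817, [1, 3, 1, 0]), (1086, [4]), (1089, [5]), (759, []), (757, []), (1104, []), (1104, [3, 5, 1, 5, 4, 3, 2, 0, 2, 0]), (949, [3, 2, 1, 3, 2, 1])],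
  [(1087, [1, 0, 3, 2, 3, 2, 1, 0]), (818, [1, 3, 1, 0]), (758, []), (1104, [4, 3, 0, 2, 5, 4, 2, 1, 0, 3, 7]), (947, [1, 0, 3, 2, 0, 2, 3, 1, 0]), (1104, []), (757, []), (1089, [1, 0, 3, 4, 0, 2, 1, 0, 3, 0, 6, 7]), (947, [3, 5, 1, 5, 4, 1, 4, 3, 1, 7])],
  [(1104, [2, 0, 2, 5, 3, 4, 0, 3, 2, 1, 0, 3, 7]), (819, [1, 3, 1, 0]), (1104, [4, 3, 0, 2, 5, 4, 2, 1, 0, 3, 7]), (758, []), (948, [1, 0, 3, 2, 0, 2, 3, 1, 0]), (1087, [3, 0, 2, 5, 4, 2, 1, 0, 3, 7]), (1086, [3, 0, 2, 5, 4, 2, 1, 0, 3, 7]), (1086, [4, 5, 1, 0, 3, 4, 0, 2, 1, 0, 3, 0, 6, 7]), (951, [1, 0, 3, 2, 3, 2, 1, 0, 6])],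
  [(1084, [3, 5, 1, 5, 4, 1, 4, 3, 1, 6, 7]), (949, [0]), (1084, [1, 3, 1, 4, 3]), (1088, [3, 1, 4, 3, 2, 0, 2, 1, 5, 0, 6, 7]), (760, []), (761, []), (1105, []), (1105, [1, 4, 2, 0, 2, 1, 0, 6, 7]), (946, [3, 2, 1, 3, 2, 1])],
  [(1085, [3, 5, 1, 5, 4, 1, 4, 3, 1, 6, 7]), (950, [0]), (762, [3, 0, 2, 1, 3, 2, 1, 0, 3, 0]), (1105, [3, 4, 0, 2, 5, 4, 2, 1, 0, 3, 6, 7]), (950, [4, 0, 3, 2, 0, 2, 3, 4, 0]), (1105, []), (761, []), (1088, [0, 2, 3, 1, 3, 2, 1, 0, 6]), (950, [3, 5, 1, 5, 4, 1, 4, 3, 1, 7])],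
  [(1105, [3, 0, 2, 1, 5, 2, 3, 1, 4, 0, 3, 0]), (951, [0]), (1105, [3, 4, 0, 2, 5, 4, 3, 2, 1, 0, 3, 0, 6, 7]), (762, []), (951, [0, 2, 1, 0, 3, 0, 2, 1, 0]), (1085, [1, 3, 0, 2, 5, 2, 3, 1, 0, 3, 4, 0, 6]), (1084, [1, 3, 0, 2, 5, 2, 3, 1, 0, 3, 4, 0, 6]), (1084, [1, 4, 3, 5, 1, 4, 0, 2, 0, 3, 6, 7]), (948, [1, 0, 3, 2, 3, 2, 1, 0, 6])],
  [(952, [5, 2, 0, 2, 5]), (952, [2, 0, 2]), (767, []), (765, []), (1106, []), (1107, []), (952, [4, 1, 4]), (764, []), (788, [4, 1, 3, 1, 0, 3, 4, 6])],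
  [(804, []), (1108, []), (768, []), (1106, []), (765, []), (1109, []), (789, []), (1047, [4, 1, 3, 1, 0, 3, 4, 0, 6]), (789, [4, 1, 3, 1, 0, 3, 4, 6])],
  [(805, []), (954, [2, 0, 2]), (954, [5, 1, 5]), (1107, []), (1109, []), (765, []), (766, []), (954, [0]), (790, [4, 1, 3, 1, 0, 3, 4, 6])],
  [(955, [5, 2, 0, 2, 5]), (1110, []), (1106, []), (768, []), (767, []), (955, [5, 1, 5]), (1111, []), (1099, [3, 2, 1, 3, 2, 0, 3, 1]), (955, [3, 4, 0, 3, 4, 0, 2, 3, 2, 0, 6])],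
  [(806, []), (768, []), (1108, []), (1110, []), (956, [2, 0, 2]), (956, [5, 1, 5]), (792, []), (1100, [3, 2, 1, 3, 2, 0, 3, 1]), (956, [3, 0, 2, 3, 2, 0, 3, 0])],
  [(793, [5]), (774, []), (770, []), (1112, []), (1113, []), (820, []), (769, []), (1114, []), (820, [3])],
  [(794, [5]), (775, []), (771, []), (779, []), (1115, []), (1116, []), (1114, []), (769, []), (1025, [4, 1, 3, 1, 0, 3, 4, 1, 3, 1, 0])],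
  [(822, [5, 2, 5]), (776, []), (1112, []), (770, []), (1117, []), (772, []), (780, []), (1118, []), (1016, [0, 3, 0, 2, 3, 2, 0, 6])]]

/-- Part of a table. -/
def lev0Mov30 : List (List (ℕ × List ℕ)) := [
  [(795, [5]), (960, [4, 1, 4]), (1113, []), (1117, []), (770, []), (773, []), (795, []), (1113, [0, 2, 1, 5, 2, 1, 0]), (1017, [0, 3, 0, 2, 3, 2, 0, 6])],
  [(796, [5]), (777, []), (1114, []), (1118, []), (1114, [0, 2, 1, 5, 2, 1, 0]), (781, [4, 5, 4]), (771, []), (770, []), (1014, [4, 0, 3, 1, 0, 3, 1, 4, 0, 6])],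
  [(797, [5]), (1018, [0, 2, 3, 2]), (1115, []), (782, []), (771, []), (782, [4, 5, 4]), (1115, [0, 2, 1, 5, 2, 1, 0]), (797, []), (962, [3, 1, 4, 0, 3, 4, 1, 0, 3, 0])],
  [(830, [5, 2, 5]), (963, [4, 1, 4]), (830, []), (773, []), (772, []), (1117, []), (830, [2]), (830, [4, 5, 2, 5, 4]), (1020, [0, 3, 0, 2, 3, 2, 0, 6])],
  [(835, [5, 2, 5]), (1112, []), (776, []), (774, []), (964, [4, 1, 4]), (835, []), (783, []), (1119, []), (964, [2, 3, 2, 1, 3, 1, 6])],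
  [(798, [5]), (1114, []), (777, []), (1119, []), (1120, []), (1121, []), (775, []), (774, []), (836, [4, 1, 0, 3, 1, 0, 3, 4, 0, 6])],
  [(799, [5]), (1116, []), (785, [4, 5, 4]), (785, []), (1096, [3, 2, 1, 3, 2, 0, 3, 1]), (775, []), (1121, []), (837, []), (1096, [4, 0, 2, 3, 4, 2, 0, 3, 0])],
  [(839, [5, 2, 5]), (1118, []), (1119, []), (777, []), (1122, []), (786, [4, 5, 4]), (786, []), (776, []), (1097, [0, 3, 2, 3, 2, 1, 0, 3, 1])],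
  [(800, [5]), (1120, [0, 2, 1, 5, 2, 1, 0]), (1120, []), (1122, []), (777, []), (787, [4, 5, 4]), (1098, [3, 2, 1, 3, 2, 0, 3, 1]), (968, [4, 1, 4]), (1098, [0, 3, 2, 3, 2, 1, 0, 3, 1])],
  [(846, [5, 2, 5]), (783, []), (780, []), (778, []), (846, [2]), (846, []), (1112, []), (1123, []), (969, [3, 2, 3, 2])],
  [(807, []), (784, []), (781, []), (1123, []), (1124, []), (1124, [5, 1, 5, 4, 0, 2, 0]), (779, []), (778, []), (970, [4, 3, 4, 0, 2, 3, 2, 0, 3, 0])],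
  [(808, []), (1035, [2, 1, 3, 2, 0, 2, 1, 3, 2, 0, 6]), (782, []), (1115, []), (779, []), (1125, []), (1125, [5, 1, 5, 4, 0, 2, 0]), (801, []), (1051, [4, 1, 3, 1, 0, 3, 4, 1, 3, 1, 0])],
  [(809, []), (785, []), (1116, [4, 5, 4]), (1116, []), (1125, []), (779, []), (1124, [5, 1, 5, 4, 0, 2, 0]), (849, []), (1049, [4, 1, 3, 1, 0, 3, 4, 1, 3, 1, 0])],
  [(851, [5, 2, 5]), (786, []), (1123, []), (781, []), (1126, []), (1118, [4, 5, 4]), (1118, []), (780, []), (1058, [4, 2, 3, 4, 2])],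
  [(810, []), (1121, [4, 1, 5, 0, 2, 0]), (1124, []), (1126, []), (781, []), (1114, [4, 1, 5, 0, 2, 0]), (1116, [4, 1, 5, 0, 2, 0]), (852, [2]), (1061, [4, 2, 3, 4, 2])],
  [(811, []), (1041, [5, 1, 3, 0, 2, 3, 2, 1, 5, 0, 6]), (1125, [5, 1, 5, 4, 0, 2, 0]), (1125, [4, 1, 5, 0, 2, 0]), (1116, [4, 1, 5, 0, 2, 0]), (1115, [4, 1, 5, 0, 2, 0]), (782, []), (803, []), (1062, [4, 1, 3, 5, 1, 5, 4, 1, 6, 7])],
  [(858, [5, 2, 5]), (1123, []), (786, []), (784, []), (1127, []), (1128, []), (1119, []), (783, []), (1053, [4, 1, 0, 3, 1, 0, 3, 4, 0, 6])],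
  [(812, []), (1129, []), (787, []), (1127, []), (784, []), (1129, [5, 1, 5, 4, 0, 2, 0]), (1047, [4, 1, 3, 1, 0, 3, 4, 0, 6]), (789, []), (1054, [4, 1, 0, 3, 1, 0, 3, 4, 0, 6])],
  [(813, []), (1124, [5, 1, 5, 4, 0, 2, 0]), (1121, [4, 5, 4]), (1128, []), (1129, [5, 1, 5, 4, 0, 2, 0]), (784, []), (785, []), (860, []), (1050, [4, 1, 0, 3, 1, 0, 3, 4, 0, 6])],
  [(865, [5, 2, 5]), (1130, []), (1127, []), (787, []), (786, []), (1122, [4, 5, 4]), (1131, []), (791, []), (1099, [0, 3, 4, 1, 3, 1, 0, 3, 4])],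
  [(814, []), (787, []), (1129, []), (1130, []), (1121, [4, 1, 5, 0, 2, 0]), (1120, [4, 1, 5, 0, 2, 0]), (1100, [3, 2, 1, 3, 2, 0, 3, 1]), (792, []), (869, [4, 2, 3, 4, 2])],
  [(874, [5, 2, 5]), (1132, []), (791, []), (789, []), (788, []), (1133, []), (1134, []), (1127, []), (1106, [4, 3, 1, 0, 3, 1, 4, 6])],
  [(875, [5, 2, 5]), (875, [2]), (982, [5, 1, 5]), (790, []), (1133, []), (788, []), (982, [4, 1, 4]), (875, []), (1107, [4, 3, 1, 0, 3, 1, 4, 6])],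
  [(815, []), (789, []), (792, []), (1132, []), (877, [2]), (1135, []), (1108, []), (1129, []), (877, [0, 3, 0, 2, 3, 2, 0, 6])],
  [(816, []), (1135, []), (984, [5, 1, 5]), (1133, []), (790, []), (789, []), (1109, []), (1135, [5, 1, 5, 4, 0, 2, 0]), (1109, [4, 3, 1, 0, 3, 1, 4, 6])],
  [(881, [5, 2, 5]), (791, []), (1132, []), (792, []), (881, [2]), (985, [5, 1, 5]), (1136, []), (1130, []), (985, [3, 2, 3, 2])],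
  [(882, [5, 2, 5]), (1136, []), (1134, []), (1111, []), (986, [4, 1, 4]), (986, [5, 1, 5]), (791, []), (1131, []), (986, [4, 0, 3, 4, 3, 0, 6])],
  [(1113, [5]), (987, [4, 1, 4]), (795, []), (885, [2]), (793, []), (885, []), (1113, []), (795, [0, 2, 1, 5, 2, 1, 0]), (987, [3, 2, 3, 2])],
  [(1114, [5]), (798, []), (796, []), (886, [2]), (796, [0, 2, 1, 5, 2, 1, 0]), (810, [4, 0, 2, 5, 1, 4, 0]), (794, []), (793, []), (886, [4, 0, 2, 3, 2, 0, 3, 4, 0, 6])],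
  [(1115, [5]), (1077, [0, 2, 1, 3, 2, 1]), (797, []), (801, []), (794, []), (811, [4, 0, 2, 5, 1, 4, 0]), (797, [0, 2, 1, 5, 2, 1, 0]), (1115, []), (1077, [0, 2, 3, 2, 0, 2, 1, 3, 2, 1, 0, 6])],
  [(1116, [5]), (799, []), (809, [5, 4]), (802, []), (811, [4, 0, 2, 5, 1, 4, 0]), (794, []), (810, [4, 0, 2, 5, 1, 4, 0]), (888, []), (1078, [0, 2, 3, 2, 0, 2, 1, 3, 2, 1, 0, 6])],
  [(1120, [5]), (800, [0, 2, 1, 5, 2, 1, 0]), (800, []), (895, [2]), (798, []), (814, [4, 0, 2, 5, 1, 4, 0]), (1102, [4, 3, 2, 1, 0, 3, 0, 2, 5, 4, 1, 6, 7]), (991, [4, 1, 4]), (991, [5, 3, 1, 5, 4, 1, 4, 3, 1, 6, 7])]]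

/-- Part of a table. -/
def lev0Mov31 : List (List (ℕ × List ℕ)) := [
  [(1121, [5]), (810, [4, 0, 2, 5, 1, 4, 0]), (813, [5, 4]), (896, [2]), (814, [4, 0, 2, 5, 1, 4, 0]), (798, []), (799, []), (896, []), (992, [5, 3, 1, 5, 4, 1, 4, 3, 1, 6, 7])],
  [(817, []), (1086, [0, 2, 1, 3, 2, 1]), (817, [4]), (811, [4, 0, 2, 5, 1, 4, 0]), (802, []), (801, []), (819, [4, 0, 2, 1, 5, 2, 1, 0]), (819, [4, 0, 2, 5, 1, 4, 0]), (1086, [0, 2, 3, 2, 0, 2, 1, 3, 2, 1, 0, 6])],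
  [(818, []), (1087, [0, 2, 1, 3, 2, 1]), (803, []), (803, [0, 2, 1, 5, 2, 1, 0]), (905, [2]), (819, [4, 0, 2, 1, 5, 2, 1, 0]), (801, []), (1125, [5, 1, 5, 4, 0, 2, 0]), (905, [4, 0, 2, 3, 2, 0, 3, 4, 0, 6])],
  [(1108, []), (804, []), (806, []), (995, [5, 2, 0, 2, 5]), (995, [2, 0, 2]), (1137, []), (815, []), (1101, [3, 2, 1, 3, 2, 0, 3, 1]), (995, [4, 3, 1, 0, 3, 1, 4, 0, 3, 0])],
  [(1109, []), (1137, []), (996, [5, 1, 5]), (996, [5, 2, 0, 2, 5]), (805, []), (804, []), (816, []), (1137, [5, 1, 5, 4, 0, 2, 0]), (943, [3, 1, 0, 3, 1, 0, 6])],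
  [(1124, []), (813, [5, 1, 5, 4, 0, 2, 0]), (810, []), (912, [5, 2, 5]), (807, []), (807, [5, 1, 5, 4, 0, 2, 0]), (809, [5, 1, 5, 4, 0, 2, 0]), (912, [2]), (997, [4, 1, 3, 5, 1, 5, 4, 3, 1, 7])],
  [(1125, []), (1089, [4, 0, 2, 3, 4, 2]), (811, [5, 1, 5, 4, 0, 2, 0]), (817, [5]), (809, []), (808, []), (808, [5, 1, 5, 4, 0, 2, 0]), (818, [5, 1, 5, 4, 0, 2, 0]), (913, [1, 3, 0, 2, 3, 2, 1, 3, 0])],
  [(1129, []), (812, []), (814, []), (920, [5, 2, 5]), (813, [5, 1, 5, 4, 0, 2, 0]), (812, [5, 1, 5, 4, 0, 2, 0]), (1101, [3, 2, 1, 3, 2, 0, 3, 1]), (815, []), (920, [4, 1, 3, 1, 0, 3, 4, 1, 3, 1, 0])],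
  [(1135, []), (816, []), (1000, [5, 1, 5]), (942, [5, 2, 5]), (942, [2]), (815, []), (1137, []), (816, [5, 1, 5, 4, 0, 2, 0]), (1000, [5, 1, 5, 3, 4, 1, 4, 3, 1, 6, 7])],
  [(819, [4, 0, 2, 1, 5, 2, 1, 0]), (1104, [1, 0, 3, 1]), (819, [5, 4, 0, 2, 5, 1, 0]), (818, [5, 4, 0, 2, 5, 1, 0]), (945, [2]), (818, []), (817, []), (817, [5, 1, 5, 4, 0, 2, 0]), (1001, [5, 3, 1, 5, 4, 1, 4, 3, 1, 6, 7])],
  [(1112, [5, 2, 5]), (835, []), (822, []), (820, []), (1138, []), (1112, []), (846, []), (1139, []), (1112, [3])],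
  [(885, [5]), (1003, [4, 1, 4]), (823, []), (1138, []), (820, []), (1113, []), (885, []), (823, [2, 0, 2, 1, 5, 2, 0, 2, 1]), (1113, [3])],
  [(886, [5]), (836, []), (824, []), (1139, []), (824, [2, 0, 2, 1, 5, 2, 0, 2, 1]), (852, [2, 0, 2, 5, 1, 4, 0]), (821, []), (820, []), (1140, [])],
  [(887, [5]), (1005, [0]), (826, []), (848, []), (821, []), (854, [2, 0, 2, 5, 1, 4, 0]), (826, [2, 0, 2, 1, 5, 2, 0, 2, 1]), (887, []), (1141, [])],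
  [(888, [5]), (837, []), (849, [4, 5, 4]), (849, []), (854, [2, 0, 2, 5, 1, 4, 0]), (821, []), (852, [2, 0, 2, 5, 1, 4, 0]), (1116, []), (1142, [])],
  [(891, [3, 5, 1, 0, 3, 1, 0, 3, 0, 6]), (929, [3, 0, 2, 3, 2, 1, 0, 3, 1, 0]), (829, [2, 3, 1, 3, 2, 1, 6]), (850, []), (1141, []), (1142, []), (1140, [4, 3, 4, 0, 3, 0, 2, 3, 2, 0]), (827, [2, 3, 1, 3, 2, 1, 6]), (821, [])],
  [(1117, [5, 2, 5]), (1008, [4, 1, 4]), (1138, []), (823, []), (822, []), (830, []), (1117, [2]), (1138, [2, 0, 2, 1, 5, 2, 0, 2, 1]), (1143, [])],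
  [(1118, [5, 2, 5]), (839, []), (1139, []), (824, []), (1139, [2, 0, 2, 1, 5, 2, 0, 2, 1]), (851, [4, 5, 4]), (851, []), (822, []), (1144, [])],
  [(1010, [5, 0, 2, 0, 3, 0, 2, 5, 0]), (845, [0, 3, 2, 1, 3, 2, 1, 0]), (1145, []), (825, []), (1143, []), (831, []), (867, [5, 1, 5, 4, 3, 1, 4, 3, 1, 6, 7]), (1146, []), (822, [])],
  [(903, [5, 3, 1, 0, 3, 0, 2, 1, 3, 2, 0]), (1011, [3, 4, 1, 0, 3, 1, 0, 3, 1, 4, 0]), (1147, []), (1143, []), (825, []), (832, []), (903, [3, 0, 2, 1, 3, 1, 0, 3, 2, 0, 2, 6]), (1147, [4, 5, 4, 3, 2, 3, 0, 2, 5, 1, 4, 0, 6]), (823, [])],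
  [(892, [3, 5, 1, 3, 1]), (933, [3, 0, 2, 3, 2, 0, 3, 0, 6]), (1140, [3, 4, 0, 3, 1, 0, 3, 1, 4, 0]), (1144, []), (1140, [2, 0, 2, 1, 5, 2, 0, 2, 1]), (853, [4, 5, 4]), (829, [4, 3, 4, 1, 0, 3, 1, 0, 3, 0, 6]), (828, [4, 3, 4, 1, 0, 3, 1, 0, 3, 0, 6]), (824, [])],
  [(902, [5, 3, 1, 0, 3, 0, 2, 1, 3, 2, 0]), (844, [0, 3, 2, 1, 3, 2, 1, 0]), (825, []), (1145, []), (1147, []), (1013, [3]), (842, [0, 3, 2, 1, 3, 2, 1, 0]), (1148, []), (1015, [3, 0, 2, 3, 2, 0, 3, 0, 6])],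
  [(898, [5, 3, 1, 0, 3, 0, 2, 1, 3, 2, 0]), (841, [3, 4, 0, 3, 1, 0, 3, 1, 4, 0, 6]), (1148, []), (1146, []), (1148, [4, 5, 4, 3, 2, 3, 0, 2, 5, 1, 4, 0, 6]), (871, [4, 1, 0, 3, 5, 1, 4, 3, 1, 0, 7]), (843, [0, 3, 2, 1, 3, 2, 1, 0]), (825, []), (961, [4, 1, 0, 3, 1, 0, 3, 4, 0, 6])],
  [(893, [5, 0, 3, 2, 1, 3, 2, 1, 0, 6]), (928, [3, 4, 1, 0, 3, 1, 0, 3, 4, 0, 6]), (828, []), (1149, []), (1150, []), (1015, [2, 3, 2]), (827, []), (1140, [1, 3, 1, 0, 3, 0, 2, 3, 2, 0, 6]), (1013, [3, 0, 2, 3, 2, 0, 3, 0, 6])],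
  [(1016, [2, 5, 0, 3, 2, 0, 2, 3, 5, 0, 2]), (932, [3, 4, 1, 0, 3, 1, 0, 3, 4, 0, 6]), (1149, []), (828, []), (1151, []), (833, []), (856, []), (1144, [4, 3, 4, 1, 0, 3, 1, 0, 3, 0, 6]), (959, [0, 2, 3, 2, 0, 3, 0, 6])],
  [(894, [5, 0, 3, 2, 1, 3, 2, 1, 0, 6]), (1017, [4, 0, 3, 1, 4, 3, 0, 6]), (1150, []), (1151, []), (828, []), (834, []), (894, []), (1150, [1, 0, 3, 0, 2, 5, 2, 0, 3, 1, 0]), (960, [0, 2, 3, 2, 0, 3, 0, 6])],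
  [(890, [5, 0, 3, 1, 3, 1, 0, 6]), (962, [2, 3, 2, 0]), (1141, [2, 3, 1, 3, 2, 1, 6]), (857, []), (829, []), (857, [4, 5, 0, 3, 4, 1, 3, 1, 0, 6]), (1141, [3, 2, 3, 0, 2, 1, 5, 2, 0, 2, 1, 6]), (890, [0, 2, 3, 1, 3, 2, 1, 0]), (1018, [0, 2, 3, 1, 3, 2, 1, 0])],
  [(1019, [5, 0, 2, 0, 3, 0, 2, 5, 0]), (1019, [3, 4, 1, 0, 3, 1, 0, 3, 1, 4, 0]), (1019, [3]), (832, []), (831, []), (1143, []), (1019, [0, 2, 0, 3, 0, 2, 0]), (1019, [4, 3, 1, 5, 2, 0, 3, 5, 1, 4, 3, 0, 6]), (830, [])],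
  [(1020, [2, 5, 0, 3, 2, 0, 2, 3, 5, 0, 2]), (1020, [4, 0, 3, 1, 4, 3, 0, 6]), (1020, [2, 3, 2]), (834, []), (833, []), (1151, []), (1020, [0, 2, 0, 3, 0, 2, 0]), (1020, [0, 2, 3, 5, 2, 0, 2, 5, 3, 2, 0]), (963, [0, 2, 3, 2, 0, 3, 0, 6])],
  [(1119, [5, 2, 5]), (1139, []), (839, []), (836, []), (1152, []), (1153, []), (858, []), (835, []), (1119, [4, 0, 3, 1, 0, 3, 1, 4, 0, 6])],
  [(895, [5]), (840, [2, 0, 2, 1, 5, 2, 0, 2, 1]), (840, []), (1152, []), (836, []), (869, [2, 0, 2, 5, 1, 4, 0]), (1022, [0]), (1022, [4, 1, 4]), (1120, [4, 0, 3, 1, 0, 3, 1, 4, 0, 6])],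
  [(896, [5]), (852, [2, 0, 2, 5, 1, 4, 0]), (860, [4, 5, 4]), (1153, []), (869, [2, 0, 2, 5, 1, 4, 0]), (836, []), (837, []), (1121, []), (1121, [4, 0, 3, 1, 0, 3, 1, 4, 0, 6])]]

/-- Part of a table. -/
def lev0Mov32 : List (List (ℕ × List ℕ)) := [
  [(899, [1, 5, 4, 1, 4, 1, 6, 7]), (1154, []), (862, [5, 3, 4, 0, 2, 3, 2, 5, 0, 3, 0]), (862, []), (1024, [0]), (838, []), (1155, []), (1024, [2, 1, 3, 2, 1]), (837, [])],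
  [(889, [3, 5, 0, 3, 0, 2, 3, 2, 0, 6]), (838, []), (843, [2, 3, 1, 3, 2, 1, 6]), (863, []), (1156, []), (1154, []), (1148, [3, 0, 2, 1, 3, 1, 0, 3, 2, 0, 2]), (842, [2, 3, 1, 3, 2, 1, 6]), (958, [0, 2, 3, 2, 0, 2, 1, 3, 2, 1, 0, 6])],
  [(900, [1, 5, 4, 1, 4, 1, 6, 7]), (1148, [3, 0, 2, 1, 3, 1, 0, 3, 2, 0, 2]), (841, [3, 5, 1, 5, 4, 1, 4, 3, 1, 6, 7]), (1157, []), (1158, []), (1155, []), (838, []), (844, [2, 3, 1, 3, 2, 1, 6]), (1095, [2, 0, 3, 1, 3, 0, 2, 1, 6])],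
  [(1122, [5, 2, 5]), (1152, [2, 0, 2, 1, 5, 2, 0, 2, 1]), (1152, []), (840, []), (839, []), (865, [4, 5, 4]), (1159, []), (1027, [4, 1, 4]), (1160, [])],
  [(1028, [5, 1, 0, 3, 2, 0, 2, 3, 1, 5, 0]), (1146, [3, 4, 0, 3, 1, 0, 3, 1, 4, 0, 6]), (1157, [3, 5, 1, 5, 4, 1, 4, 3, 1, 6, 7]), (841, []), (1160, []), (866, [4, 5, 4]), (866, [3, 1, 4, 0, 3, 4, 1, 0, 3, 0]), (845, [5, 1, 5, 4, 1, 4, 1, 6, 7]), (839, [])],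
  [(901, [3, 5, 1, 3, 1]), (1158, [0, 3, 0, 2, 1, 5, 3, 2, 0, 3, 1, 6]), (1158, [3, 5, 1, 5, 4, 1, 4, 3, 1, 6, 7]), (1160, []), (841, []), (870, [4, 5, 4]), (1029, [3, 1, 4, 0, 3, 4, 1, 0, 3]), (1029, [3, 4, 1, 0, 3, 1, 0, 3, 1, 4, 0]), (840, [])],
  [(897, [4, 3, 1, 4, 1, 5, 3, 1, 6, 7]), (1030, [3, 1, 4, 0, 3, 4, 1, 0, 3]), (1156, [2, 3, 1, 3, 2, 1, 6]), (873, []), (843, []), (873, [5, 3, 4, 0, 2, 3, 2, 5, 0, 3, 0]), (1156, [3, 1, 0, 3, 2, 5, 2, 0, 3, 1, 0, 6]), (897, [2, 3, 1, 3, 2, 1, 6]), (1030, [0, 2, 3, 1, 3, 2, 1, 0])],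
  [(1031, [2, 5, 0, 3, 2, 0, 2, 3, 5, 0, 2]), (1145, [0, 3, 2, 1, 3, 2, 1, 0]), (845, []), (844, []), (1031, [3, 4, 1, 0, 3, 1, 0, 3, 1, 4, 0]), (1031, [2, 1, 3, 2, 1]), (868, [3, 4, 1, 0, 3, 1, 0, 3, 4, 0]), (1157, [2, 3, 1, 3, 2, 1, 6]), (1031, [2, 3, 2, 1, 3, 1, 6])],
  [(1123, [5, 2, 5]), (858, []), (851, []), (847, []), (1161, []), (1161, [5, 1, 5, 4, 2, 0, 2, 0]), (1139, []), (846, []), (1032, [4, 3, 4, 0, 3, 0, 2, 3, 2, 0])],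
  [(912, []), (860, [5, 1, 5, 4, 2, 0, 2, 0]), (852, []), (1161, []), (847, []), (847, [5, 1, 5, 4, 2, 0, 2, 0]), (849, [5, 1, 5, 4, 2, 0, 2, 0]), (1124, [2]), (1033, [4, 3, 4, 0, 3, 0, 2, 3, 2, 0])],
  [(913, []), (1034, [0]), (854, [5, 1, 5, 4, 2, 0, 2, 0]), (854, [2, 0, 2, 5, 1, 4, 0]), (849, []), (848, []), (848, [5, 1, 5, 4, 2, 0, 2, 0]), (905, [5, 1, 5, 4, 2, 0, 2, 0]), (1162, [])],
  [(915, [5, 3, 1, 5, 4, 1, 4, 3, 1, 7]), (971, [0, 2, 3, 2, 0, 2, 1, 3, 2, 1, 6]), (857, [2, 3, 1, 3, 2, 1, 6]), (1141, []), (850, []), (1162, []), (1162, [1, 4, 3, 0, 2, 0, 3, 1, 7]), (908, [3, 1, 4, 0, 3, 4, 1, 0, 3, 0, 6]), (848, [])],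
  [(917, [5, 3, 1, 5, 4, 1, 4, 3, 1, 7]), (931, [3, 0, 2, 3, 2, 1, 0, 3, 1, 0]), (1142, [4, 5, 0, 3, 4, 1, 3, 1, 0, 6]), (1142, []), (1162, []), (850, []), (1163, []), (1036, [2, 3, 2]), (849, [])],
  [(918, [5, 3, 1, 5, 4, 1, 4, 3, 1, 7]), (861, [1, 3, 0, 2, 3, 2, 0, 3, 1, 0, 6]), (853, [4, 0, 3, 4, 3, 0]), (1164, []), (1163, [1, 4, 3, 0, 2, 0, 3, 1, 7]), (1163, []), (850, []), (855, [2, 3, 1, 3, 2, 1, 6]), (1037, [4, 3, 4, 0, 3, 0, 2, 3, 2, 0])],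
  [(1126, [5, 2, 5]), (1153, [4, 1, 5, 2, 0, 2, 0]), (1161, []), (852, []), (851, []), (1139, [4, 1, 5, 2, 0, 2, 0]), (1161, [2, 0, 2, 1, 5, 2, 0, 2, 1]), (1126, [2]), (1165, [])],
  [(1039, [5, 1, 0, 3, 2, 0, 2, 3, 1, 5, 0]), (934, [3, 2, 0, 2, 3, 1, 0, 3, 2, 1, 0]), (1164, [4, 0, 3, 4, 3, 0]), (853, []), (1165, []), (1144, [4, 5, 4]), (1144, [0, 2, 3, 1, 3, 2, 1, 0]), (856, [5, 3, 1, 5, 4, 1, 4, 3, 1, 7]), (851, [])],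
  [(919, [2, 3, 1, 3, 2, 1, 6]), (1166, []), (1163, [3, 0, 2, 0, 3, 1, 4, 1, 6, 7]), (1165, []), (853, []), (1140, [4, 1, 5, 2, 0, 2, 0]), (1142, [0, 3, 1, 4, 5, 2, 3, 0, 2, 1, 7]), (1040, [0, 2, 0, 3, 0, 2, 0]), (852, [])],
  [(916, [3, 1, 4, 0, 3, 4, 1, 0, 3, 0, 6]), (975, [2, 1, 0, 3, 1, 0, 3, 0, 2, 0, 6]), (1162, [2, 0, 3, 1, 4, 3, 2, 1, 0, 7]), (1162, [4, 1, 5, 2, 0, 2, 0]), (1142, [4, 1, 5, 2, 0, 2, 0]), (1141, [4, 1, 5, 2, 0, 2, 0]), (857, [4, 3, 4, 1, 0, 3, 1, 0, 3, 0, 6]), (909, [5, 3, 1, 5, 4, 1, 4, 3, 1, 7]), (854, [])],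
  [(1042, [2, 5, 0, 3, 2, 0, 2, 3, 5, 0, 2]), (930, [3, 4, 1, 0, 3, 1, 0, 3, 4, 0, 6]), (856, []), (855, []), (1042, [0, 2, 0, 3, 0, 2, 0]), (1042, [2, 3, 2]), (1149, []), (1164, [2, 3, 1, 3, 2, 1, 6]), (1042, [3, 2, 3, 2])],
  [(1127, [5, 2, 5]), (1167, []), (865, []), (859, []), (858, []), (1167, [5, 1, 5, 4, 2, 0, 2, 0]), (1168, []), (874, []), (1169, [])],
  [(1128, [5, 2, 5]), (1161, [5, 1, 5, 4, 2, 0, 2, 0]), (1153, [4, 5, 4]), (860, []), (1167, [5, 1, 5, 4, 2, 0, 2, 0]), (858, []), (1153, []), (1128, []), (1170, [])],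
  [(1045, [0, 3, 5, 2, 0, 2, 5, 3, 0]), (1164, [1, 3, 0, 2, 3, 2, 0, 3, 1, 0, 6]), (934, [2, 0, 3, 1, 3, 0, 2, 1, 6]), (861, []), (1169, []), (1170, []), (1171, []), (930, [2, 0, 3, 1, 3, 0, 2, 1, 6]), (858, [])],
  [(920, []), (859, []), (869, []), (1167, []), (860, [5, 1, 5, 4, 2, 0, 2, 0]), (859, [5, 1, 5, 4, 2, 0, 2, 0]), (1046, [0]), (877, []), (1172, [])],
  [(936, [2, 0, 3, 1, 3, 0, 2, 1, 6]), (1172, [4, 3, 4, 0, 3, 0, 2, 3, 2, 0]), (935, [2, 0, 3, 1, 3, 0, 2, 1, 6]), (1169, []), (861, []), (1172, [5, 1, 5, 4, 2, 0, 2, 0]), (977, [4, 0, 3, 1, 0, 3, 1, 4, 6]), (953, [4, 0, 3, 1, 0, 3, 1, 4, 6]), (859, [])],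
  [(937, [2, 0, 3, 1, 3, 0, 2, 1, 6]), (1163, [1, 3, 0, 2, 3, 2, 0, 3, 1, 0, 6]), (1166, [1, 0, 3, 4, 0, 2, 0, 3, 1, 0, 6, 7]), (1170, []), (1172, [5, 1, 5, 4, 2, 0, 2, 0]), (861, []), (931, [2, 0, 3, 1, 3, 0, 2, 1, 6]), (1048, [4, 3, 4]), (860, [])],
  [(921, [1, 3, 0, 2, 3, 2, 0, 3, 1, 0]), (862, []), (1154, [5, 3, 4, 0, 2, 3, 2, 5, 0, 3, 0]), (1154, []), (1173, []), (863, []), (1174, []), (1049, [2, 1, 3, 2, 1]), (972, [0, 2, 3, 2, 0, 2, 1, 3, 2, 1, 0, 6])],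
  [(922, [1, 3, 0, 2, 3, 2, 0, 3, 1, 0]), (1174, []), (1155, [5, 3, 4, 0, 2, 3, 2, 5, 0, 3, 0]), (1175, []), (1176, []), (864, []), (862, []), (1050, [2, 1, 3, 2, 1]), (978, [4, 0, 3, 1, 0, 3, 1, 4, 0, 6])],
  [(923, [1, 3, 0, 2, 3, 2, 0, 3, 1, 0]), (1051, [0]), (873, [2, 3, 1, 3, 2, 1, 6]), (1156, []), (863, []), (1173, []), (1173, [3, 1, 4, 0, 2, 1, 0, 3, 6, 7]), (906, [0, 2, 3, 1, 3, 2, 1, 0, 6]), (971, [0, 2, 3, 2, 0, 2, 1, 3, 2, 1, 0, 6])],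
  [(924, [1, 3, 0, 2, 3, 2, 0, 3, 1, 0]), (864, []), (871, [4, 3, 4, 0, 3, 1, 0, 3, 1, 0, 6]), (1177, []), (1174, [3, 1, 4, 0, 2, 1, 0, 3, 6, 7]), (1174, []), (863, []), (872, [3, 0, 2, 3, 2, 1, 0, 3, 1, 0, 6]), (1052, [4, 3, 4, 0, 3, 0, 2, 3, 2, 0])],
  [(1053, [2, 5, 0, 3, 2, 0, 2, 3, 5, 0, 2]), (1177, []), (866, [4, 3, 4, 0, 3, 1, 0, 3, 1, 0, 6]), (864, []), (1178, []), (1175, []), (1157, []), (868, [3, 0, 2, 3, 2, 1, 0, 3, 1, 0, 6]), (976, [4, 0, 3, 1, 0, 3, 1, 4, 0, 6])],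
  [(925, [1, 3, 0, 2, 3, 2, 0, 3, 1, 0]), (1176, [3, 1, 4, 0, 2, 1, 0, 3, 6, 7]), (870, [4, 3, 4, 0, 3, 1, 0, 3, 1, 0, 6]), (1178, []), (864, []), (1176, []), (1054, [0]), (879, [0, 2, 3, 2, 1, 3, 1, 0]), (977, [4, 0, 3, 1, 0, 3, 1, 4, 0, 6])],
  [(1130, [5, 2, 5]), (865, []), (1167, []), (869, []), (1153, [4, 1, 5, 2, 0, 2, 0]), (1152, [4, 1, 5, 2, 0, 2, 0]), (1179, []), (881, []), (1130, [4, 2, 3, 4, 2])]]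

/-- Part of a table. -/
def lev0Mov33 : List (List (ℕ × List ℕ)) := [
  [(1131, [5, 2, 5]), (1179, []), (1168, []), (1056, [0]), (1159, []), (1159, [4, 5, 4]), (865, []), (882, []), (1056, [3, 1, 4, 0, 3, 4, 1, 0, 3, 0])],
  [(1057, [5, 0, 2, 1, 0, 3, 0, 2, 1, 5, 0]), (1180, []), (1178, [4, 3, 4, 0, 3, 1, 0, 3, 1, 0, 6]), (870, []), (866, []), (1160, [4, 5, 4]), (1181, []), (883, [4, 3, 4, 0, 2, 3, 2, 0, 3, 0]), (865, [])],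
  [(1058, [5, 0, 2, 1, 0, 3, 0, 2, 1, 5, 0]), (866, []), (1177, [4, 3, 4, 0, 3, 1, 0, 3, 1, 0, 6]), (871, []), (1182, []), (1146, [5, 1, 0, 3, 4, 1, 5, 3, 1, 0, 7]), (1146, [3, 1, 0, 3, 0, 2, 3, 2, 1, 0]), (867, [4, 3, 4, 0, 2, 3, 2, 0, 3, 0]), (973, [4, 2, 3, 4, 2])],
  [(1059, [5, 0, 2, 0, 3, 0, 2, 5, 0]), (868, []), (867, []), (872, []), (1059, [0, 2, 0, 3, 0, 2, 0]), (1059, [4, 3, 4]), (1145, [5, 1, 5, 4, 3, 1, 4, 3, 1, 6, 7]), (1177, [3, 0, 2, 3, 2, 1, 0, 3, 1, 0]), (1059, [3, 2, 3, 2])],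
  [(927, [2, 3, 1, 3, 2, 1, 6]), (870, []), (1176, [1, 3, 2, 0, 3, 4, 0, 2, 1, 3, 0, 6, 7]), (1180, []), (1155, [3, 1, 4, 5, 2, 3, 0, 2, 1, 0, 6, 7]), (1158, [3, 1, 4, 5, 2, 3, 0, 2, 1, 0, 6, 7]), (1060, [3, 1, 4, 0, 3, 4, 1, 0, 3]), (884, [4, 3, 4, 0, 2, 3, 2, 0, 3, 0]), (1100, [3, 2, 0, 2, 3, 1, 0, 3, 2, 1, 0])],
  [(926, [2, 3, 1, 3, 2, 1, 6]), (1155, [3, 1, 4, 5, 2, 3, 0, 2, 1, 0, 6, 7]), (1174, [1, 3, 2, 0, 3, 4, 0, 2, 1, 3, 0, 6, 7]), (1182, []), (871, []), (1148, [4, 3, 1, 5, 0, 2, 0, 3, 6]), (1154, [3, 1, 4, 5, 2, 3, 0, 2, 1, 0, 6, 7]), (1061, [0, 3, 2, 0, 2, 3, 0]), (974, [4, 2, 3, 4, 2])],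
  [(914, [5, 1, 5, 4, 1, 4, 1, 6, 7]), (1062, [3, 1, 4, 0, 3, 4, 1, 0, 3]), (1173, [3, 0, 2, 1, 0, 3, 4, 1, 6, 7]), (1173, [1, 4, 5, 2, 0, 3, 1, 3, 2, 0, 7]), (1154, [1, 4, 5, 2, 0, 3, 1, 3, 2, 0, 7]), (1156, [1, 4, 5, 2, 0, 3, 1, 3, 2, 0, 7]), (873, []), (911, [2, 3, 1, 3, 2, 1, 6]), (975, [4, 1, 5, 3, 1, 5, 4, 1, 6, 7])],
  [(1132, [5, 2, 5]), (874, []), (881, []), (877, []), (1132, [2]), (1183, []), (1184, []), (1167, []), (1132, [0, 2, 3, 2, 0, 3, 0, 6])],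
  [(1133, [5, 2, 5]), (1183, []), (1064, [5, 1, 5]), (878, []), (875, []), (874, []), (1185, []), (1183, [5, 1, 5, 4, 2, 0, 2, 0]), (1186, [])],
  [(1134, [5, 2, 5]), (1184, []), (882, []), (1065, [0]), (1065, [4, 1, 4]), (1185, []), (874, []), (1168, []), (1065, [4, 3, 1, 0, 3, 1, 0, 3, 4, 0])],
  [(1066, [3, 5, 2, 5, 0, 3, 1, 3, 1, 0, 6]), (1187, []), (883, [3, 2, 3, 2, 6]), (879, []), (876, []), (1186, []), (1188, []), (1178, [0, 2, 3, 2, 1, 3, 1, 0]), (874, [])],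
  [(1067, [3, 5, 2, 5, 0, 3, 1, 3, 1, 0, 6]), (1067, [0, 2, 0, 3, 0, 2, 0]), (1067, [5, 3, 1, 5, 0, 3, 0, 2, 3, 2, 0]), (880, []), (1186, []), (876, []), (1067, [4, 3, 1, 0, 3, 1, 0, 3, 1, 4, 0]), (1067, [4, 3, 4]), (875, [])],
  [(942, []), (878, []), (1068, [5, 1, 5]), (1183, []), (1135, [2]), (877, []), (1068, [0]), (878, [5, 1, 5, 4, 2, 0, 2, 0]), (1135, [0, 2, 3, 2, 0, 3, 0, 6])],
  [(943, [5, 1, 5, 4, 3, 1, 4, 3, 1, 6, 7]), (1189, []), (1069, [5, 3, 1, 5, 0, 3, 0, 2, 3, 2, 0]), (1186, []), (880, []), (879, []), (1069, [4, 3, 1, 0, 3, 1, 0, 3, 4]), (1189, [1, 0, 3, 4, 0, 2, 0, 3, 1, 0, 6, 7]), (878, [])],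
  [(944, [5, 1, 5, 4, 3, 1, 4, 3, 1, 6, 7]), (879, []), (884, [3, 2, 3, 2, 6]), (1187, []), (1070, [0, 2, 0, 3, 0, 2, 0]), (1189, []), (1070, [4, 3, 1, 0, 3, 1, 0, 3, 4]), (1176, [1, 3, 4, 0, 3, 2, 1, 0, 3, 0, 7]), (1108, [2, 0, 3, 1, 0, 3, 0, 2, 1, 0, 6])],
  [(1136, [5, 2, 5]), (882, []), (1184, []), (1071, [0]), (1190, []), (1071, [5, 1, 5]), (881, []), (1179, []), (1071, [3, 0, 2, 3, 2, 0, 3, 0])],
  [(1072, [5, 0, 2, 0, 3, 0, 2, 5, 0]), (883, []), (1187, [3, 2, 3, 2, 6]), (884, []), (1072, [0, 2, 0, 3, 0, 2, 0]), (1072, [5, 3, 1, 5, 0, 3, 0, 2, 3, 2, 0]), (1191, []), (1180, [4, 3, 4, 0, 2, 3, 2, 0, 3, 0]), (1072, [3, 2, 3, 2])],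
  [(1073, [5, 0, 2, 0, 3, 0, 2, 5, 0]), (1191, []), (1188, [3, 2, 3, 2, 6]), (1073, [3, 1, 0, 3, 1, 0, 3]), (1073, [3, 4, 1, 0, 3, 1, 0, 3, 1, 4, 0]), (1073, [5, 3, 1, 5, 0, 3, 0, 2, 3, 2, 0]), (883, []), (1181, [4, 3, 4, 0, 2, 3, 2, 0, 3, 0]), (1073, [5, 1, 5, 4, 1, 4, 1, 7])],
  [(1156, [3, 5, 0, 3, 1, 0, 3, 1, 0, 6]), (1074, [3, 1, 4, 0, 3, 4, 1, 0, 3]), (897, [0, 2, 3, 1, 3, 2, 1, 0, 6]), (906, []), (889, []), (914, [4, 2, 0, 2, 5, 1, 4, 0]), (897, [3, 0, 2, 1, 3, 5, 2, 0, 3, 1, 0]), (1156, [0, 2, 3, 1, 3, 2, 1, 0, 6]), (887, [])],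
  [(1154, [3, 5, 0, 3, 1, 0, 3, 1, 0, 6]), (899, [0, 2, 3, 1, 3, 2, 1, 0, 6]), (921, [5, 3, 4, 1, 3, 1]), (907, []), (914, [4, 2, 0, 2, 5, 1, 4, 0]), (889, []), (926, [4, 2, 0, 3, 2, 1, 5, 4, 3, 1, 0, 6, 7]), (1075, [2, 3, 2]), (888, [])],
  [(1148, [3, 1, 0, 3, 1, 5, 0, 3, 0, 6]), (900, [0, 2, 3, 1, 3, 2, 1, 0, 6]), (898, [0, 2, 3, 1, 3, 2, 1, 0, 6]), (1076, [4, 0, 3, 2, 0, 2, 3, 4, 0]), (898, [3, 0, 2, 1, 3, 5, 2, 0, 3, 1, 0]), (926, [4, 2, 0, 3, 2, 1, 5, 4, 3, 1, 0, 6, 7]), (889, []), (902, [0, 2, 3, 1, 3, 2, 1, 0, 6]), (1079, [4, 3, 1, 0, 3, 1, 4, 0, 3, 0, 6])],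
  [(1141, [3, 5, 0, 2, 3, 2, 0, 3, 0, 6]), (989, [2, 1, 3, 2, 1, 0]), (890, []), (908, []), (891, []), (916, [4, 3, 0, 2, 1, 5, 4, 1, 0, 3, 7]), (890, [4, 3, 1, 4, 0, 2, 5, 2, 0, 3, 7]), (1141, [3, 1, 4, 0, 3, 4, 1, 0, 3, 0, 6]), (989, [4, 1, 3, 1, 0, 3, 4, 1, 3, 1, 0])],
  [(1142, [3, 5, 0, 2, 3, 2, 0, 3, 0, 6]), (938, [3, 5, 0, 3, 4, 1, 3, 1, 0, 3, 6]), (917, [5, 4]), (910, []), (916, [4, 3, 0, 2, 1, 5, 4, 1, 0, 3, 7]), (891, []), (919, [4, 3, 0, 2, 1, 5, 4, 1, 0, 3, 7]), (1078, [2, 1, 3, 2, 1]), (990, [4, 1, 3, 1, 0, 3, 4, 1, 3, 1, 0])],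
  [(1140, [5, 3, 0, 2, 3, 2, 1, 0, 3, 1, 0]), (941, [3, 5, 0, 3, 4, 1, 3, 1, 0, 3, 6]), (892, []), (1079, [0, 2, 1, 0, 3, 0, 2, 1, 0]), (892, [4, 3, 1, 4, 0, 2, 5, 2, 0, 3, 7]), (919, [4, 3, 0, 2, 1, 5, 4, 1, 0, 3, 7]), (891, []), (893, [0, 2, 3, 1, 3, 2, 1, 0]), (1076, [4, 3, 1, 0, 3, 1, 4, 0, 3, 0, 6])],
  [(1150, [5, 0, 3, 2, 1, 3, 2, 1, 0, 6]), (1080, [4, 0, 3, 1, 4, 3, 0, 6]), (894, []), (1080, [0, 2, 0, 3, 0, 2, 0]), (893, []), (1080, [2, 3, 2]), (1150, []), (894, [1, 0, 3, 0, 2, 5, 2, 0, 3, 1, 0]), (1080, [3, 2, 3, 2])],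
  [(1155, [1, 5, 4, 1, 4, 1, 6, 7]), (926, [4, 2, 0, 2, 1, 5, 4, 1, 0, 6, 7]), (922, [3, 5, 0, 3, 4, 1, 3, 1, 0, 3]), (1081, [1, 0, 3, 2, 0, 2, 3, 1, 0]), (927, [4, 2, 0, 2, 1, 5, 4, 1, 0, 6, 7]), (900, []), (899, []), (1081, [2, 1, 3, 2, 1]), (1081, [3, 5, 1, 5, 4, 1, 4, 3, 1, 7])],
  [(1158, [1, 5, 4, 1, 4, 1, 6, 7]), (901, [2, 0, 2, 5, 4, 1, 4, 2, 0, 2, 6, 7]), (901, []), (1082, [1, 0, 3, 2, 0, 2, 3, 1, 0]), (900, []), (927, [4, 2, 0, 2, 1, 5, 4, 1, 0, 6, 7]), (1082, [0]), (1082, [4, 3, 1, 0, 3, 1, 0, 3, 1, 4, 0]), (1082, [3, 5, 1, 5, 4, 1, 4, 3, 1, 7])],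
  [(1147, [5, 3, 0, 2, 3, 2, 1, 0, 3, 1, 0, 6]), (1083, [4, 3, 1, 0, 3, 1, 0, 3, 1, 4, 0]), (903, []), (1083, [1, 0, 3, 2, 0, 2, 3, 1, 0]), (902, []), (1083, [2, 1, 3, 2, 1]), (1147, [3, 0, 2, 1, 3, 1, 0, 3, 2, 0, 2]), (903, [2, 0, 2, 5, 4, 1, 4, 2, 0, 2, 6, 7]), (1083, [3, 2, 3, 2, 6])],
  [(949, [3, 5, 1, 5, 4, 1, 4, 3, 1, 6, 7]), (1084, [3, 1, 4, 0, 3, 4, 1, 0, 3]), (949, [3, 4, 1, 3, 1]), (914, [4, 2, 0, 2, 5, 1, 4, 0]), (907, []), (906, []), (951, [4, 3, 0, 2, 1, 3, 5, 2, 0, 3, 1, 0]), (951, [4, 3, 0, 2, 1, 5, 4, 0, 3, 1, 6, 7]), (904, [])],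
  [(950, [3, 5, 1, 5, 4, 1, 4, 3, 1, 6, 7]), (1085, [3, 1, 4, 0, 3, 4, 1, 0, 3]), (911, [0, 2, 3, 1, 3, 2, 1, 0, 6]), (911, [3, 0, 2, 1, 3, 5, 2, 0, 3, 1, 0]), (1085, [4, 0, 3, 2, 0, 2, 3, 4, 0]), (951, [4, 3, 0, 2, 1, 3, 5, 2, 0, 3, 1, 0]), (906, []), (1173, [0, 3, 0, 2, 1, 0, 3, 4, 1, 0, 6, 7]), (1087, [4, 3, 1, 0, 3, 1, 4, 0, 3, 0, 6])],
  [(946, [1, 0, 3, 2, 3, 2, 1, 0]), (993, [2, 1, 3, 2, 1, 0]), (946, [4]), (916, [4, 3, 0, 2, 1, 5, 4, 1, 0, 3, 7]), (910, []), (908, []), (948, [3, 1, 4, 0, 2, 5, 2, 0, 3, 7]), (948, [0, 3, 1, 4, 0, 2, 0, 3, 1, 5, 4, 0, 6, 7]), (993, [4, 1, 3, 1, 0, 3, 4, 1, 3, 1, 0])],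
  [(947, [1, 0, 3, 2, 3, 2, 1, 0]), (994, [2, 1, 3, 2, 1, 0]), (909, []), (909, [4, 3, 1, 4, 0, 2, 5, 2, 0, 3, 7]), (1087, [0, 2, 1, 0, 3, 0, 2, 1, 0]), (948, [3, 1, 4, 0, 2, 5, 2, 0, 3, 7]), (908, []), (1162, [3, 1, 4, 2, 0, 3, 0, 2, 1, 3, 0, 7]), (1085, [4, 3, 1, 0, 3, 1, 4, 0, 3, 0, 6])]]

/-- Part of a table. -/
def lev0Mov34 : List (List (ℕ × List ℕ)) := [
  [(1173, [1, 4, 3, 2, 0, 2, 1, 0, 3, 2, 6, 7]), (1088, [3, 1, 4, 0, 3, 4, 1, 0, 3]), (914, []), (949, [5, 0, 2, 0, 3, 2, 1, 3, 4, 1, 6, 7]), (921, [0, 2, 0, 3, 2, 1, 3, 4, 1, 6, 7]), (923, [0, 2, 0, 3, 2, 1, 3, 4, 1, 6, 7]), (923, [2, 1, 3, 1, 0, 3, 2, 0, 2, 3, 0]), (950, [0, 2, 3, 1, 3, 2, 1, 0, 6]), (1089, [5, 1, 5, 4, 2, 0, 2, 0])],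
  [(1162, [5, 3, 1, 5, 4, 1, 4, 3, 1, 7]), (998, [4, 2, 3, 4, 2, 0]), (916, [3, 1, 3, 4, 3, 0, 2, 1, 0, 3, 7]), (946, [5]), (917, []), (915, []), (915, [3, 1, 3, 4, 3, 0, 2, 1, 0, 3, 7]), (947, [0, 3, 1, 4, 0, 2, 0, 3, 1, 0, 6, 7]), (1088, [5, 1, 5, 4, 2, 0, 2, 0])],
  [(1163, [5, 3, 1, 5, 4, 1, 4, 3, 1, 7]), (937, [3, 0, 2, 1, 3, 2, 1, 0, 3, 0, 6]), (919, [3, 1, 3, 4, 3, 0, 2, 1, 0, 3, 7]), (1090, [5, 1, 0, 3, 2, 0, 2, 3, 1, 5, 0]), (918, [3, 1, 3, 4, 3, 0, 2, 1, 0, 3, 7]), (918, []), (917, []), (1090, [4, 2, 3, 4, 2]), (1090, [4, 1, 5, 3, 1, 5, 4, 3, 1, 6, 7])],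
  [(1166, [2, 3, 1, 3, 2, 1, 6]), (919, []), (937, [2, 3, 1, 0, 3, 4, 0, 2, 1, 3, 0, 6, 7]), (1091, [5, 1, 0, 3, 2, 0, 2, 3, 1, 5, 0]), (939, [3, 0, 2, 1, 3, 2, 1, 0, 3, 0, 6]), (941, [2, 3, 1, 0, 3, 4, 0, 2, 1, 3, 0, 6, 7]), (938, [2, 3, 1, 0, 3, 4, 0, 2, 1, 3, 0, 6, 7]), (1091, [4, 0, 2, 0, 3, 4, 0, 2, 0]), (1091, [2, 3, 1, 3, 2, 1])],
  [(1174, [1, 3, 0, 2, 3, 2, 0, 3, 1, 0]), (922, []), (926, [3, 0, 2, 1, 3, 4, 1, 0, 3, 0, 6, 7]), (1092, [0, 3, 5, 2, 0, 2, 5, 3, 0]), (924, [3, 1, 4, 0, 2, 1, 0, 3, 6, 7]), (924, []), (921, []), (1092, [1, 3, 1]), (1092, [4, 1, 5, 3, 1, 5, 4, 3, 1, 6, 7])],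
  [(1176, [1, 3, 0, 2, 3, 2, 0, 3, 1, 0]), (925, [3, 1, 4, 0, 2, 1, 0, 3, 6, 7]), (927, [3, 0, 2, 1, 3, 4, 1, 0, 3, 0, 6, 7]), (1093, [0, 3, 5, 2, 0, 2, 5, 3, 0]), (922, []), (925, []), (1093, [0]), (944, [3, 1, 0, 3, 4, 2, 1, 0, 3, 0, 6, 7]), (1101, [1, 3, 4, 0, 3, 2, 1, 0, 3, 0, 7])],
  [(1094, [5, 0, 2, 0, 3, 0, 2, 5, 0]), (1149, [3, 4, 1, 0, 3, 1, 0, 3, 4, 0, 6]), (932, []), (928, []), (1094, [4, 0, 3, 1, 4, 3, 0, 6]), (1094, [1, 3, 1]), (930, []), (1171, [2, 0, 3, 1, 3, 0, 2, 1, 6]), (1094, [2, 3, 2, 1, 3, 1])],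
  [(941, [4, 3, 1, 5, 1, 4, 3, 1, 6, 7]), (1140, [2, 1, 3, 2, 0, 3, 1, 0, 3, 0]), (933, []), (1171, [2, 0, 3, 1, 3, 0, 2, 1, 6]), (1192, []), (1166, [2, 3, 1, 3, 0, 2, 5, 4, 3, 1, 3, 0, 6, 7]), (929, []), (928, []), (1026, [2, 0, 3, 1, 3, 0, 2, 1, 6])],
  [(938, [4, 3, 1, 5, 1, 4, 3, 1, 6, 7]), (1142, [3, 0, 2, 3, 2, 1, 0, 3, 1, 0, 6]), (931, [4, 3, 1, 5, 1, 4, 3, 1, 6, 7]), (931, []), (966, [1, 3, 0, 2, 3, 2, 1, 3]), (929, []), (1166, [2, 3, 1, 3, 0, 2, 5, 4, 3, 1, 3, 0, 6, 7]), (1096, [1, 3, 1]), (966, [3, 1, 0, 3, 2, 3, 2, 1, 0, 6])],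
  [(1097, [5, 0, 2, 0, 3, 0, 2, 5, 0]), (1144, [3, 0, 2, 3, 2, 0, 3, 0, 6]), (1171, [2, 0, 3, 1, 3, 0, 2, 1, 6]), (933, []), (1193, []), (934, [4, 3, 1, 5, 1, 4, 3, 1, 6, 7]), (934, []), (932, []), (967, [1, 3, 1, 0, 3, 2, 3, 2, 0])],
  [(940, [4, 3, 1, 5, 1, 4, 3, 1, 6, 7]), (1192, [1, 0, 3, 0, 2, 5, 2, 0, 3, 1, 0]), (1192, []), (1193, []), (933, []), (935, [4, 3, 1, 5, 1, 4, 3, 1, 6, 7]), (968, [1, 3, 0, 2, 3, 2, 1, 3]), (1098, [4, 0, 3, 1, 4, 3, 0, 6]), (968, [1, 3, 1, 0, 3, 2, 3, 2, 0])],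
  [(1099, [5, 0, 2, 0, 3, 0, 2, 5, 0]), (1194, []), (1169, [2, 0, 3, 1, 3, 0, 2, 1, 6]), (935, []), (934, []), (1193, [4, 3, 1, 5, 1, 4, 3, 1, 6, 7]), (1195, []), (955, [1, 3, 0, 2, 3, 2, 1, 3]), (979, [4, 3, 1, 0, 3, 1, 4, 3, 0])],
  [(939, []), (935, []), (1172, [0, 3, 2, 1, 3, 2, 1, 0, 6]), (1194, []), (1166, [3, 2, 0, 2, 3, 1, 0, 3, 2, 1, 0, 6]), (1192, [4, 3, 1, 5, 1, 3, 2, 0, 2, 1, 0, 6]), (980, [1, 3, 0, 2, 3, 2, 1, 3]), (956, [1, 3, 0, 2, 3, 2, 1, 3]), (1060, [3, 2, 0, 2, 3, 1, 0, 3, 2, 1, 0, 6])],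
  [(1172, [0, 3, 2, 1, 3, 2, 1, 0, 6]), (936, []), (939, []), (1101, [5, 0, 2, 0, 3, 0, 2, 5, 0]), (937, [1, 3, 4, 3, 2, 0, 2, 1, 0, 7]), (936, [1, 3, 4, 3, 2, 0, 2, 1, 0, 7]), (999, [1, 3, 0, 2, 3, 2, 1, 3]), (995, [1, 3, 0, 2, 3, 2, 1, 3]), (1093, [0, 3, 0, 2, 1, 3, 4, 0, 3, 1, 7])],
  [(1192, [4, 3, 1, 5, 1, 3, 2, 0, 2, 1, 0, 6]), (940, []), (940, [1, 3, 4, 3, 2, 0, 2, 1, 0, 7]), (1102, [5, 0, 2, 0, 3, 0, 2, 5, 0]), (941, [1, 3, 4, 3, 2, 0, 2, 1, 0, 7]), (939, []), (991, [4, 5, 1, 4, 3, 2, 0, 3, 1, 3, 2, 7]), (1102, [4, 0, 3, 1, 4, 1, 3, 0, 6, 7]), (1102, [2, 3, 1, 3, 2, 1, 6])],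
  [(1189, [5, 1, 5, 4, 3, 1, 4, 3, 1, 6, 7]), (943, []), (1103, [3, 5, 1, 5, 0, 3, 0, 2, 3, 2, 0]), (1103, [3, 5, 2, 5, 0, 3, 1, 3, 1, 0, 6]), (1103, [0, 2, 0, 3, 0, 2, 0]), (944, []), (1103, [0]), (943, [1, 4, 2, 0, 2, 1, 0, 6, 7]), (1103, [5, 1, 5, 4, 3, 1, 4, 3, 1, 7])],
  [(948, [3, 0, 2, 1, 3, 4, 0, 3, 5, 2, 0, 2, 7]), (1001, [1, 3, 1, 0]), (948, [4, 3, 0, 2, 5, 4, 2, 1, 0, 3, 7]), (947, [4, 3, 0, 2, 5, 4, 2, 1, 0, 3, 7]), (1104, [1, 0, 3, 2, 0, 2, 3, 1, 0]), (947, []), (946, []), (946, [3, 5, 1, 5, 4, 3, 2, 0, 2, 0]), (1104, [3, 5, 1, 5, 4, 1, 4, 3, 1, 7])],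
  [(951, [3, 4, 1, 0, 3, 2, 5, 2, 1, 0, 3, 0]), (1105, [0]), (951, [3, 1, 4, 0, 2, 5, 3, 4, 2, 0, 3, 0, 6, 7]), (950, [3, 4, 0, 2, 5, 4, 2, 1, 0, 3, 6, 7]), (1105, [4, 0, 3, 2, 0, 2, 3, 4, 0]), (950, []), (949, []), (949, [1, 4, 2, 0, 2, 1, 0, 6, 7]), (1105, [3, 5, 1, 5, 4, 1, 4, 3, 1, 7])],
  [(1106, [5, 2, 0, 2, 5]), (1196, []), (955, []), (953, []), (952, []), (1197, []), (1198, []), (1169, [4, 1, 3, 1, 0, 3, 4, 0, 6]), (981, [4, 1, 3, 1, 0, 3, 4, 6])],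
  [(1107, [5, 2, 0, 2, 5]), (1107, [2, 0, 2]), (1107, [5, 1, 5]), (954, []), (1197, []), (952, []), (1107, [4, 1, 4]), (1107, [0]), (982, [4, 1, 3, 1, 0, 3, 4, 6])],
  [(995, []), (953, []), (956, []), (1196, []), (1108, [2, 0, 2]), (1199, []), (983, []), (1172, [1, 3, 1, 4, 0, 2, 3, 4, 2, 0, 6]), (1070, [5, 2, 1, 3, 2, 0, 3, 1, 5, 0, 6])],
  [(996, []), (1199, []), (1109, [5, 1, 5]), (1197, []), (954, []), (953, []), (984, []), (1199, [5, 1, 5, 4, 0, 2, 0]), (984, [4, 1, 3, 1, 0, 3, 4, 6])],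
  [(1110, [5, 2, 0, 2, 5]), (955, []), (1196, []), (956, []), (1110, [2, 0, 2]), (1110, [5, 1, 5]), (1200, []), (1194, [3, 2, 1, 3, 2, 0, 3, 1]), (1110, [3, 0, 2, 3, 2, 0, 3, 0])],
  [(1111, [5, 2, 0, 2, 5]), (1200, []), (1198, []), (986, []), (1111, [4, 1, 4]), (1111, [5, 1, 5]), (955, []), (1195, [3, 2, 1, 3, 2, 0, 3, 1]), (1111, [4, 0, 3, 4, 3, 0, 6])],
  [(1002, [5, 2, 5]), (964, []), (959, []), (957, []), (1201, []), (1002, []), (969, []), (1202, []), (1002, [3])],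
  [(987, [5]), (1113, [4, 1, 4]), (960, []), (1201, []), (957, []), (1003, []), (987, []), (960, [0, 2, 1, 5, 2, 1, 0]), (1003, [3])],
  [(988, [5]), (965, []), (961, []), (1202, []), (961, [0, 2, 1, 5, 2, 1, 0]), (974, [0, 2, 5, 1, 4, 0]), (958, []), (957, []), (1148, [1, 4, 2, 3, 4, 2, 1, 6])],
  [(989, [5]), (1141, [2, 1, 3, 2, 0, 2, 1, 3, 2, 0, 6]), (962, []), (971, []), (958, []), (975, [0, 2, 5, 1, 4, 0]), (962, [0, 2, 1, 5, 2, 1, 0]), (989, []), (1156, [4, 1, 3, 1, 0, 3, 4, 1, 3, 1, 0])],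
  [(990, [5]), (966, []), (972, [4, 5, 4]), (972, []), (975, [0, 2, 5, 1, 4, 0]), (958, []), (974, [0, 2, 5, 1, 4, 0]), (1006, []), (1154, [4, 1, 3, 1, 0, 3, 4, 1, 3, 1, 0])],
  [(1008, [5, 2, 5]), (1117, [4, 1, 4]), (1201, []), (960, []), (959, []), (963, []), (1008, [2]), (1201, [0, 2, 1, 5, 2, 1, 0]), (1151, [0, 3, 0, 2, 3, 2, 0, 6])],
  [(1009, [5, 2, 5]), (967, []), (1202, []), (961, []), (1202, [0, 2, 1, 5, 2, 1, 0]), (973, [4, 5, 4]), (973, []), (959, []), (1146, [4, 0, 3, 1, 0, 3, 1, 4, 0, 6])],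
  [(1021, [5, 2, 5]), (1202, []), (967, []), (965, []), (1203, []), (1204, []), (976, []), (964, []), (1021, [4, 1, 0, 3, 1, 0, 3, 4, 0, 6])]]

/-- Part of a table. -/
def lev0Mov35 : List (List (ℕ × List ℕ)) := [
  [(991, [5]), (968, [0, 2, 1, 5, 2, 1, 0]), (968, []), (1203, []), (965, []), (980, [0, 2, 5, 1, 4, 0]), (1192, [3, 2, 1, 3, 2, 0, 3, 1]), (1120, [4, 1, 4]), (1022, [4, 1, 0, 3, 1, 0, 3, 4, 0, 6])],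
  [(992, [5]), (974, [0, 2, 5, 1, 4, 0]), (978, [4, 5, 4]), (1204, []), (980, [0, 2, 5, 1, 4, 0]), (965, []), (966, []), (1023, []), (1023, [4, 1, 0, 3, 1, 0, 3, 4, 0, 6])],
  [(1027, [5, 2, 5]), (1203, [0, 2, 1, 5, 2, 1, 0]), (1203, []), (968, []), (967, []), (979, [4, 5, 4]), (1205, []), (1122, [4, 1, 4]), (1193, [0, 3, 2, 3, 2, 1, 0, 3, 1])],
  [(1032, [5, 2, 5]), (976, []), (973, []), (970, []), (1206, []), (1206, [5, 1, 5, 4, 0, 2, 0]), (1202, []), (969, []), (1123, [4, 3, 4, 0, 2, 3, 2, 0, 3, 0])],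
  [(997, []), (978, [5, 1, 5, 4, 0, 2, 0]), (974, []), (1206, []), (970, []), (970, [5, 1, 5, 4, 0, 2, 0]), (972, [5, 1, 5, 4, 0, 2, 0]), (1033, [2]), (1124, [4, 3, 4, 0, 2, 3, 2, 0, 3, 0])],
  [(998, []), (1162, [2, 1, 3, 2, 0, 2, 1, 3, 2, 0, 6]), (975, [5, 1, 5, 4, 0, 2, 0]), (975, [0, 2, 5, 1, 4, 0]), (972, []), (971, []), (971, [5, 1, 5, 4, 0, 2, 0]), (994, [5, 1, 5, 4, 0, 2, 0]), (1173, [4, 1, 3, 1, 0, 3, 4, 1, 3, 1, 0])],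
  [(1038, [5, 2, 5]), (1204, [4, 1, 5, 0, 2, 0]), (1206, []), (974, []), (973, []), (1202, [4, 1, 5, 0, 2, 0]), (1206, [0, 2, 1, 5, 2, 1, 0]), (1038, [2]), (1182, [4, 2, 3, 4, 2])],
  [(1043, [5, 2, 5]), (1207, []), (979, []), (977, []), (976, []), (1207, [5, 1, 5, 4, 0, 2, 0]), (1208, []), (981, []), (1178, [4, 1, 0, 3, 1, 0, 3, 4, 0, 6])],
  [(1044, [5, 2, 5]), (1206, [5, 1, 5, 4, 0, 2, 0]), (1204, [4, 5, 4]), (978, []), (1207, [5, 1, 5, 4, 0, 2, 0]), (976, []), (1204, []), (1044, []), (1175, [4, 1, 0, 3, 1, 0, 3, 4, 0, 6])],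
  [(999, []), (977, []), (980, []), (1207, []), (978, [5, 1, 5, 4, 0, 2, 0]), (977, [5, 1, 5, 4, 0, 2, 0]), (1172, [1, 3, 1, 4, 0, 2, 3, 4, 2, 0, 6]), (983, []), (1176, [1, 4, 2, 3, 2, 0, 3, 1, 3, 2, 0, 7])],
  [(1055, [5, 2, 5]), (979, []), (1207, []), (980, []), (1204, [4, 1, 5, 0, 2, 0]), (1203, [4, 1, 5, 0, 2, 0]), (1209, []), (985, []), (1055, [4, 2, 3, 4, 2])],
  [(1056, [5, 2, 5]), (1209, []), (1208, []), (1195, [3, 2, 1, 3, 2, 0, 3, 1]), (1205, []), (1205, [4, 5, 4]), (979, []), (986, []), (1131, [0, 2, 3, 1, 3, 2, 1, 0])],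
  [(1063, [5, 2, 5]), (981, []), (985, []), (983, []), (1063, [2]), (1210, []), (1211, []), (1207, []), (1063, [0, 3, 0, 2, 3, 2, 0, 6])],
  [(1064, [5, 2, 5]), (1210, []), (1133, [5, 1, 5]), (984, []), (982, []), (981, []), (1212, []), (1210, [5, 1, 5, 4, 0, 2, 0]), (1197, [4, 3, 1, 0, 3, 1, 4, 6])],
  [(1065, [5, 2, 5]), (1211, []), (986, []), (1198, []), (1134, [4, 1, 4]), (1212, []), (981, []), (1208, []), (1134, [0, 2, 3, 2, 1, 3, 1, 0, 6])],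
  [(1000, []), (984, []), (1135, [5, 1, 5]), (1210, []), (1068, [2]), (983, []), (1199, []), (984, [5, 1, 5, 4, 0, 2, 0]), (1068, [0, 3, 0, 2, 3, 2, 0, 6])],
  [(1071, [5, 2, 5]), (986, []), (1211, []), (1200, []), (1213, []), (1136, [5, 1, 5]), (985, []), (1209, []), (1136, [0, 3, 2, 3, 2, 0])],
  [(1199, []), (996, []), (1137, [5, 1, 5]), (1137, [5, 2, 0, 2, 5]), (1137, [2, 0, 2]), (995, []), (1000, []), (996, [5, 1, 5, 4, 0, 2, 0]), (1137, [4, 3, 1, 0, 3, 1, 4, 0, 3, 0])],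
  [(1201, [5, 2, 5]), (1138, [4, 1, 4]), (1008, []), (1003, []), (1002, []), (1201, []), (1201, [2]), (1008, [2, 0, 2, 1, 5, 2, 0, 2, 1]), (1201, [3])],
  [(1202, [5, 2, 5]), (1021, []), (1009, []), (1004, []), (1009, [2, 0, 2, 1, 5, 2, 0, 2, 1]), (1038, [2, 0, 2, 5, 1, 4, 0]), (1032, []), (1002, []), (1214, [])],
  [(1079, [5, 3, 1, 0, 3, 0, 2, 1, 3, 2, 0, 6]), (1095, [2, 1, 3, 2, 0, 3, 1, 0, 3, 0, 6]), (1012, [3, 4, 0, 3, 1, 0, 3, 1, 4, 0]), (1214, []), (1012, [2, 0, 2, 1, 5, 2, 0, 2, 1]), (1040, [2, 0, 2, 5, 1, 4, 0]), (1007, [4, 3, 4, 0, 3, 0, 2, 3, 2, 0]), (1015, [1, 3, 1, 0, 3, 0, 2, 3, 2, 0]), (1004, [])],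
  [(1077, [3, 5, 1, 0, 3, 1, 0, 3, 0, 6]), (1115, [0, 2, 3, 2, 0, 2, 1, 3, 2, 1, 6]), (1018, [2, 3, 1, 3, 2, 1, 6]), (1035, []), (1007, []), (1041, [2, 0, 2, 5, 1, 4, 0]), (1018, [2, 0, 2, 1, 5, 2, 1, 0, 3, 2, 3, 6]), (1077, [3, 1, 4, 0, 3, 4, 1, 0, 3, 0, 6]), (1005, [])],
  [(1078, [3, 5, 1, 0, 3, 1, 0, 3, 0, 6]), (1096, [3, 0, 2, 3, 2, 1, 0, 3, 1, 0]), (1036, [4, 5, 0, 3, 4, 1, 3, 1, 0, 6]), (1036, []), (1041, [2, 0, 2, 5, 1, 4, 0]), (1007, []), (1040, [2, 0, 2, 3, 1, 5, 4, 3, 1, 0, 6, 7]), (1142, [2, 3, 2]), (1006, [])],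
  [(1143, [5, 0, 2, 0, 3, 0, 2, 5, 0]), (1143, [3, 4, 1, 0, 3, 1, 0, 3, 1, 4, 0]), (1215, []), (1011, []), (1010, []), (1019, []), (1143, [0, 2, 0, 3, 0, 2, 0]), (1215, [4, 5, 4, 3, 2, 3, 0, 2, 5, 1, 4, 0, 6]), (1008, [])],
  [(1144, [5, 0, 2, 1, 0, 3, 0, 2, 1, 5, 0]), (1097, [3, 0, 2, 3, 2, 0, 3, 0, 6]), (1214, [3, 4, 0, 3, 1, 0, 3, 1, 4, 0]), (1012, []), (1214, [2, 0, 2, 1, 5, 2, 0, 2, 1]), (1039, [4, 5, 4]), (1039, [0, 2, 3, 1, 3, 2, 1, 0]), (1016, [4, 3, 4, 1, 0, 3, 1, 0, 3, 0, 6]), (1009, [])],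
  [(1145, [5, 0, 2, 0, 3, 0, 2, 5, 0]), (1031, [0, 3, 2, 1, 3, 2, 1, 0]), (1010, []), (1013, []), (1215, []), (1145, [3]), (1059, [5, 1, 5, 4, 3, 1, 4, 3, 1, 6, 7]), (1216, []), (1149, [3, 0, 2, 3, 2, 0, 3, 0, 6])],
  [(1146, [5, 0, 2, 0, 3, 0, 2, 5, 0]), (1028, [3, 4, 0, 3, 1, 0, 3, 1, 4, 0, 6]), (1216, []), (1014, []), (1216, [4, 5, 4, 3, 2, 3, 0, 2, 5, 1, 4, 0, 6]), (1058, [4, 1, 0, 3, 5, 1, 4, 3, 1, 0, 7]), (1058, [3, 1, 0, 3, 0, 2, 3, 2, 1, 0, 6]), (1010, []), (1118, [4, 1, 0, 3, 1, 0, 3, 4, 0, 6])],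
  [(1083, [5, 3, 1, 0, 3, 0, 2, 1, 3, 2, 0]), (1147, [3, 4, 1, 0, 3, 1, 0, 3, 1, 4, 0]), (1011, []), (1215, []), (1013, []), (1147, [3]), (1083, [3, 0, 2, 1, 3, 1, 0, 3, 2, 0, 2, 6]), (1011, [4, 5, 4, 3, 2, 3, 0, 2, 5, 1, 4, 0, 6]), (1150, [3, 0, 2, 3, 2, 0, 3, 0, 6])],
  [(1076, [3, 0, 2, 3, 2, 5, 0, 3, 0, 6]), (1026, [3, 0, 2, 1, 3, 1, 0, 3, 2, 0, 2, 6]), (1014, []), (1216, []), (1014, [4, 5, 4, 3, 2, 3, 0, 2, 5, 1, 4, 0, 6]), (1061, [3, 0, 2, 5, 1, 0, 3, 4, 6]), (1025, [3, 0, 2, 1, 3, 1, 0, 3, 2, 0, 2, 6]), (1013, []), (1114, [1, 4, 2, 3, 4, 2, 1, 6])],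
  [(1149, [2, 5, 0, 3, 2, 0, 2, 3, 5, 0, 2]), (1094, [3, 4, 1, 0, 3, 1, 0, 3, 4, 0, 6]), (1016, []), (1015, []), (1217, []), (1149, [2, 3, 2]), (1042, []), (1214, [1, 3, 1, 0, 3, 0, 2, 3, 2, 0, 6]), (1145, [3, 0, 2, 3, 2, 0, 3, 0, 6])],
  [(1080, [5, 0, 3, 2, 1, 3, 2, 1, 0, 6]), (1150, [4, 0, 3, 1, 4, 3, 0, 6]), (1017, []), (1217, []), (1015, []), (1150, [2, 3, 2]), (1080, []), (1017, [1, 0, 3, 0, 2, 5, 2, 0, 3, 1, 0]), (1147, [3, 0, 2, 3, 2, 0, 3, 0, 6])],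
  [(1151, [2, 5, 0, 3, 2, 0, 2, 3, 5, 0, 2]), (1151, [4, 0, 3, 1, 4, 3, 0, 6]), (1217, []), (1017, []), (1016, []), (1020, []), (1151, [0, 2, 0, 3, 0, 2, 0]), (1217, [1, 0, 3, 0, 2, 5, 2, 0, 3, 1, 0]), (1117, [0, 2, 3, 2, 0, 3, 0, 6])]]

/-- Part of a table. -/
def lev0Mov36 : List (List (ℕ × List ℕ)) := [
  [(1203, [5, 2, 5]), (1027, [2, 0, 2, 1, 5, 2, 0, 2, 1]), (1027, []), (1022, []), (1021, []), (1055, [2, 0, 2, 5, 1, 4, 0]), (1218, []), (1152, [4, 1, 4]), (1203, [4, 0, 3, 1, 0, 3, 1, 4, 0, 6])],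
  [(1204, [5, 2, 5]), (1038, [2, 0, 2, 5, 1, 4, 0]), (1044, [4, 5, 4]), (1023, []), (1055, [2, 0, 2, 5, 1, 4, 0]), (1021, []), (1044, []), (1204, []), (1204, [4, 0, 3, 1, 0, 3, 1, 4, 0, 6])],
  [(1075, [3, 5, 0, 3, 0, 2, 3, 2, 0, 6]), (1024, []), (1049, [5, 3, 4, 0, 2, 3, 2, 5, 0, 3, 0]), (1049, []), (1062, [0, 2, 3, 1, 3, 0, 2, 5, 4, 1, 7]), (1025, []), (1061, [2, 0, 2, 0, 3, 1, 5, 4, 3, 1, 7]), (1154, [2, 1, 3, 2, 1]), (1116, [0, 2, 3, 2, 0, 2, 1, 3, 2, 1, 0, 6])],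
  [(1081, [1, 5, 4, 1, 4, 1, 6, 7]), (1061, [2, 0, 2, 0, 3, 1, 5, 4, 3, 1, 7]), (1050, [5, 3, 4, 0, 2, 3, 2, 5, 0, 3, 0]), (1219, []), (1060, [2, 0, 2, 0, 3, 1, 5, 4, 3, 1, 7]), (1026, []), (1024, []), (1155, [2, 1, 3, 2, 1]), (1166, [2, 0, 2, 0, 3, 1, 5, 4, 3, 1, 7])],
  [(1074, [3, 5, 0, 3, 0, 2, 3, 2, 0, 6]), (1156, [0]), (1030, [2, 3, 1, 3, 2, 1, 6]), (1051, []), (1025, []), (1062, [0, 2, 3, 1, 3, 0, 2, 5, 4, 1, 7]), (1030, [1, 3, 0, 2, 5, 3, 2, 1, 0, 3, 0]), (1074, [0, 2, 3, 1, 3, 2, 1, 0, 6]), (1115, [0, 2, 3, 2, 0, 2, 1, 3, 2, 1, 0, 6])],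
  [(1157, [2, 5, 0, 3, 2, 0, 2, 3, 5, 0, 2]), (1216, [3, 0, 2, 1, 3, 1, 0, 3, 2, 0, 2]), (1028, [3, 5, 1, 5, 4, 1, 4, 3, 1, 6, 7]), (1026, []), (1220, []), (1219, []), (1053, []), (1031, [2, 3, 1, 3, 2, 1, 6]), (1171, [])],
  [(1082, [1, 5, 4, 1, 4, 1, 6, 7]), (1029, [1, 3, 0, 2, 3, 5, 2, 1, 0, 3, 0, 6]), (1029, [3, 5, 1, 5, 4, 1, 4, 3, 1, 6, 7]), (1220, []), (1026, []), (1060, [2, 0, 2, 0, 3, 1, 5, 4, 3, 1, 7]), (1158, [0]), (1158, [4, 3, 1, 0, 3, 1, 0, 3, 1, 4, 0]), (1192, [2, 0, 3, 1, 3, 0, 2, 1, 6])],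
  [(1205, [5, 2, 5]), (1218, [2, 0, 2, 1, 5, 2, 0, 2, 1]), (1218, []), (1159, [0]), (1056, []), (1056, [4, 5, 4]), (1027, []), (1159, [4, 1, 4]), (1159, [3, 1, 4, 0, 3, 4, 1, 0, 3, 0])],
  [(1160, [5, 1, 0, 3, 2, 0, 2, 3, 1, 5, 0]), (1220, [0, 3, 0, 2, 1, 5, 3, 2, 0, 3, 1, 6]), (1220, [3, 5, 1, 5, 4, 1, 4, 3, 1, 6, 7]), (1029, []), (1028, []), (1057, [4, 5, 4]), (1221, []), (1160, [3, 4, 1, 0, 3, 1, 0, 3, 1, 4, 0]), (1027, [])],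
  [(1206, [5, 2, 5]), (1044, [5, 1, 5, 4, 2, 0, 2, 0]), (1038, []), (1033, []), (1032, []), (1032, [5, 1, 5, 4, 2, 0, 2, 0]), (1038, [2, 0, 2, 1, 5, 2, 0, 2, 1]), (1206, [2]), (1161, [4, 3, 4, 0, 3, 0, 2, 3, 2, 0])],
  [(1089, [5, 3, 1, 5, 4, 1, 4, 3, 1, 7]), (1125, [0, 2, 3, 2, 0, 2, 1, 3, 2, 1, 6]), (1041, [0, 3, 2, 1, 3, 4, 0, 2, 1, 7]), (1041, [2, 0, 2, 5, 1, 4, 0]), (1036, []), (1035, []), (1035, [1, 4, 3, 0, 2, 0, 3, 1, 7]), (1087, [2, 3, 1, 4, 0, 3, 1, 0, 3, 2, 0, 6, 7]), (1034, [])],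
  [(1090, [5, 3, 1, 5, 4, 1, 4, 3, 1, 7]), (1048, [1, 3, 0, 2, 3, 2, 0, 3, 1, 0, 6]), (1040, [3, 0, 2, 0, 3, 1, 4, 1, 6, 7]), (1222, []), (1037, [1, 4, 3, 0, 2, 0, 3, 1, 7]), (1037, []), (1036, []), (1163, [2, 3, 2]), (1163, [4, 3, 4, 0, 3, 0, 2, 3, 2, 0])],
  [(1164, [2, 5, 0, 3, 2, 0, 2, 3, 5, 0, 2]), (1045, [1, 3, 0, 2, 3, 2, 0, 3, 1, 0, 6]), (1039, [4, 0, 3, 4, 3, 0]), (1037, []), (1222, [1, 4, 3, 0, 2, 0, 3, 1, 7]), (1222, []), (1214, [4, 3, 4, 0, 3, 0, 2, 3, 2, 0]), (1042, [2, 3, 1, 3, 2, 1, 6]), (1164, [4, 3, 4, 0, 3, 0, 2, 3, 2, 0])],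
  [(1165, [5, 1, 0, 3, 2, 0, 2, 3, 1, 5, 0]), (1223, []), (1222, [3, 0, 2, 0, 3, 1, 4, 1, 6, 7]), (1040, []), (1039, []), (1214, [4, 1, 5, 2, 0, 2, 0]), (1222, [0, 3, 1, 4, 5, 2, 3, 0, 2, 1, 7]), (1165, [0, 2, 0, 3, 0, 2, 0]), (1038, [])],
  [(1091, [2, 3, 1, 3, 2, 1, 6]), (1040, []), (1048, [1, 0, 3, 4, 0, 2, 0, 3, 1, 0, 6, 7]), (1223, []), (1100, [3, 2, 0, 2, 3, 1, 0, 3, 2, 1, 0]), (1095, [4, 1, 3, 5, 0, 2, 1, 3, 1, 0, 3, 0, 6]), (1096, [4, 1, 3, 5, 0, 2, 1, 3, 1, 0, 3, 0, 6]), (1166, [0, 2, 0, 3, 0, 2, 0]), (1155, [3, 1, 4, 5, 2, 3, 0, 2, 1, 0, 6, 7])],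
  [(1207, [5, 2, 5]), (1043, []), (1055, []), (1046, []), (1044, [5, 1, 5, 4, 2, 0, 2, 0]), (1043, [5, 1, 5, 4, 2, 0, 2, 0]), (1224, []), (1063, []), (1225, [])],
  [(1208, [5, 2, 5]), (1224, []), (1056, []), (1168, [0]), (1218, []), (1224, [5, 1, 5, 4, 2, 0, 2, 0]), (1043, []), (1065, []), (1226, [])],
  [(1169, [0, 3, 5, 2, 0, 2, 5, 3, 0]), (1225, [4, 3, 4, 0, 3, 0, 2, 3, 2, 0]), (1099, [2, 0, 3, 1, 3, 0, 2, 1, 6]), (1047, []), (1045, []), (1225, [5, 1, 5, 4, 2, 0, 2, 0]), (1227, []), (1106, [4, 0, 3, 1, 0, 3, 1, 4, 6]), (1043, [])],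
  [(1170, [0, 3, 5, 2, 0, 2, 5, 3, 0]), (1222, [1, 3, 0, 2, 3, 2, 0, 3, 1, 0, 6]), (1223, [1, 0, 3, 4, 0, 2, 0, 3, 1, 0, 6, 7]), (1048, []), (1225, [5, 1, 5, 4, 2, 0, 2, 0]), (1045, []), (1223, [2, 0, 2, 0, 3, 1, 5, 4, 3, 1, 7]), (1170, [4, 3, 4]), (1044, [])],
  [(1171, [0, 3, 5, 2, 0, 2, 5, 3, 0]), (1214, [4, 1, 5, 3, 1, 5, 4, 3, 1, 7]), (1097, [2, 0, 3, 1, 3, 0, 2, 1, 6]), (1095, [2, 0, 3, 1, 3, 0, 2, 1, 6]), (1228, []), (1223, [2, 0, 2, 0, 3, 1, 5, 4, 3, 1, 7]), (1045, []), (1094, [2, 0, 3, 1, 3, 0, 2, 1, 6]), (1157, [])],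
  [(1101, [0, 3, 2, 1, 3, 2, 1, 0, 6]), (1047, [4, 3, 4, 0, 3, 0, 2, 3, 2, 0]), (1100, [0, 3, 2, 1, 3, 2, 1, 0, 6]), (1225, []), (1048, [5, 1, 5, 4, 2, 0, 2, 0]), (1047, [5, 1, 5, 4, 2, 0, 2, 0]), (1129, [0, 3, 2, 1, 3, 2, 0, 3, 1, 0]), (1108, [0, 3, 2, 1, 3, 2, 0, 3, 1, 0]), (1046, [])],
  [(1088, [3, 1, 4, 2, 0, 2, 0, 3, 2, 1, 7]), (1173, [0]), (1062, [1, 4, 3, 0, 2, 1, 0, 3, 6, 7]), (1062, [0, 2, 3, 1, 3, 0, 2, 5, 4, 1, 7]), (1049, []), (1051, []), (1051, [3, 1, 4, 0, 2, 1, 0, 3, 6, 7]), (1085, [1, 4, 0, 3, 0, 2, 1, 0, 3, 0, 6, 7]), (1125, [0, 2, 3, 2, 0, 2, 1, 3, 2, 1, 0, 6])],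
  [(1092, [1, 3, 0, 2, 3, 2, 0, 3, 1, 0]), (1050, []), (1061, [3, 2, 0, 3, 0, 2, 1, 3, 4, 1, 0, 7]), (1229, []), (1052, [3, 1, 4, 0, 2, 1, 0, 3, 6, 7]), (1052, []), (1049, []), (1174, [2, 1, 3, 2, 1]), (1174, [4, 3, 4, 0, 3, 0, 2, 3, 2, 0])],
  [(1175, [2, 5, 0, 3, 2, 0, 2, 3, 5, 0, 2]), (1229, []), (1219, [5, 3, 4, 0, 2, 3, 2, 5, 0, 3, 0]), (1050, []), (1230, []), (1053, []), (1219, []), (1175, [2, 1, 3, 2, 1]), (1128, [4, 0, 3, 1, 0, 3, 1, 4, 0, 6])],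
  [(1093, [1, 3, 0, 2, 3, 2, 0, 3, 1, 0]), (1054, [3, 1, 4, 0, 2, 1, 0, 3, 6, 7]), (1060, [3, 2, 0, 3, 0, 2, 1, 3, 4, 1, 0, 7]), (1230, []), (1050, []), (1054, []), (1176, [0]), (1070, [0, 3, 0, 2, 1, 3, 4, 0, 3, 1, 7]), (1129, [3, 1, 0, 3, 4, 0, 2, 1, 0, 3, 0, 6, 7])],
  [(1177, [2, 5, 0, 3, 2, 0, 2, 3, 5, 0, 2]), (1053, []), (1058, [4, 3, 4, 0, 3, 1, 0, 3, 1, 0, 6]), (1052, []), (1229, [3, 1, 4, 0, 2, 1, 0, 3, 6, 7]), (1229, []), (1216, [3, 0, 2, 1, 3, 1, 0, 3, 2, 0, 2]), (1059, [3, 0, 2, 3, 2, 1, 0, 3, 1, 0, 6]), (1177, [4, 3, 4, 0, 3, 0, 2, 3, 2, 0])],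
  [(1178, [2, 5, 0, 3, 2, 0, 2, 3, 5, 0, 2]), (1230, [3, 1, 4, 0, 2, 1, 0, 3, 6, 7]), (1057, [4, 3, 4, 0, 3, 1, 0, 3, 1, 0, 6]), (1054, []), (1053, []), (1230, []), (1226, []), (1066, [0, 2, 3, 2, 1, 3, 1, 0]), (1127, [4, 0, 3, 1, 0, 3, 1, 4, 0, 6])],
  [(1209, [5, 2, 5]), (1056, []), (1224, []), (1179, [0]), (1224, [2, 0, 2, 1, 5, 2, 0, 2, 1]), (1218, [4, 1, 5, 2, 0, 2, 0]), (1055, []), (1071, []), (1231, [])],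
  [(1180, [5, 0, 2, 1, 0, 3, 0, 2, 1, 5, 0]), (1057, []), (1230, [1, 3, 2, 0, 3, 4, 0, 2, 1, 3, 0, 6, 7]), (1060, []), (1219, [3, 1, 4, 5, 2, 3, 0, 2, 1, 0, 6, 7]), (1220, [3, 1, 4, 5, 2, 3, 0, 2, 1, 0, 6, 7]), (1231, [2, 3, 1, 3, 2, 1, 6]), (1072, [4, 3, 4, 0, 2, 3, 2, 0, 3, 0]), (1194, [3, 2, 0, 2, 3, 1, 0, 3, 2, 1, 0])],
  [(1181, [5, 0, 2, 1, 0, 3, 0, 2, 1, 5, 0]), (1231, [2, 3, 1, 3, 2, 1, 6]), (1226, [4, 3, 4, 0, 3, 1, 0, 3, 1, 0, 6]), (1181, [3, 1, 4, 0, 3, 4, 1, 0, 3]), (1221, [3, 1, 4, 0, 3, 4, 1, 0, 3, 0]), (1221, [4, 5, 4]), (1057, []), (1073, [4, 3, 4, 0, 2, 3, 2, 0, 3, 0]), (1181, [3, 1, 4, 0, 3, 4, 1, 0, 3, 0])],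
  [(1182, [5, 0, 2, 1, 0, 3, 0, 2, 1, 5, 0]), (1219, [3, 1, 4, 5, 2, 3, 0, 2, 1, 0, 6, 7]), (1229, [1, 3, 2, 0, 3, 4, 0, 2, 1, 3, 0, 6, 7]), (1061, []), (1058, []), (1216, [4, 3, 1, 5, 0, 2, 0, 3, 6]), (1229, [3, 1, 4, 5, 2, 3, 0, 2, 1, 0, 6, 7]), (1182, [0, 3, 2, 0, 2, 3, 0]), (1126, [4, 2, 3, 4, 2])],
  [(1210, [5, 2, 5]), (1064, []), (1183, [5, 1, 5]), (1068, []), (1210, [2]), (1063, []), (1232, []), (1064, [5, 1, 5, 4, 2, 0, 2, 0]), (1210, [0, 2, 3, 2, 0, 3, 0, 6])]]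

/-- Part of a table. -/
def lev0Mov37 : List (List (ℕ × List ℕ)) := [
  [(1211, [5, 2, 5]), (1065, []), (1071, []), (1184, [0]), (1233, []), (1232, []), (1063, []), (1224, []), (1234, [])],
  [(1212, [5, 2, 5]), (1232, []), (1185, [5, 1, 5]), (1185, [0]), (1185, [4, 1, 4]), (1065, []), (1064, []), (1232, [5, 1, 5, 4, 2, 0, 2, 0]), (1185, [4, 3, 1, 0, 3, 1, 0, 3, 4, 0])],
  [(1186, [3, 5, 2, 5, 0, 3, 1, 3, 1, 0, 6]), (1235, []), (1186, [5, 3, 1, 5, 0, 3, 0, 2, 3, 2, 0]), (1069, []), (1067, []), (1066, []), (1236, []), (1235, [1, 0, 3, 4, 0, 2, 0, 3, 1, 0, 6, 7]), (1064, [])],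
  [(1187, [3, 5, 2, 5, 0, 3, 1, 3, 1, 0, 6]), (1066, []), (1072, [3, 2, 3, 2, 6]), (1070, []), (1187, [0, 2, 0, 3, 0, 2, 0]), (1235, []), (1234, [5, 1, 5, 4, 3, 1, 4, 3, 1, 6, 7]), (1230, [1, 3, 4, 0, 3, 2, 1, 0, 3, 0, 7]), (1196, [2, 0, 3, 1, 0, 3, 0, 2, 1, 0, 6])],
  [(1188, [3, 5, 2, 5, 0, 3, 1, 3, 1, 0, 6]), (1234, [5, 1, 5, 4, 3, 1, 4, 3, 1, 6, 7]), (1073, [3, 2, 3, 2, 6]), (1188, [4, 3, 1, 0, 3, 1, 0, 3, 4]), (1188, [4, 3, 1, 0, 3, 1, 0, 3, 1, 4, 0]), (1236, []), (1066, []), (1226, [0, 2, 3, 2, 1, 3, 1, 0]), (1188, [4, 3, 1, 0, 3, 1, 0, 3, 4, 0])],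
  [(1103, [5, 1, 5, 4, 3, 1, 4, 3, 1, 6, 7]), (1069, []), (1189, [5, 3, 1, 5, 0, 3, 0, 2, 3, 2, 0]), (1235, []), (1189, [0, 2, 0, 3, 0, 2, 0]), (1070, []), (1189, [4, 3, 1, 0, 3, 1, 0, 3, 4]), (1069, [1, 0, 3, 4, 0, 2, 0, 3, 1, 0, 6, 7]), (1199, [2, 0, 3, 1, 0, 3, 0, 2, 1, 0, 6])],
  [(1213, [5, 2, 5]), (1190, [4, 1, 4]), (1233, []), (1190, [0]), (1071, []), (1190, [5, 1, 5]), (1213, [2]), (1233, [2, 0, 2, 1, 5, 2, 0, 2, 1]), (1190, [3, 0, 2, 3, 2, 0, 3, 0])],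
  [(1191, [5, 0, 2, 0, 3, 0, 2, 5, 0]), (1073, []), (1234, [5, 3, 1, 5, 4, 1, 4, 3, 1, 7]), (1191, [3, 1, 0, 3, 1, 0, 3]), (1237, []), (1191, [5, 3, 1, 5, 0, 3, 0, 2, 3, 2, 0]), (1072, []), (1231, [1, 3, 0, 2, 1, 3, 2, 0, 3, 0]), (1191, [3, 0, 2, 3, 2, 0, 3, 0, 6])],
  [(1102, [2, 0, 2, 5, 1, 4, 0, 3, 1, 3, 1, 6]), (1098, [1, 0, 3, 0, 2, 5, 2, 0, 3, 1, 0]), (1098, []), (1228, [2, 0, 3, 1, 3, 0, 2, 1, 6]), (1095, []), (1100, [2, 0, 2, 5, 1, 4, 0, 3, 1, 3, 1, 6]), (1120, [1, 3, 0, 2, 3, 2, 1, 3]), (1192, [4, 0, 3, 1, 4, 3, 0, 6]), (1158, [2, 0, 3, 1, 3, 0, 2, 1, 6])],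
  [(1193, [5, 0, 2, 0, 3, 0, 2, 5, 0]), (1228, [3, 1, 0, 3, 2, 5, 3, 2, 0, 3, 1, 6]), (1228, [2, 0, 3, 1, 3, 0, 2, 1, 6]), (1098, []), (1097, []), (1099, [4, 3, 1, 5, 1, 4, 3, 1, 6, 7]), (1238, []), (1193, [4, 0, 3, 1, 4, 3, 0, 6]), (1122, [1, 3, 1, 0, 3, 2, 3, 2, 0])],
  [(1194, [5, 0, 2, 0, 3, 0, 2, 5, 0]), (1099, []), (1225, [0, 3, 2, 1, 3, 2, 1, 0, 6]), (1100, []), (1223, [3, 2, 0, 2, 3, 1, 0, 3, 2, 1, 0, 6]), (1228, [3, 4, 0, 2, 3, 2, 1, 5, 2, 0, 3, 0, 6]), (1239, []), (1110, [1, 3, 0, 2, 3, 2, 1, 3]), (1180, [3, 2, 0, 2, 3, 1, 0, 3, 2, 1, 0, 6])],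
  [(1195, [5, 0, 2, 0, 3, 0, 2, 5, 0]), (1239, []), (1227, [2, 0, 3, 1, 3, 0, 2, 1, 6]), (1131, [1, 3, 0, 2, 3, 2, 1, 3]), (1238, []), (1238, [4, 3, 1, 5, 1, 4, 3, 1, 6, 7]), (1099, []), (1111, [1, 3, 0, 2, 3, 2, 1, 3]), (1195, [3, 1, 4, 0, 3, 4, 1, 0, 3, 0])],
  [(1196, [5, 2, 0, 2, 5]), (1106, []), (1110, []), (1108, []), (1196, [2, 0, 2]), (1240, []), (1241, []), (1225, [1, 3, 1, 4, 0, 2, 3, 4, 2, 0, 6]), (1187, [5, 2, 1, 3, 2, 0, 3, 1, 5, 0, 6])],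
  [(1197, [5, 2, 0, 2, 5]), (1240, []), (1197, [5, 1, 5]), (1109, []), (1107, []), (1106, []), (1242, []), (1240, [5, 1, 5, 4, 0, 2, 0]), (1133, [4, 1, 3, 1, 0, 3, 4, 6])],
  [(1198, [5, 2, 0, 2, 5]), (1241, []), (1111, []), (1134, []), (1198, [4, 1, 4]), (1242, []), (1106, []), (1227, [4, 1, 3, 1, 0, 3, 4, 0, 6]), (1198, [0, 2, 3, 2, 1, 3, 1, 0, 6])],
  [(1137, []), (1109, []), (1199, [5, 1, 5]), (1240, []), (1199, [2, 0, 2]), (1108, []), (1135, []), (1109, [5, 1, 5, 4, 0, 2, 0]), (1189, [5, 2, 1, 3, 2, 0, 3, 1, 5, 0, 6])],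
  [(1200, [5, 2, 0, 2, 5]), (1111, []), (1241, []), (1136, []), (1243, []), (1200, [5, 1, 5]), (1110, []), (1239, [3, 2, 1, 3, 2, 0, 3, 1]), (1200, [0, 3, 2, 3, 2, 0])],
  [(1138, [5, 2, 5]), (1201, [4, 1, 4]), (1117, []), (1113, []), (1112, []), (1138, []), (1138, [2]), (1117, [0, 2, 1, 5, 2, 1, 0]), (1138, [3])],
  [(1139, [5, 2, 5]), (1119, []), (1118, []), (1114, []), (1118, [0, 2, 1, 5, 2, 1, 0]), (1126, [0, 2, 5, 1, 4, 0]), (1123, []), (1112, []), (1216, [1, 4, 2, 3, 4, 2, 1, 6])],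
  [(1152, [5, 2, 5]), (1122, [0, 2, 1, 5, 2, 1, 0]), (1122, []), (1120, []), (1119, []), (1130, [0, 2, 5, 1, 4, 0]), (1244, []), (1203, [4, 1, 4]), (1152, [4, 1, 0, 3, 1, 0, 3, 4, 0, 6])],
  [(1153, [5, 2, 5]), (1126, [0, 2, 5, 1, 4, 0]), (1128, [4, 5, 4]), (1121, []), (1130, [0, 2, 5, 1, 4, 0]), (1119, []), (1128, []), (1153, []), (1153, [4, 1, 0, 3, 1, 0, 3, 4, 0, 6])],
  [(1159, [5, 2, 5]), (1244, [0, 2, 1, 5, 2, 1, 0]), (1244, []), (1238, [3, 2, 1, 3, 2, 0, 3, 1]), (1131, []), (1131, [4, 5, 4]), (1122, []), (1205, [4, 1, 4]), (1205, [0, 2, 3, 1, 3, 2, 1, 0])],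
  [(1161, [5, 2, 5]), (1128, [5, 1, 5, 4, 0, 2, 0]), (1126, []), (1124, []), (1123, []), (1123, [5, 1, 5, 4, 0, 2, 0]), (1126, [0, 2, 1, 5, 2, 1, 0]), (1161, [2]), (1206, [4, 3, 4, 0, 2, 3, 2, 0, 3, 0])],
  [(1167, [5, 2, 5]), (1127, []), (1130, []), (1129, []), (1128, [5, 1, 5, 4, 0, 2, 0]), (1127, [5, 1, 5, 4, 0, 2, 0]), (1245, []), (1132, []), (1230, [1, 4, 2, 3, 2, 0, 3, 1, 3, 2, 0, 7])],
  [(1168, [5, 2, 5]), (1245, []), (1131, []), (1227, [4, 1, 3, 1, 0, 3, 4, 0, 6]), (1244, []), (1245, [5, 1, 5, 4, 0, 2, 0]), (1127, []), (1134, []), (1227, [4, 1, 0, 3, 1, 0, 3, 4, 0, 6])],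
  [(1179, [5, 2, 5]), (1131, []), (1245, []), (1239, [3, 2, 1, 3, 2, 0, 3, 1]), (1245, [0, 2, 1, 5, 2, 1, 0]), (1244, [4, 1, 5, 0, 2, 0]), (1130, []), (1136, []), (1239, [0, 3, 2, 1, 3, 2, 0, 3, 1])],
  [(1183, [5, 2, 5]), (1133, []), (1210, [5, 1, 5]), (1135, []), (1183, [2]), (1132, []), (1246, []), (1133, [5, 1, 5, 4, 0, 2, 0]), (1183, [0, 3, 0, 2, 3, 2, 0, 6])],
  [(1184, [5, 2, 5]), (1134, []), (1136, []), (1241, []), (1247, []), (1246, []), (1132, []), (1245, []), (1241, [0, 3, 0])],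
  [(1185, [5, 2, 5]), (1246, []), (1212, [5, 1, 5]), (1242, []), (1212, [4, 1, 4]), (1134, []), (1133, []), (1246, [5, 1, 5, 4, 0, 2, 0]), (1212, [0, 2, 3, 2, 1, 3, 1, 0, 6])],
  [(1190, [5, 2, 5]), (1213, [4, 1, 4]), (1247, []), (1243, []), (1136, []), (1213, [5, 1, 5]), (1190, [2]), (1247, [0, 2, 1, 5, 2, 1, 0]), (1213, [0, 3, 2, 3, 2, 0])],
  [(1214, [0, 3, 5, 2, 0, 2, 5, 3, 0]), (1171, [4, 1, 5, 3, 1, 5, 4, 3, 1, 7]), (1144, [3, 4, 0, 3, 1, 0, 3, 1, 4, 0]), (1140, []), (1144, [2, 0, 2, 1, 5, 2, 0, 2, 1]), (1165, [2, 0, 2, 5, 1, 4, 0]), (1164, [4, 3, 4, 0, 3, 0, 2, 3, 2, 0]), (1149, [1, 3, 1, 0, 3, 0, 2, 3, 2, 0]), (1139, [])],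
  [(1215, [5, 0, 2, 0, 3, 0, 2, 5, 0]), (1215, [3, 4, 1, 0, 3, 1, 0, 3, 1, 4, 0]), (1143, []), (1147, []), (1145, []), (1215, [3]), (1215, [0, 2, 0, 3, 0, 2, 0]), (1143, [4, 5, 4, 3, 2, 3, 0, 2, 5, 1, 4, 0, 6]), (1217, [3, 0, 2, 3, 2, 0, 3, 0, 6])]]

/-- Part of a table. -/
def lev0Mov38 : List (List (ℕ × List ℕ)) := [
  [(1216, [5, 0, 2, 0, 3, 0, 2, 5, 0]), (1157, [3, 0, 2, 1, 3, 1, 0, 3, 2, 0, 2, 6]), (1146, []), (1148, []), (1146, [4, 5, 4, 3, 2, 3, 0, 2, 5, 1, 4, 0, 6]), (1182, [3, 0, 2, 5, 1, 0, 3, 4, 6]), (1177, [3, 0, 2, 1, 3, 1, 0, 3, 2, 0, 2, 6]), (1145, []), (1202, [1, 4, 2, 3, 4, 2, 1, 6])],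
  [(1217, [2, 5, 0, 3, 2, 0, 2, 3, 5, 0, 2]), (1217, [4, 0, 3, 1, 4, 3, 0, 6]), (1151, []), (1150, []), (1149, []), (1217, [2, 3, 2]), (1217, [0, 2, 0, 3, 0, 2, 0]), (1151, [1, 0, 3, 0, 2, 5, 2, 0, 3, 1, 0]), (1215, [3, 0, 2, 3, 2, 0, 3, 0, 6])],
  [(1244, [5, 2, 5]), (1159, [2, 0, 2, 1, 5, 2, 0, 2, 1]), (1159, []), (1218, [0]), (1168, []), (1179, [2, 0, 2, 5, 1, 4, 0]), (1152, []), (1218, [4, 1, 4]), (1248, [])],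
  [(1219, [2, 5, 0, 3, 2, 0, 2, 3, 5, 0, 2]), (1182, [2, 0, 2, 0, 3, 1, 5, 4, 3, 1, 7]), (1175, [5, 3, 4, 0, 2, 3, 2, 5, 0, 3, 0]), (1155, []), (1180, [2, 0, 2, 0, 3, 1, 5, 4, 3, 1, 7]), (1157, []), (1175, []), (1219, [2, 1, 3, 2, 1]), (1223, [2, 0, 2, 0, 3, 1, 5, 4, 3, 1, 7])],
  [(1220, [2, 5, 0, 3, 2, 0, 2, 3, 5, 0, 2]), (1160, [1, 3, 0, 2, 3, 5, 2, 1, 0, 3, 0, 6]), (1160, [3, 5, 1, 5, 4, 1, 4, 3, 1, 6, 7]), (1158, []), (1157, []), (1180, [2, 0, 2, 0, 3, 1, 5, 4, 3, 1, 7]), (1248, []), (1220, [4, 3, 1, 0, 3, 1, 0, 3, 1, 4, 0]), (1228, [])],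
  [(1221, [5, 1, 0, 3, 2, 0, 2, 3, 1, 5, 0]), (1248, [0, 3, 0, 2, 1, 5, 3, 2, 0, 3, 1, 6]), (1248, [3, 5, 1, 5, 4, 1, 4, 3, 1, 6, 7]), (1221, [3, 1, 4, 0, 3, 4, 1, 0, 3]), (1181, [3, 1, 4, 0, 3, 4, 1, 0, 3, 0]), (1181, [4, 5, 4]), (1160, []), (1221, [3, 4, 1, 0, 3, 1, 0, 3, 1, 4, 0]), (1221, [3, 1, 4, 0, 3, 4, 1, 0, 3, 0])],
  [(1222, [2, 5, 0, 3, 2, 0, 2, 3, 5, 0, 2]), (1170, [1, 3, 0, 2, 3, 2, 0, 3, 1, 0, 6]), (1165, [3, 0, 2, 0, 3, 1, 4, 1, 6, 7]), (1163, []), (1164, [1, 4, 3, 0, 2, 0, 3, 1, 7]), (1164, []), (1165, [2, 0, 2, 3, 1, 5, 4, 3, 1, 0, 6, 7]), (1222, [2, 3, 2]), (1222, [4, 3, 4, 0, 3, 0, 2, 3, 2, 0])],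
  [(1223, [5, 1, 0, 3, 2, 0, 2, 3, 1, 5, 0]), (1165, []), (1170, [1, 0, 3, 4, 0, 2, 0, 3, 1, 0, 6, 7]), (1166, []), (1194, [3, 2, 0, 2, 3, 1, 0, 3, 2, 1, 0]), (1171, [3, 1, 4, 5, 2, 3, 0, 2, 1, 0, 6, 7]), (1170, [3, 1, 4, 5, 2, 3, 0, 2, 1, 0, 6, 7]), (1223, [0, 2, 0, 3, 0, 2, 0]), (1219, [3, 1, 4, 5, 2, 3, 0, 2, 1, 0, 6, 7])],
  [(1245, [5, 2, 5]), (1168, []), (1179, []), (1224, [0]), (1179, [2, 0, 2, 1, 5, 2, 0, 2, 1]), (1168, [5, 1, 5, 4, 2, 0, 2, 0]), (1167, []), (1184, []), (1249, [])],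
  [(1225, [2, 5, 0, 3, 2, 0, 2, 3, 5, 0, 2]), (1169, [4, 3, 4, 0, 3, 0, 2, 3, 2, 0]), (1194, [0, 3, 2, 1, 3, 2, 1, 0, 6]), (1172, []), (1170, [5, 1, 5, 4, 2, 0, 2, 0]), (1169, [5, 1, 5, 4, 2, 0, 2, 0]), (1250, []), (1196, [0, 3, 2, 1, 3, 2, 0, 3, 1, 0]), (1167, [])],
  [(1226, [2, 5, 0, 3, 2, 0, 2, 3, 5, 0, 2]), (1249, [1, 3, 0, 2, 3, 2, 0, 3, 1, 0]), (1181, [4, 3, 4, 0, 3, 1, 0, 3, 1, 0, 6]), (1226, [0]), (1248, []), (1249, [5, 1, 5, 4, 2, 0, 2, 0]), (1178, []), (1188, [0, 2, 3, 2, 1, 3, 1, 0]), (1168, [])],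
  [(1227, [0, 3, 5, 2, 0, 2, 5, 3, 0]), (1250, [4, 3, 4, 0, 3, 0, 2, 3, 2, 0]), (1195, [2, 0, 3, 1, 3, 0, 2, 1, 6]), (1208, [4, 0, 3, 1, 0, 3, 1, 4, 6]), (1251, []), (1250, [5, 1, 5, 4, 2, 0, 2, 0]), (1169, []), (1198, [4, 0, 3, 1, 0, 3, 1, 4, 6]), (1208, [4, 0, 3, 1, 0, 3, 1, 4, 0, 6])],
  [(1228, [0, 3, 5, 2, 0, 2, 5, 3, 0]), (1193, [1, 3, 0, 2, 5, 1, 3, 2, 0, 3, 0]), (1193, [2, 0, 3, 1, 3, 0, 2, 1, 6]), (1192, [2, 0, 3, 1, 3, 0, 2, 1, 6]), (1171, []), (1194, [3, 0, 2, 5, 2, 1, 3, 4, 2, 0, 3, 0, 6]), (1251, []), (1228, [0, 3, 4, 1, 4, 3, 0]), (1220, [])],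
  [(1229, [2, 5, 0, 3, 2, 0, 2, 3, 5, 0, 2]), (1175, []), (1182, [3, 2, 0, 3, 0, 2, 1, 3, 4, 1, 0, 7]), (1174, []), (1177, [3, 1, 4, 0, 2, 1, 0, 3, 6, 7]), (1177, []), (1182, [2, 0, 2, 0, 3, 1, 5, 4, 3, 1, 7]), (1229, [2, 1, 3, 2, 1]), (1229, [4, 3, 4, 0, 3, 0, 2, 3, 2, 0])],
  [(1230, [2, 5, 0, 3, 2, 0, 2, 3, 5, 0, 2]), (1178, [3, 1, 4, 0, 2, 1, 0, 3, 6, 7]), (1180, [3, 2, 0, 3, 0, 2, 1, 3, 4, 1, 0, 7]), (1176, []), (1175, []), (1178, []), (1249, [5, 1, 5, 4, 2, 0, 2, 0]), (1187, [0, 3, 0, 2, 1, 3, 4, 0, 3, 1, 7]), (1207, [3, 1, 0, 3, 4, 0, 2, 1, 0, 3, 0, 6, 7])],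
  [(1231, [5, 0, 2, 1, 0, 3, 0, 2, 1, 5, 0]), (1181, [2, 3, 1, 3, 2, 1, 6]), (1249, [3, 0, 2, 1, 3, 2, 1, 0, 3, 0]), (1231, [0]), (1249, [2, 0, 2, 1, 5, 2, 0, 2, 1]), (1248, [4, 1, 5, 2, 0, 2, 0]), (1180, [2, 3, 1, 3, 2, 1, 6]), (1191, [1, 3, 0, 2, 1, 3, 2, 0, 3, 0, 6]), (1179, [])],
  [(1246, [5, 2, 5]), (1185, []), (1232, [5, 1, 5]), (1232, [0]), (1252, []), (1184, []), (1183, []), (1185, [5, 1, 5, 4, 2, 0, 2, 0]), (1253, [])],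
  [(1247, [5, 2, 5]), (1233, [4, 1, 4]), (1190, []), (1233, [0]), (1184, []), (1252, []), (1247, [2]), (1190, [2, 0, 2, 1, 5, 2, 0, 2, 1]), (1254, [])],
  [(1234, [3, 5, 2, 5, 0, 3, 1, 3, 1, 0, 6]), (1188, [5, 1, 5, 4, 3, 1, 4, 3, 1, 6, 7]), (1191, [5, 3, 1, 5, 4, 1, 4, 3, 1, 7]), (1234, [0]), (1254, []), (1253, []), (1187, [5, 1, 5, 4, 3, 1, 4, 3, 1, 6, 7]), (1249, [3, 1, 0, 3, 1, 0, 3, 0]), (1184, [])],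
  [(1235, [3, 5, 2, 5, 0, 3, 1, 3, 1, 0, 6]), (1186, []), (1235, [5, 3, 1, 5, 0, 3, 0, 2, 3, 2, 0]), (1189, []), (1235, [0, 2, 0, 3, 0, 2, 0]), (1187, []), (1253, [5, 1, 5, 4, 3, 1, 4, 3, 1, 6, 7]), (1186, [1, 0, 3, 4, 0, 2, 0, 3, 1, 0, 6, 7]), (1240, [2, 0, 3, 1, 0, 3, 0, 2, 1, 0, 6])],
  [(1236, [3, 5, 2, 5, 0, 3, 1, 3, 1, 0, 6]), (1253, [5, 1, 5, 4, 3, 1, 4, 3, 1, 6, 7]), (1236, [5, 3, 1, 5, 0, 3, 0, 2, 3, 2, 0]), (1236, [4, 3, 1, 0, 3, 1, 0, 3, 4]), (1236, [4, 3, 1, 0, 3, 1, 0, 3, 1, 4, 0]), (1188, []), (1186, []), (1253, [3, 1, 3, 4, 2, 0, 2, 1, 0, 7]), (1236, [4, 3, 1, 0, 3, 1, 0, 3, 4, 0])],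
  [(1237, [5, 0, 2, 0, 3, 0, 2, 5, 0]), (1237, [3, 4, 1, 0, 3, 1, 0, 3, 1, 4, 0]), (1254, [5, 3, 1, 5, 4, 1, 4, 3, 1, 7]), (1237, [3, 1, 0, 3, 1, 0, 3]), (1191, []), (1237, [5, 3, 1, 5, 0, 3, 0, 2, 3, 2, 0]), (1237, [0, 2, 0, 3, 0, 2, 0]), (1254, [2, 0, 2, 1, 5, 2, 0, 2, 3, 1, 3, 6]), (1237, [3, 0, 2, 3, 2, 0, 3, 0, 6])],
  [(1238, [5, 0, 2, 0, 3, 0, 2, 5, 0]), (1251, [3, 1, 0, 3, 2, 5, 3, 2, 0, 3, 1, 6]), (1251, [2, 0, 3, 1, 3, 0, 2, 1, 6]), (1205, [1, 3, 0, 2, 3, 2, 1, 3]), (1195, []), (1195, [4, 3, 1, 5, 1, 4, 3, 1, 6, 7]), (1193, []), (1238, [4, 0, 3, 1, 4, 3, 0, 6]), (1238, [3, 1, 4, 0, 3, 4, 1, 0, 3, 0])],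
  [(1239, [5, 0, 2, 0, 3, 0, 2, 5, 0]), (1195, []), (1250, [0, 3, 2, 1, 3, 2, 1, 0, 6]), (1209, [1, 3, 0, 2, 3, 2, 1, 3]), (1250, [3, 0, 2, 5, 4, 1, 4, 2, 0, 3, 7]), (1251, [3, 4, 0, 2, 3, 2, 1, 5, 2, 0, 3, 0, 6]), (1194, []), (1200, [1, 3, 0, 2, 3, 2, 1, 3]), (1209, [1, 3, 0, 2, 3, 2, 1, 3, 0])],
  [(1240, [5, 2, 0, 2, 5]), (1197, []), (1240, [5, 1, 5]), (1199, []), (1240, [2, 0, 2]), (1196, []), (1255, []), (1197, [5, 1, 5, 4, 0, 2, 0]), (1235, [5, 2, 1, 3, 2, 0, 3, 1, 5, 0, 6])],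
  [(1241, [5, 2, 0, 2, 5]), (1198, []), (1200, []), (1211, []), (1256, []), (1255, []), (1196, []), (1250, [1, 3, 1, 4, 0, 2, 3, 4, 2, 0, 6]), (1211, [0, 3, 0])],
  [(1242, [5, 2, 0, 2, 5]), (1255, []), (1242, [5, 1, 5]), (1212, []), (1242, [4, 1, 4]), (1198, []), (1197, []), (1255, [5, 1, 5, 4, 0, 2, 0]), (1242, [0, 2, 3, 2, 1, 3, 1, 0, 6])],
  [(1243, [5, 2, 0, 2, 5]), (1243, [4, 1, 4]), (1256, []), (1213, []), (1200, []), (1243, [5, 1, 5]), (1243, [2, 0, 2]), (1256, [0, 2, 1, 5, 2, 1, 0]), (1243, [0, 3, 2, 3, 2, 0])],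
  [(1218, [5, 2, 5]), (1205, [0, 2, 1, 5, 2, 1, 0]), (1205, []), (1251, [4, 1, 3, 1, 0, 3, 4, 0, 6]), (1208, []), (1209, [0, 2, 5, 1, 4, 0]), (1203, []), (1244, [4, 1, 4]), (1251, [4, 1, 0, 3, 1, 0, 3, 4, 0, 6])],
  [(1224, [5, 2, 5]), (1208, []), (1209, []), (1250, [1, 3, 1, 4, 0, 2, 3, 4, 2, 0, 6]), (1209, [0, 2, 1, 5, 2, 1, 0]), (1208, [5, 1, 5, 4, 0, 2, 0]), (1207, []), (1211, []), (1250, [1, 3, 0, 2, 3, 2, 1, 3, 0])],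
  [(1232, [5, 2, 5]), (1212, []), (1246, [5, 1, 5]), (1255, []), (1257, []), (1211, []), (1210, []), (1212, [5, 1, 5, 4, 0, 2, 0]), (1255, [0, 3, 0])],
  [(1233, [5, 2, 5]), (1247, [4, 1, 4]), (1213, []), (1256, []), (1211, []), (1257, []), (1233, [2]), (1213, [0, 2, 1, 5, 2, 1, 0]), (1256, [0, 3, 0])]]

/-- Part of a table. -/
def lev0Mov39 : List (List (ℕ × List ℕ)) := [
  [(1248, [2, 5, 0, 3, 2, 0, 2, 3, 5, 0, 2]), (1221, [1, 3, 0, 2, 3, 5, 2, 1, 0, 3, 0, 6]), (1221, [3, 5, 1, 5, 4, 1, 4, 3, 1, 6, 7]), (1248, [0]), (1226, []), (1231, [2, 0, 2, 5, 1, 4, 0]), (1220, []), (1248, [4, 3, 1, 0, 3, 1, 0, 3, 1, 4, 0]), (1218, [])],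
  [(1249, [0, 3, 5, 2, 0, 2, 5, 3, 0]), (1226, [1, 3, 0, 2, 3, 2, 0, 3, 1, 0]), (1231, [3, 0, 2, 1, 3, 2, 1, 0, 3, 0]), (1249, [0]), (1231, [2, 0, 2, 1, 5, 2, 0, 2, 1]), (1226, [5, 1, 5, 4, 2, 0, 2, 0]), (1230, [5, 1, 5, 4, 2, 0, 2, 0]), (1234, [3, 1, 0, 3, 1, 0, 3, 0]), (1224, [])],
  [(1250, [2, 5, 0, 3, 2, 0, 2, 3, 5, 0, 2]), (1227, [4, 3, 4, 0, 3, 0, 2, 3, 2, 0]), (1239, [0, 3, 2, 1, 3, 2, 1, 0, 6]), (1245, [0, 3, 2, 1, 3, 2, 0, 3, 1, 0]), (1239, [3, 0, 2, 5, 4, 1, 4, 2, 0, 3, 7]), (1227, [5, 1, 5, 4, 2, 0, 2, 0]), (1225, []), (1241, [0, 3, 2, 1, 3, 2, 0, 3, 1, 0]), (1245, [0, 3, 2, 1, 3, 2, 0, 3, 1])],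
  [(1251, [0, 3, 5, 2, 0, 2, 5, 3, 0]), (1238, [1, 3, 0, 2, 5, 1, 3, 2, 0, 3, 0]), (1238, [2, 0, 3, 1, 3, 0, 2, 1, 6]), (1244, [4, 0, 3, 1, 0, 3, 1, 4, 6]), (1227, []), (1239, [3, 0, 2, 5, 2, 1, 3, 4, 2, 0, 3, 0, 6]), (1228, []), (1251, [0, 3, 4, 1, 4, 3, 0]), (1244, [4, 0, 3, 1, 0, 3, 1, 4, 0, 6])],
  [(1257, [5, 2, 5]), (1252, [4, 1, 4]), (1252, [5, 1, 5]), (1252, [0]), (1232, []), (1233, []), (1257, [2]), (1252, [1]), (1258, [])],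
  [(1253, [3, 5, 2, 5, 0, 3, 1, 3, 1, 0, 6]), (1236, [5, 1, 5, 4, 3, 1, 4, 3, 1, 6, 7]), (1253, [3, 5, 1, 5, 0, 3, 0, 2, 3, 2, 0]), (1253, [0]), (1258, []), (1234, []), (1235, [5, 1, 5, 4, 3, 1, 4, 3, 1, 6, 7]), (1236, [0, 2, 0, 3, 1, 4, 2, 3, 1, 7]), (1232, [])],
  [(1254, [3, 5, 2, 5, 0, 3, 1, 3, 1, 0, 6]), (1254, [4, 3, 1, 0, 3, 1, 0, 3, 1, 4, 0]), (1237, [5, 3, 1, 5, 4, 1, 4, 3, 1, 7]), (1254, [0]), (1234, []), (1258, []), (1254, [0, 2, 0, 3, 0, 2, 0]), (1237, [3, 1, 3, 2, 0, 2, 5, 2, 0, 2, 1, 6]), (1233, [])],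
  [(1255, [5, 2, 0, 2, 5]), (1242, []), (1255, [5, 1, 5]), (1246, []), (1259, []), (1241, []), (1240, []), (1242, [5, 1, 5, 4, 0, 2, 0]), (1246, [0, 3, 0])],
  [(1256, [5, 2, 0, 2, 5]), (1256, [4, 1, 4]), (1243, []), (1247, []), (1241, []), (1259, []), (1256, [2, 0, 2]), (1243, [0, 2, 1, 5, 2, 1, 0]), (1247, [0, 3, 0])],
  [(1252, [5, 2, 5]), (1257, [4, 1, 4]), (1257, [5, 1, 5]), (1259, []), (1246, []), (1247, []), (1252, [2]), (1257, [1]), (1259, [0, 3, 0])],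
  [(1258, [3, 5, 2, 5, 0, 3, 1, 3, 1, 0, 6]), (1258, [4, 3, 1, 0, 3, 1, 0, 3, 1, 4, 0]), (1258, [3, 5, 1, 5, 0, 3, 0, 2, 3, 2, 0]), (1258, [0]), (1253, []), (1254, []), (1258, [0, 2, 0, 3, 0, 2, 0]), (1258, [3, 1, 0, 3, 1, 0, 3, 1, 0]), (1252, [])],
  [(1259, [5, 2, 0, 2, 5]), (1259, [4, 1, 4]), (1259, [5, 1, 5]), (1257, []), (1255, []), (1256, []), (1259, [2, 0, 2]), (1259, [1]), (1257, [0, 3, 0])]]

/-- A table in blocks. -/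
def lev0MovTab : List (List (List (ℕ × List ℕ))) := [
  lev0Mov0, lev0Mov1, lev0Mov2, lev0Mov3, lev0Mov4, lev0Mov5, lev0Mov6, lev0Mov7,
  lev0Mov8, lev0Mov9, lev0Mov10, lev0Mov11, lev0Mov12, lev0Mov13, lev0Mov14, lev0Mov15,
  lev0Mov16, lev0Mov17, lev0Mov18, lev0Mov19, lev0Mov20, lev0Mov21, lev0Mov22, lev0Mov23,
  lev0Mov24, lev0Mov25, lev0Mov26, lev0Mov27, lev0Mov28, lev0Mov29, lev0Mov30, lev0Mov31,
  lev0Mov32, lev0Mov33, lev0Mov34, lev0Mov35, lev0Mov36, lev0Mov37, lev0Mov38, lev0Mov39]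

/-- A level. -/
def lev0 : Lev where
  gens := [
  [0], [1], [2], [3], [4], [5], [6], [7],
  [8]]
  base := [23]
  nrep := 1260
  rep := blk 32 lev0RepTab []
  move := fun i k => (blk 32 lev0MovTab [] i).getD k (1260, [])
  next := [
  [16], [17], [18], [19], [20], [21], [22], [23]]

/-- Part of a table. -/
def lev1Rep0 : List (List ℕ) := [
  [], [16], [17], [18],
  [19], [20], [21], [17, 16],
  [18, 16], [20, 16], [21, 16], [18, 17],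
  [19, 17], [20, 17], [21, 17], [16, 18],
  [19, 18], [20, 18], [21, 18], [17, 19],
  [18, 19], [21, 19], [17, 21], [18, 21],
  [19, 21], [18, 17, 16], [21, 17, 16], [16, 18, 16],
  [20, 18, 16], [16, 18, 17], [19, 18, 17], [20, 18, 17]]

/-- Part of a table. -/
def lev1Rep1 : List (List ℕ) := [
  [21, 18, 17], [17, 19, 17], [18, 19, 17], [18, 21, 17],
  [18, 16, 18], [20, 16, 18], [21, 16, 18], [18, 19, 18],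
  [21, 19, 18], [19, 20, 18], [21, 20, 18], [17, 21, 18],
  [18, 21, 18], [19, 21, 18], [20, 21, 18], [18, 17, 19],
  [19, 18, 19], [21, 18, 19], [18, 21, 19], [18, 17, 21],
  [19, 17, 21], [16, 18, 21], [21, 18, 21], [18, 16, 18, 17],
  [19, 16, 18, 17], [21, 16, 18, 17], [21, 19, 18, 17], [19, 20, 18, 17],
  [21, 20, 18, 17], [18, 21, 18, 17], [19, 21, 18, 17], [20, 21, 18, 17]]

/-- Part of a table. -/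
def lev1Rep2 : List (List ℕ) := [
  [21, 18, 19, 17], [21, 18, 21, 17], [20, 18, 16, 18], [21, 18, 16, 18],
  [21, 20, 16, 18], [18, 21, 16, 18], [20, 21, 16, 18], [18, 21, 19, 18],
  [17, 21, 20, 18], [18, 17, 21, 18], [19, 17, 21, 18], [16, 18, 21, 18],
  [19, 18, 21, 18], [21, 18, 21, 18], [18, 19, 21, 18], [18, 21, 18, 19],
  [20, 21, 18, 19], [21, 16, 18, 21], [19, 21, 18, 21], [21, 18, 16, 18, 17],
  [20, 21, 16, 18, 17], [18, 21, 19, 18, 17], [18, 21, 20, 18, 17], [16, 18, 21, 18, 17],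
  [17, 20, 21, 18, 17], [18, 21, 18, 19, 17], [20, 21, 18, 19, 17], [21, 20, 18, 16, 18],
  [20, 21, 18, 16, 18], [17, 20, 21, 16, 18], [20, 21, 18, 16, 18, 17], [17, 20, 21, 16, 18, 17]]

/-- A table in blocks. -/
def lev1RepTab : List (List (List ℕ)) := [
  lev1Rep0, lev1Rep1, lev1Rep2]

/-- Part of a table. -/
def lev1Mov0 : List (List (ℕ × List ℕ)) := [
  [(1, []), (2, []), (3, []), (4, []), (5, []), (6, []), (0, [4]), (0, [5])],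
  [(0, []), (7, []), (8, []), (1, [0]), (9, []), (10, []), (1, [4]), (1, [5])],
  [(7, []), (0, []), (11, []), (12, []), (13, []), (14, []), (2, [4]), (2, [5])],
  [(15, []), (11, []), (0, []), (16, []), (17, []), (18, []), (3, [4]), (3, [5])],
  [(4, [0]), (19, []), (20, []), (0, []), (4, [1, 2, 2, 1, 0, 2, 0, 4, 5]), (21, []), (4, [4]), (4, [5])],
  [(9, []), (14, [2, 2, 1, 2, 4]), (17, []), (19, [2]), (0, []), (13, [2, 2, 1, 2, 1, 4]), (5, [4]), (5, [5])],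
  [(10, []), (22, []), (23, []), (24, []), (14, [2, 2, 1, 2, 1, 4]), (0, []), (6, [4]), (6, [5])],
  [(2, []), (1, []), (25, []), (7, [2, 1, 0, 2, 1, 2, 1, 4]), (25, [3, 2, 0, 1, 2, 2, 1, 5]), (26, []), (7, [4]), (7, [5])],
  [(27, []), (25, []), (1, []), (8, [2, 1, 2, 0, 1, 2, 0, 1, 0]), (28, []), (28, [3, 0, 2, 1, 3, 0, 4]), (8, [4]), (8, [5])],
  [(5, []), (26, [2, 2, 1, 2, 4]), (28, []), (9, [2, 2, 2, 0, 2]), (1, []), (25, [3, 0, 1, 0, 2, 0, 5]), (9, [4]), (9, [5])],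
  [(6, []), (28, [3, 2, 0, 1, 2, 2, 5]), (26, [1, 3, 2, 0, 2, 1, 4, 5]), (10, [2, 2, 2, 0, 2]), (26, [2, 2, 1, 2, 1, 4]), (1, []), (10, [4]), (10, [5])],
  [(29, []), (3, []), (2, []), (30, []), (31, []), (32, []), (11, [4]), (11, [5])],
  [(12, [2, 1, 0, 2, 1, 2, 1, 4]), (33, []), (34, []), (2, []), (24, [2, 2, 1, 0, 2, 0, 4, 5]), (12, [3, 1, 0, 1, 3, 1, 0, 5]), (12, [4]), (12, [5])],
  [(25, [3, 2, 0, 1, 2, 2, 1, 5]), (27, [3, 2, 0, 1, 2, 2, 1, 5]), (31, []), (21, [2, 2, 1, 0, 2, 0, 4, 5]), (2, []), (5, [2, 2, 1, 2, 1, 4]), (13, [4]), (13, [5])],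
  [(26, []), (5, [1, 2, 2, 1, 2, 1, 4]), (35, []), (33, [1, 2, 2, 4]), (6, [2, 2, 1, 2, 1, 4]), (2, []), (14, [4]), (14, [5])],
  [(3, []), (29, []), (36, []), (15, [3]), (37, []), (38, []), (15, [4]), (15, [5])],
  [(16, [3]), (16, [0, 1, 2, 2, 1, 0, 5]), (39, []), (3, []), (16, [1, 2, 2, 1, 0, 2, 0, 4, 5]), (40, []), (16, [4]), (16, [5])],
  [(37, []), (35, [2, 2, 1, 2, 4]), (5, []), (41, []), (3, []), (42, []), (17, [4]), (17, [5])],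
  [(38, []), (43, []), (44, []), (45, []), (46, []), (3, []), (18, [4]), (18, [5])],
  [(19, [0]), (4, []), (47, []), (5, [2, 2, 2]), (19, [2, 0, 1, 2, 2, 1, 0, 4, 5]), (24, [0, 1, 2, 2, 1, 0, 4, 5]), (19, [4]), (19, [5])],
  [(20, [3, 2, 1, 2, 0, 1, 2, 0, 1]), (47, []), (4, []), (48, []), (20, [1, 2, 2, 1, 0, 2, 0, 4, 5]), (49, []), (20, [4]), (20, [5])],
  [(21, [0]), (21, [2, 0, 2, 0, 5]), (50, []), (13, [2, 2, 2, 1, 2, 0, 2, 0, 4, 5]), (33, [2, 1]), (4, []), (21, [4]), (21, [5])],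
  [(28, [3, 2, 0, 1, 2, 2, 5]), (6, []), (51, []), (52, []), (27, [3, 2, 0, 1, 2, 2, 5]), (27, [3, 2, 0, 2, 4, 5]), (22, [4]), (22, [5])],
  [(53, []), (51, []), (6, []), (34, [2, 2, 1, 4]), (35, [2, 2, 1, 2, 1, 4]), (54, []), (23, [4]), (23, [5])],
  [(24, [2, 2, 2, 0, 2]), (24, [2, 0, 2, 0, 5]), (30, [2, 2, 1, 4]), (6, []), (12, [2, 2, 2, 1, 2, 0, 2, 0, 4, 5]), (19, [0, 1, 2, 2, 1, 0, 4, 5]), (24, [4]), (24, [5])],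
  [(13, [3, 2, 0, 1, 2, 2, 1, 5]), (8, []), (7, []), (25, [1, 0, 1]), (7, [3, 2, 0, 1, 2, 2, 1, 5]), (9, [1, 2, 1, 3, 0, 2, 4, 5]), (25, [4]), (25, [5])],
  [(14, []), (9, [1, 2, 2, 1, 2, 1, 4]), (10, [1, 3, 2, 0, 2, 1, 4, 5]), (26, [2, 1, 2, 0, 1, 2, 1, 4]), (10, [2, 2, 1, 2, 1, 4]), (7, []), (26, [4]), (26, [5])],
  [(8, []), (13, [3, 2, 0, 1, 2, 2, 1, 5]), (48, [3, 0, 4]), (39, [3, 0, 4]), (22, [1, 3, 2, 0, 1, 2, 2, 1, 5]), (22, [3, 2, 0, 2, 4, 5]), (27, [4]), (27, [5])],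
  [(22, [1, 3, 2, 0, 1, 2, 2, 1, 5]), (10, [1, 3, 2, 0, 1, 2, 2, 1, 5]), (9, []), (28, [2, 1, 0, 2, 1, 2, 0, 1, 0]), (8, []), (8, [2, 1, 3, 0, 2, 1, 4, 5]), (28, [4]), (28, [5])],
  [(11, []), (15, []), (55, []), (56, []), (55, [3, 2, 0, 1, 2, 2, 1, 5]), (57, []), (29, [4]), (29, [5])],
  [(50, [1, 2, 1, 0, 1, 3, 2, 0]), (30, [0, 1, 2, 2, 1, 0, 5]), (24, [1, 2, 2, 4]), (11, []), (34, [2, 0, 1, 2, 2, 1, 0, 5]), (58, []), (30, [4]), (30, [5])],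
  [(55, [3, 2, 0, 1, 2, 2, 1, 5]), (48, [2, 0, 1, 2, 2, 1, 0, 4, 5]), (13, []), (59, []), (11, []), (60, []), (31, [4]), (31, [5])]]

/-- Part of a table. -/
def lev1Mov1 : List (List (ℕ × List ℕ)) := [
  [(57, []), (60, [1, 2, 2, 1, 2, 4]), (61, []), (62, []), (63, []), (11, []), (32, [4]), (32, [5])],
  [(33, [2, 1, 0, 2, 1, 2, 1, 4]), (12, []), (59, [2, 4]), (14, [2, 2, 1, 4]), (21, [2, 1, 2, 1, 4]), (33, [2, 2, 1, 2, 0, 2, 0, 5]), (33, [4]), (33, [5])],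
  [(59, [3, 2, 1, 2, 0, 2, 1, 0, 4, 5]), (59, [2, 4]), (12, []), (23, [1, 2, 2, 4]), (30, [2, 0, 1, 2, 2, 1, 0, 5]), (64, []), (34, [4]), (34, [5])],
  [(56, [2, 1, 3, 2, 1, 3, 2, 0, 4]), (17, [1, 2, 2, 1, 2, 1, 4]), (14, []), (50, [0, 1, 2, 2, 1, 0, 4, 5]), (23, [2, 2, 1, 2, 1, 4]), (65, []), (35, [4]), (35, [5])],
  [(48, [3, 0, 4]), (55, []), (15, []), (36, [3, 2, 1, 2, 0, 1, 2, 0, 1]), (66, []), (67, []), (36, [4]), (36, [5])],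
  [(17, []), (56, [3, 2, 2, 2, 1, 2, 0, 2, 1, 0, 5]), (66, []), (37, [3, 2, 2, 2, 0, 2, 0]), (15, []), (68, []), (37, [4]), (37, [5])],
  [(18, []), (67, [3, 2, 0, 2, 4, 5]), (69, []), (38, [3, 2, 2, 2, 0, 2, 0]), (70, []), (15, []), (38, [4]), (38, [5])],
  [(39, [2, 1, 2, 0, 1, 2, 0, 1, 0]), (39, [0, 1, 2, 2, 1, 0, 5]), (16, []), (27, [3, 0, 4]), (39, [1, 2, 2, 1, 0, 2, 0, 4, 5]), (39, [2, 2, 1, 2, 0, 2, 0, 5]), (39, [4]), (39, [5])],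
  [(40, [3]), (40, [2, 0, 2, 0, 5]), (71, []), (42, [1, 2, 2, 1, 0, 2, 0, 4, 5]), (71, [2, 2, 2, 1, 2]), (16, []), (40, [4]), (40, [5])],
  [(41, [3, 2, 2, 2, 0, 2, 0]), (41, [2, 2, 0, 1, 2, 2, 1, 0, 5]), (52, [1, 2, 0, 1, 2, 2, 1, 0, 4, 5]), (17, []), (41, [1, 2, 2, 1, 0, 2, 0, 4, 5]), (45, [1, 2, 2, 1, 0, 2, 0, 4, 5]), (41, [4]), (41, [5])],
  [(68, []), (72, []), (63, [1, 2, 2, 1, 2, 1, 4]), (40, [1, 2, 2, 1, 0, 2, 0, 4, 5]), (61, [1, 2, 2, 1, 2, 1, 4]), (17, []), (42, [4]), (42, [5])],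
  [(67, [3, 2, 0, 2, 4, 5]), (18, []), (73, []), (74, []), (73, [2, 2, 1, 2, 1, 4]), (48, [2, 0, 2, 0, 5]), (43, [4]), (43, [5])],
  [(75, []), (73, []), (18, []), (76, []), (65, [1, 2, 2, 1, 2, 1, 4]), (77, []), (44, [4]), (44, [5])],
  [(45, [3, 2, 2, 2, 0, 2, 0]), (45, [2, 0, 2, 0, 5]), (78, []), (18, []), (78, [2, 2, 2, 1, 2]), (41, [1, 2, 2, 1, 0, 2, 0, 4, 5]), (45, [4]), (45, [5])],
  [(70, []), (77, [1, 2, 2, 1, 2, 1, 4]), (65, [1, 2, 2, 1, 2, 1, 4]), (71, [2, 2, 2, 1, 2]), (18, []), (61, [1, 2, 2, 1, 2, 1, 4]), (46, [4]), (46, [5])],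
  [(47, [3, 2, 1, 2, 0, 1, 2, 0, 1]), (20, []), (19, []), (51, [2, 2, 1, 2, 0, 2, 0, 4, 5]), (47, [2, 0, 1, 2, 2, 1, 0, 4, 5]), (74, [2, 2, 1, 2, 2, 1, 4]), (47, [4]), (47, [5])],
  [(36, [3, 0, 4]), (31, [2, 0, 1, 2, 2, 1, 0, 4, 5]), (27, [3, 0, 4]), (20, []), (51, [1, 2, 0, 1, 2, 2, 1, 0, 4, 5]), (43, [2, 0, 2, 0, 5]), (48, [4]), (48, [5])],
  [(49, [3, 2, 1, 2, 0, 1, 2, 0, 1]), (49, [2, 0, 2, 0, 5]), (79, []), (72, [2, 1, 2, 2, 1, 4]), (80, []), (20, []), (49, [4]), (49, [5])],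
  [(30, [2, 1, 3, 1, 2, 1, 3, 0, 4, 5]), (50, [2, 0, 2, 0, 5]), (21, []), (35, [0, 1, 2, 2, 1, 0, 4, 5]), (59, [2, 2, 1, 4]), (62, [2, 2, 1, 4]), (50, [4]), (50, [5])],
  [(66, [3, 2, 0, 1, 2, 2, 5]), (23, []), (22, []), (47, [2, 2, 1, 2, 0, 2, 0, 4, 5]), (48, [2, 1, 2, 0, 2, 0, 4, 5]), (72, [1, 2, 2, 1, 2, 1, 4]), (51, [4]), (51, [5])],
  [(52, [2, 1, 0, 2, 1, 2, 0, 1, 0]), (52, [2, 0, 2, 0, 5]), (41, [2, 1, 2, 0, 2, 0, 4, 5]), (22, []), (52, [2, 1, 2, 2, 0, 2, 0, 5]), (52, [3, 1, 0, 1, 3, 1, 0, 5]), (52, [4]), (52, [5])],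
  [(23, []), (66, [3, 2, 0, 1, 2, 2, 5]), (56, [2, 1, 0, 1, 2, 1]), (55, [2, 0, 2, 0, 1, 0]), (56, [3, 1, 2, 2, 1, 0, 2, 1, 0, 5]), (81, []), (53, [4]), (53, [5])],
  [(81, []), (65, []), (77, []), (82, []), (77, [1, 2, 2, 1, 2, 4]), (23, []), (54, [4]), (54, [5])],
  [(31, [3, 2, 0, 1, 2, 2, 1, 5]), (36, []), (29, []), (53, [0, 1, 2, 0, 2, 0]), (29, [3, 2, 0, 1, 2, 2, 1, 5]), (83, []), (55, [4]), (55, [5])],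
  [(35, [2, 1, 0, 2, 1, 3, 2, 0, 5]), (37, [3, 1, 2, 2, 0, 1, 2, 0, 5]), (53, [1, 2, 1, 0, 1, 0, 2, 0]), (29, []), (53, [2, 0, 2, 1, 3, 2, 0, 5]), (69, [2, 1, 3, 2, 2, 1, 0, 2, 0, 4, 5]), (56, [4]), (56, [5])],
  [(32, []), (83, [3, 2, 0, 2, 4, 5]), (68, [1, 2, 1, 3, 0, 2, 1, 4, 5]), (69, [1, 2, 1, 3, 1, 2, 1, 4, 5]), (84, []), (29, []), (57, [4]), (57, [5])],
  [(62, [3, 2, 1, 0, 2, 1, 2, 1, 0]), (62, [2, 0, 2, 0, 4, 5]), (85, []), (65, [3, 1, 0, 1, 3, 1, 0, 5]), (85, [2, 2, 2, 1, 2]), (30, []), (58, [4]), (58, [5])],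
  [(34, [3, 1, 2, 2, 0, 2, 1, 2, 1, 0, 5]), (34, [2, 2, 2, 4]), (33, [2, 2, 2, 4]), (31, []), (50, [1, 2, 2, 4]), (82, [2, 2, 1, 0, 2, 0, 4, 5]), (59, [4]), (59, [5])],
  [(83, [3, 2, 0, 1, 2, 2, 1, 5]), (32, [1, 2, 2, 1, 2, 4]), (86, []), (64, [2, 0, 1, 2, 2, 1, 0, 5]), (86, [1]), (31, []), (60, [4]), (60, [5])],
  [(87, []), (86, [1, 2, 2, 1, 2, 4]), (32, []), (78, [0, 1, 2, 2, 1, 0, 5]), (42, [2, 2, 1, 2, 4]), (46, [2, 2, 1, 2, 4]), (61, [4]), (61, [5])],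
  [(58, [3, 2, 1, 2, 0, 1, 2, 1, 0]), (58, [2, 0, 2, 0, 4, 5]), (76, [0, 1, 2, 2, 1, 0, 5]), (32, []), (76, [2, 1, 2, 2, 0, 2, 0, 5]), (50, [1, 2, 2, 4]), (62, [4]), (62, [5])],
  [(84, []), (88, []), (42, [2, 2, 1, 2, 4]), (85, [2, 2, 2, 1, 2]), (32, []), (86, [1]), (63, [4]), (63, [5])]]

/-- Part of a table. -/
def lev1Mov2 : List (List (ℕ × List ℕ)) := [
  [(82, [0, 1, 3, 2, 2, 0]), (82, [3, 1, 0, 1, 3, 1, 0, 5]), (89, []), (60, [2, 0, 1, 2, 2, 1, 0, 5]), (90, []), (34, []), (64, [4]), (64, [5])],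
  [(69, [1, 3, 2, 0, 2, 4, 5]), (54, []), (46, [2, 2, 1, 2, 4]), (58, [3, 1, 0, 1, 3, 1, 0, 5]), (44, [2, 2, 1, 2, 4]), (35, []), (65, [4]), (65, [5])],
  [(51, [1, 3, 2, 0, 1, 2, 2, 1, 5]), (53, [1, 3, 2, 0, 1, 2, 2, 1, 5]), (37, []), (66, [2, 1, 3, 2, 1, 3, 2, 1, 0, 4, 5]), (36, []), (91, []), (66, [4]), (66, [5])],
  [(43, [3, 2, 0, 2, 4, 5]), (38, [3, 2, 0, 2, 4, 5]), (81, [3, 2, 2, 0, 1, 3, 2, 2, 0]), (67, [2, 1, 3, 2, 1, 3, 2, 1, 0, 4, 5]), (92, []), (36, []), (67, [4]), (67, [5])],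
  [(42, []), (91, [3, 2, 0, 2, 4, 5]), (57, [3, 2, 1, 3, 0, 1, 0, 4]), (68, [3]), (87, [1, 2, 2, 1, 2, 1, 4]), (37, []), (68, [4]), (68, [5])],
  [(65, [3, 2, 0, 2, 1, 4, 5]), (81, [3, 2, 0, 2, 1, 4, 5]), (38, []), (57, [1, 2, 1, 3, 1, 2, 1, 4, 5]), (75, [1, 3, 2, 0, 1, 2, 2, 5]), (56, [2, 1, 3, 2, 2, 1, 0, 2, 0, 4, 5]), (69, [4]), (69, [5])],
  [(46, []), (93, []), (75, [1, 3, 2, 0, 1, 2, 2, 5]), (70, [3]), (38, []), (87, [1, 2, 2, 1, 2, 1, 4]), (70, [4]), (70, [5])],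
  [(71, [2, 1, 3, 2, 1, 2, 1, 4]), (71, [2, 0, 2, 0, 5]), (40, []), (46, [2, 2, 2, 1, 2]), (40, [2, 2, 2, 1, 2]), (71, [2, 2, 1, 2, 0, 2, 0, 5]), (71, [4]), (71, [5])],
  [(91, [3, 2, 0, 2, 4, 5]), (42, []), (88, [1, 2, 2, 1, 2, 1, 4]), (49, [2, 1, 2, 2, 1, 4]), (88, [1, 2, 2, 1, 2, 4]), (51, [2, 2, 1, 2, 4]), (72, [4]), (72, [5])],
  [(92, [1, 3, 0, 2, 1, 3, 0, 4]), (44, []), (43, []), (80, [1, 0, 2, 0, 1, 4, 5]), (43, [2, 2, 1, 2, 1, 4]), (88, [2, 2, 1, 2, 4]), (73, [4]), (73, [5])],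
  [(74, [2, 1, 3, 2, 1, 3, 2, 1, 0, 4, 5]), (74, [2, 0, 2, 0, 5]), (90, [2, 1, 2]), (43, []), (89, [2, 1, 2]), (47, [2, 2, 1, 2, 2, 1, 4]), (74, [4]), (74, [5])],
  [(44, []), (92, [1, 3, 0, 2, 1, 3, 0, 4]), (70, [1, 3, 2, 0, 1, 2, 2, 5]), (84, [3, 2, 0, 2, 1, 2, 1, 0, 5]), (69, [1, 3, 2, 0, 1, 2, 2, 5]), (93, [2, 2, 1, 2, 4]), (75, [4]), (75, [5])],
  [(85, [3, 1, 3, 2, 2, 0, 1]), (85, [2, 2, 1, 2, 2, 1, 4]), (62, [0, 1, 2, 2, 1, 0, 5]), (44, []), (62, [2, 1, 2, 2, 0, 2, 0, 5]), (79, [2, 2, 1, 2, 0, 2, 0, 4, 5]), (76, [4]), (76, [5])],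
  [(93, [2, 2, 1, 2, 4]), (46, [2, 2, 1, 2, 4]), (54, []), (90, [1, 2]), (54, [1, 2, 2, 1, 2, 4]), (44, []), (77, [4]), (77, [5])],
  [(78, [0, 2, 1, 3, 2, 1, 2, 1, 0, 4]), (78, [2, 0, 2, 0, 5]), (45, []), (61, [0, 1, 2, 2, 1, 0, 5]), (45, [2, 2, 2, 1, 2]), (78, [2, 2, 1, 2, 0, 2, 0, 5]), (78, [4]), (78, [5])],
  [(90, [3, 2, 2, 0, 1, 2, 0, 1, 5]), (79, [2, 0, 2, 0, 5]), (49, []), (86, [2]), (82, [0, 2, 0, 1, 5]), (76, [2, 2, 1, 2, 0, 2, 0, 4, 5]), (79, [4]), (79, [5])],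
  [(80, [3, 2, 1, 2, 0, 1, 2, 0, 1]), (89, [1, 2, 1]), (82, [0, 2, 0, 1, 5]), (73, [2, 1, 0, 2, 0, 5]), (49, []), (80, [1, 2, 2, 1, 0, 2, 0, 4, 5]), (80, [4]), (80, [5])],
  [(54, []), (69, [1, 3, 2, 0, 2, 4, 5]), (67, [3, 2, 2, 0, 1, 3, 2, 2, 0]), (83, [2, 2, 1, 0]), (93, [1]), (53, []), (81, [4]), (81, [5])],
  [(64, [3, 2, 2, 0, 1, 0]), (64, [3, 1, 0, 1, 3, 1, 0, 5]), (80, [1, 2, 2, 0, 2, 0, 5]), (54, []), (79, [1, 2, 2, 0, 2, 0, 5]), (59, [2, 2, 2, 1, 2, 0, 2, 0, 4, 5]), (82, [4]), (82, [5])],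
  [(60, [3, 2, 0, 1, 2, 2, 1, 5]), (57, [3, 2, 0, 2, 4, 5]), (91, [1, 2, 1, 3, 0, 2, 1, 4, 5]), (81, [0, 1, 2, 2]), (94, []), (55, []), (83, [4]), (83, [5])],
  [(63, []), (95, []), (87, [1, 3, 2, 0, 1, 2, 2, 5]), (75, [2, 0, 1, 3, 2, 2, 2, 0, 4, 5]), (57, []), (94, [3, 2, 0, 1, 2, 2, 1, 5]), (84, [4]), (84, [5])],
  [(76, [3, 1, 3, 2, 0, 2, 1]), (76, [2, 2, 1, 2, 2, 1, 4]), (58, []), (63, [2, 2, 2, 1, 2]), (58, [2, 2, 2, 1, 2]), (90, [1, 2, 0, 1, 2, 2, 1, 0, 5]), (85, [4]), (85, [5])],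
  [(94, [3, 2, 0, 1, 2, 2, 5]), (61, [1, 2, 2, 1, 2, 4]), (60, []), (79, [2, 2, 2]), (60, [1]), (63, [1]), (86, [4]), (86, [5])],
  [(61, []), (94, [1, 3, 0, 2, 1, 3, 0, 4]), (84, [1, 3, 2, 0, 1, 2, 2, 5]), (87, [0, 2, 1, 3, 2, 1, 2, 1, 0, 4]), (68, [2, 2, 1, 2, 4]), (70, [2, 2, 1, 2, 4]), (87, [4]), (87, [5])],
  [(95, []), (63, []), (72, [2, 2, 1, 2, 4]), (89, [2, 1, 0, 2, 0, 5]), (72, [1, 2, 2, 1, 2, 4]), (73, [1, 2, 2, 1, 2, 1, 4]), (88, [4]), (88, [5])],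
  [(89, [2, 1, 3, 2, 1, 0, 2, 1, 0]), (80, [2, 1, 2, 4]), (64, []), (88, [1, 0, 2, 0, 1, 4, 5]), (74, [1, 2, 1, 4]), (89, [3, 1, 0, 1, 3, 1, 0, 5]), (89, [4]), (89, [5])],
  [(79, [2, 2, 1, 2, 0, 1, 3, 0, 5]), (90, [2, 2, 0, 1, 2, 2, 1, 0, 5]), (74, [1, 2, 1, 4]), (77, [2, 2, 2, 1]), (64, []), (85, [2, 1, 2, 0, 2, 0, 5]), (90, [4]), (90, [5])],
  [(72, [3, 2, 0, 2, 4, 5]), (68, [3, 2, 0, 2, 4, 5]), (83, [3, 2, 1, 3, 0, 1, 0, 4]), (91, [3, 2, 1, 2, 0, 1, 2, 0, 1]), (95, [3, 2, 0, 1, 2, 2, 1, 5]), (66, []), (91, [4]), (91, [5])],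
  [(73, [2, 1, 3, 0, 2, 4, 5]), (75, [2, 1, 3, 0, 2, 4, 5]), (93, [3, 2, 2, 1, 3, 2, 2, 0, 1, 0]), (92, [3, 2, 1, 2, 0, 1, 2, 0, 1]), (67, []), (95, [3, 2, 0, 1, 2, 2, 1, 5]), (92, [4]), (92, [5])],
  [(77, [1, 2, 2, 1, 2, 1, 4]), (70, []), (92, [3, 2, 2, 1, 3, 2, 2, 0, 1, 0]), (94, [1, 0, 1, 2, 2]), (81, [1]), (75, [1, 2, 2, 1, 2, 1, 4]), (93, [4]), (93, [5])],
  [(86, [1, 3, 2, 0, 1, 2, 2, 1, 5]), (87, [2, 1, 3, 0, 2, 4, 5]), (95, [3, 2, 2, 1, 3, 2, 2, 0, 1, 0]), (93, [2, 2, 1, 0, 1]), (83, []), (84, [3, 2, 0, 1, 2, 2, 1, 5]), (94, [4]), (94, [5])],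
  [(88, []), (84, []), (94, [3, 2, 2, 1, 3, 2, 2, 0, 1, 0]), (95, [2, 1, 3, 2, 1, 3, 2, 1, 0, 4, 5]), (91, [3, 2, 0, 1, 2, 2, 1, 5]), (92, [3, 2, 0, 1, 2, 2, 1, 5]), (95, [4]), (95, [5])]]

/-- A table in blocks. -/
def lev1MovTab : List (List (List (ℕ × List ℕ))) := [
  lev1Mov0, lev1Mov1, lev1Mov2]

/-- A level. -/
def lev1 : Lev where
  gens := [
  [16], [17], [18], [19], [20], [21], [22], [23]]
  base := [333]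
  nrep := 96
  rep := blk 32 lev1RepTab []
  move := fun i k => (blk 32 lev1MovTab [] i).getD k (96, [])
  next := [
  [16, 19, 16], [21, 20, 17, 20], [19, 17, 19, 20], [18, 16, 19, 16, 18], [22], [23]]

/-- Part of a table. -/
def lev2Rep0 : List (List ℕ) := [
  [], [16, 19, 16], [21, 20, 17, 20], [19, 17, 19, 20],
  [18, 16, 19, 16, 18], [19, 17, 19, 20, 16, 19, 16], [19, 18, 19, 18, 16, 18, 16, 22], [21, 20, 16, 19, 17, 20, 16],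
  [18, 16, 19, 16, 18, 21, 20, 17, 20], [19, 17, 16, 19, 20], [21, 19, 17, 20, 19, 17, 22], [19, 20, 17, 20, 17, 19],
  [18, 19, 17, 20, 16, 19, 18, 22], [21, 20, 17, 20, 18, 16, 19, 16, 18], [21, 19, 17, 21, 20, 17, 19, 23], [18, 17, 19, 18, 21, 16, 19, 20, 23],
  [21, 19, 17, 16, 19, 21, 23], [17, 20, 19, 17, 19, 16, 18, 17, 16], [19, 17, 16, 19, 21, 16, 19, 18, 17, 16, 23], [19, 17, 20, 16, 19, 17, 21, 17, 23],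
  [16, 18, 17, 19, 21, 16, 19, 17, 16, 19, 23], [18, 19, 18, 21, 18, 16, 18, 21, 18, 19, 18], [17, 21, 17, 19, 17, 20, 16, 19, 23], [19, 21, 17, 21, 16, 19, 23],
  [16, 18, 17, 16, 19, 20, 17, 19, 17, 22], [19, 21, 17, 16, 19, 20, 17, 22], [20, 21, 19, 17, 20, 17, 19, 17, 22], [16, 18, 17, 21, 20, 17, 19, 17, 16, 23],
  [20, 19, 17, 19], [21, 16, 19, 17, 21, 18, 16, 22, 23], [19, 17, 19, 21, 16, 19, 18, 17, 19, 16, 23], [20, 21, 17, 19, 18, 17, 16, 19, 18, 22]]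

/-- Part of a table. -/
def lev2Rep1 : List (List ℕ) := [
  [20, 19, 17, 16, 19, 20, 16, 18, 21, 18, 19, 16, 22], [17, 21, 17, 19, 17, 20, 19, 23], [19, 21, 17, 21, 19, 23], [19, 17, 19, 18, 16, 19, 20, 16, 18],
  [16, 19, 18, 17, 21, 19, 20, 16, 23], [21, 17, 16, 19, 21, 19, 18, 16, 22, 23], [17, 21, 19, 18, 16, 18, 19, 17, 22, 23], [20, 19, 17, 16, 19, 20, 16, 18, 21, 18, 16, 22],
  [19, 17, 20, 19, 17, 21, 17, 23], [20, 17, 21, 19, 17, 16, 19, 17, 20], [19, 20, 17, 19, 16, 18, 17, 21, 16, 22], [19, 17, 21, 19, 16, 18, 21, 17, 16],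
  [21, 19, 18, 16, 18, 21, 19, 16, 18, 19, 18, 16], [20, 19, 21, 18, 16, 18, 21, 20, 16, 19, 23], [21, 19, 17, 20, 16, 19, 17, 16, 19, 16, 22], [16, 19, 18, 17, 21, 20, 19, 16, 23],
  [16, 19, 20, 16, 19, 17, 19], [21, 17, 21, 16, 18, 16, 22, 23], [20, 17, 19, 20, 17, 16, 19, 20, 17, 22], [16, 18, 17, 21, 19, 20, 19, 16, 23],
  [20, 18, 19, 17, 16, 19, 18, 21, 20, 17, 23], [18, 19, 20, 17, 16, 19, 18, 22], [20, 21, 19, 20, 18, 16, 18, 19, 21, 17, 20, 23], [16, 19, 20, 18, 21, 18, 19, 16, 22],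
  [16, 19, 18, 17, 21, 20, 16, 23], [19, 18, 17, 19, 18, 16, 18, 21, 18, 17, 16, 22, 23], [20, 18, 19, 16, 18, 17, 19, 17, 21, 22], [21, 20, 16, 18, 19, 17, 21, 19, 18, 16, 22, 23],
  [21, 19, 20, 17, 19, 16, 18, 21, 16, 22], [18, 21, 18, 19, 16, 18, 21, 17, 19, 18, 17, 23], [20, 21, 19, 18, 16, 18, 21, 19, 20, 23], [16, 18, 17, 21, 20, 19, 16, 23]]

/-- A table in blocks. -/
def lev2RepTab : List (List (List ℕ)) := [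
  lev2Rep0, lev2Rep1]

/-- Part of a table. -/
def lev2Mov0 : List (List (ℕ × List ℕ)) := [
  [(1, []), (2, []), (3, []), (4, []), (0, [3]), (0, [4])],
  [(0, []), (1, [1]), (5, []), (6, []), (1, [3]), (1, [4])],
  [(7, []), (0, []), (6, [2, 0, 4]), (8, []), (2, [3]), (2, [4])],
  [(9, []), (10, []), (11, []), (12, []), (3, [3]), (3, [4])],
  [(6, []), (13, []), (12, []), (0, []), (4, [3]), (4, [4])],
  [(14, []), (15, []), (16, []), (17, []), (5, [3]), (5, [4])],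
  [(4, []), (18, []), (17, []), (1, []), (6, [3]), (6, [4])],
  [(2, []), (7, [1]), (19, []), (20, []), (7, [3]), (7, [4])],
  [(20, []), (21, []), (1, [2, 0, 4]), (2, []), (8, [3]), (8, [4])],
  [(3, []), (22, []), (23, []), (24, []), (9, [3]), (9, [4])],
  [(25, []), (3, []), (26, []), (27, []), (10, [3]), (10, [4])],
  [(16, []), (11, [2]), (28, []), (29, []), (11, [3]), (11, [4])],
  [(24, []), (16, [1, 0, 2, 0, 4]), (29, []), (3, []), (12, [3]), (12, [4])],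
  [(30, []), (4, []), (31, []), (32, []), (13, [3]), (13, [4])],
  [(5, []), (33, []), (34, []), (35, []), (14, [3]), (14, [4])],
  [(26, [1, 0, 2, 1, 0, 3]), (5, []), (21, [0, 2, 1, 3, 4]), (36, []), (15, [3]), (15, [4])],
  [(11, []), (12, [0, 2, 0, 1, 4]), (8, [0, 2, 4]), (37, []), (16, [3]), (16, [4])],
  [(35, []), (17, [0]), (37, []), (5, []), (17, [3]), (17, [4])],
  [(38, []), (6, []), (30, [2, 1, 0, 3]), (39, []), (18, [3]), (18, [4])],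
  [(40, []), (41, []), (35, [2, 0, 4]), (42, []), (19, [3]), (19, [4])],
  [(8, []), (43, []), (42, []), (7, []), (20, [3]), (20, [4])],
  [(44, []), (8, []), (13, [2, 0, 1, 0, 3]), (45, []), (21, [3]), (21, [4])],
  [(46, []), (9, []), (38, [1, 0, 2, 1, 3, 4]), (47, []), (22, [3]), (22, [4])],
  [(34, []), (35, [0, 2, 0, 1, 4]), (48, []), (49, []), (23, [3]), (23, [4])],
  [(12, []), (24, [0]), (49, []), (9, []), (24, [3]), (24, [4])],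
  [(10, []), (50, []), (22, [0, 2, 0, 1, 0, 3]), (51, []), (25, [3]), (25, [4])],
  [(15, [0, 2, 0, 1, 0, 3]), (37, [2, 0, 3, 4]), (18, [0, 2, 0, 4]), (52, []), (26, [3]), (26, [4])],
  [(51, []), (52, [1, 0, 2, 1, 3]), (52, []), (10, []), (27, [3]), (27, [4])],
  [(48, []), (30, [1, 0, 2, 4]), (0, []), (53, []), (28, [3]), (28, [4])],
  [(37, []), (31, [1, 0, 2, 0, 1, 3]), (53, []), (11, []), (29, [3]), (29, [4])],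
  [(13, []), (28, [2, 0, 1, 4]), (10, [0, 1, 3, 4]), (54, []), (30, [3]), (30, [4])],
  [(33, [0, 1, 3, 4]), (29, [1, 0, 2, 0, 1, 3]), (15, [0, 2, 0, 4]), (55, []), (31, [3]), (31, [4])]]

/-- Part of a table. -/
def lev2Mov1 : List (List (ℕ × List ℕ)) := [
  [(54, []), (45, []), (55, []), (13, []), (32, [3]), (32, [4])],
  [(31, [1, 0, 3, 4]), (14, []), (46, [0, 2, 0, 1, 0, 3]), (56, []), (33, [3]), (33, [4])],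
  [(23, []), (34, [2]), (20, [0, 2, 4]), (50, [2, 0, 1, 4]), (34, [3]), (34, [4])],
  [(17, []), (23, [1, 0, 2, 0, 4]), (50, [2, 0, 1, 4]), (14, []), (35, [3]), (35, [4])],
  [(52, [1, 0, 2, 1, 0, 3]), (36, [0]), (45, [0, 2, 1, 3, 4]), (15, []), (36, [3]), (36, [4])],
  [(29, []), (26, [0, 2, 3, 4]), (2, [0, 2, 4]), (16, []), (37, [3]), (37, [4])],
  [(18, []), (48, [2, 0, 1, 4]), (41, [0, 1, 0, 3, 4]), (57, []), (38, [3]), (38, [4])],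
  [(57, []), (39, [1]), (54, [2, 1, 0, 3]), (18, []), (39, [3]), (39, [4])],
  [(19, []), (44, [2, 1, 0, 4]), (24, [2, 0, 4]), (58, []), (40, [3]), (40, [4])],
  [(43, [2, 1, 0, 4]), (19, []), (25, [0, 2, 1, 0, 3]), (59, []), (41, [3]), (41, [4])],
  [(58, []), (60, []), (14, [2, 0, 4]), (19, []), (42, [3]), (42, [4])],
  [(41, [0, 2, 1, 4]), (20, []), (33, [0, 3, 4]), (61, []), (43, [3]), (43, [4])],
  [(21, []), (40, [0, 2, 1, 4]), (43, [2, 0, 1, 3]), (62, []), (44, [3]), (44, [4])],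
  [(62, []), (32, []), (32, [2, 0, 1, 0, 3]), (21, []), (45, [3]), (45, [4])],
  [(22, []), (49, [1, 0, 2, 4]), (44, [0, 2, 1, 3, 4]), (63, []), (46, [3]), (46, [4])],
  [(63, []), (47, [0]), (57, [1, 0, 2, 1, 3, 4]), (22, []), (47, [3]), (47, [4])],
  [(28, []), (38, [1, 0, 2, 4]), (58, [0, 2, 4]), (60, [2, 0]), (48, [3]), (48, [4])],
  [(50, [2, 0, 1, 4]), (46, [2, 0, 1, 4]), (60, [2, 0]), (23, []), (49, [3]), (49, [4])],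
  [(49, [1, 0, 2, 4]), (25, []), (7, [1, 0, 2, 1, 0]), (34, [1, 0, 2, 4]), (50, [3]), (50, [4])],
  [(27, []), (51, [0]), (47, [0, 2, 0, 1, 0, 3]), (25, []), (51, [3]), (51, [4])],
  [(36, [0, 2, 0, 1, 0, 3]), (27, [2, 0, 1, 0, 3]), (39, [0, 2, 0, 4]), (26, []), (52, [3]), (52, [4])],
  [(60, [2, 0]), (53, [1, 0, 2, 0, 1]), (4, []), (28, []), (53, [3]), (53, [4])],
  [(32, []), (54, [1]), (27, [0, 1, 3, 4]), (30, []), (54, [3]), (54, [4])],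
  [(56, [0, 1, 3, 4]), (55, [0, 1, 0]), (36, [0, 2, 0, 4]), (31, []), (55, [3]), (55, [4])],
  [(55, [1, 0, 3, 4]), (63, [0]), (63, [0, 2, 0, 1, 0, 3]), (33, []), (56, [3]), (56, [4])],
  [(39, []), (59, [0, 2, 1, 4]), (59, [0, 1, 0, 3, 4]), (38, []), (57, [3]), (57, [4])],
  [(42, []), (58, [0, 1, 0]), (9, [2, 0, 4]), (40, []), (58, [3]), (58, [4])],
  [(61, [2, 1, 0, 4]), (57, [2, 1, 0, 4]), (51, [0, 2, 1, 0, 3]), (41, []), (59, [3]), (59, [4])],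
  [(53, [0, 2]), (42, []), (40, [2, 0, 4]), (48, [0, 2]), (60, [3]), (60, [4])],
  [(59, [0, 2, 1, 4]), (61, [1]), (56, [0, 3, 4]), (43, []), (61, [3]), (61, [4])],
  [(45, []), (62, [1]), (61, [2, 0, 1, 3]), (44, []), (62, [3]), (62, [4])],
  [(47, []), (56, [0]), (62, [0, 2, 1, 3, 4]), (46, []), (63, [3]), (63, [4])]]

/-- A table in blocks. -/
def lev2MovTab : List (List (List (ℕ × List ℕ))) := [
  lev2Mov0, lev2Mov1]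

/-- A level. -/
def lev2 : Lev where
  gens := [
  [16, 19, 16], [21, 20, 17, 20], [19, 17, 19, 20], [18, 16, 19, 16, 18], [22], [23]]
  base := [320]
  nrep := 64
  rep := blk 32 lev2RepTab []
  move := fun i k => (blk 32 lev2MovTab [] i).getD k (64, [])
  next := [
  [21, 20, 16, 18, 21, 16], [21, 20, 16, 19, 17, 20, 19, 16], [17, 21, 20, 19, 17, 20, 19, 17], [22], [23]]

/-- Part of a table. -/
def lev3Rep0 : List (List ℕ) := [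
  [], [21, 20, 16, 18, 21, 16], [16, 18, 19, 20, 17, 21, 19, 16, 22], [20, 16, 18, 21, 16, 19, 18, 19, 18, 23],
  [20, 19, 17, 19, 16, 18, 21, 20, 19, 18, 19, 16], [19, 21, 17, 21, 16, 19, 16, 18, 19, 18, 16, 22, 23]]

/-- A table in blocks. -/
def lev3RepTab : List (List (List ℕ)) := [
  lev3Rep0]

/-- Part of a table. -/
def lev3Mov0 : List (List (ℕ × List ℕ)) := [
  [(1, []), (0, [1]), (0, [0]), (0, [2]), (0, [3])],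
  [(0, []), (2, []), (3, []), (1, [2]), (1, [3])],
  [(2, [1]), (1, []), (4, []), (2, [2]), (2, [3])],
  [(3, [0]), (4, []), (1, []), (3, [2]), (3, [3])],
  [(5, []), (3, []), (2, []), (4, [2]), (4, [3])],
  [(4, []), (5, [0]), (5, [1]), (5, [2]), (5, [3])]]

/-- A table in blocks. -/
def lev3MovTab : List (List (List (ℕ × List ℕ))) := [
  lev3Mov0]

/-- A level. -/
def lev3 : Lev where
  gens := [
  [21, 20, 16, 18, 21, 16], [21, 20, 16, 19, 17, 20, 19, 16], [17, 21, 20, 19, 17, 20, 19, 17], [22], [23]]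
  base := [200]
  nrep := 6
  rep := blk 32 lev3RepTab []
  move := fun i k => (blk 32 lev3MovTab [] i).getD k (6, [])
  next := [
  [17, 21, 20, 19, 17, 20, 19, 17], [21, 20, 16, 19, 17, 20, 19, 16], [22], [23]]

/-- Part of a table. -/
def lev4Rep0 : List (List ℕ) := [
  []]

/-- A table in blocks. -/
def lev4RepTab : List (List (List ℕ)) := [
  lev4Rep0]

/-- Part of a table. -/
def lev4Mov0 : List (List (ℕ × List ℕ)) := [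
  [(0, [1, 2]), (0, [0, 2]), (0, [2]), (0, [3])]]

/-- A table in blocks. -/
def lev4MovTab : List (List (List (ℕ × List ℕ))) := [
  lev4Mov0]

/-- A level. -/
def lev4 : Lev where
  gens := [
  [17, 21, 20, 19, 17, 20, 19, 17], [21, 20, 16, 19, 17, 20, 19, 16], [22], [23]]
  base := [50]
  nrep := 1
  rep := blk 32 lev4RepTab []
  move := fun i k => (blk 32 lev4MovTab [] i).getD k (1, [])
  next := [
  [29], [47], [22], [23]]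

/-- Part of a table. -/
def lev5Rep0 : List (List ℕ) := [
  [], [21, 20, 16, 19, 17, 20, 19, 16, 22], [17, 21, 20, 19, 17, 20, 19, 17, 22], [19, 20, 17, 16, 19, 17, 16, 19, 17, 20, 16, 22, 23]]

/-- A table in blocks. -/
def lev5RepTab : List (List (List ℕ)) := [
  lev5Rep0]

/-- Part of a table. -/
def lev5Mov0 : List (List (ℕ × List ℕ)) := [
  [(1, []), (2, []), (0, [0]), (0, [1])],
  [(0, []), (3, []), (1, [0]), (1, [1])],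
  [(3, []), (0, []), (2, [0]), (2, [1])],
  [(2, []), (1, []), (3, [0]), (3, [1])]]

/-- A table in blocks. -/
def lev5MovTab : List (List (List (ℕ × List ℕ))) := [
  lev5Mov0]

/-- A level. -/
def lev5 : Lev where
  gens := [
  [29], [47], [22], [23]]
  base := [25]
  nrep := 4
  rep := blk 32 lev5RepTab []
  move := fun i k => (blk 32 lev5MovTab [] i).getD k (4, [])
  next := [
  [22], [23]]

/-- The bases of the lower levels as products of the generators of the centraliser of the pair. -/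
def baseDec : List (ℕ × List ℕ) := [(311, [20, 16, 18, 19, 20, 18, 16]), (298, [18, 19, 21, 18, 16, 19, 16, 18, 21, 19, 18]), (178, [20, 16, 19, 17, 20, 19, 16, 22]), (28, [20, 19, 17, 16, 19, 20, 16, 18, 21, 18, 19, 16]), (3, [19, 16, 18, 19, 18, 16, 19, 17, 20, 17, 16, 23])]

/-- Part of a table. -/
def secRep0 : List (List ℕ) := [
  [], [3], [8], [0, 3],
  [6, 3], [8, 3], [1, 8], [2, 8],
  [7, 8], [6, 0, 3], [4, 6, 3], [8, 6, 3],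
  [0, 8, 3], [1, 8, 3], [2, 8, 3], [6, 8, 3],
  [7, 8, 3], [2, 1, 8], [4, 1, 8], [7, 1, 8],
  [5, 2, 8], [7, 2, 8], [4, 7, 8], [3, 6, 0, 3],
  [4, 6, 0, 3], [8, 6, 0, 3], [1, 4, 6, 3], [7, 4, 6, 3],
  [8, 4, 6, 3], [0, 8, 6, 3], [2, 8, 6, 3], [6, 8, 6, 3]]

/-- Part of a table. -/
def secRep1 : List (List ℕ) := [
  [1, 0, 8, 3], [2, 0, 8, 3], [7, 0, 8, 3], [2, 1, 8, 3],
  [6, 1, 8, 3], [7, 1, 8, 3], [5, 2, 8, 3], [6, 2, 8, 3],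
  [7, 2, 8, 3], [4, 6, 8, 3], [7, 6, 8, 3], [4, 7, 8, 3],
  [4, 2, 1, 8], [5, 2, 1, 8], [7, 2, 1, 8], [8, 2, 1, 8],
  [4, 3, 6, 0, 3], [8, 3, 6, 0, 3], [1, 4, 6, 0, 3], [7, 4, 6, 0, 3],
  [8, 4, 6, 0, 3], [1, 8, 6, 0, 3], [2, 8, 6, 0, 3], [7, 8, 6, 0, 3],
  [7, 1, 4, 6, 3], [5, 7, 4, 6, 3], [8, 7, 4, 6, 3], [0, 8, 4, 6, 3],
  [1, 8, 4, 6, 3], [2, 8, 4, 6, 3], [6, 8, 4, 6, 3], [7, 8, 4, 6, 3]]

/-- Part of a table. -/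
def secRep2 : List (List ℕ) := [
  [2, 0, 8, 6, 3], [3, 0, 8, 6, 3], [6, 0, 8, 6, 3], [5, 2, 8, 6, 3],
  [6, 2, 8, 6, 3], [2, 1, 0, 8, 3], [7, 1, 0, 8, 3], [5, 2, 0, 8, 3],
  [7, 2, 0, 8, 3], [4, 7, 0, 8, 3], [5, 2, 1, 8, 3], [6, 2, 1, 8, 3],
  [7, 2, 1, 8, 3], [8, 2, 1, 8, 3], [7, 6, 1, 8, 3], [6, 5, 2, 8, 3],
  [4, 6, 2, 8, 3], [7, 6, 2, 8, 3], [1, 4, 6, 8, 3], [7, 4, 6, 8, 3],
  [4, 7, 6, 8, 3], [5, 7, 6, 8, 3], [5, 4, 2, 1, 8], [1, 4, 3, 6, 0, 3],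
  [6, 4, 3, 6, 0, 3], [7, 4, 3, 6, 0, 3], [8, 4, 3, 6, 0, 3], [0, 8, 3, 6, 0, 3],
  [2, 8, 3, 6, 0, 3], [7, 8, 3, 6, 0, 3], [7, 1, 4, 6, 0, 3], [8, 1, 4, 6, 0, 3]]

/-- Part of a table. -/
def secRep3 : List (List ℕ) := [
  [5, 7, 4, 6, 0, 3], [8, 7, 4, 6, 0, 3], [1, 8, 4, 6, 0, 3], [2, 8, 4, 6, 0, 3],
  [7, 8, 4, 6, 0, 3], [2, 1, 8, 6, 0, 3], [4, 1, 8, 6, 0, 3], [7, 1, 8, 6, 0, 3],
  [5, 2, 8, 6, 0, 3], [7, 2, 8, 6, 0, 3], [4, 7, 8, 6, 0, 3], [5, 7, 8, 6, 0, 3],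
  [4, 7, 1, 4, 6, 3], [5, 7, 1, 4, 6, 3], [8, 7, 1, 4, 6, 3], [2, 5, 7, 4, 6, 3],
  [8, 5, 7, 4, 6, 3], [0, 8, 7, 4, 6, 3], [1, 8, 7, 4, 6, 3], [6, 8, 7, 4, 6, 3],
  [7, 8, 7, 4, 6, 3], [2, 0, 8, 4, 6, 3], [3, 0, 8, 4, 6, 3], [7, 0, 8, 4, 6, 3],
  [2, 1, 8, 4, 6, 3], [6, 1, 8, 4, 6, 3], [6, 2, 8, 4, 6, 3], [7, 2, 8, 4, 6, 3],
  [7, 6, 8, 4, 6, 3], [5, 7, 8, 4, 6, 3], [3, 2, 0, 8, 6, 3], [5, 2, 0, 8, 6, 3]]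

/-- Part of a table. -/
def secRep4 : List (List ℕ) := [
  [6, 2, 0, 8, 6, 3], [6, 5, 2, 8, 6, 3], [5, 2, 1, 0, 8, 3], [7, 2, 1, 0, 8, 3],
  [5, 7, 1, 0, 8, 3], [6, 5, 2, 1, 8, 3], [7, 6, 2, 1, 8, 3], [6, 8, 2, 1, 8, 3],
  [4, 7, 6, 1, 8, 3], [4, 6, 5, 2, 8, 3], [1, 4, 6, 2, 8, 3], [7, 4, 6, 2, 8, 3],
  [4, 7, 6, 2, 8, 3], [7, 1, 4, 6, 8, 3], [4, 7, 4, 6, 8, 3], [5, 7, 4, 6, 8, 3],
  [8, 7, 4, 6, 8, 3], [1, 4, 7, 6, 8, 3], [5, 4, 7, 6, 8, 3], [6, 1, 4, 3, 6, 0, 3],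
  [7, 1, 4, 3, 6, 0, 3], [8, 1, 4, 3, 6, 0, 3], [7, 6, 4, 3, 6, 0, 3], [5, 7, 4, 3, 6, 0, 3],
  [8, 7, 4, 3, 6, 0, 3], [0, 8, 4, 3, 6, 0, 3], [1, 8, 4, 3, 6, 0, 3], [2, 8, 4, 3, 6, 0, 3],
  [6, 8, 4, 3, 6, 0, 3], [7, 8, 4, 3, 6, 0, 3], [2, 0, 8, 3, 6, 0, 3], [7, 0, 8, 3, 6, 0, 3]]

/-- Part of a table. -/
def secRep5 : List (List ℕ) := [
  [5, 2, 8, 3, 6, 0, 3], [7, 2, 8, 3, 6, 0, 3], [4, 7, 8, 3, 6, 0, 3], [5, 7, 8, 3, 6, 0, 3],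
  [4, 7, 1, 4, 6, 0, 3], [5, 7, 1, 4, 6, 0, 3], [8, 7, 1, 4, 6, 0, 3], [2, 8, 1, 4, 6, 0, 3],
  [6, 8, 1, 4, 6, 0, 3], [7, 8, 1, 4, 6, 0, 3], [2, 5, 7, 4, 6, 0, 3], [8, 5, 7, 4, 6, 0, 3],
  [0, 8, 7, 4, 6, 0, 3], [1, 8, 7, 4, 6, 0, 3], [2, 8, 7, 4, 6, 0, 3], [6, 8, 7, 4, 6, 0, 3],
  [7, 8, 7, 4, 6, 0, 3], [2, 1, 8, 4, 6, 0, 3], [7, 1, 8, 4, 6, 0, 3], [5, 2, 8, 4, 6, 0, 3],
  [7, 2, 8, 4, 6, 0, 3], [5, 7, 8, 4, 6, 0, 3], [4, 2, 1, 8, 6, 0, 3], [5, 2, 1, 8, 6, 0, 3],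
  [7, 2, 1, 8, 6, 0, 3], [8, 2, 1, 8, 6, 0, 3], [7, 4, 1, 8, 6, 0, 3], [4, 7, 1, 8, 6, 0, 3],
  [4, 7, 2, 8, 6, 0, 3], [1, 4, 7, 8, 6, 0, 3], [5, 4, 7, 1, 4, 6, 3], [6, 4, 7, 1, 4, 6, 3]]

/-- Part of a table. -/
def secRep6 : List (List ℕ) := [
  [8, 4, 7, 1, 4, 6, 3], [2, 5, 7, 1, 4, 6, 3], [8, 5, 7, 1, 4, 6, 3], [2, 8, 7, 1, 4, 6, 3],
  [6, 8, 7, 1, 4, 6, 3], [0, 8, 5, 7, 4, 6, 3], [1, 8, 5, 7, 4, 6, 3], [2, 8, 5, 7, 4, 6, 3],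
  [6, 8, 5, 7, 4, 6, 3], [7, 8, 5, 7, 4, 6, 3], [1, 0, 8, 7, 4, 6, 3], [3, 0, 8, 7, 4, 6, 3],
  [6, 0, 8, 7, 4, 6, 3], [7, 0, 8, 7, 4, 6, 3], [4, 1, 8, 7, 4, 6, 3], [6, 1, 8, 7, 4, 6, 3],
  [7, 1, 8, 7, 4, 6, 3], [3, 6, 8, 7, 4, 6, 3], [7, 6, 8, 7, 4, 6, 3], [3, 2, 0, 8, 4, 6, 3],
  [7, 2, 0, 8, 4, 6, 3], [6, 3, 0, 8, 4, 6, 3], [7, 3, 0, 8, 4, 6, 3], [5, 7, 0, 8, 4, 6, 3],
  [8, 7, 0, 8, 4, 6, 3], [6, 2, 1, 8, 4, 6, 3], [7, 6, 2, 8, 4, 6, 3], [4, 7, 6, 8, 4, 6, 3],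
  [5, 7, 6, 8, 4, 6, 3], [8, 7, 6, 8, 4, 6, 3], [2, 5, 7, 8, 4, 6, 3], [5, 3, 2, 0, 8, 6, 3]]

/-- Part of a table. -/
def secRep7 : List (List ℕ) := [
  [6, 5, 2, 0, 8, 6, 3], [4, 7, 6, 2, 1, 8, 3], [4, 6, 8, 2, 1, 8, 3], [1, 4, 7, 6, 1, 8, 3],
  [1, 4, 6, 5, 2, 8, 3], [7, 1, 4, 6, 2, 8, 3], [5, 7, 4, 6, 2, 8, 3], [1, 4, 7, 6, 2, 8, 3],
  [4, 7, 1, 4, 6, 8, 3], [5, 7, 1, 4, 6, 8, 3], [1, 4, 7, 4, 6, 8, 3], [5, 4, 7, 4, 6, 8, 3],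
  [2, 5, 7, 4, 6, 8, 3], [8, 5, 7, 4, 6, 8, 3], [0, 8, 7, 4, 6, 8, 3], [1, 8, 7, 4, 6, 8, 3],
  [5, 1, 4, 7, 6, 8, 3], [4, 6, 1, 4, 3, 6, 0, 3], [7, 6, 1, 4, 3, 6, 0, 3], [8, 6, 1, 4, 3, 6, 0, 3],
  [4, 7, 1, 4, 3, 6, 0, 3], [5, 7, 1, 4, 3, 6, 0, 3], [8, 7, 1, 4, 3, 6, 0, 3], [2, 8, 1, 4, 3, 6, 0, 3],
  [6, 8, 1, 4, 3, 6, 0, 3], [7, 8, 1, 4, 3, 6, 0, 3], [4, 7, 6, 4, 3, 6, 0, 3], [5, 7, 6, 4, 3, 6, 0, 3],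
  [8, 7, 6, 4, 3, 6, 0, 3], [2, 5, 7, 4, 3, 6, 0, 3], [8, 5, 7, 4, 3, 6, 0, 3], [0, 8, 7, 4, 3, 6, 0, 3]]

/-- Part of a table. -/
def secRep8 : List (List ℕ) := [
  [1, 8, 7, 4, 3, 6, 0, 3], [6, 8, 7, 4, 3, 6, 0, 3], [7, 8, 7, 4, 3, 6, 0, 3], [1, 0, 8, 4, 3, 6, 0, 3],
  [2, 0, 8, 4, 3, 6, 0, 3], [6, 0, 8, 4, 3, 6, 0, 3], [7, 0, 8, 4, 3, 6, 0, 3], [2, 1, 8, 4, 3, 6, 0, 3],
  [7, 1, 8, 4, 3, 6, 0, 3], [5, 2, 8, 4, 3, 6, 0, 3], [6, 2, 8, 4, 3, 6, 0, 3], [7, 2, 8, 4, 3, 6, 0, 3],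
  [4, 7, 8, 4, 3, 6, 0, 3], [5, 7, 8, 4, 3, 6, 0, 3], [5, 2, 0, 8, 3, 6, 0, 3], [7, 2, 0, 8, 3, 6, 0, 3],
  [8, 2, 0, 8, 3, 6, 0, 3], [4, 7, 0, 8, 3, 6, 0, 3], [4, 7, 2, 8, 3, 6, 0, 3], [1, 4, 7, 8, 3, 6, 0, 3],
  [6, 4, 7, 8, 3, 6, 0, 3], [5, 4, 7, 1, 4, 6, 0, 3], [6, 4, 7, 1, 4, 6, 0, 3], [8, 4, 7, 1, 4, 6, 0, 3],
  [2, 5, 7, 1, 4, 6, 0, 3], [8, 5, 7, 1, 4, 6, 0, 3], [2, 8, 7, 1, 4, 6, 0, 3], [7, 8, 7, 1, 4, 6, 0, 3],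
  [5, 2, 8, 1, 4, 6, 0, 3], [6, 2, 8, 1, 4, 6, 0, 3], [7, 2, 8, 1, 4, 6, 0, 3], [7, 6, 8, 1, 4, 6, 0, 3]]

/-- Part of a table. -/
def secRep9 : List (List ℕ) := [
  [4, 7, 8, 1, 4, 6, 0, 3], [5, 7, 8, 1, 4, 6, 0, 3], [8, 7, 8, 1, 4, 6, 0, 3], [8, 2, 5, 7, 4, 6, 0, 3],
  [0, 8, 5, 7, 4, 6, 0, 3], [1, 8, 5, 7, 4, 6, 0, 3], [2, 8, 5, 7, 4, 6, 0, 3], [6, 8, 5, 7, 4, 6, 0, 3],
  [1, 0, 8, 7, 4, 6, 0, 3], [2, 0, 8, 7, 4, 6, 0, 3], [2, 1, 8, 7, 4, 6, 0, 3], [4, 1, 8, 7, 4, 6, 0, 3],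
  [6, 1, 8, 7, 4, 6, 0, 3], [7, 1, 8, 7, 4, 6, 0, 3], [8, 1, 8, 7, 4, 6, 0, 3], [5, 2, 8, 7, 4, 6, 0, 3],
  [6, 2, 8, 7, 4, 6, 0, 3], [7, 2, 8, 7, 4, 6, 0, 3], [5, 2, 1, 8, 4, 6, 0, 3], [7, 2, 1, 8, 4, 6, 0, 3],
  [4, 7, 1, 8, 4, 6, 0, 3], [5, 7, 1, 8, 4, 6, 0, 3], [5, 7, 2, 8, 4, 6, 0, 3], [2, 5, 7, 8, 4, 6, 0, 3],
  [5, 4, 2, 1, 8, 6, 0, 3], [7, 4, 2, 1, 8, 6, 0, 3], [4, 7, 2, 1, 8, 6, 0, 3], [4, 7, 4, 1, 8, 6, 0, 3],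
  [5, 7, 4, 1, 8, 6, 0, 3], [1, 4, 7, 1, 8, 6, 0, 3], [1, 4, 7, 2, 8, 6, 0, 3], [2, 5, 4, 7, 1, 4, 6, 3]]

/-- Part of a table. -/
def secRep10 : List (List ℕ) := [
  [6, 5, 4, 7, 1, 4, 6, 3], [7, 5, 4, 7, 1, 4, 6, 3], [8, 5, 4, 7, 1, 4, 6, 3], [3, 6, 4, 7, 1, 4, 6, 3],
  [8, 6, 4, 7, 1, 4, 6, 3], [1, 8, 4, 7, 1, 4, 6, 3], [6, 8, 4, 7, 1, 4, 6, 3], [8, 2, 5, 7, 1, 4, 6, 3],
  [2, 8, 5, 7, 1, 4, 6, 3], [6, 8, 5, 7, 1, 4, 6, 3], [5, 2, 8, 7, 1, 4, 6, 3], [6, 2, 8, 7, 1, 4, 6, 3],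
  [4, 6, 8, 7, 1, 4, 6, 3], [1, 0, 8, 5, 7, 4, 6, 3], [3, 0, 8, 5, 7, 4, 6, 3], [6, 0, 8, 5, 7, 4, 6, 3],
  [7, 0, 8, 5, 7, 4, 6, 3], [4, 1, 8, 5, 7, 4, 6, 3], [6, 1, 8, 5, 7, 4, 6, 3], [6, 2, 8, 5, 7, 4, 6, 3],
  [7, 2, 8, 5, 7, 4, 6, 3], [3, 6, 8, 5, 7, 4, 6, 3], [7, 6, 8, 5, 7, 4, 6, 3], [3, 1, 0, 8, 7, 4, 6, 3],
  [4, 1, 0, 8, 7, 4, 6, 3], [6, 1, 0, 8, 7, 4, 6, 3], [6, 3, 0, 8, 7, 4, 6, 3], [7, 3, 0, 8, 7, 4, 6, 3],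
  [3, 6, 0, 8, 7, 4, 6, 3], [6, 4, 1, 8, 7, 4, 6, 3], [3, 6, 1, 8, 7, 4, 6, 3], [4, 6, 1, 8, 7, 4, 6, 3]]

/-- Part of a table. -/
def secRep11 : List (List ℕ) := [
  [7, 6, 1, 8, 7, 4, 6, 3], [8, 6, 1, 8, 7, 4, 6, 3], [6, 3, 2, 0, 8, 4, 6, 3], [7, 3, 2, 0, 8, 4, 6, 3],
  [7, 6, 3, 0, 8, 4, 6, 3], [5, 7, 3, 0, 8, 4, 6, 3], [8, 7, 3, 0, 8, 4, 6, 3], [2, 5, 7, 0, 8, 4, 6, 3],
  [8, 5, 7, 0, 8, 4, 6, 3], [1, 8, 7, 0, 8, 4, 6, 3], [1, 4, 7, 6, 8, 4, 6, 3], [5, 4, 7, 6, 8, 4, 6, 3],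
  [2, 5, 7, 6, 8, 4, 6, 3], [8, 5, 7, 6, 8, 4, 6, 3], [1, 8, 7, 6, 8, 4, 6, 3], [1, 4, 7, 6, 2, 1, 8, 3],
  [1, 4, 6, 8, 2, 1, 8, 3], [4, 7, 1, 4, 6, 2, 8, 3], [5, 7, 1, 4, 6, 2, 8, 3], [2, 5, 7, 4, 6, 2, 8, 3],
  [1, 4, 7, 1, 4, 6, 8, 3], [5, 4, 7, 1, 4, 6, 8, 3], [2, 5, 7, 1, 4, 6, 8, 3], [5, 1, 4, 7, 4, 6, 8, 3],
  [2, 5, 4, 7, 4, 6, 8, 3], [0, 8, 5, 7, 4, 6, 8, 3], [1, 8, 5, 7, 4, 6, 8, 3], [2, 8, 5, 7, 4, 6, 8, 3],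
  [3, 0, 8, 7, 4, 6, 8, 3], [4, 1, 8, 7, 4, 6, 8, 3], [8, 4, 6, 1, 4, 3, 6, 0, 3], [5, 7, 6, 1, 4, 3, 6, 0, 3]]

/-- Part of a table. -/
def secRep12 : List (List ℕ) := [
  [8, 7, 6, 1, 4, 3, 6, 0, 3], [0, 8, 6, 1, 4, 3, 6, 0, 3], [2, 8, 6, 1, 4, 3, 6, 0, 3], [7, 8, 6, 1, 4, 3, 6, 0, 3],
  [5, 4, 7, 1, 4, 3, 6, 0, 3], [8, 4, 7, 1, 4, 3, 6, 0, 3], [2, 5, 7, 1, 4, 3, 6, 0, 3], [8, 5, 7, 1, 4, 3, 6, 0, 3],
  [0, 8, 7, 1, 4, 3, 6, 0, 3], [2, 8, 7, 1, 4, 3, 6, 0, 3], [6, 8, 7, 1, 4, 3, 6, 0, 3], [7, 8, 7, 1, 4, 3, 6, 0, 3],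
  [5, 2, 8, 1, 4, 3, 6, 0, 3], [6, 2, 8, 1, 4, 3, 6, 0, 3], [7, 2, 8, 1, 4, 3, 6, 0, 3], [4, 6, 8, 1, 4, 3, 6, 0, 3],
  [7, 6, 8, 1, 4, 3, 6, 0, 3], [4, 7, 8, 1, 4, 3, 6, 0, 3], [5, 7, 8, 1, 4, 3, 6, 0, 3], [5, 4, 7, 6, 4, 3, 6, 0, 3],
  [8, 4, 7, 6, 4, 3, 6, 0, 3], [2, 5, 7, 6, 4, 3, 6, 0, 3], [8, 5, 7, 6, 4, 3, 6, 0, 3], [0, 8, 7, 6, 4, 3, 6, 0, 3],
  [2, 8, 7, 6, 4, 3, 6, 0, 3], [8, 2, 5, 7, 4, 3, 6, 0, 3], [0, 8, 5, 7, 4, 3, 6, 0, 3], [1, 8, 5, 7, 4, 3, 6, 0, 3],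
  [2, 8, 5, 7, 4, 3, 6, 0, 3], [6, 8, 5, 7, 4, 3, 6, 0, 3], [7, 8, 5, 7, 4, 3, 6, 0, 3], [1, 0, 8, 7, 4, 3, 6, 0, 3]]

/-- Part of a table. -/
def secRep13 : List (List ℕ) := [
  [6, 0, 8, 7, 4, 3, 6, 0, 3], [7, 0, 8, 7, 4, 3, 6, 0, 3], [4, 1, 8, 7, 4, 3, 6, 0, 3], [6, 1, 8, 7, 4, 3, 6, 0, 3],
  [7, 1, 8, 7, 4, 3, 6, 0, 3], [8, 1, 8, 7, 4, 3, 6, 0, 3], [3, 6, 8, 7, 4, 3, 6, 0, 3], [4, 6, 8, 7, 4, 3, 6, 0, 3],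
  [7, 6, 8, 7, 4, 3, 6, 0, 3], [2, 1, 0, 8, 4, 3, 6, 0, 3], [7, 1, 0, 8, 4, 3, 6, 0, 3], [5, 2, 0, 8, 4, 3, 6, 0, 3],
  [6, 2, 0, 8, 4, 3, 6, 0, 3], [7, 2, 0, 8, 4, 3, 6, 0, 3], [4, 7, 0, 8, 4, 3, 6, 0, 3], [5, 7, 0, 8, 4, 3, 6, 0, 3],
  [5, 2, 1, 8, 4, 3, 6, 0, 3], [7, 2, 1, 8, 4, 3, 6, 0, 3], [4, 7, 1, 8, 4, 3, 6, 0, 3], [5, 7, 1, 8, 4, 3, 6, 0, 3],
  [6, 5, 2, 8, 4, 3, 6, 0, 3], [4, 7, 2, 8, 4, 3, 6, 0, 3], [5, 7, 2, 8, 4, 3, 6, 0, 3], [1, 4, 7, 8, 4, 3, 6, 0, 3],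
  [2, 5, 7, 8, 4, 3, 6, 0, 3], [4, 7, 2, 0, 8, 3, 6, 0, 3], [1, 4, 7, 0, 8, 3, 6, 0, 3], [6, 4, 7, 0, 8, 3, 6, 0, 3],
  [1, 4, 7, 2, 8, 3, 6, 0, 3], [6, 4, 7, 2, 8, 3, 6, 0, 3], [6, 1, 4, 7, 8, 3, 6, 0, 3], [2, 5, 4, 7, 1, 4, 6, 0, 3]]

/-- Part of a table. -/
def secRep14 : List (List ℕ) := [
  [6, 5, 4, 7, 1, 4, 6, 0, 3], [7, 5, 4, 7, 1, 4, 6, 0, 3], [8, 5, 4, 7, 1, 4, 6, 0, 3], [8, 6, 4, 7, 1, 4, 6, 0, 3],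
  [1, 8, 4, 7, 1, 4, 6, 0, 3], [2, 8, 4, 7, 1, 4, 6, 0, 3], [6, 8, 4, 7, 1, 4, 6, 0, 3], [7, 8, 4, 7, 1, 4, 6, 0, 3],
  [8, 2, 5, 7, 1, 4, 6, 0, 3], [2, 8, 5, 7, 1, 4, 6, 0, 3], [6, 8, 5, 7, 1, 4, 6, 0, 3], [7, 8, 5, 7, 1, 4, 6, 0, 3],
  [6, 5, 2, 8, 1, 4, 6, 0, 3], [4, 7, 2, 8, 1, 4, 6, 0, 3], [5, 7, 2, 8, 1, 4, 6, 0, 3], [4, 7, 6, 8, 1, 4, 6, 0, 3],
  [5, 7, 6, 8, 1, 4, 6, 0, 3], [5, 4, 7, 8, 1, 4, 6, 0, 3], [6, 4, 7, 8, 1, 4, 6, 0, 3], [2, 5, 7, 8, 1, 4, 6, 0, 3],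
  [1, 8, 2, 5, 7, 4, 6, 0, 3], [6, 8, 2, 5, 7, 4, 6, 0, 3], [7, 8, 2, 5, 7, 4, 6, 0, 3], [1, 0, 8, 5, 7, 4, 6, 0, 3],
  [2, 0, 8, 5, 7, 4, 6, 0, 3], [3, 0, 8, 5, 7, 4, 6, 0, 3], [2, 1, 8, 5, 7, 4, 6, 0, 3], [4, 1, 8, 5, 7, 4, 6, 0, 3],
  [6, 1, 8, 5, 7, 4, 6, 0, 3], [8, 1, 8, 5, 7, 4, 6, 0, 3], [5, 2, 8, 5, 7, 4, 6, 0, 3], [6, 2, 8, 5, 7, 4, 6, 0, 3]]

/-- Part of a table. -/
def secRep15 : List (List ℕ) := [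
  [4, 1, 0, 8, 7, 4, 6, 0, 3], [4, 2, 1, 8, 7, 4, 6, 0, 3], [5, 2, 1, 8, 7, 4, 6, 0, 3], [7, 2, 1, 8, 7, 4, 6, 0, 3],
  [6, 4, 1, 8, 7, 4, 6, 0, 3], [4, 6, 1, 8, 7, 4, 6, 0, 3], [6, 5, 2, 8, 7, 4, 6, 0, 3], [7, 5, 2, 8, 7, 4, 6, 0, 3],
  [4, 7, 2, 1, 8, 4, 6, 0, 3], [5, 7, 2, 1, 8, 4, 6, 0, 3], [5, 4, 7, 1, 8, 4, 6, 0, 3], [6, 4, 7, 1, 8, 4, 6, 0, 3],
  [2, 5, 7, 1, 8, 4, 6, 0, 3], [2, 5, 7, 2, 8, 4, 6, 0, 3], [8, 2, 5, 7, 8, 4, 6, 0, 3], [5, 7, 4, 2, 1, 8, 6, 0, 3],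
  [2, 5, 7, 4, 1, 8, 6, 0, 3], [8, 2, 5, 4, 7, 1, 4, 6, 3], [3, 6, 5, 4, 7, 1, 4, 6, 3], [8, 6, 5, 4, 7, 1, 4, 6, 3],
  [1, 8, 5, 4, 7, 1, 4, 6, 3], [2, 8, 5, 4, 7, 1, 4, 6, 3], [6, 8, 5, 4, 7, 1, 4, 6, 3], [7, 8, 5, 4, 7, 1, 4, 6, 3],
  [8, 3, 6, 4, 7, 1, 4, 6, 3], [1, 8, 6, 4, 7, 1, 4, 6, 3], [2, 8, 6, 4, 7, 1, 4, 6, 3], [7, 8, 6, 4, 7, 1, 4, 6, 3],
  [6, 1, 8, 4, 7, 1, 4, 6, 3], [3, 6, 8, 4, 7, 1, 4, 6, 3], [6, 8, 2, 5, 7, 1, 4, 6, 3], [7, 8, 2, 5, 7, 1, 4, 6, 3]]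

/-- Part of a table. -/
def secRep16 : List (List ℕ) := [
  [6, 2, 8, 5, 7, 1, 4, 6, 3], [4, 6, 8, 5, 7, 1, 4, 6, 3], [6, 5, 2, 8, 7, 1, 4, 6, 3], [4, 6, 2, 8, 7, 1, 4, 6, 3],
  [1, 4, 6, 8, 7, 1, 4, 6, 3], [3, 1, 0, 8, 5, 7, 4, 6, 3], [4, 1, 0, 8, 5, 7, 4, 6, 3], [6, 1, 0, 8, 5, 7, 4, 6, 3],
  [6, 3, 0, 8, 5, 7, 4, 6, 3], [7, 3, 0, 8, 5, 7, 4, 6, 3], [3, 6, 0, 8, 5, 7, 4, 6, 3], [6, 4, 1, 8, 5, 7, 4, 6, 3],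
  [7, 4, 1, 8, 5, 7, 4, 6, 3], [3, 6, 1, 8, 5, 7, 4, 6, 3], [4, 6, 1, 8, 5, 7, 4, 6, 3], [8, 6, 1, 8, 5, 7, 4, 6, 3],
  [3, 6, 2, 8, 5, 7, 4, 6, 3], [7, 6, 2, 8, 5, 7, 4, 6, 3], [4, 3, 1, 0, 8, 7, 4, 6, 3], [6, 3, 1, 0, 8, 7, 4, 6, 3],
  [6, 4, 1, 0, 8, 7, 4, 6, 3], [3, 6, 1, 0, 8, 7, 4, 6, 3], [4, 6, 1, 0, 8, 7, 4, 6, 3], [3, 6, 3, 0, 8, 7, 4, 6, 3],
  [4, 6, 3, 0, 8, 7, 4, 6, 3], [7, 6, 3, 0, 8, 7, 4, 6, 3], [8, 6, 3, 0, 8, 7, 4, 6, 3], [3, 6, 4, 1, 8, 7, 4, 6, 3],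
  [4, 6, 4, 1, 8, 7, 4, 6, 3], [8, 6, 4, 1, 8, 7, 4, 6, 3], [4, 3, 6, 1, 8, 7, 4, 6, 3], [8, 4, 6, 1, 8, 7, 4, 6, 3]]

/-- Part of a table. -/
def secRep17 : List (List ℕ) := [
  [7, 6, 3, 2, 0, 8, 4, 6, 3], [4, 7, 6, 3, 0, 8, 4, 6, 3], [5, 7, 6, 3, 0, 8, 4, 6, 3], [2, 5, 7, 3, 0, 8, 4, 6, 3],
  [8, 5, 7, 3, 0, 8, 4, 6, 3], [1, 8, 7, 3, 0, 8, 4, 6, 3], [6, 8, 7, 3, 0, 8, 4, 6, 3], [1, 8, 5, 7, 0, 8, 4, 6, 3],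
  [2, 8, 5, 7, 0, 8, 4, 6, 3], [4, 1, 8, 7, 0, 8, 4, 6, 3], [5, 1, 4, 7, 6, 8, 4, 6, 3], [2, 5, 4, 7, 6, 8, 4, 6, 3],
  [1, 8, 5, 7, 6, 8, 4, 6, 3], [2, 8, 5, 7, 6, 8, 4, 6, 3], [4, 1, 8, 7, 6, 8, 4, 6, 3], [5, 4, 7, 1, 4, 6, 2, 8, 3],
  [2, 5, 7, 1, 4, 6, 2, 8, 3], [5, 1, 4, 7, 1, 4, 6, 8, 3], [2, 5, 4, 7, 1, 4, 6, 8, 3], [7, 5, 4, 7, 1, 4, 6, 8, 3],
  [8, 2, 5, 7, 1, 4, 6, 8, 3], [2, 5, 1, 4, 7, 4, 6, 8, 3], [3, 0, 8, 5, 7, 4, 6, 8, 3], [4, 1, 8, 5, 7, 4, 6, 8, 3],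
  [0, 8, 4, 6, 1, 4, 3, 6, 0, 3], [2, 8, 4, 6, 1, 4, 3, 6, 0, 3], [2, 5, 7, 6, 1, 4, 3, 6, 0, 3], [8, 5, 7, 6, 1, 4, 3, 6, 0, 3],
  [0, 8, 7, 6, 1, 4, 3, 6, 0, 3], [7, 8, 7, 6, 1, 4, 3, 6, 0, 3], [2, 0, 8, 6, 1, 4, 3, 6, 0, 3], [7, 0, 8, 6, 1, 4, 3, 6, 0, 3]]

/-- Part of a table. -/
def secRep18 : List (List ℕ) := [
  [7, 2, 8, 6, 1, 4, 3, 6, 0, 3], [5, 7, 8, 6, 1, 4, 3, 6, 0, 3], [2, 5, 4, 7, 1, 4, 3, 6, 0, 3], [7, 5, 4, 7, 1, 4, 3, 6, 0, 3],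
  [8, 5, 4, 7, 1, 4, 3, 6, 0, 3], [0, 8, 4, 7, 1, 4, 3, 6, 0, 3], [1, 8, 4, 7, 1, 4, 3, 6, 0, 3], [2, 8, 4, 7, 1, 4, 3, 6, 0, 3],
  [8, 2, 5, 7, 1, 4, 3, 6, 0, 3], [0, 8, 5, 7, 1, 4, 3, 6, 0, 3], [2, 8, 5, 7, 1, 4, 3, 6, 0, 3], [6, 8, 5, 7, 1, 4, 3, 6, 0, 3],
  [6, 0, 8, 7, 1, 4, 3, 6, 0, 3], [5, 2, 8, 7, 1, 4, 3, 6, 0, 3], [6, 2, 8, 7, 1, 4, 3, 6, 0, 3], [7, 6, 8, 7, 1, 4, 3, 6, 0, 3],
  [6, 5, 2, 8, 1, 4, 3, 6, 0, 3], [4, 6, 2, 8, 1, 4, 3, 6, 0, 3], [7, 6, 2, 8, 1, 4, 3, 6, 0, 3], [8, 6, 2, 8, 1, 4, 3, 6, 0, 3],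
  [4, 7, 2, 8, 1, 4, 3, 6, 0, 3], [5, 7, 2, 8, 1, 4, 3, 6, 0, 3], [5, 7, 6, 8, 1, 4, 3, 6, 0, 3], [5, 4, 7, 8, 1, 4, 3, 6, 0, 3],
  [2, 5, 7, 8, 1, 4, 3, 6, 0, 3], [2, 5, 4, 7, 6, 4, 3, 6, 0, 3], [7, 5, 4, 7, 6, 4, 3, 6, 0, 3], [8, 5, 4, 7, 6, 4, 3, 6, 0, 3],
  [0, 8, 4, 7, 6, 4, 3, 6, 0, 3], [1, 8, 4, 7, 6, 4, 3, 6, 0, 3], [6, 8, 4, 7, 6, 4, 3, 6, 0, 3], [8, 2, 5, 7, 6, 4, 3, 6, 0, 3]]

/-- Part of a table. -/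
def secRep19 : List (List ℕ) := [
  [0, 8, 5, 7, 6, 4, 3, 6, 0, 3], [2, 8, 5, 7, 6, 4, 3, 6, 0, 3], [2, 0, 8, 7, 6, 4, 3, 6, 0, 3], [5, 2, 8, 7, 6, 4, 3, 6, 0, 3],
  [1, 8, 2, 5, 7, 4, 3, 6, 0, 3], [6, 8, 2, 5, 7, 4, 3, 6, 0, 3], [7, 8, 2, 5, 7, 4, 3, 6, 0, 3], [1, 0, 8, 5, 7, 4, 3, 6, 0, 3],
  [2, 0, 8, 5, 7, 4, 3, 6, 0, 3], [6, 0, 8, 5, 7, 4, 3, 6, 0, 3], [7, 0, 8, 5, 7, 4, 3, 6, 0, 3], [2, 1, 8, 5, 7, 4, 3, 6, 0, 3],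
  [4, 1, 8, 5, 7, 4, 3, 6, 0, 3], [6, 1, 8, 5, 7, 4, 3, 6, 0, 3], [7, 1, 8, 5, 7, 4, 3, 6, 0, 3], [8, 1, 8, 5, 7, 4, 3, 6, 0, 3],
  [6, 2, 8, 5, 7, 4, 3, 6, 0, 3], [7, 2, 8, 5, 7, 4, 3, 6, 0, 3], [3, 6, 8, 5, 7, 4, 3, 6, 0, 3], [4, 6, 8, 5, 7, 4, 3, 6, 0, 3],
  [4, 1, 0, 8, 7, 4, 3, 6, 0, 3], [6, 1, 0, 8, 7, 4, 3, 6, 0, 3], [7, 1, 0, 8, 7, 4, 3, 6, 0, 3], [3, 6, 0, 8, 7, 4, 3, 6, 0, 3],
  [4, 6, 0, 8, 7, 4, 3, 6, 0, 3], [7, 6, 0, 8, 7, 4, 3, 6, 0, 3], [3, 6, 1, 8, 7, 4, 3, 6, 0, 3], [7, 6, 1, 8, 7, 4, 3, 6, 0, 3],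
  [6, 8, 1, 8, 7, 4, 3, 6, 0, 3], [0, 3, 6, 8, 7, 4, 3, 6, 0, 3], [5, 2, 1, 0, 8, 4, 3, 6, 0, 3], [4, 7, 1, 0, 8, 4, 3, 6, 0, 3]]

/-- Part of a table. -/
def secRep20 : List (List ℕ) := [
  [5, 7, 1, 0, 8, 4, 3, 6, 0, 3], [6, 5, 2, 0, 8, 4, 3, 6, 0, 3], [5, 7, 2, 0, 8, 4, 3, 6, 0, 3], [2, 5, 7, 0, 8, 4, 3, 6, 0, 3],
  [4, 7, 2, 1, 8, 4, 3, 6, 0, 3], [5, 7, 2, 1, 8, 4, 3, 6, 0, 3], [1, 4, 7, 1, 8, 4, 3, 6, 0, 3], [5, 4, 7, 1, 8, 4, 3, 6, 0, 3],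
  [2, 5, 7, 1, 8, 4, 3, 6, 0, 3], [5, 4, 7, 2, 8, 4, 3, 6, 0, 3], [2, 5, 7, 2, 8, 4, 3, 6, 0, 3], [8, 2, 5, 7, 8, 4, 3, 6, 0, 3],
  [6, 4, 7, 2, 0, 8, 3, 6, 0, 3], [6, 1, 4, 7, 0, 8, 3, 6, 0, 3], [4, 6, 1, 4, 7, 8, 3, 6, 0, 3], [8, 2, 5, 4, 7, 1, 4, 6, 0, 3],
  [8, 6, 5, 4, 7, 1, 4, 6, 0, 3], [8, 7, 5, 4, 7, 1, 4, 6, 0, 3], [1, 8, 5, 4, 7, 1, 4, 6, 0, 3], [2, 8, 5, 4, 7, 1, 4, 6, 0, 3],
  [6, 8, 5, 4, 7, 1, 4, 6, 0, 3], [7, 8, 5, 4, 7, 1, 4, 6, 0, 3], [0, 8, 6, 4, 7, 1, 4, 6, 0, 3], [1, 8, 6, 4, 7, 1, 4, 6, 0, 3],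
  [6, 1, 8, 4, 7, 1, 4, 6, 0, 3], [5, 2, 8, 4, 7, 1, 4, 6, 0, 3], [6, 2, 8, 4, 7, 1, 4, 6, 0, 3], [7, 6, 8, 4, 7, 1, 4, 6, 0, 3],
  [5, 7, 8, 4, 7, 1, 4, 6, 0, 3], [0, 8, 2, 5, 7, 1, 4, 6, 0, 3], [7, 8, 2, 5, 7, 1, 4, 6, 0, 3], [5, 2, 8, 5, 7, 1, 4, 6, 0, 3]]

/-- Part of a table. -/
def secRep21 : List (List ℕ) := [
  [7, 2, 8, 5, 7, 1, 4, 6, 0, 3], [5, 4, 7, 2, 8, 1, 4, 6, 0, 3], [6, 4, 7, 2, 8, 1, 4, 6, 0, 3], [2, 5, 7, 2, 8, 1, 4, 6, 0, 3],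
  [5, 4, 7, 6, 8, 1, 4, 6, 0, 3], [6, 4, 7, 6, 8, 1, 4, 6, 0, 3], [2, 5, 7, 6, 8, 1, 4, 6, 0, 3], [2, 5, 4, 7, 8, 1, 4, 6, 0, 3],
  [6, 5, 4, 7, 8, 1, 4, 6, 0, 3], [4, 1, 8, 2, 5, 7, 4, 6, 0, 3], [6, 1, 8, 2, 5, 7, 4, 6, 0, 3], [3, 6, 8, 2, 5, 7, 4, 6, 0, 3],
  [7, 6, 8, 2, 5, 7, 4, 6, 0, 3], [2, 1, 0, 8, 5, 7, 4, 6, 0, 3], [4, 1, 0, 8, 5, 7, 4, 6, 0, 3], [3, 2, 0, 8, 5, 7, 4, 6, 0, 3],
  [4, 2, 1, 8, 5, 7, 4, 6, 0, 3], [5, 2, 1, 8, 5, 7, 4, 6, 0, 3], [6, 2, 1, 8, 5, 7, 4, 6, 0, 3], [6, 4, 1, 8, 5, 7, 4, 6, 0, 3],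
  [7, 4, 1, 8, 5, 7, 4, 6, 0, 3], [4, 6, 1, 8, 5, 7, 4, 6, 0, 3], [2, 8, 1, 8, 5, 7, 4, 6, 0, 3], [6, 5, 2, 8, 5, 7, 4, 6, 0, 3],
  [7, 5, 2, 8, 5, 7, 4, 6, 0, 3], [6, 4, 1, 0, 8, 7, 4, 6, 0, 3], [5, 4, 2, 1, 8, 7, 4, 6, 0, 3], [6, 4, 2, 1, 8, 7, 4, 6, 0, 3],
  [4, 6, 4, 1, 8, 7, 4, 6, 0, 3], [5, 4, 7, 2, 1, 8, 4, 6, 0, 3], [6, 4, 7, 2, 1, 8, 4, 6, 0, 3], [2, 5, 4, 7, 1, 8, 4, 6, 0, 3]]

/-- Part of a table. -/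
def secRep22 : List (List ℕ) := [
  [6, 5, 4, 7, 1, 8, 4, 6, 0, 3], [7, 5, 4, 7, 1, 8, 4, 6, 0, 3], [6, 8, 2, 5, 4, 7, 1, 4, 6, 3], [7, 8, 2, 5, 4, 7, 1, 4, 6, 3],
  [8, 3, 6, 5, 4, 7, 1, 4, 6, 3], [1, 8, 6, 5, 4, 7, 1, 4, 6, 3], [2, 1, 8, 5, 4, 7, 1, 4, 6, 3], [6, 1, 8, 5, 4, 7, 1, 4, 6, 3],
  [7, 1, 8, 5, 4, 7, 1, 4, 6, 3], [6, 2, 8, 5, 4, 7, 1, 4, 6, 3], [3, 6, 8, 5, 4, 7, 1, 4, 6, 3], [4, 6, 8, 5, 4, 7, 1, 4, 6, 3],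
  [0, 8, 3, 6, 4, 7, 1, 4, 6, 3], [1, 8, 3, 6, 4, 7, 1, 4, 6, 3], [6, 8, 3, 6, 4, 7, 1, 4, 6, 3], [2, 1, 8, 6, 4, 7, 1, 4, 6, 3],
  [7, 1, 8, 6, 4, 7, 1, 4, 6, 3], [5, 2, 8, 6, 4, 7, 1, 4, 6, 3], [7, 2, 8, 6, 4, 7, 1, 4, 6, 3], [3, 6, 1, 8, 4, 7, 1, 4, 6, 3],
  [4, 6, 8, 2, 5, 7, 1, 4, 6, 3], [7, 6, 8, 2, 5, 7, 1, 4, 6, 3], [4, 6, 2, 8, 5, 7, 1, 4, 6, 3], [8, 6, 2, 8, 5, 7, 1, 4, 6, 3],
  [1, 4, 6, 8, 5, 7, 1, 4, 6, 3], [7, 4, 6, 8, 5, 7, 1, 4, 6, 3], [4, 6, 5, 2, 8, 7, 1, 4, 6, 3], [4, 3, 1, 0, 8, 5, 7, 4, 6, 3],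
  [6, 3, 1, 0, 8, 5, 7, 4, 6, 3], [3, 6, 1, 0, 8, 5, 7, 4, 6, 3], [4, 6, 1, 0, 8, 5, 7, 4, 6, 3], [3, 6, 3, 0, 8, 5, 7, 4, 6, 3]]

/-- Part of a table. -/
def secRep23 : List (List ℕ) := [
  [4, 6, 3, 0, 8, 5, 7, 4, 6, 3], [7, 6, 3, 0, 8, 5, 7, 4, 6, 3], [8, 6, 3, 0, 8, 5, 7, 4, 6, 3], [3, 6, 4, 1, 8, 5, 7, 4, 6, 3],
  [4, 6, 4, 1, 8, 5, 7, 4, 6, 3], [8, 6, 4, 1, 8, 5, 7, 4, 6, 3], [4, 3, 6, 1, 8, 5, 7, 4, 6, 3], [7, 4, 6, 1, 8, 5, 7, 4, 6, 3],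
  [8, 4, 6, 1, 8, 5, 7, 4, 6, 3], [2, 8, 6, 1, 8, 5, 7, 4, 6, 3], [4, 3, 6, 1, 0, 8, 7, 4, 6, 3], [4, 3, 6, 3, 0, 8, 7, 4, 6, 3],
  [8, 4, 6, 3, 0, 8, 7, 4, 6, 3], [4, 3, 6, 4, 1, 8, 7, 4, 6, 3], [8, 3, 6, 4, 1, 8, 7, 4, 6, 3], [6, 8, 4, 6, 1, 8, 7, 4, 6, 3],
  [4, 7, 6, 3, 2, 0, 8, 4, 6, 3], [5, 4, 7, 6, 3, 0, 8, 4, 6, 3], [2, 5, 7, 6, 3, 0, 8, 4, 6, 3], [1, 8, 5, 7, 3, 0, 8, 4, 6, 3],
  [2, 8, 5, 7, 3, 0, 8, 4, 6, 3], [6, 8, 5, 7, 3, 0, 8, 4, 6, 3], [4, 1, 8, 7, 3, 0, 8, 4, 6, 3], [4, 6, 8, 7, 3, 0, 8, 4, 6, 3],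
  [4, 1, 8, 5, 7, 0, 8, 4, 6, 3], [2, 5, 1, 4, 7, 6, 8, 4, 6, 3], [4, 1, 8, 5, 7, 6, 8, 4, 6, 3], [2, 5, 4, 7, 1, 4, 6, 2, 8, 3],
  [7, 5, 4, 7, 1, 4, 6, 2, 8, 3], [2, 5, 1, 4, 7, 1, 4, 6, 8, 3], [7, 5, 1, 4, 7, 1, 4, 6, 8, 3], [8, 2, 5, 4, 7, 1, 4, 6, 8, 3]]

/-- Part of a table. -/
def secRep24 : List (List ℕ) := [
  [7, 4, 1, 8, 5, 7, 4, 6, 8, 3], [2, 0, 8, 4, 6, 1, 4, 3, 6, 0, 3], [5, 2, 8, 4, 6, 1, 4, 3, 6, 0, 3], [0, 8, 5, 7, 6, 1, 4, 3, 6, 0, 3],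
  [2, 8, 5, 7, 6, 1, 4, 3, 6, 0, 3], [7, 8, 5, 7, 6, 1, 4, 3, 6, 0, 3], [7, 0, 8, 7, 6, 1, 4, 3, 6, 0, 3], [8, 2, 0, 8, 6, 1, 4, 3, 6, 0, 3],
  [5, 7, 0, 8, 6, 1, 4, 3, 6, 0, 3], [2, 5, 7, 8, 6, 1, 4, 3, 6, 0, 3], [8, 2, 5, 4, 7, 1, 4, 3, 6, 0, 3], [8, 7, 5, 4, 7, 1, 4, 3, 6, 0, 3],
  [0, 8, 5, 4, 7, 1, 4, 3, 6, 0, 3], [1, 8, 5, 4, 7, 1, 4, 3, 6, 0, 3], [2, 8, 5, 4, 7, 1, 4, 3, 6, 0, 3], [6, 8, 5, 4, 7, 1, 4, 3, 6, 0, 3],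
  [7, 8, 5, 4, 7, 1, 4, 3, 6, 0, 3], [0, 8, 2, 5, 7, 1, 4, 3, 6, 0, 3], [7, 8, 2, 5, 7, 1, 4, 3, 6, 0, 3], [2, 0, 8, 5, 7, 1, 4, 3, 6, 0, 3],
  [6, 0, 8, 5, 7, 1, 4, 3, 6, 0, 3], [5, 2, 8, 5, 7, 1, 4, 3, 6, 0, 3], [6, 2, 8, 5, 7, 1, 4, 3, 6, 0, 3], [3, 6, 8, 5, 7, 1, 4, 3, 6, 0, 3],
  [4, 7, 6, 8, 7, 1, 4, 3, 6, 0, 3], [4, 6, 5, 2, 8, 1, 4, 3, 6, 0, 3], [8, 4, 6, 2, 8, 1, 4, 3, 6, 0, 3], [5, 7, 6, 2, 8, 1, 4, 3, 6, 0, 3],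
  [5, 4, 7, 2, 8, 1, 4, 3, 6, 0, 3], [2, 5, 7, 2, 8, 1, 4, 3, 6, 0, 3], [2, 5, 7, 6, 8, 1, 4, 3, 6, 0, 3], [2, 5, 4, 7, 8, 1, 4, 3, 6, 0, 3]]

/-- Part of a table. -/
def secRep25 : List (List ℕ) := [
  [7, 2, 5, 4, 7, 6, 4, 3, 6, 0, 3], [8, 2, 5, 4, 7, 6, 4, 3, 6, 0, 3], [0, 8, 5, 4, 7, 6, 4, 3, 6, 0, 3], [1, 8, 5, 4, 7, 6, 4, 3, 6, 0, 3],
  [2, 8, 5, 4, 7, 6, 4, 3, 6, 0, 3], [6, 8, 5, 4, 7, 6, 4, 3, 6, 0, 3], [7, 8, 5, 4, 7, 6, 4, 3, 6, 0, 3], [1, 0, 8, 4, 7, 6, 4, 3, 6, 0, 3],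
  [6, 0, 8, 4, 7, 6, 4, 3, 6, 0, 3], [6, 1, 8, 4, 7, 6, 4, 3, 6, 0, 3], [0, 8, 2, 5, 7, 6, 4, 3, 6, 0, 3], [7, 8, 2, 5, 7, 6, 4, 3, 6, 0, 3],
  [2, 0, 8, 5, 7, 6, 4, 3, 6, 0, 3], [5, 2, 0, 8, 7, 6, 4, 3, 6, 0, 3], [4, 1, 8, 2, 5, 7, 4, 3, 6, 0, 3], [6, 1, 8, 2, 5, 7, 4, 3, 6, 0, 3],
  [4, 6, 8, 2, 5, 7, 4, 3, 6, 0, 3], [7, 6, 8, 2, 5, 7, 4, 3, 6, 0, 3], [2, 1, 0, 8, 5, 7, 4, 3, 6, 0, 3], [4, 1, 0, 8, 5, 7, 4, 3, 6, 0, 3],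
  [6, 1, 0, 8, 5, 7, 4, 3, 6, 0, 3], [6, 2, 0, 8, 5, 7, 4, 3, 6, 0, 3], [7, 2, 0, 8, 5, 7, 4, 3, 6, 0, 3], [3, 6, 0, 8, 5, 7, 4, 3, 6, 0, 3],
  [4, 6, 0, 8, 5, 7, 4, 3, 6, 0, 3], [7, 6, 0, 8, 5, 7, 4, 3, 6, 0, 3], [4, 2, 1, 8, 5, 7, 4, 3, 6, 0, 3], [6, 2, 1, 8, 5, 7, 4, 3, 6, 0, 3],
  [7, 2, 1, 8, 5, 7, 4, 3, 6, 0, 3], [7, 4, 1, 8, 5, 7, 4, 3, 6, 0, 3], [3, 6, 1, 8, 5, 7, 4, 3, 6, 0, 3], [4, 7, 1, 8, 5, 7, 4, 3, 6, 0, 3]]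

/-- Part of a table. -/
def secRep26 : List (List ℕ) := [
  [2, 8, 1, 8, 5, 7, 4, 3, 6, 0, 3], [6, 8, 1, 8, 5, 7, 4, 3, 6, 0, 3], [3, 6, 2, 8, 5, 7, 4, 3, 6, 0, 3], [4, 6, 2, 8, 5, 7, 4, 3, 6, 0, 3],
  [5, 7, 2, 8, 5, 7, 4, 3, 6, 0, 3], [8, 7, 2, 8, 5, 7, 4, 3, 6, 0, 3], [7, 4, 6, 8, 5, 7, 4, 3, 6, 0, 3], [4, 7, 6, 1, 8, 7, 4, 3, 6, 0, 3],
  [5, 4, 7, 1, 0, 8, 4, 3, 6, 0, 3], [2, 5, 7, 1, 0, 8, 4, 3, 6, 0, 3], [5, 4, 7, 2, 1, 8, 4, 3, 6, 0, 3], [2, 5, 4, 7, 1, 8, 4, 3, 6, 0, 3],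
  [7, 5, 4, 7, 1, 8, 4, 3, 6, 0, 3], [6, 8, 2, 5, 7, 8, 4, 3, 6, 0, 3], [4, 6, 1, 4, 7, 0, 8, 3, 6, 0, 3], [0, 8, 2, 5, 4, 7, 1, 4, 6, 0, 3],
  [1, 8, 2, 5, 4, 7, 1, 4, 6, 0, 3], [0, 8, 6, 5, 4, 7, 1, 4, 6, 0, 3], [1, 8, 6, 5, 4, 7, 1, 4, 6, 0, 3], [1, 8, 7, 5, 4, 7, 1, 4, 6, 0, 3],
  [2, 1, 8, 5, 4, 7, 1, 4, 6, 0, 3], [6, 1, 8, 5, 4, 7, 1, 4, 6, 0, 3], [7, 1, 8, 5, 4, 7, 1, 4, 6, 0, 3], [5, 2, 8, 5, 4, 7, 1, 4, 6, 0, 3],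
  [3, 6, 8, 5, 4, 7, 1, 4, 6, 0, 3], [4, 7, 8, 5, 4, 7, 1, 4, 6, 0, 3], [3, 0, 8, 6, 4, 7, 1, 4, 6, 0, 3], [7, 5, 2, 8, 4, 7, 1, 4, 6, 0, 3],
  [5, 7, 6, 8, 4, 7, 1, 4, 6, 0, 3], [2, 5, 7, 8, 4, 7, 1, 4, 6, 0, 3], [4, 7, 8, 2, 5, 7, 1, 4, 6, 0, 3], [2, 5, 4, 7, 2, 8, 1, 4, 6, 0, 3]]

/-- Part of a table. -/
def secRep27 : List (List ℕ) := [
  [6, 5, 4, 7, 2, 8, 1, 4, 6, 0, 3], [2, 5, 4, 7, 6, 8, 1, 4, 6, 0, 3], [6, 5, 4, 7, 6, 8, 1, 4, 6, 0, 3], [7, 5, 4, 7, 6, 8, 1, 4, 6, 0, 3],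
  [6, 2, 5, 4, 7, 8, 1, 4, 6, 0, 3], [4, 2, 1, 0, 8, 5, 7, 4, 6, 0, 3], [6, 4, 1, 0, 8, 5, 7, 4, 6, 0, 3], [7, 4, 1, 0, 8, 5, 7, 4, 6, 0, 3],
  [5, 4, 2, 1, 8, 5, 7, 4, 6, 0, 3], [4, 6, 2, 1, 8, 5, 7, 4, 6, 0, 3], [3, 6, 4, 1, 8, 5, 7, 4, 6, 0, 3], [4, 6, 4, 1, 8, 5, 7, 4, 6, 0, 3],
  [4, 7, 4, 1, 8, 5, 7, 4, 6, 0, 3], [5, 7, 4, 1, 8, 5, 7, 4, 6, 0, 3], [3, 6, 4, 1, 0, 8, 7, 4, 6, 0, 3], [6, 5, 4, 7, 2, 1, 8, 4, 6, 0, 3],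
  [7, 5, 4, 7, 2, 1, 8, 4, 6, 0, 3], [3, 6, 8, 2, 5, 4, 7, 1, 4, 6, 3], [0, 8, 3, 6, 5, 4, 7, 1, 4, 6, 3], [1, 8, 3, 6, 5, 4, 7, 1, 4, 6, 3],
  [6, 8, 3, 6, 5, 4, 7, 1, 4, 6, 3], [6, 2, 1, 8, 5, 4, 7, 1, 4, 6, 3], [3, 6, 1, 8, 5, 4, 7, 1, 4, 6, 3], [4, 6, 1, 8, 5, 4, 7, 1, 4, 6, 3],
  [8, 6, 1, 8, 5, 4, 7, 1, 4, 6, 3], [3, 6, 2, 8, 5, 4, 7, 1, 4, 6, 3], [1, 4, 6, 8, 5, 4, 7, 1, 4, 6, 3], [1, 0, 8, 3, 6, 4, 7, 1, 4, 6, 3],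
  [6, 0, 8, 3, 6, 4, 7, 1, 4, 6, 3], [6, 1, 8, 3, 6, 4, 7, 1, 4, 6, 3], [4, 7, 6, 8, 2, 5, 7, 1, 4, 6, 3], [1, 4, 6, 2, 8, 5, 7, 1, 4, 6, 3]]

/-- Part of a table. -/
def secRep28 : List (List ℕ) := [
  [8, 4, 6, 2, 8, 5, 7, 1, 4, 6, 3], [7, 1, 4, 6, 8, 5, 7, 1, 4, 6, 3], [7, 4, 6, 5, 2, 8, 7, 1, 4, 6, 3], [4, 3, 6, 1, 0, 8, 5, 7, 4, 6, 3],
  [4, 3, 6, 3, 0, 8, 5, 7, 4, 6, 3], [7, 4, 6, 3, 0, 8, 5, 7, 4, 6, 3], [8, 4, 6, 3, 0, 8, 5, 7, 4, 6, 3], [4, 7, 6, 3, 0, 8, 5, 7, 4, 6, 3],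
  [4, 3, 6, 4, 1, 8, 5, 7, 4, 6, 3], [8, 3, 6, 4, 1, 8, 5, 7, 4, 6, 3], [2, 8, 4, 6, 1, 8, 5, 7, 4, 6, 3], [6, 8, 4, 6, 1, 8, 5, 7, 4, 6, 3],
  [7, 8, 4, 6, 1, 8, 5, 7, 4, 6, 3], [3, 6, 8, 4, 6, 1, 8, 7, 4, 6, 3], [2, 5, 4, 7, 6, 3, 0, 8, 4, 6, 3], [7, 5, 4, 7, 6, 3, 0, 8, 4, 6, 3],
  [4, 1, 8, 5, 7, 3, 0, 8, 4, 6, 3], [4, 6, 8, 5, 7, 3, 0, 8, 4, 6, 3], [7, 4, 1, 8, 5, 7, 6, 8, 4, 6, 3], [5, 2, 0, 8, 4, 6, 1, 4, 3, 6, 0, 3],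
  [8, 2, 0, 8, 4, 6, 1, 4, 3, 6, 0, 3], [2, 0, 8, 5, 7, 6, 1, 4, 3, 6, 0, 3], [7, 2, 8, 5, 7, 6, 1, 4, 3, 6, 0, 3], [2, 5, 7, 0, 8, 6, 1, 4, 3, 6, 0, 3],
  [0, 8, 2, 5, 4, 7, 1, 4, 3, 6, 0, 3], [1, 8, 7, 5, 4, 7, 1, 4, 3, 6, 0, 3], [2, 8, 7, 5, 4, 7, 1, 4, 3, 6, 0, 3], [2, 0, 8, 5, 4, 7, 1, 4, 3, 6, 0, 3],
  [7, 0, 8, 5, 4, 7, 1, 4, 3, 6, 0, 3], [2, 1, 8, 5, 4, 7, 1, 4, 3, 6, 0, 3], [7, 1, 8, 5, 4, 7, 1, 4, 3, 6, 0, 3], [5, 2, 8, 5, 4, 7, 1, 4, 3, 6, 0, 3]]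

/-- Part of a table. -/
def secRep29 : List (List ℕ) := [
  [7, 6, 8, 5, 4, 7, 1, 4, 3, 6, 0, 3], [4, 7, 8, 2, 5, 7, 1, 4, 3, 6, 0, 3], [6, 2, 0, 8, 5, 7, 1, 4, 3, 6, 0, 3], [6, 5, 2, 8, 5, 7, 1, 4, 3, 6, 0, 3],
  [2, 5, 7, 6, 2, 8, 1, 4, 3, 6, 0, 3], [2, 5, 4, 7, 2, 8, 1, 4, 3, 6, 0, 3], [5, 7, 2, 5, 4, 7, 6, 4, 3, 6, 0, 3], [8, 7, 2, 5, 4, 7, 6, 4, 3, 6, 0, 3],
  [0, 8, 2, 5, 4, 7, 6, 4, 3, 6, 0, 3], [7, 8, 2, 5, 4, 7, 6, 4, 3, 6, 0, 3], [1, 0, 8, 5, 4, 7, 6, 4, 3, 6, 0, 3], [2, 0, 8, 5, 4, 7, 6, 4, 3, 6, 0, 3],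
  [6, 0, 8, 5, 4, 7, 6, 4, 3, 6, 0, 3], [7, 0, 8, 5, 4, 7, 6, 4, 3, 6, 0, 3], [2, 1, 8, 5, 4, 7, 6, 4, 3, 6, 0, 3], [6, 1, 8, 5, 4, 7, 6, 4, 3, 6, 0, 3],
  [7, 1, 8, 5, 4, 7, 6, 4, 3, 6, 0, 3], [6, 2, 8, 5, 4, 7, 6, 4, 3, 6, 0, 3], [7, 6, 8, 5, 4, 7, 6, 4, 3, 6, 0, 3], [7, 0, 8, 2, 5, 7, 6, 4, 3, 6, 0, 3],
  [7, 4, 6, 8, 2, 5, 7, 4, 3, 6, 0, 3], [4, 7, 6, 8, 2, 5, 7, 4, 3, 6, 0, 3], [4, 2, 1, 0, 8, 5, 7, 4, 3, 6, 0, 3], [6, 2, 1, 0, 8, 5, 7, 4, 3, 6, 0, 3],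
  [7, 4, 1, 0, 8, 5, 7, 4, 3, 6, 0, 3], [3, 6, 2, 0, 8, 5, 7, 4, 3, 6, 0, 3], [4, 6, 2, 0, 8, 5, 7, 4, 3, 6, 0, 3], [7, 6, 2, 0, 8, 5, 7, 4, 3, 6, 0, 3],
  [7, 4, 6, 0, 8, 5, 7, 4, 3, 6, 0, 3], [7, 4, 2, 1, 8, 5, 7, 4, 3, 6, 0, 3], [3, 6, 2, 1, 8, 5, 7, 4, 3, 6, 0, 3], [4, 7, 2, 1, 8, 5, 7, 4, 3, 6, 0, 3]]

/-- Part of a table. -/
def secRep30 : List (List ℕ) := [
  [4, 7, 4, 1, 8, 5, 7, 4, 3, 6, 0, 3], [6, 2, 8, 1, 8, 5, 7, 4, 3, 6, 0, 3], [7, 4, 6, 2, 8, 5, 7, 4, 3, 6, 0, 3], [2, 5, 4, 7, 1, 0, 8, 4, 3, 6, 0, 3],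
  [7, 5, 4, 7, 1, 0, 8, 4, 3, 6, 0, 3], [7, 5, 4, 7, 2, 1, 8, 4, 3, 6, 0, 3], [4, 6, 8, 2, 5, 7, 8, 4, 3, 6, 0, 3], [1, 0, 8, 3, 6, 5, 4, 7, 1, 4, 6, 3],
  [6, 0, 8, 3, 6, 5, 4, 7, 1, 4, 6, 3], [6, 1, 8, 3, 6, 5, 4, 7, 1, 4, 6, 3], [3, 6, 2, 1, 8, 5, 4, 7, 1, 4, 6, 3], [7, 4, 3, 6, 3, 0, 8, 5, 7, 4, 6, 3],
  [4, 7, 4, 6, 3, 0, 8, 5, 7, 4, 6, 3], [7, 8, 4, 6, 3, 0, 8, 5, 7, 4, 6, 3], [3, 6, 8, 4, 6, 1, 8, 5, 7, 4, 6, 3], [7, 2, 5, 4, 7, 6, 3, 0, 8, 4, 6, 3],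
  [7, 4, 6, 8, 5, 7, 3, 0, 8, 4, 6, 3], [8, 5, 7, 2, 5, 4, 7, 6, 4, 3, 6, 0, 3], [0, 8, 7, 2, 5, 4, 7, 6, 4, 3, 6, 0, 3], [1, 8, 7, 2, 5, 4, 7, 6, 4, 3, 6, 0, 3],
  [6, 8, 7, 2, 5, 4, 7, 6, 4, 3, 6, 0, 3], [7, 0, 8, 2, 5, 4, 7, 6, 4, 3, 6, 0, 3], [5, 7, 8, 2, 5, 4, 7, 6, 4, 3, 6, 0, 3], [2, 1, 0, 8, 5, 4, 7, 6, 4, 3, 6, 0, 3],
  [7, 1, 0, 8, 5, 4, 7, 6, 4, 3, 6, 0, 3], [6, 2, 0, 8, 5, 4, 7, 6, 4, 3, 6, 0, 3], [7, 6, 0, 8, 5, 4, 7, 6, 4, 3, 6, 0, 3], [6, 2, 1, 8, 5, 4, 7, 6, 4, 3, 6, 0, 3],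
  [7, 6, 1, 8, 5, 4, 7, 6, 4, 3, 6, 0, 3], [4, 7, 4, 6, 8, 2, 5, 7, 4, 3, 6, 0, 3], [5, 7, 4, 6, 8, 2, 5, 7, 4, 3, 6, 0, 3], [8, 7, 4, 6, 8, 2, 5, 7, 4, 3, 6, 0, 3]]

/-- Part of a table. -/
def secRep31 : List (List ℕ) := [
  [7, 4, 6, 2, 0, 8, 5, 7, 4, 3, 6, 0, 3], [5, 7, 4, 6, 2, 8, 5, 7, 4, 3, 6, 0, 3], [5, 7, 2, 5, 4, 7, 6, 3, 0, 8, 4, 6, 3], [0, 8, 5, 7, 2, 5, 4, 7, 6, 4, 3, 6, 0, 3],
  [1, 8, 5, 7, 2, 5, 4, 7, 6, 4, 3, 6, 0, 3], [6, 8, 5, 7, 2, 5, 4, 7, 6, 4, 3, 6, 0, 3], [1, 0, 8, 7, 2, 5, 4, 7, 6, 4, 3, 6, 0, 3], [6, 0, 8, 7, 2, 5, 4, 7, 6, 4, 3, 6, 0, 3],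
  [6, 1, 8, 7, 2, 5, 4, 7, 6, 4, 3, 6, 0, 3], [5, 7, 0, 8, 2, 5, 4, 7, 6, 4, 3, 6, 0, 3], [5, 4, 7, 4, 6, 8, 2, 5, 7, 4, 3, 6, 0, 3], [8, 5, 7, 4, 6, 8, 2, 5, 7, 4, 3, 6, 0, 3],
  [5, 7, 4, 6, 2, 0, 8, 5, 7, 4, 3, 6, 0, 3], [1, 0, 8, 5, 7, 2, 5, 4, 7, 6, 4, 3, 6, 0, 3], [6, 0, 8, 5, 7, 2, 5, 4, 7, 6, 4, 3, 6, 0, 3], [6, 1, 8, 5, 7, 2, 5, 4, 7, 6, 4, 3, 6, 0, 3]]

/-- A table in blocks. -/
def secRepTab : List (List (List ℕ)) := [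
  secRep0, secRep1, secRep2, secRep3, secRep4, secRep5, secRep6, secRep7,
  secRep8, secRep9, secRep10, secRep11, secRep12, secRep13, secRep14, secRep15,
  secRep16, secRep17, secRep18, secRep19, secRep20, secRep21, secRep22, secRep23,
  secRep24, secRep25, secRep26, secRep27, secRep28, secRep29, secRep30, secRep31]

/-- Part of a table. -/
def secMv0 : List (List ℕ) := [
  [0, 0, 0, 1, 0, 0, 0, 0, 2], [3, 1, 1, 0, 1, 1, 4, 1, 5], [2, 6, 7, 5, 2, 2, 6, 8, 0], [1, 3, 3, 3, 3, 3, 9, 3, 3],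
  [9, 4, 4, 4, 10, 4, 1, 4, 11], [12, 13, 14, 2, 5, 5, 15, 16, 1], [6, 2, 17, 13, 18, 6, 2, 19, 18], [7, 17, 2, 14, 7, 20, 17, 21, 20],
  [8, 19, 21, 16, 22, 22, 19, 2, 22], [4, 9, 9, 23, 24, 9, 3, 9, 25], [24, 26, 10, 10, 4, 10, 10, 27, 28], [29, 11, 30, 11, 28, 11, 31, 30, 4],
  [5, 32, 33, 12, 12, 12, 25, 34, 12], [32, 5, 35, 6, 31, 13, 36, 37, 31], [33, 35, 5, 7, 14, 38, 39, 40, 38], [25, 36, 39, 36, 41, 15, 5, 42, 36],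
  [34, 37, 40, 8, 43, 43, 42, 5, 43], [17, 7, 6, 35, 44, 45, 7, 46, 47], [18, 18, 44, 31, 6, 18, 18, 44, 6], [19, 8, 46, 37, 46, 47, 8, 6, 45],
  [20, 45, 20, 38, 20, 7, 45, 45, 7], [21, 46, 8, 40, 47, 46, 46, 7, 44], [22, 47, 47, 43, 8, 8, 47, 22, 8], [23, 23, 23, 9, 48, 23, 23, 23, 49],
  [10, 50, 24, 48, 9, 24, 24, 51, 52], [15, 53, 54, 49, 52, 25, 12, 55, 9], [50, 10, 26, 26, 26, 26, 26, 56, 26], [51, 56, 27, 27, 27, 57, 27, 10, 58],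
  [59, 60, 61, 28, 11, 28, 62, 63, 10], [11, 29, 64, 65, 59, 29, 66, 64, 53], [64, 30, 11, 30, 61, 67, 68, 11, 67], [66, 31, 68, 18, 13, 31, 11, 68, 13]]

/-- Part of a table. -/
def secMv1 : List (List ℕ) := [
  [13, 12, 69, 32, 66, 32, 53, 70, 32], [14, 69, 12, 33, 33, 71, 54, 72, 33], [16, 70, 72, 34, 73, 73, 55, 12, 34], [69, 14, 13, 17, 68, 74, 75, 76, 77],
  [53, 15, 75, 15, 62, 36, 13, 78, 15], [70, 16, 76, 19, 76, 77, 78, 13, 74], [71, 74, 38, 20, 38, 14, 79, 74, 14], [54, 75, 15, 75, 80, 79, 14, 81, 42],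
  [72, 76, 16, 21, 77, 76, 81, 14, 68], [52, 82, 80, 62, 15, 41, 41, 83, 62], [55, 78, 81, 78, 84, 85, 16, 15, 39], [73, 77, 77, 22, 16, 16, 85, 43, 16],
  [44, 44, 18, 68, 17, 86, 44, 18, 21], [45, 20, 45, 74, 86, 17, 20, 20, 19], [46, 21, 19, 76, 19, 21, 21, 17, 86], [47, 22, 22, 77, 21, 19, 22, 47, 17],
  [48, 87, 48, 24, 23, 48, 88, 89, 90], [91, 91, 92, 25, 90, 49, 49, 93, 23], [26, 24, 50, 87, 50, 50, 50, 94, 95], [27, 94, 51, 89, 51, 96, 51, 24, 97],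
  [41, 98, 99, 90, 25, 52, 52, 100, 24], [36, 25, 101, 91, 102, 53, 32, 103, 29], [39, 101, 25, 92, 99, 104, 33, 105, 104], [42, 103, 105, 93, 106, 107, 34, 25, 107],
  [94, 27, 56, 56, 108, 109, 56, 26, 110], [96, 109, 111, 57, 57, 27, 57, 57, 112], [113, 114, 58, 58, 58, 112, 115, 116, 27], [28, 95, 117, 118, 29, 59, 102, 119, 102],
  [95, 28, 120, 60, 60, 60, 121, 110, 60], [117, 120, 28, 61, 30, 116, 122, 123, 116], [102, 121, 122, 41, 36, 62, 28, 124, 41], [119, 110, 123, 63, 123, 125, 124, 28, 123]]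

/-- Part of a table. -/
def secMv2 : List (List ℕ) := [
  [30, 64, 29, 126, 117, 127, 128, 29, 105], [65, 65, 126, 29, 118, 65, 65, 126, 91], [31, 66, 128, 66, 32, 66, 29, 128, 66], [127, 67, 67, 67, 116, 30, 129, 67, 30],
  [128, 68, 31, 44, 35, 129, 30, 31, 40], [35, 33, 32, 69, 128, 130, 101, 131, 69], [37, 34, 131, 70, 131, 132, 103, 32, 70], [38, 130, 71, 71, 71, 33, 104, 130, 71],
  [40, 131, 34, 72, 132, 131, 105, 33, 72], [43, 132, 132, 73, 34, 34, 107, 73, 73], [130, 38, 74, 45, 129, 35, 133, 38, 37], [101, 39, 36, 39, 122, 133, 35, 134, 78],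
  [131, 40, 37, 46, 37, 40, 134, 35, 129], [132, 43, 43, 47, 40, 37, 135, 77, 35], [103, 42, 134, 42, 136, 135, 37, 36, 75], [104, 133, 79, 133, 137, 39, 38, 133, 85],
  [99, 138, 41, 122, 39, 137, 80, 139, 84], [105, 134, 42, 134, 140, 134, 40, 39, 134], [98, 41, 138, 121, 121, 82, 82, 141, 82], [100, 141, 139, 124, 142, 143, 83, 41, 144],
  [106, 145, 140, 136, 42, 146, 146, 142, 80], [107, 135, 135, 135, 146, 42, 43, 85, 79], [86, 86, 86, 129, 45, 44, 86, 86, 46], [87, 48, 87, 50, 87, 87, 147, 148, 149],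
  [88, 147, 88, 88, 88, 88, 48, 150, 88], [89, 148, 89, 51, 89, 151, 150, 48, 152], [153, 154, 155, 52, 49, 90, 156, 157, 48], [49, 49, 158, 53, 153, 91, 91, 159, 65],
  [158, 158, 49, 54, 155, 160, 92, 161, 160], [159, 159, 161, 55, 162, 163, 93, 49, 163], [56, 51, 94, 148, 164, 165, 94, 50, 166], [60, 59, 167, 149, 95, 95, 168, 169, 50]]

/-- Part of a table. -/
def secMv3 : List (List ℕ) := [
  [57, 165, 170, 151, 96, 51, 96, 96, 171], [172, 173, 174, 152, 97, 171, 175, 176, 51], [82, 52, 177, 154, 168, 98, 98, 178, 168], [80, 177, 52, 155, 54, 179, 99, 180, 179],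
  [83, 178, 180, 157, 175, 181, 100, 52, 175], [75, 54, 53, 158, 182, 183, 69, 184, 185], [62, 168, 182, 153, 53, 102, 59, 186, 59], [78, 55, 184, 159, 187, 185, 70, 53, 183],
  [79, 183, 104, 160, 179, 54, 71, 183, 54], [81, 184, 55, 161, 188, 184, 72, 54, 64], [84, 189, 188, 162, 55, 176, 176, 175, 176], [85, 185, 185, 163, 176, 55, 73, 107, 55],
  [164, 108, 108, 108, 56, 190, 191, 108, 192], [165, 57, 193, 109, 190, 56, 109, 109, 194], [169, 63, 195, 110, 192, 194, 196, 60, 56], [170, 193, 57, 111, 111, 111, 111, 111, 111],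
  [197, 198, 199, 112, 112, 58, 200, 201, 57], [58, 202, 113, 203, 113, 197, 204, 205, 174], [202, 58, 114, 114, 206, 198, 207, 208, 195], [204, 207, 115, 209, 209, 200, 58, 210, 209],
  [205, 208, 116, 116, 67, 61, 210, 58, 61], [61, 167, 59, 211, 64, 205, 182, 212, 188], [118, 149, 211, 59, 65, 118, 213, 214, 153], [63, 169, 212, 214, 212, 215, 186, 59, 216],
  [167, 61, 60, 120, 120, 208, 217, 195, 120], [168, 62, 217, 82, 82, 121, 60, 196, 121], [182, 217, 62, 80, 75, 210, 61, 218, 136], [212, 195, 63, 123, 63, 201, 218, 61, 63],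
  [186, 196, 218, 83, 219, 220, 63, 62, 221], [215, 194, 222, 125, 201, 63, 220, 125, 201], [126, 126, 65, 64, 211, 223, 126, 65, 161], [67, 127, 127, 223, 205, 64, 224, 127, 184]]

/-- Part of a table. -/
def secMv4 : List (List ℕ) := [
  [68, 128, 66, 128, 69, 224, 64, 66, 128], [224, 129, 129, 86, 74, 68, 67, 129, 76], [74, 71, 130, 130, 224, 69, 183, 71, 130], [76, 72, 70, 131, 70, 72, 184, 69, 131],
  [77, 73, 73, 132, 72, 70, 185, 132, 132], [183, 79, 133, 79, 210, 75, 74, 79, 135], [184, 81, 78, 81, 225, 81, 76, 75, 81], [185, 85, 85, 85, 226, 78, 77, 135, 133],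
  [187, 227, 225, 84, 78, 226, 225, 219, 122], [179, 228, 137, 210, 79, 80, 137, 209, 146], [177, 80, 82, 217, 217, 228, 138, 229, 138], [180, 229, 83, 218, 221, 230, 139, 80, 219],
  [188, 231, 84, 225, 81, 225, 226, 221, 225], [178, 83, 229, 196, 232, 233, 141, 82, 196], [175, 234, 221, 219, 83, 235, 172, 84, 218], [181, 233, 236, 220, 235, 83, 143, 143, 237],
  [238, 239, 219, 221, 218, 237, 219, 225, 83], [189, 84, 231, 227, 227, 240, 240, 234, 145], [176, 240, 226, 226, 85, 84, 84, 172, 137], [147, 88, 147, 147, 241, 147, 87, 242, 243],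
  [148, 89, 148, 94, 244, 245, 242, 87, 246], [149, 118, 247, 95, 149, 149, 248, 249, 87], [150, 242, 150, 150, 250, 251, 89, 88, 252], [151, 245, 253, 96, 151, 89, 251, 151, 254],
  [255, 256, 255, 97, 152, 254, 257, 258, 89], [90, 259, 260, 102, 91, 153, 261, 262, 118], [259, 90, 263, 98, 259, 154, 243, 264, 259], [260, 263, 90, 99, 92, 265, 266, 267, 265],
  [261, 243, 266, 156, 156, 156, 90, 252, 156], [262, 264, 267, 100, 268, 269, 252, 90, 268], [92, 92, 91, 101, 260, 270, 158, 271, 272], [93, 93, 271, 103, 273, 272, 159, 91, 270]]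

/-- Part of a table. -/
def secMv5 : List (List ℕ) := [
  [270, 270, 160, 104, 265, 92, 160, 270, 92], [271, 271, 93, 105, 274, 271, 161, 92, 126], [273, 275, 274, 106, 93, 258, 276, 268, 258], [272, 272, 272, 107, 258, 93, 163, 163, 93],
  [108, 164, 164, 244, 94, 277, 278, 164, 279], [109, 96, 280, 245, 277, 94, 165, 165, 281], [239, 238, 282, 246, 279, 281, 282, 283, 94], [120, 117, 95, 247, 167, 284, 285, 286, 284],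
  [121, 102, 285, 259, 98, 168, 95, 287, 98], [110, 119, 286, 249, 288, 289, 287, 95, 290], [111, 280, 96, 253, 170, 170, 170, 170, 291], [292, 293, 294, 254, 171, 97, 295, 295, 96],
  [97, 296, 297, 297, 172, 292, 142, 146, 297], [296, 97, 298, 256, 299, 293, 300, 301, 302], [297, 298, 97, 255, 174, 303, 304, 305, 113], [142, 300, 304, 268, 100, 295, 97, 106, 100],
  [146, 301, 305, 258, 107, 106, 106, 97, 106], [138, 99, 98, 263, 285, 306, 177, 307, 189], [141, 100, 307, 264, 308, 309, 178, 98, 202], [137, 306, 179, 265, 104, 99, 179, 216, 99],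
  [139, 307, 100, 267, 304, 310, 180, 99, 186], [143, 309, 311, 269, 295, 100, 181, 181, 295], [122, 285, 102, 260, 101, 312, 117, 313, 305], [133, 104, 183, 270, 312, 101, 130, 104, 103],
  [134, 105, 103, 271, 314, 105, 131, 101, 127], [135, 107, 107, 272, 305, 103, 132, 185, 101], [124, 287, 313, 262, 315, 316, 119, 102, 180], [136, 317, 314, 273, 103, 305, 314, 315, 312],
  [140, 318, 106, 274, 105, 314, 305, 304, 117], [145, 106, 318, 275, 317, 301, 301, 300, 177], [277, 190, 319, 190, 109, 108, 320, 321, 322], [278, 191, 191, 323, 191, 320, 108, 191, 324]]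

/-- Part of a table. -/
def secMv6 : List (List ℕ) := [
  [288, 325, 325, 192, 110, 322, 326, 192, 108], [280, 111, 109, 193, 319, 193, 193, 193, 327], [289, 125, 328, 194, 322, 110, 329, 194, 109], [286, 123, 110, 195, 325, 330, 331, 120, 114],
  [287, 124, 331, 141, 332, 329, 110, 121, 141], [112, 333, 291, 334, 197, 113, 335, 336, 303], [333, 112, 327, 198, 337, 114, 338, 330, 330], [291, 327, 112, 199, 199, 199, 339, 340, 199],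
  [335, 338, 339, 341, 341, 115, 112, 342, 341], [336, 330, 340, 201, 125, 123, 342, 112, 125], [114, 113, 202, 343, 344, 333, 345, 284, 178], [203, 343, 203, 113, 203, 334, 346, 347, 255],
  [115, 345, 204, 348, 216, 335, 113, 312, 212], [116, 284, 205, 347, 127, 117, 312, 113, 314], [344, 206, 206, 206, 114, 337, 349, 206, 325], [345, 115, 207, 350, 351, 338, 114, 352, 353],
  [284, 116, 208, 208, 208, 120, 352, 114, 208], [216, 350, 209, 115, 115, 341, 209, 137, 115], [312, 352, 210, 137, 133, 122, 116, 115, 226], [211, 247, 118, 117, 126, 347, 354, 355, 274],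
  [123, 286, 119, 355, 119, 336, 313, 117, 204], [213, 248, 354, 261, 213, 213, 118, 356, 213], [214, 249, 355, 119, 355, 357, 356, 118, 358], [125, 289, 359, 357, 336, 119, 316, 215, 360],
  [209, 361, 216, 358, 204, 360, 216, 179, 119], [285, 122, 121, 138, 138, 352, 120, 331, 217], [313, 331, 124, 139, 144, 342, 123, 122, 142], [315, 362, 144, 142, 124, 363, 144, 136, 139],
  [316, 329, 364, 143, 363, 124, 125, 220, 365], [304, 366, 142, 144, 139, 365, 297, 140, 124], [359, 328, 125, 222, 340, 340, 364, 222, 222], [223, 223, 223, 127, 347, 126, 223, 223, 271]]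

/-- Part of a table. -/
def secMv7 : List (List ℕ) := [
  [129, 224, 224, 224, 130, 128, 127, 224, 224], [314, 367, 136, 140, 134, 140, 136, 144, 140], [305, 368, 146, 146, 135, 136, 140, 297, 210], [317, 136, 367, 145, 145, 368, 367, 362, 227],
  [306, 137, 228, 352, 352, 138, 228, 350, 228], [307, 139, 141, 331, 369, 370, 229, 138, 234], [310, 370, 371, 342, 365, 139, 230, 341, 363], [318, 140, 145, 367, 367, 367, 368, 366, 231],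
  [308, 372, 369, 332, 141, 373, 324, 332, 332], [309, 143, 374, 329, 373, 141, 233, 233, 329], [300, 142, 366, 362, 372, 375, 296, 145, 229], [295, 375, 376, 363, 143, 142, 292, 292, 342],
  [311, 374, 143, 364, 376, 371, 236, 236, 236], [377, 378, 379, 365, 342, 144, 363, 365, 143], [144, 166, 315, 380, 313, 377, 315, 314, 313], [166, 144, 362, 366, 381, 378, 362, 367, 366],
  [301, 146, 368, 368, 368, 145, 145, 296, 240], [241, 241, 241, 241, 147, 241, 241, 241, 382], [242, 150, 242, 242, 242, 383, 148, 147, 384], [385, 156, 386, 243, 382, 243, 154, 387, 147],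
  [244, 244, 244, 164, 148, 388, 244, 244, 389], [245, 151, 390, 165, 388, 148, 383, 245, 391], [392, 380, 393, 166, 389, 391, 394, 395, 148], [247, 211, 149, 167, 247, 396, 397, 398, 396],
  [248, 213, 397, 385, 399, 248, 149, 400, 385], [249, 214, 398, 169, 401, 402, 400, 149, 392], [250, 250, 250, 250, 150, 403, 250, 250, 404], [251, 383, 405, 251, 403, 150, 151, 251, 406],
  [407, 387, 408, 252, 404, 406, 157, 156, 150], [253, 390, 151, 170, 253, 253, 405, 253, 409], [410, 411, 412, 171, 254, 152, 413, 414, 151], [152, 415, 152, 174, 255, 410, 416, 417, 203]]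

/-- Part of a table. -/
def secMv8 : List (List ℕ) := [
  [415, 152, 415, 173, 418, 411, 419, 420, 421], [416, 419, 416, 422, 423, 413, 152, 424, 422], [417, 420, 417, 176, 163, 162, 424, 152, 162], [154, 153, 425, 168, 154, 259, 385, 426, 154],
  [155, 425, 153, 182, 158, 427, 428, 429, 417], [156, 385, 428, 213, 261, 261, 153, 407, 261], [157, 426, 429, 186, 430, 431, 407, 153, 267], [425, 155, 154, 177, 425, 432, 386, 433, 275],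
  [426, 157, 433, 178, 434, 435, 387, 154, 343], [427, 432, 265, 179, 160, 155, 436, 358, 155], [428, 386, 156, 266, 266, 436, 155, 408, 266], [429, 433, 157, 180, 437, 438, 408, 155, 262],
  [430, 439, 437, 175, 157, 414, 422, 162, 157], [431, 435, 440, 181, 414, 157, 406, 269, 414], [160, 160, 270, 183, 427, 158, 270, 160, 159], [161, 161, 159, 184, 441, 161, 271, 158, 223],
  [163, 163, 163, 185, 417, 159, 272, 272, 158], [162, 442, 441, 187, 159, 417, 443, 430, 427], [441, 444, 162, 188, 161, 441, 445, 437, 211], [442, 162, 444, 189, 442, 420, 446, 439, 263],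
  [443, 446, 445, 424, 276, 424, 162, 422, 276], [190, 277, 447, 388, 165, 164, 448, 449, 450], [191, 278, 278, 278, 278, 448, 164, 278, 451], [381, 452, 453, 389, 166, 450, 454, 455, 164],
  [193, 170, 165, 390, 447, 280, 280, 280, 456], [378, 377, 457, 391, 450, 166, 458, 459, 165], [362, 315, 166, 393, 453, 458, 166, 317, 361], [367, 314, 317, 395, 318, 318, 317, 166, 318],
  [208, 205, 284, 396, 284, 167, 460, 202, 167], [217, 182, 168, 425, 177, 460, 167, 302, 317], [195, 212, 169, 398, 461, 462, 302, 167, 287], [196, 186, 302, 426, 463, 464, 169, 168, 286]]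

/-- Part of a table. -/
def secMv9 : List (List ℕ) := [
  [192, 461, 461, 401, 169, 465, 466, 288, 455], [194, 215, 467, 402, 465, 169, 464, 289, 459], [366, 304, 300, 392, 455, 459, 298, 318, 169], [199, 468, 197, 409, 291, 291, 469, 470, 170],
  [171, 471, 472, 473, 292, 172, 235, 235, 473], [471, 171, 474, 411, 475, 173, 476, 476, 477], [472, 474, 171, 412, 294, 478, 479, 479, 478], [235, 476, 479, 414, 181, 175, 171, 171, 181],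
  [173, 172, 353, 353, 480, 471, 234, 240, 350], [174, 353, 172, 172, 297, 473, 221, 226, 172], [353, 174, 173, 415, 481, 482, 290, 483, 300], [480, 299, 481, 418, 173, 475, 484, 481, 452],
  [234, 175, 290, 439, 485, 476, 173, 189, 298], [240, 176, 483, 420, 483, 189, 189, 173, 306], [331, 313, 287, 421, 452, 477, 286, 285, 173], [473, 482, 478, 410, 303, 174, 486, 487, 197],
  [221, 290, 175, 437, 180, 486, 174, 188, 315], [226, 483, 176, 417, 185, 187, 188, 174, 182], [228, 179, 306, 432, 460, 177, 306, 361, 301], [229, 180, 178, 433, 488, 489, 307, 177, 345],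
  [232, 485, 488, 434, 178, 490, 491, 463, 344], [233, 181, 492, 435, 490, 178, 309, 309, 333], [230, 489, 493, 438, 486, 180, 310, 360, 316], [236, 492, 181, 440, 479, 493, 311, 311, 494],
  [210, 460, 312, 427, 183, 182, 205, 204, 187], [218, 302, 186, 429, 238, 495, 212, 182, 238], [225, 283, 187, 441, 184, 188, 187, 238, 205], [219, 282, 238, 430, 186, 487, 238, 187, 304],
  [220, 464, 496, 431, 487, 186, 215, 316, 310], [227, 187, 283, 442, 189, 483, 283, 282, 285], [231, 188, 189, 444, 283, 283, 483, 290, 283], [447, 319, 190, 319, 193, 319, 449, 448, 497]]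

/-- Part of a table. -/
def secMv10 : List (List ℕ) := [
  [448, 320, 449, 498, 320, 191, 190, 447, 499], [449, 321, 448, 321, 321, 321, 447, 190, 321], [465, 500, 501, 322, 194, 192, 502, 503, 190], [323, 323, 323, 191, 323, 498, 323, 323, 504],
  [491, 505, 506, 504, 324, 499, 232, 507, 191], [461, 192, 192, 325, 195, 500, 508, 325, 206], [466, 508, 508, 509, 507, 502, 192, 326, 507], [468, 199, 198, 327, 497, 327, 510, 511, 193],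
  [467, 222, 194, 328, 501, 511, 512, 328, 511], [464, 220, 512, 233, 513, 196, 194, 329, 233], [462, 201, 511, 330, 500, 195, 514, 198, 198], [302, 218, 196, 229, 515, 514, 195, 217, 362],
  [463, 516, 515, 232, 196, 513, 507, 232, 232], [198, 197, 468, 517, 518, 202, 519, 462, 309], [334, 517, 409, 197, 334, 203, 520, 521, 410], [200, 519, 469, 522, 360, 204, 197, 495, 336],
  [201, 462, 470, 521, 215, 212, 495, 197, 335], [518, 337, 497, 337, 198, 206, 523, 524, 500], [519, 200, 510, 525, 526, 207, 198, 514, 527], [469, 510, 200, 528, 528, 339, 199, 529, 339],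
  [470, 511, 201, 340, 222, 222, 529, 199, 340], [360, 525, 528, 200, 200, 209, 341, 230, 200], [495, 514, 529, 230, 237, 218, 201, 200, 235], [343, 203, 343, 202, 530, 517, 531, 396, 264],
  [206, 344, 344, 530, 202, 518, 532, 344, 308], [207, 204, 345, 533, 534, 519, 202, 460, 307], [346, 531, 346, 535, 536, 520, 203, 537, 538], [347, 396, 347, 205, 223, 211, 537, 203, 441],
  [358, 533, 348, 204, 358, 522, 535, 427, 355], [532, 349, 349, 539, 540, 523, 206, 349, 541], [361, 209, 350, 207, 542, 525, 350, 228, 296], [534, 542, 351, 542, 207, 526, 540, 542, 543]]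

/-- Part of a table. -/
def secMv11 : List (List ℕ) := [
  [460, 210, 352, 228, 228, 217, 208, 207, 352], [298, 297, 296, 296, 543, 527, 366, 368, 207], [354, 397, 213, 428, 354, 537, 211, 544, 354], [355, 398, 214, 212, 214, 521, 544, 211, 348],
  [356, 400, 544, 407, 545, 546, 214, 213, 407], [357, 402, 547, 215, 521, 214, 546, 357, 548], [348, 549, 358, 216, 348, 548, 550, 265, 214], [222, 467, 215, 547, 470, 470, 496, 359, 470],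
  [341, 551, 552, 548, 335, 216, 360, 310, 215], [350, 216, 361, 549, 553, 551, 361, 306, 282], [282, 219, 239, 234, 516, 554, 239, 227, 331], [487, 554, 555, 235, 220, 219, 237, 473, 230],
  [496, 512, 220, 236, 555, 529, 222, 364, 364], [486, 556, 557, 237, 230, 221, 473, 237, 220], [290, 221, 234, 239, 558, 556, 353, 231, 239], [283, 225, 227, 231, 231, 231, 227, 239, 367],
  [483, 226, 240, 240, 240, 227, 231, 353, 368], [488, 558, 232, 515, 229, 559, 506, 515, 372], [489, 230, 560, 514, 559, 229, 370, 525, 375], [493, 560, 230, 529, 557, 236, 371, 528, 371],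
  [485, 232, 558, 516, 234, 561, 505, 516, 369], [490, 561, 562, 513, 233, 232, 499, 563, 513], [492, 236, 233, 512, 562, 560, 374, 374, 564], [476, 235, 565, 554, 561, 234, 471, 471, 370],
  [479, 565, 235, 555, 236, 557, 472, 472, 376], [237, 281, 494, 566, 495, 238, 487, 486, 495], [281, 237, 564, 556, 567, 239, 554, 556, 556], [494, 564, 237, 557, 529, 555, 555, 557, 379],
  [437, 246, 430, 238, 429, 566, 538, 441, 429], [279, 515, 516, 558, 239, 567, 541, 558, 558], [568, 382, 569, 382, 243, 382, 568, 569, 241], [383, 251, 570, 383, 383, 242, 245, 383, 571]]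

/-- Part of a table. -/
def secMv12 : List (List ℕ) := [
  [572, 550, 384, 384, 384, 571, 549, 573, 242], [243, 261, 574, 248, 568, 385, 259, 575, 248], [574, 266, 243, 386, 569, 573, 263, 576, 573], [575, 252, 576, 387, 576, 577, 264, 243, 576],
  [388, 388, 578, 277, 245, 244, 388, 579, 580], [581, 582, 583, 279, 246, 580, 583, 581, 244], [390, 253, 245, 280, 578, 390, 570, 390, 584], [585, 566, 586, 281, 580, 246, 587, 585, 245],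
  [246, 437, 439, 290, 581, 585, 588, 444, 249], [439, 430, 246, 282, 583, 589, 590, 442, 549], [588, 538, 590, 590, 590, 587, 246, 591, 590], [444, 441, 442, 283, 444, 444, 591, 246, 444],
  [396, 347, 396, 284, 396, 247, 592, 343, 247], [397, 354, 248, 574, 593, 592, 247, 594, 595], [398, 355, 249, 286, 596, 597, 594, 247, 426], [399, 399, 593, 568, 248, 399, 399, 593, 568],
  [400, 356, 594, 575, 594, 598, 249, 248, 419], [401, 596, 596, 288, 249, 599, 596, 401, 581], [402, 357, 600, 289, 599, 249, 598, 402, 585], [403, 403, 601, 403, 251, 250, 403, 602, 603],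
  [604, 605, 605, 404, 252, 603, 606, 404, 250], [405, 570, 251, 405, 601, 405, 253, 405, 607], [608, 577, 609, 406, 603, 252, 269, 406, 251], [252, 575, 610, 356, 604, 608, 262, 261, 356],
  [610, 576, 252, 408, 605, 611, 267, 266, 550], [409, 612, 334, 291, 409, 409, 613, 614, 253], [254, 615, 616, 303, 410, 255, 617, 618, 334], [615, 254, 619, 293, 620, 256, 621, 622, 623],
  [616, 619, 254, 294, 412, 616, 624, 625, 616], [617, 621, 624, 626, 627, 257, 254, 626, 626], [618, 622, 625, 295, 269, 268, 626, 254, 269], [256, 255, 256, 298, 628, 615, 629, 630, 439]]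

/-- Part of a table. -/
def secMv13 : List (List ℕ) := [
  [257, 629, 257, 631, 632, 617, 255, 633, 610], [258, 630, 258, 305, 272, 273, 633, 255, 260], [628, 418, 628, 299, 256, 620, 628, 628, 582], [629, 257, 629, 634, 629, 621, 256, 635, 400],
  [630, 258, 630, 301, 630, 275, 635, 256, 432], [433, 429, 426, 302, 582, 623, 636, 425, 256], [637, 634, 631, 257, 606, 626, 268, 276, 257], [632, 632, 632, 606, 257, 627, 423, 423, 606],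
  [633, 635, 633, 276, 424, 276, 258, 257, 424], [263, 260, 259, 285, 263, 638, 574, 421, 442], [264, 262, 421, 287, 639, 640, 575, 259, 398], [265, 638, 427, 312, 270, 260, 641, 348, 273],
  [266, 574, 261, 354, 428, 641, 260, 610, 428], [267, 421, 262, 313, 380, 642, 610, 260, 380], [268, 393, 380, 315, 262, 618, 637, 273, 437], [269, 640, 643, 316, 618, 262, 608, 431, 438],
  [638, 265, 432, 306, 638, 263, 573, 549, 420], [421, 267, 264, 307, 644, 645, 576, 263, 533], [639, 646, 644, 308, 264, 647, 644, 639, 530], [640, 269, 648, 309, 647, 264, 577, 435, 517],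
  [641, 573, 436, 436, 436, 266, 265, 550, 436], [380, 392, 268, 304, 267, 649, 631, 274, 430], [642, 645, 650, 310, 649, 267, 611, 548, 431], [393, 268, 392, 300, 646, 622, 634, 275, 415],
  [643, 648, 269, 311, 625, 650, 609, 440, 651], [274, 395, 273, 314, 271, 274, 652, 380, 347], [275, 273, 395, 317, 275, 630, 653, 393, 425], [276, 653, 652, 652, 443, 633, 273, 637, 443],
  [395, 274, 275, 318, 395, 395, 595, 392, 395], [652, 595, 276, 633, 445, 652, 274, 631, 445], [653, 276, 595, 635, 654, 635, 275, 634, 635], [319, 447, 277, 578, 280, 447, 321, 320, 655]]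

/-- Part of a table. -/
def secMv14 : List (List ℕ) := [
  [320, 448, 321, 448, 448, 278, 277, 319, 656], [321, 449, 320, 579, 449, 449, 319, 277, 657], [567, 658, 659, 580, 281, 279, 660, 661, 277], [662, 663, 451, 451, 451, 656, 553, 663, 278],
  [515, 279, 463, 582, 302, 658, 664, 488, 299], [516, 463, 279, 583, 282, 665, 666, 485, 553], [541, 664, 666, 666, 666, 660, 279, 667, 666], [558, 488, 485, 581, 290, 668, 667, 279, 288],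
  [669, 552, 551, 584, 655, 456, 456, 670, 280], [564, 494, 281, 586, 659, 671, 671, 672, 671], [554, 487, 671, 589, 665, 282, 281, 482, 551], [556, 486, 672, 585, 668, 290, 482, 281, 289],
  [352, 312, 460, 638, 306, 285, 284, 345, 483], [325, 288, 288, 596, 286, 673, 674, 461, 463], [330, 336, 675, 597, 673, 286, 477, 333, 464], [332, 453, 452, 639, 287, 676, 677, 308, 461],
  [329, 316, 678, 640, 676, 287, 289, 464, 462], [322, 673, 679, 599, 289, 288, 680, 657, 668], [326, 674, 674, 674, 677, 680, 288, 466, 484], [328, 359, 289, 600, 679, 675, 678, 467, 474],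
  [327, 291, 333, 612, 681, 468, 682, 675, 682], [339, 682, 335, 683, 552, 469, 291, 684, 552], [340, 675, 336, 614, 359, 359, 684, 291, 359], [293, 292, 685, 527, 686, 296, 375, 375, 525],
  [294, 685, 292, 687, 472, 687, 376, 376, 472], [303, 527, 687, 292, 473, 297, 365, 363, 292], [685, 294, 293, 619, 688, 689, 690, 690, 467], [686, 475, 688, 620, 293, 299, 691, 692, 658],
  [375, 295, 690, 622, 693, 300, 293, 293, 482], [514, 495, 694, 623, 658, 302, 462, 519, 293], [687, 689, 303, 616, 478, 294, 695, 696, 294], [376, 690, 295, 625, 311, 695, 294, 294, 684]]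

/-- Part of a table. -/
def secMv15 : List (List ℕ) := [
  [299, 480, 543, 543, 296, 686, 697, 543, 542], [543, 481, 299, 628, 298, 698, 699, 299, 485], [527, 303, 689, 615, 698, 298, 459, 458, 476], [368, 305, 301, 630, 301, 317, 318, 298, 460],
  [697, 484, 699, 699, 700, 691, 299, 699, 466], [372, 308, 455, 646, 300, 693, 700, 453, 481], [365, 459, 695, 649, 310, 304, 303, 377, 487], [363, 458, 696, 618, 316, 315, 377, 303, 486],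
  [369, 455, 308, 644, 307, 701, 702, 452, 534], [370, 310, 670, 645, 701, 307, 489, 551, 519], [373, 693, 703, 647, 309, 308, 704, 705, 518], [324, 700, 702, 702, 491, 704, 308, 677, 702],
  [374, 311, 309, 648, 703, 670, 492, 492, 670], [371, 670, 310, 650, 695, 311, 493, 552, 696], [379, 457, 377, 651, 684, 696, 696, 695, 311], [342, 477, 684, 642, 377, 313, 336, 335, 377],
  [364, 678, 316, 643, 696, 684, 359, 496, 695], [681, 497, 337, 497, 327, 497, 706, 707, 319], [498, 498, 579, 320, 498, 323, 498, 578, 708], [704, 709, 705, 708, 499, 324, 373, 703, 320],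
  [673, 322, 710, 500, 330, 325, 711, 712, 337], [679, 710, 322, 501, 328, 710, 713, 656, 710], [680, 711, 713, 714, 715, 326, 322, 655, 715], [657, 712, 656, 503, 503, 503, 655, 322, 503],
  [716, 717, 716, 324, 504, 708, 718, 718, 323], [700, 324, 719, 717, 697, 709, 372, 720, 697], [702, 719, 324, 716, 506, 721, 369, 722, 662], [677, 720, 722, 718, 326, 715, 332, 324, 326],
  [674, 326, 326, 723, 722, 711, 325, 508, 719], [723, 723, 723, 326, 718, 714, 509, 509, 718], [682, 339, 338, 669, 724, 510, 327, 725, 669], [675, 340, 330, 511, 710, 328, 725, 327, 328]]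

/-- Part of a table. -/
def secMv16 : List (List ℕ) := [
  [678, 364, 329, 374, 726, 725, 328, 512, 727], [676, 728, 726, 373, 329, 332, 715, 729, 373], [477, 342, 725, 370, 730, 331, 330, 338, 554], [452, 381, 332, 369, 331, 730, 722, 369, 516],
  [453, 332, 381, 372, 362, 728, 720, 372, 515], [517, 334, 612, 333, 731, 343, 732, 597, 435], [337, 518, 681, 731, 333, 344, 707, 706, 490], [338, 335, 682, 733, 734, 345, 333, 477, 489],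
  [520, 732, 613, 735, 736, 346, 334, 737, 738], [521, 597, 614, 336, 357, 355, 737, 334, 522], [548, 733, 683, 335, 548, 348, 735, 642, 521], [707, 523, 706, 739, 740, 349, 337, 681, 741],
  [706, 524, 707, 524, 712, 524, 681, 337, 524], [551, 341, 669, 338, 742, 350, 525, 370, 471], [734, 742, 724, 742, 338, 351, 740, 743, 744], [482, 473, 745, 471, 744, 353, 556, 554, 338],
  [552, 669, 341, 339, 339, 528, 528, 371, 528], [684, 725, 342, 371, 379, 364, 340, 339, 529], [530, 530, 530, 344, 343, 731, 530, 530, 434], [531, 346, 531, 572, 531, 732, 343, 592, 572],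
  [349, 532, 532, 532, 663, 707, 344, 532, 663], [549, 348, 533, 345, 746, 733, 572, 638, 433], [351, 553, 534, 746, 345, 734, 663, 553, 488], [550, 572, 535, 346, 747, 735, 348, 641, 637],
  [536, 536, 536, 747, 346, 736, 536, 536, 748], [537, 592, 537, 641, 537, 354, 347, 346, 537], [631, 394, 637, 637, 748, 738, 380, 652, 346], [539, 539, 539, 349, 749, 739, 539, 539, 750],
  [663, 662, 540, 749, 349, 740, 351, 662, 720], [454, 722, 720, 750, 720, 741, 381, 719, 349], [553, 351, 542, 351, 350, 742, 662, 351, 480], [481, 543, 480, 480, 353, 744, 751, 480, 351]]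

/-- Part of a table. -/
def secMv17 : List (List ℕ) := [
  [544, 594, 356, 610, 752, 737, 355, 354, 631], [545, 752, 752, 604, 356, 753, 752, 545, 604], [546, 598, 754, 608, 753, 356, 357, 546, 608], [547, 600, 357, 359, 614, 614, 754, 547, 614],
  [522, 755, 756, 360, 522, 358, 757, 438, 357], [533, 358, 549, 361, 758, 755, 384, 432, 393], [535, 384, 550, 550, 759, 757, 358, 436, 408], [525, 360, 456, 755, 760, 361, 551, 489, 458],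
  [528, 456, 360, 756, 469, 552, 552, 493, 469], [542, 534, 553, 758, 361, 760, 451, 534, 453], [458, 363, 761, 375, 728, 362, 378, 527, 514], [696, 761, 363, 376, 364, 379, 379, 687, 555],
  [459, 365, 727, 378, 762, 366, 527, 378, 378], [695, 727, 365, 379, 371, 376, 687, 379, 557], [455, 369, 372, 381, 366, 762, 719, 381, 381], [701, 762, 763, 730, 370, 369, 721, 764, 561],
  [670, 371, 370, 725, 763, 374, 560, 669, 761], [693, 373, 765, 728, 375, 372, 709, 766, 559], [703, 765, 373, 726, 374, 763, 705, 704, 767], [705, 766, 704, 729, 563, 729, 703, 373, 563],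
  [457, 379, 378, 727, 767, 761, 761, 727, 374], [690, 376, 375, 761, 765, 727, 685, 685, 725], [649, 391, 651, 377, 642, 380, 738, 649, 642], [450, 730, 767, 762, 378, 381, 741, 768, 762],
  [382, 568, 769, 399, 385, 568, 382, 769, 399], [769, 569, 382, 569, 386, 770, 769, 382, 770], [570, 405, 383, 570, 570, 570, 390, 570, 570], [771, 757, 772, 571, 571, 384, 755, 773, 383],
  [384, 535, 572, 531, 572, 771, 533, 774, 531], [774, 436, 573, 573, 770, 386, 432, 384, 386], [386, 428, 385, 397, 769, 774, 425, 636, 775], [387, 407, 636, 400, 636, 776, 426, 385, 634]]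

/-- Part of a table. -/
def secMv18 : List (List ℕ) := [
  [636, 408, 387, 576, 387, 773, 433, 386, 387], [776, 406, 777, 577, 773, 387, 435, 577, 773], [578, 578, 388, 447, 390, 578, 578, 498, 778], [579, 579, 498, 449, 579, 579, 579, 388, 779],
  [780, 781, 782, 450, 391, 389, 783, 784, 388], [389, 644, 646, 455, 392, 780, 646, 389, 401], [644, 389, 639, 452, 421, 781, 639, 644, 418], [646, 639, 389, 453, 393, 783, 389, 646, 758],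
  [785, 756, 755, 456, 778, 584, 772, 786, 390], [391, 649, 787, 459, 780, 392, 788, 391, 402], [787, 651, 391, 457, 782, 789, 790, 787, 789], [788, 738, 790, 791, 791, 394, 391, 788, 791],
  [394, 631, 634, 629, 634, 788, 392, 595, 636], [622, 618, 789, 458, 783, 393, 791, 615, 755], [634, 637, 394, 394, 394, 791, 393, 653, 394], [595, 652, 653, 653, 792, 595, 395, 394, 592],
  [592, 537, 592, 774, 793, 397, 396, 531, 591], [593, 593, 399, 769, 397, 793, 593, 399, 794], [594, 544, 400, 636, 400, 795, 398, 397, 629], [591, 445, 446, 775, 794, 591, 444, 588, 397],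
  [596, 401, 401, 461, 398, 796, 401, 596, 639], [597, 521, 797, 462, 796, 398, 795, 517, 640], [598, 546, 798, 776, 795, 400, 402, 598, 621], [599, 796, 799, 465, 402, 401, 796, 779, 780],
  [600, 547, 402, 467, 799, 797, 798, 600, 619], [601, 601, 403, 601, 405, 601, 601, 800, 801], [602, 602, 800, 602, 602, 602, 602, 403, 602], [802, 803, 804, 603, 406, 404, 805, 806, 403],
  [404, 807, 807, 545, 407, 802, 808, 604, 545], [807, 404, 404, 605, 408, 803, 809, 605, 759], [808, 809, 809, 423, 422, 805, 404, 606, 423], [810, 772, 757, 607, 801, 607, 756, 811, 405]]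

/-- Part of a table. -/
def secMv19 : List (List ℕ) := [
  [406, 776, 812, 546, 802, 407, 431, 608, 546], [812, 777, 406, 609, 804, 811, 440, 609, 811], [408, 636, 407, 544, 807, 813, 429, 428, 416], [813, 773, 811, 611, 803, 408, 438, 757, 757],
  [612, 409, 517, 468, 814, 612, 815, 797, 785], [613, 815, 520, 810, 816, 613, 409, 817, 810], [614, 797, 521, 470, 547, 547, 817, 409, 547], [411, 410, 818, 482, 819, 415, 820, 589, 622],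
  [412, 818, 410, 478, 616, 412, 821, 822, 412], [413, 820, 821, 823, 824, 416, 410, 825, 813], [414, 589, 822, 487, 431, 430, 825, 410, 649], [818, 412, 411, 474, 826, 818, 827, 828, 600],
  [819, 620, 826, 475, 411, 418, 819, 829, 781], [820, 413, 827, 830, 820, 419, 411, 830, 598], [589, 414, 828, 476, 831, 439, 830, 411, 615], [645, 642, 832, 477, 781, 421, 833, 733, 411],
  [821, 827, 413, 834, 835, 821, 412, 834, 754], [822, 828, 414, 479, 440, 836, 834, 412, 837], [825, 830, 834, 413, 805, 422, 414, 413, 413], [824, 824, 835, 805, 413, 423, 627, 838, 805],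
  [418, 628, 418, 481, 415, 819, 418, 418, 646], [419, 416, 419, 588, 419, 820, 415, 775, 594], [420, 417, 420, 483, 420, 442, 775, 415, 638], [538, 588, 422, 416, 809, 823, 437, 445, 544],
  [423, 423, 423, 809, 416, 824, 632, 632, 807], [424, 775, 424, 445, 633, 443, 417, 416, 633], [590, 422, 588, 419, 588, 830, 439, 446, 575], [775, 424, 775, 446, 839, 446, 420, 419, 446],
  [576, 610, 575, 594, 575, 833, 421, 574, 588], [422, 590, 538, 538, 808, 825, 430, 443, 535], [432, 427, 638, 460, 432, 425, 774, 533, 630], [434, 583, 582, 463, 426, 840, 582, 434, 596]]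

/-- Part of a table. -/
def secMv20 : List (List ℕ) := [
  [435, 431, 841, 464, 840, 426, 776, 640, 597], [436, 774, 641, 537, 641, 428, 427, 535, 641], [438, 623, 837, 495, 566, 429, 813, 522, 566], [440, 841, 431, 496, 822, 837, 812, 643, 836],
  [582, 581, 434, 488, 433, 842, 434, 582, 746], [623, 438, 786, 489, 842, 433, 773, 755, 733], [583, 434, 581, 485, 439, 831, 581, 583, 628], [840, 831, 843, 490, 435, 434, 842, 844, 731],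
  [841, 440, 435, 492, 843, 786, 777, 648, 786], [566, 585, 836, 486, 438, 437, 823, 566, 618], [837, 786, 438, 493, 836, 440, 811, 756, 822], [836, 586, 566, 494, 837, 822, 845, 836, 440],
  [445, 591, 443, 443, 652, 445, 441, 538, 652], [446, 443, 591, 591, 846, 775, 442, 590, 774], [846, 654, 794, 839, 446, 839, 846, 794, 839], [847, 848, 760, 778, 456, 655, 503, 502, 447],
  [849, 850, 503, 656, 656, 451, 760, 501, 448], [503, 851, 849, 779, 657, 657, 847, 465, 449], [730, 450, 852, 781, 477, 452, 853, 854, 475], [767, 852, 450, 782, 457, 855, 768, 741, 855],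
  [741, 853, 768, 856, 856, 454, 450, 767, 856], [768, 854, 741, 784, 857, 857, 767, 450, 857], [451, 540, 662, 858, 662, 849, 542, 540, 506], [540, 451, 663, 663, 532, 850, 534, 451, 532],
  [722, 454, 677, 677, 674, 853, 452, 702, 667], [728, 676, 855, 783, 458, 453, 856, 859, 760], [720, 677, 454, 454, 454, 856, 453, 700, 454], [719, 702, 700, 700, 699, 860, 455, 454, 664],
  [762, 701, 861, 780, 459, 455, 860, 857, 465], [456, 528, 525, 510, 847, 669, 669, 560, 510], [560, 493, 489, 786, 862, 492, 670, 456, 492], [761, 696, 458, 789, 855, 457, 457, 689, 457]]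

/-- Part of a table. -/
def secMv21 : List (List ℕ) := [
  [727, 695, 459, 787, 861, 690, 689, 457, 694], [500, 465, 863, 796, 462, 461, 864, 851, 676], [508, 466, 466, 466, 664, 864, 461, 674, 699], [511, 470, 462, 797, 863, 467, 694, 468, 689],
  [513, 665, 865, 840, 464, 463, 866, 867, 673], [507, 666, 664, 664, 466, 866, 463, 491, 700], [512, 496, 464, 841, 865, 694, 467, 678, 690], [501, 863, 465, 799, 467, 863, 868, 849, 688],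
  [502, 864, 868, 864, 866, 466, 465, 847, 691], [497, 681, 518, 814, 468, 681, 524, 523, 848], [510, 469, 519, 785, 848, 682, 468, 694, 468], [756, 785, 522, 469, 756, 683, 810, 837, 756],
  [529, 694, 495, 837, 494, 496, 470, 469, 479], [474, 472, 471, 745, 869, 745, 565, 565, 745], [475, 686, 869, 744, 471, 480, 870, 871, 742], [478, 745, 473, 472, 687, 472, 557, 555, 687],
  [869, 688, 475, 826, 474, 872, 871, 870, 679], [745, 478, 482, 818, 872, 474, 672, 671, 675], [565, 479, 476, 828, 873, 672, 474, 474, 678], [870, 691, 871, 874, 875, 484, 475, 869, 680],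
  [871, 692, 870, 829, 876, 877, 869, 475, 713], [561, 490, 873, 831, 476, 485, 875, 876, 698], [725, 684, 477, 832, 852, 678, 675, 682, 672], [557, 672, 486, 836, 493, 479, 478, 494, 496],
  [555, 671, 487, 822, 496, 494, 494, 478, 493], [484, 697, 751, 878, 505, 870, 480, 751, 505], [744, 698, 872, 819, 482, 481, 874, 877, 693], [751, 699, 484, 484, 667, 874, 481, 484, 674],
  [505, 491, 667, 667, 484, 875, 485, 666, 677], [559, 668, 862, 842, 489, 488, 879, 880, 734], [506, 667, 491, 491, 702, 879, 488, 664, 491], [562, 873, 490, 843, 492, 862, 563, 499, 862]]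

/-- Part of a table. -/
def secMv22 : List (List ℕ) := [
  [499, 875, 563, 879, 704, 491, 490, 562, 879], [563, 876, 499, 844, 705, 867, 562, 490, 867], [524, 706, 523, 881, 851, 706, 497, 518, 851], [523, 707, 524, 707, 850, 532, 518, 497, 850],
  [882, 883, 844, 499, 708, 504, 884, 843, 498], [875, 499, 876, 883, 870, 505, 561, 873, 870], [863, 501, 500, 710, 511, 501, 885, 850, 501], [864, 502, 885, 886, 887, 508, 500, 848, 888],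
  [851, 503, 850, 712, 524, 712, 848, 500, 712], [868, 885, 502, 889, 880, 885, 501, 760, 692], [886, 886, 889, 502, 884, 509, 714, 778, 884], [866, 890, 880, 884, 502, 507, 513, 862, 502],
  [504, 891, 504, 506, 716, 882, 892, 892, 858], [891, 504, 891, 505, 878, 883, 893, 893, 878], [892, 893, 892, 507, 509, 884, 504, 504, 509], [667, 506, 505, 891, 751, 888, 558, 541, 508],
  [666, 507, 541, 893, 541, 890, 516, 505, 540], [879, 888, 867, 882, 721, 506, 559, 865, 849], [664, 541, 507, 892, 508, 887, 515, 506, 751], [509, 509, 509, 508, 892, 886, 723, 723, 891],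
  [848, 847, 526, 847, 510, 724, 851, 864, 847], [694, 529, 514, 560, 894, 512, 511, 510, 565], [865, 895, 513, 562, 512, 894, 880, 879, 896], [672, 557, 556, 564, 896, 565, 745, 564, 512],
  [665, 513, 895, 561, 554, 516, 890, 897, 730], [867, 897, 879, 563, 729, 563, 862, 513, 729], [658, 567, 894, 559, 514, 515, 887, 898, 728], [731, 731, 814, 518, 517, 530, 731, 881, 647],
  [732, 520, 815, 771, 732, 531, 517, 795, 771], [755, 522, 785, 519, 899, 533, 771, 623, 645], [526, 760, 848, 899, 519, 534, 850, 885, 701], [757, 771, 810, 520, 900, 535, 522, 813, 825]]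

/-- Part of a table. -/
def secMv23 : List (List ℕ) := [
  [736, 736, 816, 900, 520, 536, 736, 901, 902], [737, 795, 817, 813, 903, 544, 521, 520, 823], [823, 587, 845, 825, 902, 538, 566, 823, 520], [739, 739, 881, 523, 904, 539, 739, 814, 905],
  [850, 849, 851, 904, 523, 540, 526, 863, 890], [660, 887, 661, 905, 890, 541, 567, 659, 523], [760, 526, 847, 526, 525, 542, 849, 868, 686], [885, 868, 864, 868, 898, 868, 863, 526, 743],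
  [698, 744, 906, 686, 527, 543, 907, 908, 526], [689, 687, 527, 685, 906, 685, 727, 761, 685], [758, 758, 746, 534, 533, 899, 746, 758, 644], [759, 747, 747, 536, 535, 900, 759, 747, 808],
  [809, 808, 808, 808, 538, 902, 807, 748, 536], [749, 858, 749, 540, 539, 904, 858, 858, 893], [893, 892, 893, 541, 893, 905, 891, 891, 539], [699, 751, 697, 909, 719, 907, 543, 697, 722],
  [752, 545, 545, 807, 544, 903, 545, 752, 809], [753, 903, 910, 802, 546, 545, 903, 911, 802], [754, 798, 546, 812, 910, 817, 547, 754, 624], [733, 548, 584, 551, 912, 549, 571, 645, 589],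
  [683, 584, 548, 552, 683, 756, 607, 650, 683], [735, 571, 607, 757, 913, 550, 548, 611, 611], [746, 746, 758, 553, 549, 912, 758, 746, 583], [747, 759, 759, 759, 550, 913, 747, 759, 605],
  [742, 734, 655, 912, 551, 553, 656, 713, 665], [671, 555, 554, 565, 895, 564, 564, 745, 560], [668, 559, 896, 567, 556, 558, 888, 914, 567], [862, 896, 559, 894, 560, 562, 867, 866, 895],
  [880, 914, 866, 898, 868, 898, 865, 559, 764], [873, 562, 561, 895, 565, 896, 876, 875, 894], [876, 563, 875, 897, 871, 897, 873, 561, 766], [659, 894, 567, 896, 564, 895, 661, 660, 562]]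

/-- Part of a table. -/
def secMv24 : List (List ℕ) := [
  [661, 898, 660, 914, 914, 914, 659, 567, 768], [569, 769, 568, 593, 574, 915, 569, 568, 916], [915, 770, 770, 770, 573, 569, 915, 770, 569], [571, 735, 917, 732, 771, 572, 733, 833, 732],
  [917, 607, 571, 772, 772, 772, 584, 918, 772], [833, 611, 918, 773, 577, 576, 645, 571, 577], [573, 641, 774, 592, 915, 574, 638, 572, 653], [635, 633, 635, 595, 916, 653, 630, 629, 574],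
  [577, 608, 919, 598, 833, 575, 640, 776, 830], [919, 609, 577, 777, 918, 918, 648, 777, 777], [920, 920, 912, 655, 584, 778, 778, 714, 578], [779, 921, 922, 657, 779, 779, 921, 599, 579],
  [580, 842, 923, 668, 585, 581, 831, 924, 599], [842, 580, 925, 658, 623, 582, 840, 926, 620], [923, 925, 580, 659, 586, 927, 927, 905, 927], [831, 840, 927, 665, 589, 583, 580, 928, 912],
  [924, 926, 905, 661, 924, 924, 928, 580, 924], [584, 683, 733, 682, 920, 785, 917, 832, 612], [832, 650, 645, 670, 929, 648, 918, 584, 648], [586, 836, 585, 672, 923, 828, 930, 586, 832],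
  [587, 823, 930, 820, 830, 588, 585, 587, 833], [828, 822, 589, 671, 927, 586, 931, 818, 586], [930, 845, 587, 931, 931, 931, 586, 930, 790], [830, 825, 931, 587, 587, 590, 589, 820, 587],
  [794, 792, 846, 846, 591, 794, 794, 846, 793], [793, 793, 793, 915, 592, 593, 793, 793, 792], [792, 794, 654, 916, 595, 792, 792, 654, 593], [795, 737, 932, 833, 598, 594, 597, 732, 820],
  [796, 599, 933, 673, 597, 596, 599, 921, 840], [797, 614, 597, 675, 933, 600, 932, 612, 818], [798, 754, 598, 919, 932, 932, 600, 798, 798], [799, 933, 599, 679, 600, 933, 933, 922, 826]]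

/-- Part of a table. -/
def secMv25 : List (List ℕ) := [
  [800, 800, 602, 800, 800, 934, 800, 601, 935], [936, 801, 913, 801, 607, 801, 936, 937, 601], [603, 938, 939, 753, 608, 604, 940, 941, 753], [938, 603, 942, 803, 611, 605, 943, 944, 913],
  [939, 942, 603, 804, 609, 942, 945, 935, 942], [940, 943, 945, 627, 626, 606, 603, 946, 627], [941, 944, 935, 806, 806, 806, 946, 603, 806], [605, 604, 604, 752, 610, 938, 748, 807, 632],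
  [606, 748, 748, 748, 637, 940, 604, 808, 747], [748, 606, 606, 632, 631, 943, 605, 809, 752], [607, 917, 735, 613, 936, 810, 683, 947, 613], [947, 918, 611, 811, 942, 609, 650, 607, 609],
  [609, 919, 608, 754, 939, 947, 643, 812, 834], [611, 833, 947, 737, 938, 610, 642, 735, 617], [814, 814, 731, 681, 612, 814, 814, 739, 920], [815, 613, 732, 917, 815, 815, 612, 932, 815],
  [816, 816, 736, 936, 613, 816, 816, 948, 936], [817, 932, 737, 947, 949, 754, 614, 613, 821], [619, 616, 615, 689, 950, 619, 951, 789, 797], [620, 819, 950, 698, 615, 628, 620, 952, 831],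
  [621, 617, 951, 788, 621, 629, 615, 791, 795], [624, 951, 617, 953, 954, 624, 616, 955, 817], [625, 789, 618, 696, 643, 651, 955, 616, 650], [738, 788, 953, 617, 943, 631, 649, 738, 737],
  [627, 627, 954, 943, 617, 632, 824, 956, 938], [626, 791, 955, 738, 940, 637, 618, 617, 735], [950, 826, 620, 688, 619, 950, 950, 957, 799], [951, 624, 621, 958, 951, 951, 619, 958, 827],
  [789, 625, 622, 690, 959, 787, 958, 619, 841], [952, 829, 957, 692, 960, 952, 952, 620, 889], [791, 626, 958, 621, 788, 634, 622, 621, 776], [783, 647, 959, 693, 622, 646, 780, 960, 819]]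

/-- Part of a table. -/
def secMv26 : List (List ℕ) := [
  [786, 837, 623, 694, 925, 841, 961, 785, 787], [773, 813, 961, 795, 776, 636, 623, 771, 788], [955, 958, 626, 624, 945, 953, 625, 624, 812], [954, 954, 627, 945, 624, 954, 835, 962, 910],
  [651, 787, 649, 695, 650, 625, 953, 651, 643], [650, 832, 642, 684, 651, 643, 947, 683, 625], [956, 956, 962, 946, 946, 838, 838, 627, 838], [916, 839, 916, 654, 635, 654, 916, 916, 654],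
  [647, 783, 963, 676, 640, 639, 781, 964, 796], [648, 643, 640, 678, 963, 832, 919, 841, 828], [781, 780, 929, 701, 645, 644, 647, 965, 899], [963, 959, 647, 703, 648, 929, 929, 708, 929],
  [964, 960, 708, 705, 844, 964, 965, 647, 964], [953, 790, 738, 955, 966, 955, 651, 953, 955], [654, 846, 792, 792, 653, 916, 654, 792, 915], [655, 724, 742, 724, 669, 847, 657, 680, 724],
  [724, 655, 734, 920, 682, 848, 712, 711, 681], [656, 740, 657, 922, 849, 662, 742, 679, 721], [740, 656, 712, 850, 707, 663, 734, 710, 707], [712, 657, 740, 921, 706, 851, 724, 673, 706],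
  [894, 659, 658, 925, 694, 865, 898, 887, 861], [887, 660, 898, 866, 864, 664, 658, 894, 860], [898, 661, 887, 926, 885, 880, 894, 658, 859], [895, 865, 665, 927, 671, 659, 914, 888, 659],
  [890, 866, 914, 660, 660, 666, 665, 896, 660], [914, 880, 890, 924, 661, 661, 895, 668, 661], [858, 749, 858, 662, 858, 922, 749, 749, 716], [897, 867, 888, 928, 877, 876, 896, 665, 854],
  [888, 879, 897, 875, 874, 667, 668, 895, 853], [896, 862, 668, 923, 672, 873, 897, 890, 852], [763, 861, 701, 929, 670, 703, 729, 715, 703], [710, 679, 673, 933, 675, 679, 743, 740, 872]]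

/-- Part of a table. -/
def secMv27 : List (List ℕ) := [
  [711, 680, 743, 680, 853, 674, 673, 724, 874], [726, 855, 676, 963, 678, 852, 764, 721, 873], [715, 856, 764, 853, 680, 677, 676, 763, 875], [729, 859, 721, 964, 867, 705, 763, 676, 705],
  [713, 743, 680, 743, 764, 743, 679, 742, 868], [688, 869, 686, 906, 685, 906, 692, 691, 906], [691, 870, 692, 957, 709, 697, 686, 688, 709], [692, 871, 691, 908, 766, 908, 688, 686, 871],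
  [906, 872, 698, 950, 689, 688, 908, 907, 863], [765, 703, 693, 959, 690, 861, 766, 709, 865], [907, 874, 908, 691, 860, 699, 698, 906, 864], [709, 704, 766, 860, 691, 700, 693, 765, 866],
  [766, 705, 709, 960, 692, 859, 765, 693, 880], [908, 877, 907, 952, 859, 692, 906, 698, 885], [909, 878, 909, 697, 717, 957, 909, 909, 717], [721, 860, 729, 704, 879, 702, 701, 726, 704],
  [764, 857, 715, 965, 713, 854, 726, 701, 876], [881, 881, 739, 706, 921, 881, 881, 731, 921], [708, 967, 964, 721, 882, 716, 968, 963, 922], [967, 708, 960, 709, 957, 717, 969, 959, 957],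
  [968, 969, 965, 715, 714, 718, 708, 929, 714], [743, 713, 711, 970, 854, 713, 710, 734, 877], [714, 714, 970, 711, 968, 723, 886, 920, 967], [853, 741, 854, 968, 711, 722, 730, 852, 907],
  [860, 721, 859, 967, 907, 719, 762, 855, 711], [970, 970, 714, 713, 965, 970, 889, 912, 829], [856, 715, 857, 969, 741, 720, 728, 861, 740], [717, 716, 717, 719, 909, 967, 750, 750, 723],
  [718, 750, 718, 722, 723, 968, 716, 716, 909], [750, 718, 750, 720, 750, 969, 717, 717, 749], [852, 767, 730, 763, 725, 726, 854, 853, 765], [855, 726, 728, 765, 761, 767, 857, 860, 763]]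

/-- Part of a table. -/
def secMv28 : List (List ℕ) := [
  [861, 763, 762, 767, 727, 765, 859, 856, 726], [859, 729, 860, 766, 908, 766, 861, 728, 897], [854, 768, 853, 764, 743, 764, 852, 730, 898], [912, 912, 920, 734, 733, 746, 899, 970, 842],
  [913, 900, 936, 736, 735, 747, 913, 971, 940], [901, 901, 948, 971, 972, 901, 901, 736, 901], [943, 940, 966, 940, 738, 748, 938, 973, 736], [903, 753, 949, 938, 737, 752, 753, 972, 943],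
  [904, 922, 921, 740, 739, 749, 922, 933, 969], [969, 968, 784, 741, 969, 750, 967, 782, 739], [872, 906, 744, 869, 745, 869, 877, 874, 869], [874, 907, 877, 974, 888, 751, 744, 872, 887],
  [877, 908, 874, 871, 897, 871, 872, 744, 908], [878, 909, 878, 751, 891, 974, 878, 878, 892], [910, 949, 753, 939, 754, 949, 949, 975, 835], [911, 972, 975, 941, 911, 911, 972, 753, 911],
  [899, 899, 778, 760, 755, 758, 912, 889, 783], [900, 913, 801, 913, 757, 759, 900, 976, 803], [857, 764, 856, 768, 768, 768, 855, 762, 914], [770, 915, 915, 793, 774, 769, 770, 915, 846],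
  [839, 916, 839, 794, 775, 846, 839, 839, 769], [772, 810, 771, 815, 917, 917, 785, 961, 917], [961, 811, 773, 918, 777, 777, 786, 772, 918], [777, 812, 776, 798, 961, 961, 841, 919, 919],
  [778, 778, 899, 848, 785, 920, 920, 886, 814], [921, 779, 904, 851, 881, 921, 779, 796, 881], [922, 904, 779, 849, 922, 858, 904, 799, 882], [782, 929, 780, 861, 787, 959, 959, 969, 925],
  [784, 965, 969, 857, 784, 784, 960, 780, 784], [929, 782, 781, 852, 832, 963, 963, 968, 923], [965, 784, 968, 854, 970, 965, 964, 781, 928], [959, 963, 783, 855, 789, 782, 782, 967, 782]]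

/-- Part of a table. -/
def secMv29 : List (List ℕ) := [
  [960, 964, 967, 859, 952, 960, 784, 783, 926], [925, 923, 842, 862, 786, 843, 843, 884, 843], [790, 953, 788, 951, 958, 958, 787, 790, 930], [958, 955, 791, 790, 790, 790, 789, 951, 931],
  [932, 817, 795, 961, 798, 798, 797, 815, 932], [933, 799, 796, 863, 797, 799, 799, 904, 950], [934, 934, 934, 934, 934, 800, 934, 934, 977], [978, 979, 806, 935, 935, 977, 980, 804, 800],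
  [801, 936, 900, 816, 810, 936, 801, 981, 816], [981, 937, 976, 937, 979, 982, 981, 801, 979], [803, 802, 983, 903, 813, 807, 902, 984, 824], [804, 983, 802, 910, 812, 983, 985, 978, 945],
  [805, 902, 985, 902, 825, 808, 802, 986, 900], [806, 984, 978, 911, 941, 941, 986, 802, 941], [983, 804, 803, 942, 811, 804, 987, 979, 804], [902, 805, 987, 824, 823, 809, 803, 988, 903],
  [984, 806, 979, 944, 976, 944, 988, 803, 944], [985, 987, 805, 835, 834, 987, 804, 980, 939], [986, 988, 980, 838, 838, 946, 806, 805, 946], [811, 961, 813, 817, 983, 812, 837, 810, 953],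
  [948, 948, 901, 981, 989, 990, 948, 816, 991], [949, 910, 903, 983, 817, 910, 910, 989, 954], [826, 950, 819, 872, 818, 826, 826, 974, 933], [827, 821, 820, 930, 827, 827, 818, 931, 951],
  [829, 952, 974, 877, 928, 829, 829, 819, 970], [845, 930, 823, 821, 987, 834, 836, 845, 947], [835, 835, 824, 987, 821, 835, 954, 992, 949], [834, 931, 825, 845, 985, 845, 822, 821, 845],
  [838, 838, 992, 988, 986, 956, 956, 824, 956], [974, 957, 829, 870, 883, 878, 974, 826, 883], [931, 834, 830, 827, 930, 930, 828, 827, 958], [927, 843, 831, 873, 828, 923, 923, 883, 963]]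

/-- Part of a table. -/
def secMv30 : List (List ℕ) := [
  [928, 844, 883, 876, 829, 928, 924, 831, 965], [918, 947, 833, 932, 919, 919, 832, 917, 961], [992, 992, 838, 980, 980, 993, 962, 835, 980], [843, 927, 840, 865, 841, 925, 925, 882, 959],
  [844, 928, 882, 867, 964, 844, 926, 840, 844], [926, 924, 884, 880, 889, 926, 844, 842, 960], [987, 985, 902, 985, 845, 985, 983, 991, 985], [883, 882, 928, 888, 974, 891, 905, 927, 886],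
  [884, 905, 926, 887, 886, 892, 882, 925, 974], [905, 884, 924, 890, 905, 893, 883, 923, 904], [889, 889, 886, 885, 926, 889, 970, 899, 952], [976, 971, 981, 901, 984, 971, 976, 900, 971],
  [972, 911, 989, 984, 901, 972, 911, 903, 972], [988, 986, 991, 986, 988, 973, 984, 902, 973], [957, 974, 952, 907, 967, 909, 957, 950, 968], [975, 989, 911, 978, 975, 994, 989, 910, 978],
  [971, 976, 937, 976, 944, 976, 971, 913, 976], [995, 996, 977, 977, 977, 935, 997, 996, 934], [935, 998, 941, 975, 978, 995, 999, 939, 975], [998, 935, 944, 979, 937, 996, 1000, 942, 937],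
  [999, 1000, 946, 962, 962, 997, 935, 945, 962], [937, 981, 971, 948, 998, 1001, 937, 936, 999], [1001, 982, 982, 982, 996, 937, 1001, 982, 996], [942, 939, 938, 949, 947, 939, 966, 998, 987],
  [944, 941, 998, 972, 971, 984, 973, 938, 984], [945, 966, 940, 966, 955, 966, 939, 999, 966], [946, 973, 999, 973, 956, 986, 941, 940, 986], [966, 945, 943, 954, 953, 945, 942, 1000, 983],
  [973, 946, 1000, 956, 973, 988, 944, 943, 988], [989, 975, 972, 998, 948, 1002, 975, 949, 1000], [990, 990, 990, 1001, 1002, 948, 990, 990, 1003], [1000, 999, 973, 999, 1000, 1003, 998, 966, 948]]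

/-- Part of a table. -/
def secMv31 : List (List ℕ) := [
  [962, 962, 956, 1000, 999, 1004, 992, 954, 998], [1004, 1004, 993, 997, 997, 962, 993, 1004, 997], [994, 1002, 994, 995, 994, 975, 1002, 1002, 995], [977, 1005, 995, 994, 995, 978, 1006, 1005, 994],
  [1005, 977, 996, 996, 982, 979, 1007, 977, 982], [1006, 1007, 997, 993, 993, 980, 977, 1007, 993], [979, 978, 984, 989, 981, 1005, 991, 983, 992], [980, 991, 986, 991, 992, 1006, 978, 985, 981],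
  [991, 980, 988, 992, 991, 1007, 979, 987, 989], [982, 1001, 1001, 990, 1005, 981, 982, 1001, 1006], [1002, 994, 1002, 1005, 990, 989, 994, 994, 1007], [1007, 1006, 1003, 1006, 1007, 991, 1005, 1006, 990],
  [993, 993, 1004, 1007, 1006, 992, 1004, 993, 1005], [996, 995, 1005, 1002, 1001, 998, 1003, 995, 1004], [997, 1003, 1006, 1003, 1004, 999, 995, 1003, 1001], [1003, 997, 1007, 1004, 1003, 1000, 996, 997, 1002]]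

/-- A table in blocks. -/
def secMvTab : List (List (List ℕ)) := [
  secMv0, secMv1, secMv2, secMv3, secMv4, secMv5, secMv6, secMv7,
  secMv8, secMv9, secMv10, secMv11, secMv12, secMv13, secMv14, secMv15,
  secMv16, secMv17, secMv18, secMv19, secMv20, secMv21, secMv22, secMv23,
  secMv24, secMv25, secMv26, secMv27, secMv28, secMv29, secMv30, secMv31]

/-- The class and representative of each conjugate. -/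
def kCls : List (ℕ × ℕ) := [
  (0, 0), (1, 0), (1, 1), (1, 2), (1, 3), (1, 4), (1, 5), (1, 6), (1, 7), (1, 8), (1, 10), (1, 11),
  (1, 12), (1, 13), (1, 14), (1, 16), (1, 17), (1, 18), (1, 19), (1, 25), (1, 26), (1, 27), (1, 28), (1, 29),
  (1, 31), (1, 36), (1, 37), (1, 38), (1, 39), (1, 51), (1, 52), (1, 53), (1, 54), (1, 55), (1, 67), (1, 68),
  (1, 69), (1, 70), (1, 71), (1, 74), (1, 91), (1, 92), (1, 93), (1, 94), (1, 95), (1, 101), (1, 113), (1, 114),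
  (1, 115), (1, 116), (1, 117), (1, 118), (1, 122), (1, 123), (1, 149), (1, 150), (1, 151), (1, 152), (1, 155), (1, 159),
  (1, 161), (1, 176), (1, 177), (1, 178), (1, 179), (1, 180), (1, 188), (1, 189), (1, 190), (1, 221), (1, 226), (1, 227),
  (1, 228), (1, 229), (1, 232), (1, 240), (1, 257), (1, 258), (1, 259), (1, 261), (1, 262), (1, 272), (1, 277), (1, 279),
  (1, 299), (1, 321), (1, 324), (1, 325), (1, 330), (1, 338), (1, 342), (1, 360), (1, 361), (1, 366), (1, 367), (1, 381),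
  (1, 384), (1, 394), (1, 420), (1, 443), (1, 445), (1, 449), (1, 453), (1, 462), (1, 487), (1, 498), (1, 515), (1, 518),
  (1, 519), (1, 527), (1, 570), (1, 593), (1, 609), (1, 612), (1, 617), (1, 645), (1, 679), (1, 684), (1, 685), (1, 690),
  (1, 696), (1, 705), (1, 764), (1, 767), (1, 773), (1, 788), (1, 795), (1, 823), (1, 830), (1, 832), (1, 834), (1, 875),
  (1, 876), (1, 885), (1, 894), (1, 903), (1, 952), (1, 960), (1, 963), (1, 982), (1, 987), (1, 1003), (1, 1008), (1, 1011),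
  (1, 1017), (1, 1019), (1, 1020), (1, 1067), (1, 1080), (1, 1083), (1, 1107), (1, 1113), (1, 1117), (1, 1138), (1, 1143), (1, 1147),
  (1, 1150), (1, 1151), (1, 1190), (1, 1201), (1, 1213), (1, 1215), (1, 1217), (1, 1233), (1, 1237), (1, 1243), (1, 1247), (1, 1252),
  (1, 1254), (1, 1256), (1, 1257), (1, 1258), (1, 1259), (2, 0), (2, 2), (2, 6), (2, 7), (2, 8), (2, 17), (2, 18),
  (2, 19), (2, 20), (2, 21), (2, 22), (2, 23), (2, 44), (2, 45), (2, 46), (2, 47), (2, 49), (2, 65), (2, 86),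
  (2, 91), (2, 92), (2, 93), (2, 126), (2, 158), (2, 159), (2, 160), (2, 161), (2, 163), (2, 223), (2, 241), (2, 270),
  (2, 271), (2, 272), (2, 382), (2, 389), (2, 399), (2, 404), (2, 434), (2, 504), (2, 568), (2, 569), (2, 578), (2, 579),
  (2, 580), (2, 581), (2, 582), (2, 583), (2, 593), (2, 601), (2, 602), (2, 603), (2, 604), (2, 605), (2, 606), (2, 639),
  (2, 644), (2, 646), (2, 647), (2, 654), (2, 708), (2, 716), (2, 717), (2, 718), (2, 748), (2, 750), (2, 769), (2, 770),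
  (2, 778), (2, 779), (2, 780), (2, 781), (2, 783), (2, 792), (2, 793), (2, 794), (2, 799), (2, 801), (2, 802), (2, 803),
  (2, 805), (2, 807), (2, 808), (2, 809), (2, 814), (2, 816), (2, 826), (2, 829), (2, 831), (2, 835), (2, 838), (2, 839),
  (2, 840), (2, 842), (2, 846), (2, 881), (2, 882), (2, 883), (2, 884), (2, 889), (2, 891), (2, 892), (2, 893), (2, 901),
  (2, 902), (2, 905), (2, 910), (2, 911), (2, 915), (2, 916), (2, 920), (2, 921), (2, 933), (2, 935), (2, 936), (2, 938),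
  (2, 940), (2, 943), (2, 949), (2, 950), (2, 952), (2, 954), (2, 956), (2, 967), (2, 968), (2, 969), (2, 970), (2, 971),
  (2, 972), (2, 976), (2, 977), (2, 978), (2, 979), (2, 980), (2, 991), (2, 995), (2, 996), (2, 997), (2, 998), (2, 999),
  (2, 1000), (2, 1003), (2, 1005), (2, 1006), (2, 1007)]

/-- Part of a table. -/
def nbrIdx0 : List (ℕ) := [
  1, 2, 3, 4, 5, 6, 7, 8, 9, 317, 10, 11, 12, 13, 14, 317,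
  15, 16, 17, 18, 317, 317, 317, 317, 317, 19, 20, 21, 22, 23, 317, 24]

/-- Part of a table. -/
def nbrIdx1 : List (ℕ) := [
  317, 317, 317, 317, 25, 26, 27, 28, 317, 317, 317, 317, 317, 317, 317, 317,
  317, 317, 317, 29, 30, 31, 32, 33, 317, 317, 317, 317, 317, 317, 317, 317]

/-- Part of a table. -/
def nbrIdx2 : List (ℕ) := [
  317, 317, 317, 34, 35, 36, 37, 38, 317, 317, 39, 317, 317, 317, 317, 317,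
  317, 317, 317, 317, 317, 317, 317, 317, 317, 317, 317, 40, 41, 42, 43, 44]

/-- Part of a table. -/
def nbrIdx3 : List (ℕ) := [
  317, 317, 317, 317, 317, 45, 317, 317, 317, 317, 317, 317, 317, 317, 317, 317,
  317, 46, 47, 48, 49, 50, 51, 317, 317, 317, 52, 53, 317, 317, 317, 317]

/-- Part of a table. -/
def nbrIdx4 : List (ℕ) := [
  317, 317, 317, 317, 317, 317, 317, 317, 317, 317, 317, 317, 317, 317, 317, 317,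
  317, 317, 317, 317, 317, 54, 55, 56, 57, 317, 317, 58, 317, 317, 317, 59]

/-- Part of a table. -/
def nbrIdx5 : List (ℕ) := [
  317, 60, 317, 317, 317, 317, 317, 317, 317, 317, 317, 317, 317, 317, 317, 317,
  61, 62, 63, 64, 65, 317, 317, 317, 317, 317, 317, 317, 66, 67, 68, 317]

/-- Part of a table. -/
def nbrIdx6 : List (ℕ) := [
  317, 317, 317, 317, 317, 317, 317, 317, 317, 317, 317, 317, 317, 317, 317, 317,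
  317, 317, 317, 317, 317, 317, 317, 317, 317, 317, 317, 317, 317, 69, 317, 317]

/-- Part of a table. -/
def nbrIdx7 : List (ℕ) := [
  317, 317, 70, 71, 72, 73, 317, 317, 74, 317, 317, 317, 317, 317, 317, 317,
  75, 317, 317, 317, 317, 317, 317, 317, 317, 317, 317, 317, 317, 317, 317, 317]

/-- Part of a table. -/
def nbrIdx8 : List (ℕ) := [
  317, 76, 77, 78, 317, 79, 80, 317, 317, 317, 317, 317, 317, 317, 317, 317,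
  81, 317, 317, 317, 317, 82, 317, 83, 317, 317, 317, 317, 317, 317, 317, 317]

/-- Part of a table. -/
def nbrIdx9 : List (ℕ) := [
  317, 317, 317, 317, 317, 317, 317, 317, 317, 317, 317, 84, 317, 317, 317, 317,
  317, 317, 317, 317, 317, 317, 317, 317, 317, 317, 317, 317, 317, 317, 317, 317]

/-- Part of a table. -/
def nbrIdx10 : List (ℕ) := [
  317, 85, 317, 317, 86, 87, 317, 317, 317, 317, 88, 317, 317, 317, 317, 317,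
  317, 317, 89, 317, 317, 317, 90, 317, 317, 317, 317, 317, 317, 317, 317, 317]

/-- Part of a table. -/
def nbrIdx11 : List (ℕ) := [
  317, 317, 317, 317, 317, 317, 317, 317, 91, 92, 317, 317, 317, 317, 93, 94,
  317, 317, 317, 317, 317, 317, 317, 317, 317, 317, 317, 317, 317, 95, 317, 317]

/-- Part of a table. -/
def nbrIdx12 : List (ℕ) := [
  96, 317, 317, 317, 317, 317, 317, 317, 317, 317, 97, 317, 317, 317, 317, 317,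
  317, 317, 317, 317, 317, 317, 317, 317, 317, 317, 317, 317, 317, 317, 317, 317]

/-- Part of a table. -/
def nbrIdx13 : List (ℕ) := [
  317, 317, 317, 317, 98, 317, 317, 317, 317, 317, 317, 317, 317, 317, 317, 317,
  317, 317, 317, 317, 317, 317, 317, 317, 317, 317, 317, 99, 317, 100, 317, 317]

/-- Part of a table. -/
def nbrIdx14 : List (ℕ) := [
  317, 101, 317, 317, 317, 102, 317, 317, 317, 317, 317, 317, 317, 317, 103, 317,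
  317, 317, 317, 317, 317, 317, 317, 317, 317, 317, 317, 317, 317, 317, 317, 317]

/-- Part of a table. -/
def nbrIdx15 : List (ℕ) := [
  317, 317, 317, 317, 317, 317, 317, 104, 317, 317, 317, 317, 317, 317, 317, 317,
  317, 317, 105, 317, 317, 317, 317, 317, 317, 317, 317, 317, 317, 317, 317, 317]

/-- Part of a table. -/
def nbrIdx16 : List (ℕ) := [
  317, 317, 317, 106, 317, 317, 107, 108, 317, 317, 317, 317, 317, 317, 317, 109,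
  317, 317, 317, 317, 317, 317, 317, 317, 317, 317, 317, 317, 317, 317, 317, 317]

/-- Part of a table. -/
def nbrIdx17 : List (ℕ) := [
  317, 317, 317, 317, 317, 317, 317, 317, 317, 317, 317, 317, 317, 317, 317, 317,
  317, 317, 317, 317, 317, 317, 317, 317, 317, 317, 110, 317, 317, 317, 317, 317]

/-- Part of a table. -/
def nbrIdx18 : List (ℕ) := [
  317, 317, 317, 317, 317, 317, 317, 317, 317, 317, 317, 317, 317, 317, 317, 317,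
  317, 111, 317, 317, 317, 317, 317, 317, 317, 317, 317, 317, 317, 317, 317, 317]

/-- Part of a table. -/
def nbrIdx19 : List (ℕ) := [
  317, 112, 317, 317, 113, 317, 317, 317, 317, 114, 317, 317, 317, 317, 317, 317,
  317, 317, 317, 317, 317, 317, 317, 317, 317, 317, 317, 317, 317, 317, 317, 317]

/-- Part of a table. -/
def nbrIdx20 : List (ℕ) := [
  317, 317, 317, 317, 317, 115, 317, 317, 317, 317, 317, 317, 317, 317, 317, 317,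
  317, 317, 317, 317, 317, 317, 317, 317, 317, 317, 317, 317, 317, 317, 317, 317]

/-- Part of a table. -/
def nbrIdx21 : List (ℕ) := [
  317, 317, 317, 317, 317, 317, 317, 116, 317, 317, 317, 317, 117, 118, 317, 317,
  317, 317, 119, 317, 317, 317, 317, 317, 120, 317, 317, 317, 317, 317, 317, 317]

/-- Part of a table. -/
def nbrIdx22 : List (ℕ) := [
  317, 121, 317, 317, 317, 317, 317, 317, 317, 317, 317, 317, 317, 317, 317, 317,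
  317, 317, 317, 317, 317, 317, 317, 317, 317, 317, 317, 317, 317, 317, 317, 317]

/-- Part of a table. -/
def nbrIdx23 : List (ℕ) := [
  317, 317, 317, 317, 317, 317, 317, 317, 317, 317, 317, 317, 317, 317, 317, 317,
  317, 317, 317, 317, 317, 317, 317, 317, 317, 317, 317, 317, 122, 317, 317, 123]

/-- Part of a table. -/
def nbrIdx24 : List (ℕ) := [
  317, 317, 317, 317, 317, 124, 317, 317, 317, 317, 317, 317, 317, 317, 317, 317,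
  317, 317, 317, 317, 125, 317, 317, 317, 317, 317, 317, 126, 317, 317, 317, 317]

/-- Part of a table. -/
def nbrIdx25 : List (ℕ) := [
  317, 317, 317, 317, 317, 317, 317, 317, 317, 317, 317, 317, 317, 317, 317, 317,
  317, 317, 317, 317, 317, 317, 317, 127, 317, 317, 317, 317, 317, 317, 128, 317]

/-- Part of a table. -/
def nbrIdx26 : List (ℕ) := [
  129, 317, 130, 317, 317, 317, 317, 317, 317, 317, 317, 317, 317, 317, 317, 317,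
  317, 317, 317, 317, 317, 317, 317, 317, 317, 317, 317, 317, 317, 317, 317, 317]

/-- Part of a table. -/
def nbrIdx27 : List (ℕ) := [
  317, 317, 317, 317, 317, 317, 317, 317, 317, 317, 317, 131, 132, 317, 317, 317,
  317, 317, 317, 317, 317, 133, 317, 317, 317, 317, 317, 317, 317, 317, 134, 317]

/-- Part of a table. -/
def nbrIdx28 : List (ℕ) := [
  317, 317, 317, 317, 317, 317, 317, 135, 317, 317, 317, 317, 317, 317, 317, 317,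
  317, 317, 317, 317, 317, 317, 317, 317, 317, 317, 317, 317, 317, 317, 317, 317]

/-- Part of a table. -/
def nbrIdx29 : List (ℕ) := [
  317, 317, 317, 317, 317, 317, 317, 317, 317, 317, 317, 317, 317, 317, 317, 317,
  317, 317, 317, 317, 317, 317, 317, 317, 136, 317, 317, 317, 317, 317, 317, 317]

/-- Part of a table. -/
def nbrIdx30 : List (ℕ) := [
  137, 317, 317, 138, 317, 317, 317, 317, 317, 317, 317, 317, 317, 317, 317, 317,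
  317, 317, 317, 317, 317, 317, 139, 317, 317, 317, 317, 140, 317, 317, 317, 317]

/-- Part of a table. -/
def nbrIdx31 : List (ℕ) := [
  317, 317, 317, 317, 317, 317, 317, 317, 317, 317, 317, 141, 317, 317, 317, 317,
  142, 317, 317, 143, 317, 317, 317, 317, 317, 144, 317, 145, 146, 317, 317, 317]

/-- Part of a table. -/
def nbrIdx32 : List (ℕ) := [
  317, 317, 317, 317, 317, 317, 317, 317, 317, 317, 317, 317, 317, 317, 317, 317,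
  317, 317, 317, 317, 317, 317, 317, 317, 317, 317, 317, 317, 317, 317, 317, 317]

/-- Part of a table. -/
def nbrIdx33 : List (ℕ) := [
  317, 317, 317, 317, 317, 317, 317, 317, 317, 317, 317, 147, 317, 317, 317, 317,
  317, 317, 317, 317, 317, 317, 317, 317, 148, 317, 317, 149, 317, 317, 317, 317]

/-- Part of a table. -/
def nbrIdx34 : List (ℕ) := [
  317, 317, 317, 317, 317, 317, 317, 317, 317, 317, 317, 317, 317, 317, 317, 317,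
  317, 317, 317, 150, 317, 317, 317, 317, 317, 151, 317, 317, 317, 152, 317, 317]

/-- Part of a table. -/
def nbrIdx35 : List (ℕ) := [
  317, 317, 317, 317, 317, 317, 317, 317, 317, 317, 317, 317, 317, 317, 317, 317,
  317, 317, 153, 317, 317, 317, 317, 154, 317, 317, 317, 155, 317, 317, 156, 157]

/-- Part of a table. -/
def nbrIdx36 : List (ℕ) := [
  317, 317, 317, 317, 317, 317, 317, 317, 317, 317, 317, 317, 317, 317, 317, 317,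
  317, 317, 317, 317, 317, 317, 317, 317, 317, 317, 317, 317, 317, 317, 317, 317]

/-- Part of a table. -/
def nbrIdx37 : List (ℕ) := [
  317, 317, 317, 317, 317, 317, 158, 317, 317, 317, 317, 317, 317, 317, 317, 317,
  317, 159, 317, 317, 317, 317, 317, 317, 317, 317, 317, 317, 317, 160, 317, 161]

/-- Part of a table. -/
def nbrIdx38 : List (ℕ) := [
  317, 162, 317, 317, 317, 317, 317, 317, 317, 317, 317, 317, 317, 317, 317, 317,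
  317, 163, 317, 317, 317, 164, 317, 317, 317, 317, 317, 165, 317, 317, 317, 166]

/-- Part of a table. -/
def nbrIdx39 : List (ℕ) := [
  317, 317, 317, 317, 167, 317, 168, 317, 169, 170, 171, 172]

/-- A table in blocks. -/
def nbrIdxTab : List (List (ℕ)) := [
  nbrIdx0, nbrIdx1, nbrIdx2, nbrIdx3, nbrIdx4, nbrIdx5, nbrIdx6, nbrIdx7,
  nbrIdx8, nbrIdx9, nbrIdx10, nbrIdx11, nbrIdx12, nbrIdx13, nbrIdx14, nbrIdx15,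
  nbrIdx16, nbrIdx17, nbrIdx18, nbrIdx19, nbrIdx20, nbrIdx21, nbrIdx22, nbrIdx23,
  nbrIdx24, nbrIdx25, nbrIdx26, nbrIdx27, nbrIdx28, nbrIdx29, nbrIdx30, nbrIdx31,
  nbrIdx32, nbrIdx33, nbrIdx34, nbrIdx35, nbrIdx36, nbrIdx37, nbrIdx38, nbrIdx39]

/-- Part of a table. -/
def secIdx0 : List (ℕ) := [
  173, 317, 174, 317, 317, 317, 175, 176, 177, 317, 317, 317, 317, 317, 317, 317,
  317, 178, 179, 180, 181, 182, 183, 184, 317, 317, 317, 317, 317, 317, 317, 317]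

/-- Part of a table. -/
def secIdx1 : List (ℕ) := [
  317, 317, 317, 317, 317, 317, 317, 317, 317, 317, 317, 317, 185, 186, 187, 188,
  317, 189, 317, 317, 317, 317, 317, 317, 317, 317, 317, 317, 317, 317, 317, 317]

/-- Part of a table. -/
def secIdx2 : List (ℕ) := [
  317, 190, 317, 317, 317, 317, 317, 317, 317, 317, 317, 317, 317, 317, 317, 317,
  317, 317, 317, 317, 317, 317, 191, 317, 317, 317, 317, 192, 193, 194, 317, 317]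

/-- Part of a table. -/
def secIdx3 : List (ℕ) := [
  317, 317, 317, 317, 317, 317, 317, 317, 317, 317, 317, 317, 317, 317, 317, 317,
  317, 317, 317, 317, 317, 317, 317, 317, 317, 317, 317, 317, 317, 317, 195, 317]

/-- Part of a table. -/
def secIdx4 : List (ℕ) := [
  317, 317, 317, 317, 317, 317, 317, 317, 317, 317, 317, 317, 317, 317, 317, 317,
  317, 317, 317, 317, 317, 317, 317, 317, 317, 317, 317, 317, 317, 317, 196, 197]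

/-- Part of a table. -/
def secIdx5 : List (ℕ) := [
  198, 199, 317, 200, 317, 317, 317, 317, 317, 317, 317, 317, 317, 317, 317, 317,
  317, 317, 317, 317, 317, 317, 317, 317, 317, 317, 317, 317, 317, 317, 317, 317]

/-- Part of a table. -/
def secIdx6 : List (ℕ) := [
  317, 317, 317, 317, 317, 317, 317, 317, 317, 317, 317, 317, 317, 317, 317, 317,
  317, 317, 317, 317, 317, 317, 317, 317, 317, 317, 317, 317, 317, 317, 317, 201]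

/-- Part of a table. -/
def secIdx7 : List (ℕ) := [
  317, 317, 317, 317, 317, 317, 317, 317, 317, 317, 317, 317, 317, 317, 317, 317,
  317, 202, 317, 317, 317, 317, 317, 317, 317, 317, 317, 317, 317, 317, 317, 317]

/-- Part of a table. -/
def secIdx8 : List (ℕ) := [
  317, 317, 317, 317, 317, 317, 317, 317, 317, 317, 317, 317, 317, 317, 203, 204,
  205, 317, 317, 317, 317, 317, 317, 317, 317, 317, 317, 317, 317, 317, 317, 317]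

/-- Part of a table. -/
def secIdx9 : List (ℕ) := [
  317, 317, 317, 317, 317, 317, 317, 317, 317, 317, 317, 317, 317, 317, 317, 317,
  317, 317, 317, 317, 317, 317, 317, 317, 317, 317, 317, 317, 317, 317, 317, 317]

/-- Part of a table. -/
def secIdx10 : List (ℕ) := [
  317, 317, 317, 317, 317, 317, 317, 317, 317, 317, 317, 317, 317, 317, 317, 317,
  317, 317, 317, 317, 317, 317, 317, 317, 317, 317, 317, 317, 317, 317, 317, 317]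

/-- Part of a table. -/
def secIdx11 : List (ℕ) := [
  317, 317, 317, 317, 317, 317, 317, 317, 317, 317, 317, 317, 317, 317, 317, 317,
  317, 317, 317, 317, 317, 317, 317, 317, 317, 317, 317, 317, 317, 317, 206, 317]

/-- Part of a table. -/
def secIdx12 : List (ℕ) := [
  317, 317, 317, 317, 317, 207, 317, 317, 317, 317, 317, 317, 317, 317, 317, 208,
  317, 317, 317, 317, 209, 317, 317, 317, 317, 317, 317, 317, 317, 317, 317, 317]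

/-- Part of a table. -/
def secIdx13 : List (ℕ) := [
  317, 317, 317, 317, 317, 317, 317, 317, 317, 317, 317, 317, 317, 317, 317, 317,
  317, 317, 210, 317, 317, 317, 317, 317, 317, 317, 317, 317, 317, 317, 317, 317]

/-- Part of a table. -/
def secIdx14 : List (ℕ) := [
  317, 317, 317, 317, 317, 317, 317, 317, 317, 317, 317, 317, 317, 317, 317, 317,
  317, 317, 317, 317, 317, 317, 317, 317, 317, 317, 317, 317, 317, 317, 317, 317]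

/-- Part of a table. -/
def secIdx15 : List (ℕ) := [
  317, 317, 317, 317, 317, 317, 317, 317, 317, 317, 317, 317, 317, 317, 317, 317,
  317, 317, 317, 317, 317, 317, 317, 317, 211, 317, 317, 317, 317, 317, 317, 317]

/-- Part of a table. -/
def secIdx16 : List (ℕ) := [
  317, 317, 317, 317, 317, 317, 317, 317, 317, 317, 317, 317, 317, 317, 317, 317,
  317, 317, 317, 317, 317, 317, 317, 317, 317, 317, 317, 317, 317, 317, 317, 317]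

/-- Part of a table. -/
def secIdx17 : List (ℕ) := [
  317, 317, 317, 317, 317, 317, 317, 317, 317, 317, 317, 317, 317, 317, 317, 317,
  317, 317, 317, 317, 317, 317, 317, 317, 212, 213, 317, 317, 317, 317, 317, 317]

/-- Part of a table. -/
def secIdx18 : List (ℕ) := [
  317, 317, 214, 215, 216, 217, 218, 219, 317, 317, 317, 317, 317, 317, 317, 317,
  317, 220, 317, 317, 317, 317, 317, 317, 317, 221, 222, 223, 224, 225, 226, 317]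

/-- Part of a table. -/
def secIdx19 : List (ℕ) := [
  317, 317, 317, 317, 317, 317, 317, 317, 317, 317, 317, 317, 317, 317, 317, 317,
  317, 317, 317, 317, 317, 317, 317, 317, 317, 317, 317, 317, 317, 317, 317, 227]

/-- Part of a table. -/
def secIdx20 : List (ℕ) := [
  317, 317, 317, 317, 228, 317, 229, 230, 317, 317, 317, 317, 317, 317, 231, 317,
  317, 317, 317, 317, 317, 317, 317, 317, 317, 317, 317, 317, 317, 317, 317, 317]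

/-- Part of a table. -/
def secIdx21 : List (ℕ) := [
  317, 317, 317, 317, 317, 317, 317, 317, 317, 317, 317, 317, 317, 317, 317, 317,
  317, 317, 317, 317, 317, 317, 317, 317, 317, 317, 317, 317, 317, 317, 317, 317]

/-- Part of a table. -/
def secIdx22 : List (ℕ) := [
  317, 317, 317, 317, 232, 317, 317, 317, 317, 317, 317, 317, 233, 234, 235, 317,
  317, 317, 317, 317, 317, 317, 317, 317, 317, 317, 317, 317, 317, 317, 317, 317]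

/-- Part of a table. -/
def secIdx23 : List (ℕ) := [
  317, 317, 317, 317, 317, 317, 317, 317, 317, 317, 317, 317, 236, 317, 237, 317,
  317, 317, 317, 317, 317, 317, 317, 317, 317, 317, 317, 317, 317, 317, 317, 317]

/-- Part of a table. -/
def secIdx24 : List (ℕ) := [
  317, 238, 239, 317, 317, 317, 317, 317, 317, 317, 240, 241, 242, 243, 317, 244,
  317, 317, 317, 317, 317, 317, 317, 317, 245, 246, 247, 317, 317, 317, 317, 248]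

/-- Part of a table. -/
def secIdx25 : List (ℕ) := [
  317, 249, 250, 251, 317, 252, 317, 253, 254, 255, 317, 317, 317, 317, 256, 317,
  257, 317, 317, 317, 317, 317, 317, 317, 317, 317, 258, 317, 317, 259, 317, 260]

/-- Part of a table. -/
def secIdx26 : List (ℕ) := [
  317, 317, 317, 261, 317, 317, 262, 263, 264, 317, 265, 317, 317, 317, 266, 317,
  317, 317, 317, 317, 317, 317, 317, 317, 317, 317, 317, 317, 317, 317, 317, 317]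

/-- Part of a table. -/
def secIdx27 : List (ℕ) := [
  317, 317, 317, 317, 317, 317, 317, 317, 317, 317, 317, 317, 317, 317, 317, 317,
  317, 267, 268, 269, 270, 317, 317, 317, 317, 271, 317, 272, 273, 274, 317, 317]

/-- Part of a table. -/
def secIdx28 : List (ℕ) := [
  317, 317, 317, 317, 317, 275, 276, 317, 317, 277, 317, 317, 317, 317, 278, 279,
  317, 317, 317, 280, 281, 317, 317, 317, 282, 283, 317, 317, 317, 317, 317, 317]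

/-- Part of a table. -/
def secIdx29 : List (ℕ) := [
  317, 317, 317, 317, 317, 284, 317, 285, 286, 317, 287, 317, 288, 317, 317, 289,
  317, 317, 317, 317, 317, 290, 291, 317, 292, 317, 293, 317, 294, 317, 317, 317]

/-- Part of a table. -/
def secIdx30 : List (ℕ) := [
  317, 317, 317, 317, 317, 317, 317, 295, 296, 297, 298, 299, 300, 317, 317, 317,
  301, 302, 303, 304, 305, 317, 317, 317, 317, 317, 317, 317, 317, 317, 317, 306]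

/-- Part of a table. -/
def secIdx31 : List (ℕ) := [
  317, 317, 317, 307, 308, 309, 310, 311, 312, 317, 317, 313, 317, 314, 315, 316]

/-- A table in blocks. -/
def secIdxTab : List (List (ℕ)) := [
  secIdx0, secIdx1, secIdx2, secIdx3, secIdx4, secIdx5, secIdx6, secIdx7,
  secIdx8, secIdx9, secIdx10, secIdx11, secIdx12, secIdx13, secIdx14, secIdx15,
  secIdx16, secIdx17, secIdx18, secIdx19, secIdx20, secIdx21, secIdx22, secIdx23,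
  secIdx24, secIdx25, secIdx26, secIdx27, secIdx28, secIdx29, secIdx30, secIdx31]

end CfsgLib.CoTwoRec
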