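import Cfsg.Agent.Lib.CoTwoRec.RelWords
import Cfsg.Agent.Lib.CoTwoRec.RelLevels

/-!
# The lower levels
-/

set_option autoImplicit false
set_option maxRecDepth 100000

namespace CfsgLib.CoTwoRec.Rel

theorem lev1_ok : lev1.partB eqX 0 96 = true := by decide +kernel

theorem lev2_ok : lev2.partB eqX 0 64 = true := by decide +kernel

theorem lev3_ok : lev3.partB eqX 0 6 = true := by decide +kernel

theorem lev4_ok : lev4.partB eqX 0 1 = true := by decide +kernel

theorem lev5_ok : lev5.partB eqX 0 4 = true := by decide +kernel

theorem side0_ok : lev0.sideB eqX = true := by decide +kernel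

theorem side_ok : lev1.sideB eqX = true ∧ lev2.sideB eqX = true ∧ lev3.sideB eqX = true ∧
    lev4.sideB eqX = true ∧ lev5.sideB eqX = true := by decide +kernel

/-- The generators of each level are the next generators of the one before, and the last are the pair. -/
theorem link_ok : lev1.gens = lev0.next ∧ lev2.gens = lev1.next ∧ lev3.gens = lev2.next ∧ lev4.gens = lev3.next ∧
    lev5.gens = lev4.next ∧ lev0.base = [23] ∧ lev5.next = [[22], [23]] := by decide +kernel

end CfsgLib.CoTwoRec.Rel
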