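import Cfsg.Agent.Lib.Rigid.Bits

/-!
# Products of bit matrices on packed columns

The columns are packed into slots of thirty two bits, so that a product takes one step for each column of the
left factor.
-/

set_option autoImplicit false

namespace CfsgLib.CoTwoRec

open CfsgLib.Rigid

/-- Columns packed into slots. -/
def pk : List ℕ → ℕ
  | [] => 0
  | b :: B => b + 4294967296 * pk B

/-- The same entry in every slot. -/
def slots (c : ℕ) : ℕ → ℕ
  | 0 => 0
  | n + 1 => c + 4294967296 * slots c n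

/-- The product with packed columns. -/
noncomputable def mulP (O H : ℕ) (A : List ℕ) : ℕ → ℕ :=
  List.rec (fun _ => 0)
    (fun a _ r P => Nat.xor (Nat.mul (Nat.land P O) a) (r (Nat.land (Nat.div P 2) H))) A

theorem mulP_nil (O H P : ℕ) : mulP O H [] P = 0 := rfl

theorem mulP_cons (O H a : ℕ) (A : List ℕ) (P : ℕ) :
    mulP O H (a :: A) P = (P &&& O) * a ^^^ mulP O H A (P / 2 &&& H) := rfl

theorem slot_div {b x : ℕ} (hb : b < 2 ^ 32) : (b + 2 ^ 32 * x) / 2 ^ 32 = x := by omega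

theorem slot_mod {b x : ℕ} (hb : b < 2 ^ 32) : (b + 2 ^ 32 * x) % 2 ^ 32 = b := by omega

theorem slot_and {b c x y : ℕ} (hb : b < 2 ^ 32) (hc : c < 2 ^ 32) :
    (b + 2 ^ 32 * x) &&& (c + 2 ^ 32 * y) = (b &&& c) + 2 ^ 32 * (x &&& y) := by
  conv_lhs => rw [← Nat.mod_add_div ((b + 2 ^ 32 * x) &&& (c + 2 ^ 32 * y)) (2 ^ 32)]
  rw [Nat.and_mod_two_pow, Nat.and_div_two_pow, slot_mod hb, slot_mod hc, slot_div hb, slot_div hc]

theorem slot_xor {b c x y : ℕ} (hb : b < 2 ^ 32) (hc : c < 2 ^ 32) :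
    (b + 2 ^ 32 * x) ^^^ (c + 2 ^ 32 * y) = (b ^^^ c) + 2 ^ 32 * (x ^^^ y) := by
  conv_lhs => rw [← Nat.mod_add_div ((b + 2 ^ 32 * x) ^^^ (c + 2 ^ 32 * y)) (2 ^ 32)]
  rw [Nat.xor_mod_two_pow, Nat.xor_div_two_pow, slot_mod hb, slot_mod hc, slot_div hb, slot_div hc]

theorem pk_cons (b : ℕ) (B : List ℕ) : pk (b :: B) = b + 2 ^ 32 * pk B := rfl

theorem slots_succ (c n : ℕ) : slots c (n + 1) = c + 2 ^ 32 * slots c n := rfl

theorem pk_and_ones : ∀ B : List ℕ, (∀ b ∈ B, b < 2 ^ 32) →
    pk B &&& slots 1 B.length = pk (B.map fun b => b % 2)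
  | [], _ => rfl
  | b :: B, h => by
    rw [pk_cons, List.length_cons, slots_succ, slot_and (h b List.mem_cons_self) (by norm_num),
      pk_and_ones B fun c hc => h c (List.mem_cons_of_mem _ hc), Nat.and_one_is_mod]
    rfl

theorem pk_half : ∀ B : List ℕ, (∀ b ∈ B, b < 2 ^ 32) →
    pk B / 2 &&& slots 2147483647 B.length = pk (B.map fun b => b / 2)
  | [], _ => rfl
  | b :: B, h => by
    have hb := h b List.mem_cons_self
    have e : (b + 2 ^ 32 * pk B) / 2 = (b / 2 + 2 ^ 31 * (pk B % 2)) + 2 ^ 32 * (pk B / 2) := by omega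
    have e' : (b / 2 + 2 ^ 31 * (pk B % 2)) &&& 2147483647 = b / 2 := by
      rw [show (2147483647 : ℕ) = 2 ^ 31 - 1 by norm_num, Nat.and_two_pow_sub_one_eq_mod]
      omega
    rw [pk_cons, List.length_cons, slots_succ, e, slot_and (by omega) (by norm_num), e',
      pk_half B fun c hc => h c (List.mem_cons_of_mem _ hc)]
    rfl

theorem pk_mul (a : ℕ) : ∀ B : List ℕ, pk B * a = pk (B.map fun b => b * a)
  | [] => by simp [pk]
  | b :: B => by
    rw [pk_cons, List.map_cons, pk_cons, ← pk_mul a B]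
    ring

theorem pk_xor : ∀ (B : List ℕ) (u v : ℕ → ℕ), (∀ b ∈ B, u b < 2 ^ 32) → (∀ b ∈ B, v b < 2 ^ 32) →
    pk (B.map u) ^^^ pk (B.map v) = pk (B.map fun b => u b ^^^ v b)
  | [], _, _, _, _ => by simp [pk]
  | b :: B, u, v, hu, hv => by
    rw [List.map_cons, List.map_cons, List.map_cons, pk_cons, pk_cons, pk_cons,
      slot_xor (hu b List.mem_cons_self) (hv b List.mem_cons_self),
      pk_xor B u v (fun c hc => hu c (List.mem_cons_of_mem _ hc)) fun c hc => hv c (List.mem_cons_of_mem _ hc)]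

theorem img_lt_word : ∀ (A : List ℕ) (p : ℕ), (∀ a ∈ A, a < 2 ^ 32) → img A p < 2 ^ 32
  | [], _, _ => by rw [img_nil]; norm_num
  | a :: A, p, h => by
    rw [img_cons]
    refine Nat.xor_lt_two_pow ?_ (img_lt_word A _ fun c hc => h c (List.mem_cons_of_mem _ hc))
    have := h a List.mem_cons_self
    rcases Nat.mod_two_eq_zero_or_one p with hp | hp <;> simp [hp] <;> omega

/-- The packed product is that of the images. -/
theorem mulP_pk : ∀ (A B : List ℕ), (∀ a ∈ A, a < 2 ^ 32) → (∀ b ∈ B, b < 2 ^ 32) →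
    mulP (slots 1 B.length) (slots 2147483647 B.length) A (pk B) = pk (mulF A B)
  | [], B, _, _ => by
    rw [mulP_nil, mulF]
    clear * -
    induction B with
    | nil => rfl
    | cons b B ih => rw [List.map_cons, pk_cons, img_nil, ← ih, mul_zero, add_zero]
  | a :: A, B, hA, hB => by
    have hA' : ∀ c ∈ A, c < 2 ^ 32 := fun c hc => hA c (List.mem_cons_of_mem _ hc)
    have hB' : ∀ c ∈ B.map (fun b => b / 2), c < 2 ^ 32 := by
      intro c hc
      obtain ⟨d, hd, rfl⟩ := List.mem_map.1 hc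
      have := hB d hd
      omega
    have ih := mulP_pk A (B.map fun b => b / 2) hA' hB'
    rw [List.length_map] at ih
    rw [mulP_cons, pk_and_ones B hB, pk_mul, pk_half B hB, ih, mulF, mulF, List.map_map, List.map_map, pk_xor]
    · rfl
    · intro b _
      show b % 2 * a < 2 ^ 32
      have := hA a List.mem_cons_self
      rcases Nat.mod_two_eq_zero_or_one b with hp | hp <;> simp [hp] <;> omega
    · exact fun b _ => img_lt_word A _ hA'

theorem pk_inj : ∀ {A B : List ℕ}, A.length = B.length → (∀ a ∈ A, a < 2 ^ 32) → (∀ b ∈ B, b < 2 ^ 32) →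
    pk A = pk B → A = B
  | [], B, hl, _, _, _ => (List.length_eq_zero_iff.1 hl.symm).symm
  | a :: A, b :: B, hl, hA, hB, h => by
    rw [pk_cons, pk_cons] at h
    have := hA a List.mem_cons_self
    have := hB b List.mem_cons_self
    rw [pk_inj (Nat.succ.inj hl) (fun c hc => hA c (List.mem_cons_of_mem _ hc))
      (fun c hc => hB c (List.mem_cons_of_mem _ hc)) (by omega), show a = b by omega]

end CfsgLib.CoTwoRec
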