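import Cfsg.Agent.Lib.CoTwoRec.RelWords
import Cfsg.Agent.Lib.CoTwoRec.RelLevels

/-!
# The conjugates in the second class
-/

set_option autoImplicit false
set_option maxRecDepth 100000

namespace CfsgLib.CoTwoRec.Rel

/-- The conjugates of the second class. -/
def secY (i : ℕ) : List ℕ := blk 32 secRepTab [] i ++ [0] ++ (blk 32 secRepTab [] i).reverse

/-- The moves of the second class. -/
def secMove (i k : ℕ) : ℕ := (blk 32 secMvTab [] i).getD k 1008

theorem sec0_ok : orbitB eqX lev0.gens 1008 secY secMove 0 126 = true := by decide +kernel

theorem sec126_ok : orbitB eqX lev0.gens 1008 secY secMove 126 126 = true := by decide +kernel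

theorem sec252_ok : orbitB eqX lev0.gens 1008 secY secMove 252 126 = true := by decide +kernel

theorem sec378_ok : orbitB eqX lev0.gens 1008 secY secMove 378 126 = true := by decide +kernel

theorem sec504_ok : orbitB eqX lev0.gens 1008 secY secMove 504 126 = true := by decide +kernel

theorem sec630_ok : orbitB eqX lev0.gens 1008 secY secMove 630 126 = true := by decide +kernel

theorem sec756_ok : orbitB eqX lev0.gens 1008 secY secMove 756 126 = true := by decide +kernel

theorem sec882_ok : orbitB eqX lev0.gens 1008 secY secMove 882 126 = true := by decide +kernel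

end CfsgLib.CoTwoRec.Rel
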