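import Cfsg.Agent.Lib.CoTwoRec.RelWords
import Cfsg.Agent.Lib.CoTwoRec.RelLevels

/-!
# The second half of the top level
-/

set_option autoImplicit false
set_option maxRecDepth 100000

namespace CfsgLib.CoTwoRec.Rel

theorem top630_ok : lev0.partB eqX 630 90 = true := by decide +kernel

theorem top720_ok : lev0.partB eqX 720 90 = true := by decide +kernel

theorem top810_ok : lev0.partB eqX 810 90 = true := by decide +kernel

theorem top900_ok : lev0.partB eqX 900 90 = true := by decide +kernel

theorem top990_ok : lev0.partB eqX 990 90 = true := by decide +kernel

theorem top1080_ok : lev0.partB eqX 1080 90 = true := by decide +kernel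

theorem top1170_ok : lev0.partB eqX 1170 90 = true := by decide +kernel

end CfsgLib.CoTwoRec.Rel
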