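import Cfsg.Agent.Lib.CoTwoRec.RelTopA
import Cfsg.Agent.Lib.CoTwoRec.RelTopB
import Cfsg.Agent.Lib.CoTwoRec.RelSecCheck
import Cfsg.Agent.Lib.CoTwoRec.RelLowCheck
import Cfsg.Agent.Lib.CoTwoRec.RelKillData
import Cfsg.Agent.Lib.CoTwoRec.RelLetDec

/-!
# Centralisers inside the involution centraliser, and the conjugates commuting with the neighbour
-/

set_option autoImplicit false
set_option maxRecDepth 100000

namespace CfsgLib.CoTwoRec.Rel

open CfsgLib.CoTwoRec

/-- The central involution and its neighbour are extended letters. -/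
theorem spec_letters : eqX [22] tWord = true ∧ eqX [23] xWord = true ∧
    (tWord ++ xWord ++ yWord).all (fun a => Nat.blt a 16) = true ∧
    lev0.next = (List.range' 16 8).map (fun a => [a]) ∧ lev0.nrep = 1260 ∧ secY 0 = [0] := by
  decide +kernel

noncomputable local instance finiteCm : Finite Cm := by
  have := CfsgLib.Rigid.finite_co0
  infer_instance

theorem fX_tm : fX 22 = tm := by
  have h := eq_of_eqX spec_letters.1
  rw [show wp fX [22] = fX 22 by simp [wp], wp_raw fun a ha => by
    have := spec_letters.2.2.1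
    simp only [List.all_eq_true, Nat.blt_eq] at this
    exact this a (by simp [ha])] at h
  exact h

theorem fX_nbr : fX 23 = nbr := by
  have h := eq_of_eqX spec_letters.2.1
  rw [show wp fX [23] = fX 23 by simp [wp], wp_raw fun a ha => by
    have := spec_letters.2.2.1
    simp only [List.all_eq_true, Nat.blt_eq] at this
    exact this a (by simp [ha])] at h
  exact h

theorem sec_eq : wp fX [0] = sec := by rw [wp_raw (by simp)]; rfl

/-- Every letter is a product of the generators of the top level. -/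
noncomputable def letB : Bool :=
  (List.range 16).all fun l =>
    eqX [l] (letWord.getD l []) && (letWord.getD l []).all fun a => decide ([a] ∈ lev0.gens)

theorem let_ok : letB = true := by decide +kernel

/-- The representatives are words in the letters. -/
noncomputable def rawB : Bool :=
  (List.range 1260).all fun i => (lev0.rep i).all fun a => Nat.blt a 16

theorem raw_ok : rawB = true := by decide +kernel

theorem part_split {n b : ℕ} {P : ℕ → ℕ → Prop} (hb : 0 < b) (h : ∀ q < n, P (q * b) b) :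
    ∀ i < n * b, ∃ a c, P a c ∧ a ≤ i ∧ i < a + c := by
  intro i hi
  refine ⟨i / b * b, b, h _ ((Nat.div_lt_iff_lt_mul hb).2 hi), Nat.div_mul_le_self i b, ?_⟩
  exact Nat.lt_div_mul_add hb

theorem good0 : lev0.Good fX := by
  refine Lev.good_of_checks decides side0_ok ?_
  rw [spec_letters.2.2.2.2.1]
  refine part_split (n := 14) (b := 90) (P := fun a c => lev0.partB eqX a c = true) (by norm_num) fun q hq => ?_
  interval_cases q
  exacts [top0_ok, top90_ok, top180_ok, top270_ok, top360_ok, top450_ok, top540_ok, top630_ok, top720_ok, top810_ok,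
    top900_ok, top990_ok, top1080_ok, top1170_ok]

theorem mem_top (c : Cm) : c ∈ genGrp fX lev0.gens := by
  have hclos : Subgroup.closure {y : Cm | ∃ l < 16, y = xm l} = ⊤ := by
    refine eq_top_iff.2 fun c _ => ?_
    have h : (c : CoG) ∈ (Subgroup.closure {y : Cm | ∃ l < 16, y = xm l}).map Cm.subtype := by
      rw [MonoidHom.map_closure]
      refine Subgroup.closure_mono ?_ (show (c : CoG) ∈ Cm from c.2)
      rintro _ ⟨l, rfl⟩
      exact ⟨xm l, ⟨l, l.isLt, rfl⟩, coe_xm l.isLt⟩
    obtain ⟨d, hd, e⟩ := h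
    rwa [← show d = c from Subtype.ext e]
  have hc : c ∈ Subgroup.closure {y : Cm | ∃ l < 16, y = xm l} := hclos ▸ Subgroup.mem_top c
  refine (Subgroup.closure_le _).2 ?_ hc
  rintro _ ⟨l, hl, rfl⟩
  have h := let_ok
  simp only [letB, List.all_eq_true, List.mem_range, Bool.and_eq_true, decide_eq_true_eq] at h
  obtain ⟨he, hr⟩ := h l hl
  rw [← fX_letter hl, show fX l = wp fX [l] by simp [wp], eq_of_eqX he]
  refine Subgroup.list_prod_mem _ fun y hy => ?_
  obtain ⟨a, ha, rfl⟩ := List.mem_map.1 hy
  exact Subgroup.subset_closure ⟨[a], hr a ha, by simp [wp]⟩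

theorem good_low : lev1.Good fX ∧ lev2.Good fX ∧ lev3.Good fX ∧ lev4.Good fX ∧ lev5.Good fX := by
  have hlen : lev1.nrep = 96 ∧ lev2.nrep = 64 ∧ lev3.nrep = 6 ∧ lev4.nrep = 1 ∧
      lev5.nrep = 4 := by decide +kernel
  obtain ⟨l1, l2, l3, l4, l5⟩ := hlen
  obtain ⟨s1, s2, s3, s4, s5⟩ := side_ok
  refine ⟨Lev.good_of_checks decides s1 ?_, Lev.good_of_checks decides s2 ?_, Lev.good_of_checks decides s3 ?_,
    Lev.good_of_checks decides s4 ?_, Lev.good_of_checks decides s5 ?_⟩
  · exact fun i hi => ⟨0, 96, lev1_ok, Nat.zero_le i, by omega⟩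
  · exact fun i hi => ⟨0, 64, lev2_ok, Nat.zero_le i, by omega⟩
  · exact fun i hi => ⟨0, 6, lev3_ok, Nat.zero_le i, by omega⟩
  · exact fun i hi => ⟨0, 1, lev4_ok, Nat.zero_le i, by omega⟩
  · exact fun i hi => ⟨0, 4, lev5_ok, Nat.zero_le i, by omega⟩

/-- An element centralising the neighbour lies in the group of the generators. -/
theorem cent_nbr {c : Cm} (hc : Commute c nbr) : c ∈ genGrp fX lev0.next := by
  refine good0.cent (mem_top c) ?_
  rwa [link_ok.2.2.2.2.2.1, show wp fX [23] = fX 23 by simp [wp], fX_nbr]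

theorem genGrp_next (a : ℕ) (h1 : 16 ≤ a) (h2 : a < 24) : fX a ∈ genGrp fX lev0.next := by
  refine Subgroup.subset_closure ⟨[a], ?_, by simp [wp]⟩
  rw [spec_letters.2.2.2.1]
  exact List.mem_map.2 ⟨a, List.mem_range'_1.2 ⟨h1, h2⟩, rfl⟩

/-- The four products of the pair. -/
def vTab : List (List ℕ) := [[], [22], [23], [22, 23]]

/-- The sixteen products of the four involutions of the centre. -/
def zWord (b : ℕ) : List ℕ :=
  ((List.range 4).filter fun i => b.testBit i).map fun i => zTab.getD i 0

/-- The two small groups are closed under their generators. -/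
noncomputable def smallB : Bool :=
  (lev5.next.all fun g => vTab.all fun v => vTab.any fun u => eqX (g ++ v) u) &&
    (lev4.next.all fun g => (List.range 16).all fun b => (List.range 16).any fun c => eqX (g ++ zWord b) (zWord c))

theorem small_ok : smallB = true := by decide +kernel

theorem small_closure {G : List (List ℕ)} {L : List (List ℕ)} (h1 : [] ∈ L)
    (h : ∀ g ∈ G, ∀ v ∈ L, ∃ u ∈ L, eqX (g ++ v) u = true) {c : Cm} (hc : c ∈ genGrp fX G) :
    ∃ u ∈ L, c = wp fX u := by
  suffices key : ∀ v ∈ L, ∃ u ∈ L, c * wp fX v = wp fX u by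
    obtain ⟨u, hu, e⟩ := key [] h1
    exact ⟨u, hu, by rw [← e, wp_nil, mul_one]⟩
  rw [genGrp] at hc
  induction hc using Subgroup.closure_induction with
  | mem y hy =>
    obtain ⟨g, hg, rfl⟩ := hy
    intro v hv
    obtain ⟨u, hu, e⟩ := h g hg v hv
    exact ⟨u, hu, by rw [← wp_append]; exact eq_of_eqX e⟩
  | one => exact fun v hv => ⟨v, hv, one_mul _⟩
  | mul a b _ _ ha hb =>
    intro v hv
    obtain ⟨u, hu, e⟩ := hb v hv
    obtain ⟨u', hu', e'⟩ := ha u hu
    exact ⟨u', hu', by rw [mul_assoc, e, e']⟩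
  | inv a _ ha =>
    intro v hv
    have hk : ∀ n : ℕ, ∃ u ∈ L, a ^ n * wp fX v = wp fX u := fun n => by
      induction n with
      | zero => exact ⟨v, hv, by simp⟩
      | succ n ih =>
        obtain ⟨u, hu, e⟩ := ih
        obtain ⟨u', hu', e'⟩ := ha u hu
        exact ⟨u', hu', by rw [pow_succ', mul_assoc, e, e']⟩
    have e : a⁻¹ = a ^ (Nat.card Cm - 1) := by
      refine inv_eq_of_mul_eq_one_right ?_
      rw [← pow_succ', Nat.sub_add_cancel Nat.card_pos, pow_card_eq_one']
    rw [e]; exact hk _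

/-- Commuting with the neighbour and the first four bases leaves sixteen elements. -/
theorem cent_triangle {c : Cm} (hc : Commute c nbr) (h : ∀ L ∈ [lev1, lev2, lev3, lev4], Commute c (wp fX L.base)) :
    ∃ b < 16, c = wp fX (zWord b) := by
  obtain ⟨g1, g2, g3, g4, -⟩ := good_low
  obtain ⟨e1, e2, e3, e4, -⟩ := link_ok
  have h0 := cent_nbr hc
  rw [← e1] at h0
  have h1 := g1.cent h0 (h _ (by simp))
  rw [← e2] at h1
  have h2 := g2.cent h1 (h _ (by simp))
  rw [← e3] at h2
  have h3 := g3.cent h2 (h _ (by simp))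
  rw [← e4] at h3
  have h4 := g4.cent h3 (h _ (by simp))
  have hs := small_ok
  simp only [smallB, Bool.and_eq_true, List.all_eq_true, List.mem_range, List.any_eq_true] at hs
  obtain ⟨u, hu, e⟩ := small_closure (L := (List.range 16).map zWord) (List.mem_map.2 ⟨0, by simp, by simp [zWord]⟩)
    (fun g hg v hv => by
      obtain ⟨b, hb, rfl⟩ := List.mem_map.1 hv
      obtain ⟨u, hu, hue⟩ := hs.2 g hg b (List.mem_range.1 hb)
      exact ⟨_, List.mem_map.2 ⟨u, List.mem_range.2 hu, rfl⟩, hue⟩) h4
  obtain ⟨b, hb, rfl⟩ := List.mem_map.1 hu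
  exact ⟨b, List.mem_range.1 hb, e⟩

/-- The bases as products of the generators of the centraliser of the pair. -/
noncomputable def baseB : Bool :=
  [lev1, lev2, lev3, lev4, lev5].zip baseDec |>.all fun p =>
    eqX p.1.base p.2.2 && p.2.2.all fun a => Nat.ble 16 a && Nat.blt a 24

theorem base_ok : baseB = true ∧ baseDec.length = 5 := by decide +kernel

/-- An element commuting with the generators of the centraliser of the pair is in the four-group. -/
theorem cent_pair {c : Cm} (h : ∀ a, 16 ≤ a → a < 24 → Commute c (fX a)) :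
    c = 1 ∨ c = tm ∨ c = nbr ∨ c = tm * nbr := by
  have hb : ∀ L ∈ [lev1, lev2, lev3, lev4, lev5], Commute c (wp fX L.base) := by
    intro L hL
    obtain ⟨i, hi, rfl⟩ := List.getElem_of_mem hL
    have hck := base_ok.1
    simp only [baseB, List.all_eq_true, Bool.and_eq_true, Nat.ble_eq, Nat.blt_eq] at hck
    have hlen : i < ([lev1, lev2, lev3, lev4, lev5].zip baseDec).length := by
      rw [List.length_zip, base_ok.2]; simpa using hi
    obtain ⟨e, ha⟩ := hck _ (List.getElem_mem hlen)
    rw [List.getElem_zip] at e ha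
    rw [eq_of_eqX e]
    refine Commute.list_prod_right _ _ fun y hy => ?_
    obtain ⟨a, ha', rfl⟩ := List.mem_map.1 hy
    exact h a (ha a ha').1 (ha a ha').2
  have hn : Commute c nbr := fX_nbr ▸ h 23 (by norm_num) (by norm_num)
  obtain ⟨g1, g2, g3, g4, g5⟩ := good_low
  obtain ⟨e1, e2, e3, e4, e5, -⟩ := link_ok
  have h0 := cent_nbr hn
  rw [← e1] at h0
  have h1 := g1.cent h0 (hb _ (by simp))
  rw [← e2] at h1
  have h2 := g2.cent h1 (hb _ (by simp))
  rw [← e3] at h2
  have h3 := g3.cent h2 (hb _ (by simp))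
  rw [← e4] at h3
  have h4 := g4.cent h3 (hb _ (by simp))
  rw [← e5] at h4
  have h5 := g5.cent h4 (hb _ (by simp))
  have hs := small_ok
  simp only [smallB, Bool.and_eq_true, List.all_eq_true, List.any_eq_true] at hs
  obtain ⟨u, hu, rfl⟩ := small_closure (L := vTab) (by simp [vTab]) hs.1 h5
  simp only [vTab, List.mem_cons, List.not_mem_nil, or_false] at hu
  rcases hu with rfl | rfl | rfl | rfl <;> simp [wp, fX_tm, fX_nbr]

/-- A conjugate of either representative commuting with the neighbour is among the listed ones. -/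
noncomputable def listedB : Bool :=
  ((List.range 1260).all fun i =>
    let y := lev0.rep i ++ [23] ++ (lev0.rep i).reverse
    !eqX (y ++ [23]) ([23] ++ y) || (Nat.blt (blk 32 nbrIdxTab 317 i) 317 && eqX y [22 + blk 32 nbrIdxTab 317 i])) &&
  (List.range 1008).all fun i =>
    let y := secY i
    !eqX (y ++ [23]) ([23] ++ y) || (Nat.blt (blk 32 secIdxTab 317 i) 317 && eqX y [22 + blk 32 secIdxTab 317 i])

theorem listed_ok : listedB = true := by decide +kernel

theorem raw_rep {i : ℕ} (hi : i < 1260) : ∀ a ∈ lev0.rep i, a < 16 := by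
  have h := raw_ok
  simp only [rawB, List.all_eq_true, List.mem_range, Nat.blt_eq] at h
  exact h i hi

theorem rep_inv {i : ℕ} (hi : i < 1260) :
    wp fX (lev0.rep i).reverse = (wp fX (lev0.rep i))⁻¹ :=
  wp_reverse fun a ha => raw_sq (raw_rep hi a ha)

theorem conj_mem {c : Cm} (hc : Commute c nbr) (h : ∃ h : Cm, h * nbr * h⁻¹ = c ∨ h * sec * h⁻¹ = c) :
    ∃ k < 317, fX (22 + k) = c := by
  have hl := listed_ok
  simp only [listedB, Bool.and_eq_true, List.all_eq_true, List.mem_range, Bool.or_eq_true, Bool.not_eq_true',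
    Nat.blt_eq] at hl
  have e1 : ∀ k, wp fX [k] = fX k := fun k => by simp [wp]
  obtain ⟨h, h1 | h1⟩ := h
  · obtain ⟨i, hi, d, hd, rfl⟩ := good0.decomp (mem_top h)
    rw [spec_letters.2.2.2.2.1] at hi
    have hdn : Commute d nbr := by
      have := genGrp_commute good0.comm hd
      rwa [link_ok.2.2.2.2.2.1, e1, fX_nbr] at this
    have e : wp fX (lev0.rep i ++ [23] ++ (lev0.rep i).reverse) = c := by
      rw [wp_append, wp_append, rep_inv hi, e1, fX_nbr, ← h1, mul_inv_rev, mul_assoc _ d, hdn.eq]; group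
    rcases hl.1 i hi with h0 | ⟨hk, hk'⟩
    · refine absurd ?_ (ne_of_eqX h0)
      rw [wp_append fX _ [23], wp_append fX [23], e, e1, fX_nbr]; exact hc.eq
    · exact ⟨_, hk, by rw [← e1, ← eq_of_eqX hk', e]⟩
  · have hsec : ∀ i < 1008, ∃ a b, orbitB eqX lev0.gens 1008 secY secMove a b = true ∧ a ≤ i ∧ i < a + b := by
      refine part_split (n := 8) (b := 126) (P := fun a c => orbitB eqX lev0.gens 1008 secY secMove a c = true)
        (by norm_num) fun q hq => ?_
      interval_cases q
      exacts [sec0_ok, sec126_ok, sec252_ok, sec378_ok, sec504_ok, sec630_ok, sec756_ok, sec882_ok]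
    obtain ⟨i, hi, e⟩ := orbit_mem decides hsec (mem_top h) (i := 0) (by norm_num)
    rw [spec_letters.2.2.2.2.2, sec_eq, h1] at e
    rcases hl.2 i hi with h0 | ⟨hk, hk'⟩
    · refine absurd ?_ (ne_of_eqX h0)
      rw [wp_append fX _ [23], wp_append fX [23], ← e, e1, fX_nbr]; exact hc.eq
    · exact ⟨_, hk, by rw [← e1, ← eq_of_eqX hk', ← e]⟩

end CfsgLib.CoTwoRec.Rel
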