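import Cfsg.Agent.Lib.CoTwoRec.RelTreeDefs

/-!
# The checks of the forcing tree, part 0
-/

set_option autoImplicit false
set_option maxRecDepth 100000

namespace CfsgLib.CoTwoRec.Rel

theorem nodes0_ok : nodesB 0 5 = true := by decide +kernel

theorem nodes5_ok : nodesB 5 5 = true := by decide +kernel

theorem nodes10_ok : nodesB 10 5 = true := by decide +kernel

theorem nodes15_ok : nodesB 15 5 = true := by decide +kernel

theorem nodes20_ok : nodesB 20 5 = true := by decide +kernel

end CfsgLib.CoTwoRec.Rel
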