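import Cfsg.Agent.Lib.CoTwoRec.RelTreeDefs

/-!
# The checks of the forcing tree, part 1
-/

set_option autoImplicit false
set_option maxRecDepth 100000

namespace CfsgLib.CoTwoRec.Rel

theorem nodes25_ok : nodesB 25 5 = true := by decide +kernel

theorem nodes30_ok : nodesB 30 5 = true := by decide +kernel

theorem nodes35_ok : nodesB 35 5 = true := by decide +kernel

theorem nodes40_ok : nodesB 40 5 = true := by decide +kernel

theorem nodes45_ok : nodesB 45 5 = true := by decide +kernel

end CfsgLib.CoTwoRec.Rel
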