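import Cfsg.Agent.Lib.CoTwoRec.RelTreeDefs

/-!
# The checks of the forcing tree, part 2
-/

set_option autoImplicit false
set_option maxRecDepth 100000

namespace CfsgLib.CoTwoRec.Rel

theorem nodes50_ok : nodesB 50 5 = true := by decide +kernel

theorem nodes55_ok : nodesB 55 5 = true := by decide +kernel

theorem nodes60_ok : nodesB 60 5 = true := by decide +kernel

theorem nodes65_ok : nodesB 65 5 = true := by decide +kernel

theorem nodes70_ok : nodesB 70 5 = true := by decide +kernel

end CfsgLib.CoTwoRec.Rel
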