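import Cfsg.Agent.Lib.CoTwoRec.RelSpec
import Cfsg.Agent.Lib.CoTwoRec.RelTreeCheck0
import Cfsg.Agent.Lib.CoTwoRec.RelTreeCheck1
import Cfsg.Agent.Lib.CoTwoRec.RelTreeCheck2

/-!
# An involution exchanging the pair, with the images of the generators of its centraliser
-/

set_option autoImplicit false
set_option maxRecDepth 100000

namespace CfsgLib.CoTwoRec.Rel

open CfsgLib.CoTwoRec

/-- The image of a letter of the centraliser of the pair under the exchange. -/
noncomputable def imgL (a : ℕ) : List ℕ :=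
  if Nat.beq a 22 then [23] else if Nat.beq a 23 then [22] else imgTab.getD (a - 16) []

/-- The image of a word. -/
noncomputable def sigW (w : List ℕ) : List ℕ := (w.map imgL).flatten

/-- A word in the letters of the centraliser of the pair. -/
noncomputable def pairW (w : List ℕ) : Bool := w.all fun a => Nat.ble 16 a && Nat.blt a 24

theorem pairW_spec {w : List ℕ} (h : pairW w = true) : ∀ a ∈ w, 16 ≤ a ∧ a < 24 := by
  simpa only [pairW, List.all_eq_true, Bool.and_eq_true, Nat.ble_eq, Nat.blt_eq] using h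

/-- The class of each conjugate, and that it commutes with the neighbour. -/
noncomputable def classB : Bool :=
  Nat.beq kCls.length 317 && (List.range 317).all fun k =>
    let e := kCls.getD k (3, 0)
    eqX [22 + k, 23] [23, 22 + k] &&
      ((Nat.beq e.1 1 && Nat.blt e.2 1260 && eqX [22 + k] (lev0.rep e.2 ++ [23] ++ (lev0.rep e.2).reverse)) ||
        (Nat.beq e.1 2 && Nat.blt e.2 1008 && eqX [22 + k] (secY e.2)) || Nat.beq k 0)

theorem class_ok : classB = true := by decide +kernel

/-- The representatives of the second class are words in the letters. -/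
noncomputable def secRawB : Bool := (List.range 1008).all fun i => (blk 32 secRepTab [] i).all fun a => Nat.blt a 16

theorem secRaw_ok : secRawB = true := by decide +kernel

theorem wp_one (a : ℕ) : wp fX [a] = fX a := by simp [wp]

theorem class_spec {k : ℕ} (hk : k < 317) : Commute (fX (22 + k)) nbr ∧
    (k = 0 ∨ ((kCls.getD k (3, 0)).1 = 1 ∧ ∃ h : Cm, h * nbr * h⁻¹ = fX (22 + k)) ∨
      ((kCls.getD k (3, 0)).1 = 2 ∧ ∃ h : Cm, h * sec * h⁻¹ = fX (22 + k))) := by
  have h := class_ok
  simp only [classB, Bool.and_eq_true, List.all_eq_true, List.mem_range, Bool.or_eq_true, Nat.beq_eq, Nat.blt_eq] at h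
  obtain ⟨h1, h2⟩ := h.2 k hk
  refine ⟨?_, ?_⟩
  · show _ * _ = _ * _
    have e := eq_of_eqX h1
    rw [show wp fX [22 + k, 23] = fX (22 + k) * fX 23 by simp [wp],
      show wp fX [23, 22 + k] = fX 23 * fX (22 + k) by simp [wp], fX_nbr] at e
    exact e
  rcases h2 with (⟨⟨hc, hi⟩, he⟩ | ⟨⟨hc, hi⟩, he⟩) | h0
  · refine Or.inr (Or.inl ⟨hc, wp fX (lev0.rep (kCls.getD k (3, 0)).2), ?_⟩)
    have e := eq_of_eqX he
    rw [wp_one, wp_append, wp_append, rep_inv hi, wp_one, fX_nbr] at e
    exact e.symm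
  · refine Or.inr (Or.inr ⟨hc, wp fX (blk 32 secRepTab [] (kCls.getD k (3, 0)).2), ?_⟩)
    have e := eq_of_eqX he
    have hr := secRaw_ok
    simp only [secRawB, List.all_eq_true, List.mem_range, Nat.blt_eq] at hr
    rw [wp_one, secY, wp_append, wp_append, wp_reverse fun a ha => raw_sq (hr _ hi a ha), sec_eq] at e
    exact e.symm
  · exact Or.inl h0

/-- Every node exchanges the pair and its next source is conjugate to the central involution. -/
noncomputable def nodeSideB : Bool :=
  (List.range treeTab.length).all fun i =>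
    let T := nodeAt treeTab i
    decide (T.src.take 2 = [0, 1]) && decide (T.dst.take 2 = [1, 0]) && Nat.beq T.dst.length T.src.length &&
      T.src.all (fun a => Nat.blt a 317) && T.dst.all (fun a => Nat.blt a 317) &&
      (Nat.beq i treeLeaf || (Nat.blt 0 T.next && Nat.blt T.next 317 &&
        (Nat.beq (kCls.getD T.next (3, 0)).1 1 || (List.range T.src.length).any fun z =>
          Nat.blt 0 (T.src.getD z 0) && Nat.blt 0 (T.dst.getD z 0) &&
            Nat.beq (kCls.getD (T.src.getD z 0) (3, 0)).1 1 && Nat.beq (kCls.getD (T.dst.getD z 0) (3, 0)).1 2)))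

/-- The children come later, read along the options. -/
noncomputable def shapeB : Bool :=
  (List.range treeTab.length).all fun i =>
    let T := nodeAt treeTab i
    Nat.beq i treeLeaf || (Nat.blt T.next 317 && Nat.beq T.dst.length T.src.length &&
      T.opts.all fun e =>
        Nat.beq e.1 0 || (Nat.blt i (T.kids.getD (e.1 - 1) 0) && Nat.blt (T.kids.getD (e.1 - 1) 0) treeTab.length))

theorem nodeSide_ok' : nodeSideB = true ∧ shapeB = true ∧ treeTab.length = 75 ∧
    (nodeAt treeTab 0).src = [0, 1] ∧ (nodeAt treeTab 0).dst = [1, 0] ∧ treeLeaf < 75 := by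
  decide +kernel

theorem shape_of_shapeB (h : shapeB = true) : treeShapeB treeTab 317 treeLeaf = true := by
  simp only [shapeB, treeShapeB, nodeAt, List.all_eq_true, List.mem_range, Bool.or_eq_true, Bool.and_eq_true,
    Nat.beq_eq] at h ⊢
  intro i hi
  rcases h i hi with e | ⟨e, hk⟩
  · exact Or.inl e
  · refine Or.inr ⟨e, fun c hc => hk _ ?_⟩
    rw [List.getD_eq_getElem _ _ hc]
    exact List.getElem_mem _

theorem nodeSide_ok : nodeSideB = true ∧ treeShapeB treeTab 317 treeLeaf = true ∧ treeTab.length = 75 ∧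
    (nodeAt treeTab 0).src = [0, 1] ∧ (nodeAt treeTab 0).dst = [1, 0] ∧ treeLeaf < 75 := by
  obtain ⟨a, b, c⟩ := nodeSide_ok'
  exact ⟨a, shape_of_shapeB b, c⟩

theorem kX_getD {k : ℕ} (hk : k < 317) : wp fX (kX.getD k []) = fX (22 + k) := by
  rw [kX, List.getD_eq_getElem _ _ (by simpa using hk), List.getElem_map, List.getElem_range, wp_one]

theorem nodes_ok : ∀ i < 75, i ≠ treeLeaf → (nodeAt treeTab i).opts.length = 317 ∧
    ∀ c < 317, TNode.optB eqX kX treeTab (nodeAt treeTab i) c = true := by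
  intro i hi hl
  obtain ⟨a, b, hab, ha, hb⟩ : ∃ a b, nodesB a b = true ∧ a ≤ i ∧ i < a + b := by
    refine part_split (n := 15) (b := 5) (P := fun a c => nodesB a c = true) (by norm_num) (fun q hq => ?_) i hi
    interval_cases q
    exacts [nodes0_ok, nodes5_ok, nodes10_ok, nodes15_ok, nodes20_ok, nodes25_ok, nodes30_ok, nodes35_ok, nodes40_ok,
      nodes45_ok, nodes50_ok, nodes55_ok, nodes60_ok, nodes65_ok, nodes70_ok]
  simp only [nodesB, List.all_eq_true, List.mem_range'_1, Bool.or_eq_true, Bool.and_eq_true, Nat.beq_eq] at hab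
  obtain ⟨h1, h2⟩ := (hab i ⟨ha, hb⟩).resolve_left hl
  simp only [TNode.rangeB, List.all_eq_true, List.mem_range'_1] at h2
  exact ⟨h1, fun c hc => h2 c ⟨Nat.zero_le c, by omega⟩⟩

variable {G : Type*} [Group G] {t : G}

theorem exists_pre (co : Coord t) {y : G} (hy : Commute y t) : ∃ c : Cm, co.iota c = y := by
  have h : y ∈ co.iota.range := by rw [co.range_eq]; exact Subgroup.mem_centralizer_singleton_iff.2 hy
  exact h

theorem commute_iota (co : Coord t) (c : Cm) : Commute (co.iota c) t := by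
  have h : co.iota c ∈ Subgroup.centralizer ({t} : Set G) := by rw [← co.range_eq]; exact ⟨c, rfl⟩
  exact Subgroup.mem_centralizer_singleton_iff.1 h

theorem isConj_map {c h : Cm} (co : Coord t) : IsConj (co.iota c) (co.iota (h * c * h⁻¹)) :=
  isConj_iff.2 ⟨co.iota h, by rw [map_mul, map_mul, map_inv]⟩

/-- The hypothesis on fusion: the conjugates of the central involution in its centraliser. -/
def Fusion (co : Coord t) : Prop :=
  ∀ c : Cm, IsConj t (co.iota c) → c = tm ∨ ∃ h : Cm, h * nbr * h⁻¹ = c ∨ h * sec * h⁻¹ = c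

variable {co : Coord t} {g : G}

theorem img_next (hfus : Fusion co) {i : ℕ} (hi : i < treeTab.length) (hl : i ≠ treeLeaf)
    (h : FixedImgs fX kX co.iota g (nodeAt treeTab i).src (nodeAt treeTab i).dst) :
    ∃ c < 317, Imag co.iota g (wp fX (kX.getD (nodeAt treeTab i).next [])) (wp fX (kX.getD c [])) := by
  have hs := nodeSide_ok.1
  simp only [nodeSideB, List.all_eq_true, List.mem_range, Bool.and_eq_true, Bool.or_eq_true, decide_eq_true_eq,
    Nat.beq_eq, Nat.blt_eq, List.any_eq_true] at hs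
  obtain ⟨⟨⟨⟨⟨h0, h1⟩, hlen⟩, hsm⟩, hdm⟩, hrest⟩ := hs i hi
  obtain ⟨⟨hn0, hn⟩, hclass⟩ := hrest.resolve_left hl
  set T := nodeAt treeTab i
  have hl2 : 2 ≤ T.src.length := by
    have := congrArg List.length h0
    simp only [List.length_take, List.length_cons, List.length_nil] at this
    omega
  have get2 : ∀ {l : List ℕ} {a b : ℕ}, l.take 2 = [a, b] → l.getD 0 0 = a ∧ l.getD 1 0 = b := by
    intro l a b e
    rcases l with _ | ⟨u, _ | ⟨v, w⟩⟩ <;> simp_all
  have hT : co.iota nbr = g * t * g⁻¹ := by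
    have a := h.2 0 (by omega)
    rw [(get2 h0).1, (get2 h1).1, kX_getD (by norm_num), kX_getD (by norm_num), Nat.add_zero, fX_tm, fX_nbr,
      Imag, co.map_t] at a
    exact a
  have hX : t = g * co.iota nbr * g⁻¹ := by
    have a := h.2 1 (by omega)
    rw [(get2 h0).2, (get2 h1).2, kX_getD (by norm_num), kX_getD (by norm_num), Nat.add_zero, fX_tm, fX_nbr,
      Imag, co.map_t] at a
    exact a
  obtain ⟨hcn, hk⟩ := class_spec hn
  have hnbr : ∀ {k : ℕ}, k < 317 → k ≠ 0 → (kCls.getD k (3, 0)).1 = 1 → IsConj t (co.iota (fX (22 + k))) := by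
    intro k hk hk0 e
    rcases (class_spec hk).2 with h' | ⟨-, r, hr⟩ | ⟨e', -⟩
    · exact absurd h' hk0
    · rw [← hr]; exact (isConj_iff.2 ⟨g, hT.symm⟩).trans (isConj_map co)
    · omega
  have hconj : IsConj t (co.iota (fX (22 + T.next))) := by
    rcases hclass with e | ⟨z, hz, ⟨⟨hz0, hz1⟩, e1⟩, e2⟩
    · exact hnbr hn (by omega) e
    have hd : ∀ l : List ℕ, (∀ a ∈ l, a < 317) → l.getD z 0 < 317 := fun l hl' => by
      by_cases hzl : z < l.length
      · rw [List.getD_eq_getElem _ _ hzl]; exact hl' _ (List.getElem_mem _)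
      · rw [List.getD_eq_default _ _ (not_lt.1 hzl)]; norm_num
    have a := h.2 z hz
    rw [kX_getD (hd _ hsm), kX_getD (hd _ hdm)] at a
    have hsec : IsConj t (co.iota (fX (22 + T.dst.getD z 0))) :=
      (hnbr (hd _ hsm) (by omega) e1).trans (isConj_iff.2 ⟨g, a.symm⟩)
    rcases (class_spec (hd _ hdm)).2 with h' | ⟨e', -⟩ | ⟨-, r, hr⟩
    · omega
    · omega
    rcases hk with h' | ⟨e', r', hr'⟩ | ⟨-, r', hr'⟩
    · omega
    · exact hnbr hn (by omega) e'
    rw [← hr'] at ⊢
    rw [← hr] at hsec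
    exact (hsec.trans (isConj_map co (c := r * sec * r⁻¹) (h := r⁻¹))).trans
      (by rw [show r⁻¹ * (r * sec * r⁻¹) * r⁻¹⁻¹ = sec by group]; exact isConj_map co)
  set a := fX (22 + T.next)
  have hct : Commute (g * co.iota a * g⁻¹) t := by
    have := (hcn.map co.iota).map (MulAut.conj g).toMonoidHom
    simp only [MulEquiv.coe_toMonoidHom, MulAut.conj_apply] at this
    rwa [← hX] at this
  obtain ⟨c', hc'⟩ := exists_pre co hct
  have hcx : Commute c' nbr := by
    refine co.inj ?_
    rw [map_mul, map_mul, hc', hT]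
    have := (commute_iota co a).map (MulAut.conj g).toMonoidHom
    simpa using this.eq
  have hc2 : IsConj t (co.iota c') := hconj.trans (isConj_iff.2 ⟨g, hc'.symm⟩)
  obtain ⟨k, hk', e⟩ : ∃ k < 317, fX (22 + k) = c' := by
    rcases hfus c' hc2 with e | e
    · exact ⟨0, by norm_num, by rw [Nat.add_zero, fX_tm, e]⟩
    · exact conj_mem hcx e
  exact ⟨k, hk', by rw [kX_getD hn, kX_getD hk', Imag, e, hc']⟩

/-- The images of the generators forced by the tree. -/
noncomputable def genB : Bool :=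
  let T := nodeAt treeTab treeLeaf
  ((List.range 6).all fun l =>
    (genSrc.getD l []).all (fun z => Nat.blt z T.src.length) &&
      eqX [16 + l] (pkW kX T.src (genSrc.getD l [])) && eqX (pkW kX T.dst (genSrc.getD l [])) (imgL (16 + l))) &&
  ((List.range' 16 8).all fun a => eqX (sigW (sigW [a])) [a] && pairW (sigW [a])) &&
  eqX [22, 23, 22, 23] [] && eqX [22, 22] [] && !eqX [22] [23]

theorem gen_ok : genB = true := by decide +kernel

theorem sigW_cons (a : ℕ) (w : List ℕ) : sigW (a :: w) = imgL a ++ sigW w := rfl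

theorem imag_sigW (h : ∀ a, 16 ≤ a → a < 24 → Imag co.iota g (fX a) (wp fX (imgL a))) :
    ∀ {w : List ℕ}, (∀ a ∈ w, 16 ≤ a ∧ a < 24) → Imag co.iota g (wp fX w) (wp fX (sigW w))
  | [], _ => Imag.one
  | a :: w, hw => by
    rw [sigW_cons, wp_append, show wp fX (a :: w) = fX a * wp fX w by simp [wp]]
    exact (h a (hw a List.mem_cons_self).1 (hw a List.mem_cons_self).2).mul
      (imag_sigW h fun b hb => hw b (List.mem_cons_of_mem _ hb))

/-- An involution exchanging the pair and conjugating its centraliser as in the model. -/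
theorem exists_involution (hfus : Fusion co) {g₀ : G} (h1 : g₀ * t * g₀⁻¹ = co.iota nbr)
    (h2 : g₀ * co.iota nbr * g₀⁻¹ = t) :
    ∃ n : G, n * n = 1 ∧ ∀ a, 16 ≤ a → a < 24 → Imag co.iota n (fX a) (wp fX (imgL a)) := by
  obtain ⟨-, hshape, hlen, hs0, hd0, hleaf⟩ := nodeSide_ok
  have hroot : FixedImgs fX kX co.iota g₀ (nodeAt treeTab 0).src (nodeAt treeTab 0).dst := by
    rw [hs0, hd0]
    refine ⟨rfl, fun z hz => ?_⟩
    have hz2 : z < 2 := hz
    interval_cases z
    · show Imag co.iota g₀ (wp fX (kX.getD 0 [])) (wp fX (kX.getD 1 []))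
      rw [kX_getD (by norm_num), kX_getD (by norm_num), Nat.add_zero, fX_tm, fX_nbr, Imag, co.map_t, h1]
    · show Imag co.iota g₀ (wp fX (kX.getD 1 [])) (wp fX (kX.getD 0 []))
      rw [kX_getD (by norm_num), kX_getD (by norm_num), Nat.add_zero, fX_tm, fX_nbr, Imag, co.map_t, h2]
  obtain ⟨g, hg⟩ := tree_spec decides co.inj (N := treeTab) (m := 317) (leaf := treeLeaf)
    (fun i hi hl => (nodes_ok i (hlen ▸ hi) hl).1) hshape (fun i hi hl => (nodes_ok i (hlen ▸ hi) hl).2)
    (fun i hi hl g' hg' => img_next hfus hi hl hg') 0 (by rw [hlen]; norm_num) g₀ hroot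
  have hs := nodeSide_ok.1
  simp only [nodeSideB, List.all_eq_true, List.mem_range, Bool.and_eq_true, decide_eq_true_eq] at hs
  obtain ⟨⟨⟨⟨⟨hl0, hl1⟩, -⟩, -⟩, -⟩, -⟩ := hs treeLeaf (by rw [hlen]; exact hleaf)
  have hgb := gen_ok
  simp only [genB, Bool.and_eq_true, List.all_eq_true, List.mem_range, List.mem_range'_1, Nat.blt_eq,
    Bool.not_eq_true'] at hgb
  obtain ⟨⟨⟨⟨hgen, hsig⟩, h44⟩, h22⟩, hne⟩ := hgb
  have get2 : ∀ {l : List ℕ} {a b : ℕ}, l.take 2 = [a, b] → 2 ≤ l.length ∧ l.getD 0 0 = a ∧ l.getD 1 0 = b := by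
    intro l a b e
    rcases l with _ | ⟨u, _ | ⟨v, w⟩⟩ <;> simp_all
  have hT : Imag co.iota g (fX 22) (fX 23) := by
    have a := hg.2 0 (by have := (get2 hl0).1; omega)
    rw [(get2 hl0).2.1, (get2 hl1).2.1, kX_getD (by norm_num), kX_getD (by norm_num)] at a
    exact a
  have hX : Imag co.iota g (fX 23) (fX 22) := by
    have a := hg.2 1 (by have := (get2 hl0).1; omega)
    rw [(get2 hl0).2.2, (get2 hl1).2.2, kX_getD (by norm_num), kX_getD (by norm_num)] at a
    exact a
  have hd : ∀ a, 16 ≤ a → a < 24 → Imag co.iota g (fX a) (wp fX (imgL a)) := by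
    intro a ha hb
    rcases (by omega : a < 22 ∨ a = 22 ∨ a = 23) with ha' | rfl | rfl
    · obtain ⟨l, rfl⟩ : ∃ l, a = 16 + l := ⟨a - 16, by omega⟩
      obtain ⟨⟨hz, e1⟩, e2⟩ := hgen l (by omega)
      have hi := imag_pkW hg hz
      rw [← eq_of_eqX e1, eq_of_eqX e2, wp_one] at hi
      exact hi
    · show Imag co.iota g _ (wp fX [23]); rw [wp_one]; exact hT
    · show Imag co.iota g _ (wp fX [22]); rw [wp_one]; exact hX
  have hT' := hT
  have hX' := hX
  rw [Imag, fX_tm, fX_nbr, co.map_t] at hT' hX'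
  have hgg : Commute (g * g) t := mul_inv_eq_iff_eq_mul.1 <| calc
    g * g * t * (g * g)⁻¹ = g * (g * t * g⁻¹) * g⁻¹ := by group
    _ = t := by rw [← hT', ← hX']
  obtain ⟨q, hq⟩ := exists_pre co hgg
  have hqa : ∀ a, 16 ≤ a → a < 24 → Commute q (fX a) := by
    intro a ha hb
    obtain ⟨hss, hp⟩ := hsig a ⟨ha, by omega⟩
    have i1 := imag_sigW hd (w := [a]) (by simp [ha, hb])
    have i2 := imag_sigW hd (pairW_spec hp)
    rw [wp_one] at i1
    rw [eq_of_eqX hss, wp_one] at i2
    refine co.inj ?_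
    rw [Imag] at i1 i2
    rw [map_mul, map_mul, hq]
    conv_rhs => rw [i2, i1]
    group
  have hne' : tm ≠ nbr := fun e => ne_of_eqX hne (by rw [wp_one, wp_one, fX_tm, fX_nbr, e])
  have hfix : g * co.iota q * g⁻¹ = co.iota q := by rw [hq]; group
  rcases cent_pair hqa with rfl | rfl | rfl | rfl
  · exact ⟨g, by rw [← hq, map_one], hd⟩
  · rw [co.map_t, ← hT'] at hfix
    exact absurd (co.inj (co.map_t.trans hfix.symm)) hne'
  · rw [← hX'] at hfix
    exact absurd (co.inj (co.map_t.trans hfix)) hne'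
  · refine ⟨g * t, ?_, fun a ha hb => ?_⟩
    · calc g * t * (g * t) = (g * t * g⁻¹) * (g * g) * t := by group
        _ = co.iota (wp fX [23, 22, 23, 22]) := by
          rw [← hT', ← hq, show wp fX [23, 22, 23, 22] = nbr * (tm * nbr) * tm by
            simp [wp, fX_tm, fX_nbr, mul_assoc]]
          simp only [map_mul, co.map_t, mul_assoc]
        _ = 1 := by
          have e1 := eq_of_eqX h44
          have e2 := eq_of_eqX h22
          rw [wp_nil] at e1 e2
          have e1' : fX 22 * fX 23 * fX 22 * fX 23 = 1 := by simpa [wp, mul_assoc] using e1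
          have e2' : fX 22 * fX 22 = 1 := by simpa [wp] using e2
          have : wp fX [23, 22, 23, 22] = 1 := by
            calc wp fX [23, 22, 23, 22] = fX 22 * (fX 22 * fX 23 * fX 22 * fX 23) * fX 22 := by
                  simp [wp, ← mul_assoc, e2']
              _ = 1 := by rw [e1', mul_one, e2']
          rw [this, map_one]
    · have := hd a ha hb
      rw [Imag] at this ⊢
      rw [this, mul_inv_rev, mul_assoc g t, ← (commute_iota co (fX a)).eq]
      group

end CfsgLib.CoTwoRec.Rel
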