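import Cfsg.Agent.Lib.CoTwoRec.RelWords
import Cfsg.Agent.Lib.CoTwoRec.RelLevels

/-!
# The first half of the top level
-/

set_option autoImplicit false
set_option maxRecDepth 100000

namespace CfsgLib.CoTwoRec.Rel

theorem top0_ok : lev0.partB eqX 0 90 = true := by decide +kernel

theorem top90_ok : lev0.partB eqX 90 90 = true := by decide +kernel

theorem top180_ok : lev0.partB eqX 180 90 = true := by decide +kernel

theorem top270_ok : lev0.partB eqX 270 90 = true := by decide +kernel

theorem top360_ok : lev0.partB eqX 360 90 = true := by decide +kernel

theorem top450_ok : lev0.partB eqX 450 90 = true := by decide +kernel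

theorem top540_ok : lev0.partB eqX 540 90 = true := by decide +kernel

end CfsgLib.CoTwoRec.Rel
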