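import Cfsg.Agent.Lib.CoTwoRec.RelChain

/-!
# The images of a conjugation are forced, by a tree of checks

A node lists sources and their images. For the next source every possible image has either a relation of the
sources that the images break, or an adjustment fixing the listed images and carrying it to one of the children.
-/

set_option autoImplicit false
set_option linter.unusedSectionVars false

namespace CfsgLib.CoTwoRec

/-- A node. -/
structure TNode where
  /-- The sources. -/
  src : List ℕ
  /-- Their images. -/
  dst : List ℕ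
  /-- The next source. -/
  next : ℕ
  /-- For each image: zero and the two sides of a relation, or a child's position plus one and an adjustment. -/
  opts : List (ℕ × List ℕ × List ℕ)
  /-- The children. -/
  kids : List ℕ

/-- A product of listed elements. -/
def pkW (kW : List (List ℕ)) (s : List ℕ) (w : List ℕ) : List ℕ :=
  (w.map fun z => kW.getD (s.getD z 0) []).flatten

variable {C G : Type*} [Group C] [Group G] {f : ℕ → C} {eqb : List ℕ → List ℕ → Bool} {kW : List (List ℕ)}
  {ι : C →* G} {g : G}

/-- Conjugation carries one element to another. -/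
def Imag (ι : C →* G) (g : G) (c c' : C) : Prop := ι c' = g * ι c * g⁻¹

/-- Conjugation has the listed images. -/
def FixedImgs (f : ℕ → C) (kW : List (List ℕ)) (ι : C →* G) (g : G) (src dst : List ℕ) : Prop :=
  dst.length = src.length ∧
    ∀ z < src.length, Imag ι g (wp f (kW.getD (src.getD z 0) [])) (wp f (kW.getD (dst.getD z 0) []))

theorem Imag.mul {a a' b b' : C} (h : Imag ι g a a') (h' : Imag ι g b b') : Imag ι g (a * b) (a' * b') := by
  rw [Imag] at h h' ⊢
  rw [map_mul, map_mul, h, h']; group

theorem Imag.one : Imag ι g (1 : C) 1 := by simp [Imag]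

theorem Imag.unique (hι : Function.Injective ι) {a b b' : C} (h : Imag ι g a b) (h' : Imag ι g a b') : b = b' :=
  hι (h.trans h'.symm)

theorem Imag.inj (hι : Function.Injective ι) {a a' b : C} (h : Imag ι g a b) (h' : Imag ι g a' b) : a = a' :=
  hι (mul_left_cancel (mul_right_cancel (h.symm.trans h')))

theorem Imag.adjust {a b b' T : C} (h : Imag ι g a b) (e : T * b = b' * T) : Imag ι (ι T * g) a b' := by
  rw [Imag] at h ⊢
  have e' : ι b' = ι T * ι b * (ι T)⁻¹ := by rw [← map_mul, e, map_mul, mul_inv_cancel_right]
  rw [e', h]; group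

theorem imag_pkW {src dst : List ℕ} (h : FixedImgs f kW ι g src dst) :
    ∀ {w : List ℕ}, (∀ z ∈ w, z < src.length) → Imag ι g (wp f (pkW kW src w)) (wp f (pkW kW dst w))
  | [], _ => by rw [pkW, pkW]; exact Imag.one
  | z :: w, hw => by
    have e : ∀ s : List ℕ, wp f (pkW kW s (z :: w)) = wp f (kW.getD (s.getD z 0) []) * wp f (pkW kW s w) :=
      fun s => by rw [← wp_append]; rfl
    rw [e, e]
    exact (h.2 z (hw z List.mem_cons_self)).mul (imag_pkW h fun a ha => hw a (List.mem_cons_of_mem _ ha))

theorem FixedImgs.snoc {src dst : List ℕ} (h : FixedImgs f kW ι g src dst) {a c : ℕ}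
    (hc : Imag ι g (wp f (kW.getD a [])) (wp f (kW.getD c []))) :
    FixedImgs f kW ι g (src ++ [a]) (dst ++ [c]) := by
  refine ⟨by simp [h.1], fun z hz => ?_⟩
  simp only [List.length_append, List.length_singleton] at hz
  rcases (by omega : z < src.length ∨ z = src.length) with hz | rfl
  · rw [List.getD_append _ _ _ _ hz, List.getD_append _ _ _ _ (h.1.symm ▸ hz)]; exact h.2 z hz
  · rw [List.getD_append_right _ _ _ _ le_rfl, List.getD_append_right _ _ _ _ h.1.le, Nat.sub_self, h.1, Nat.sub_self]
    exact hc

/-- The check of one possible image. -/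
def TNode.optB (eqb : List ℕ → List ℕ → Bool) (kW : List (List ℕ)) (N : List TNode) (T : TNode) (c : ℕ) : Bool :=
  let e := T.opts.getD c (0, [], [])
  let s := T.src ++ [T.next]
  let d := T.dst ++ [c]
  if e.1 = 0 then
    (e.2.1 ++ e.2.2).all (fun z => Nat.blt z s.length) &&
      (eqb (pkW kW s e.2.1) (pkW kW s e.2.2) != eqb (pkW kW d e.2.1) (pkW kW d e.2.2))
  else
    let K := N.getD (T.kids.getD (e.1 - 1) N.length) ⟨[], [], 0, [], []⟩
    let b := K.dst.getD T.src.length 0
    decide (K.src = s) && decide (K.dst = T.dst ++ [b]) &&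
      eqb (e.2.1 ++ kW.getD c []) (kW.getD b [] ++ e.2.1) &&
      T.dst.all fun z => eqb (e.2.1 ++ kW.getD z []) (kW.getD z [] ++ e.2.1)

/-- The checks of some possible images of an inner node. -/
def TNode.rangeB (eqb : List ℕ → List ℕ → Bool) (kW : List (List ℕ)) (N : List TNode) (i a b : ℕ) : Bool :=
  (List.range' a b).all fun c => TNode.optB eqb kW N (N.getD i ⟨[], [], 0, [], []⟩) c

/-- The children come later. -/
def treeShapeB (N : List TNode) (m : ℕ) (leaf : ℕ) : Bool :=
  (List.range N.length).all fun i =>
    let T := N.getD i ⟨[], [], 0, [], []⟩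
    Nat.beq i leaf || (Nat.blt T.next m && Nat.beq T.dst.length T.src.length &&
      (List.range T.opts.length).all fun c =>
        let e := T.opts.getD c (0, [], [])
        Nat.beq e.1 0 || (Nat.blt i (T.kids.getD (e.1 - 1) 0) && Nat.blt (T.kids.getD (e.1 - 1) 0) N.length))

/-- A node of the list. -/
abbrev nodeAt (N : List TNode) (i : ℕ) : TNode := N.getD i ⟨[], [], 0, [], []⟩

/-- Every conjugation with the images of a node can be adjusted to that of the leaf. -/
theorem tree_spec (D : Decides f eqb) (hι : Function.Injective ι) {N : List TNode} {m leaf : ℕ}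
    (hlen : ∀ i < N.length, i ≠ leaf → (nodeAt N i).opts.length = m)
    (hshape : treeShapeB N m leaf = true)
    (hopt : ∀ i < N.length, i ≠ leaf → ∀ c < m, TNode.optB eqb kW N (nodeAt N i) c = true)
    (himg : ∀ i < N.length, i ≠ leaf → ∀ g : G, FixedImgs f kW ι g (nodeAt N i).src (nodeAt N i).dst →
      ∃ c < m, Imag ι g (wp f (kW.getD (nodeAt N i).next [])) (wp f (kW.getD c []))) :
    ∀ i < N.length, ∀ g : G, FixedImgs f kW ι g (nodeAt N i).src (nodeAt N i).dst →
      ∃ g' : G, FixedImgs f kW ι g' (nodeAt N leaf).src (nodeAt N leaf).dst := by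
  have main : ∀ d i, i < N.length → N.length - i ≤ d → ∀ g : G,
      FixedImgs f kW ι g (nodeAt N i).src (nodeAt N i).dst →
      ∃ g' : G, FixedImgs f kW ι g' (nodeAt N leaf).src (nodeAt N leaf).dst := by
    intro d
    induction d with
    | zero => intro i hi hd; omega
    | succ d ih =>
      intro i hi hd g hg
      by_cases hl : i = leaf
      · exact ⟨g, hl ▸ hg⟩
      obtain ⟨c, hc, hci⟩ := himg i hi hl g hg
      have hs := hg.snoc hci
      have ho := hopt i hi hl c hc
      simp only [treeShapeB, List.all_eq_true, List.mem_range, Bool.or_eq_true, Bool.and_eq_true, Nat.beq_eq,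
        Nat.blt_eq] at hshape
      obtain ⟨-, hk⟩ := (hshape i hi).resolve_left hl
      have hk := hk c (by rw [hlen i hi hl]; exact hc)
      simp only [TNode.optB] at ho
      generalize he : (nodeAt N i).opts.getD c (0, [], []) = e at ho
      rw [show ((N.getD i ⟨[], [], 0, [], []⟩).opts.getD c (0, [], [])) = e from he] at hk
      by_cases h0 : e.1 = 0
      · simp only [h0, if_true, Bool.and_eq_true, List.all_eq_true, Nat.blt_eq, bne_iff_ne, ne_eq] at ho
        obtain ⟨hz, hne⟩ := ho
        refine absurd ?_ hne
        have i1 := imag_pkW hs (w := e.2.1) fun z h' => hz z (List.mem_append_left _ h')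
        have i2 := imag_pkW hs (w := e.2.2) fun z h' => hz z (List.mem_append_right _ h')
        refine Bool.eq_iff_iff.2 ⟨fun e' => (D _ _).2 ?_, fun e' => (D _ _).2 ?_⟩
        · rw [D.eq e'] at i1; exact i1.unique hι i2
        · rw [D.eq e'] at i1; exact i1.inj hι i2
      · simp only [h0, if_false, Bool.and_eq_true, List.all_eq_true, decide_eq_true_eq] at ho
        obtain ⟨⟨⟨hs1, hs2⟩, hb⟩, hall⟩ := ho
        obtain ⟨hk1, hk2⟩ := hk.resolve_left h0
        set k := (nodeAt N i).kids.getD (e.1 - 1) N.length with hkdef
        have hkk : (N.getD i ⟨[], [], 0, [], []⟩).kids.getD (e.1 - 1) 0 = k := by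
          by_cases hlt : e.1 - 1 < (nodeAt N i).kids.length
          · rw [hkdef, List.getD_eq_getElem _ _ hlt, List.getD_eq_getElem _ _ hlt]
          · rw [List.getD_eq_default _ _ (not_lt.1 hlt)] at hk1
            omega
        rw [hkk] at hk1 hk2
        refine ih k hk2 (by omega) (ι (wp f e.2.1) * g) ?_
        refine ⟨?_, fun z hz => ?_⟩
        · show (nodeAt N k).dst.length = (nodeAt N k).src.length
          rw [hs1, hs2, List.length_append, List.length_append, hg.1]
          rfl
        · rw [hs1] at hz ⊢
          rw [hs2]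
          simp only [List.length_append, List.length_singleton] at hz
          rcases (by omega : z < (nodeAt N i).src.length ∨ z = (nodeAt N i).src.length) with hz | rfl
          · rw [List.getD_append _ _ _ _ hz, List.getD_append _ _ _ _ (hg.1.symm ▸ hz)]
            refine (hg.2 z hz).adjust ?_
            rw [← wp_append, ← wp_append]
            refine D.eq (hall _ ?_)
            rw [List.getD_eq_getElem _ _ (hg.1.symm ▸ hz)]
            exact List.getElem_mem _
          · rw [List.getD_append_right _ _ _ _ le_rfl, List.getD_append_right _ _ _ _ hg.1.le, Nat.sub_self, hg.1,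
              Nat.sub_self]
            refine hci.adjust ?_
            simp only [List.getD_cons_zero]
            rw [← wp_append, ← wp_append]
            exact D.eq hb
  exact fun i hi g hg => main _ i hi le_rfl g hg

end CfsgLib.CoTwoRec
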