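import Cfsg.Agent.Lib.CoTwoRec.RelTree

/-!
# The forcing tree (generated)
-/

set_option autoImplicit false
set_option maxRecDepth 100000

namespace CfsgLib.CoTwoRec

/-- Some options of a node. -/
def tOpt0x0 : List (ℕ × List ℕ × List ℕ) := [
  (0, [1], [2]), (0, [0], [2]), (2, [], []), (3, [], []),
  (3, [21, 20], []), (2, [16, 19], []), (3, [17, 19, 17], []), (3, [21, 20, 18, 19, 18], []),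
  (2, [16], []), (3, [17], []), (3, [17, 19, 17, 16, 19], []), (3, [17, 21, 20], []),
  (3, [21, 18, 19, 20], []), (3, [21, 20, 18, 19, 18, 16, 19], []), (3, [17, 19], []), (3, [17, 19, 17, 16], []),
  (3, [17, 21, 20, 19], []), (3, [21, 20, 18, 19, 18, 16], []), (3, [21, 20, 18], []), (3, [17, 19, 17, 16, 19, 17], []),
  (3, [17, 21, 20, 19, 18], []), (3, [21, 18, 19, 20, 16], []), (3, [17, 21, 20, 19, 16, 18, 19, 18], []), (3, [21, 18, 16, 18, 19, 20, 16], []),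
  (3, [17, 19, 16], []), (3, [17, 21, 20, 19, 16], []), (3, [17, 21, 20, 18], []), (3, [21, 20, 18, 19, 18, 16, 18], []),
  (3, [21, 20, 18, 16], []), (4, [], []), (3, [17, 21, 20, 19, 18, 16], []), (3, [17, 19, 21, 16, 18, 19, 20], []),
  (3, [21, 18, 16, 19, 20], []), (3, [21, 18, 16, 18, 19, 20], []), (3, [17, 21, 20, 19, 16, 18], []), (4, [17], []),
  (3, [17, 21, 20, 18, 16], []), (3, [21, 18, 16, 19, 20, 16, 18], []), (3, [21, 18, 16, 19, 20, 16], []), (3, [21], []),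
  (4, [16], []), (5, [], []), (3, [21, 18, 16, 19, 20, 17], []), (3, [17, 21, 18, 16, 19, 20, 18], []),
  (3, [17, 21, 18, 16, 19, 20, 17], []), (3, [17, 19, 17, 21], []), (5, [19], []), (3, [17, 21, 20, 19, 16, 18, 16], []),
  (4, [17, 16], []), (3, [21, 18, 16, 19, 20, 17, 16], []), (3, [21, 20, 18, 16, 18], []), (3, [17, 21], []),
  (3, [21, 18, 19], []), (3, [17, 19, 17, 16, 19, 21], []), (5, [16, 19, 16], []), (5, [16, 18, 19], []),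
  (5, [16], []), (3, [17, 21, 18, 16, 19, 20], []), (3, [17, 19, 21], []), (3, [17, 19, 17, 21, 16], []),
  (3, [21, 18], []), (5, [19, 16], []), (3, [17, 21, 20, 18, 16, 18], []), (5, [16, 19], []),
  (5, [16, 19, 18], []), (3, [17, 19, 21, 18], []), (3, [21, 18, 19, 16], []), (3, [17, 19, 17, 16, 19, 17, 21], []),
  (3, [21, 18, 16, 18, 19, 16], []), (3, [17, 19, 17, 21, 16, 18], []), (4, [16, 18], []), (4, [17, 16, 19], []),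
  (4, [16, 18, 19], []), (3, [17, 19, 21, 16], []), (3, [17, 21, 18], []), (3, [21, 18, 16], []),
  (4, [16, 19], []), (4, [16, 19, 18], []), (4, [16, 18, 17], []), (3, [17, 19, 21, 18, 16], [])]

/-- Some options of a node. -/
def tOpt0x1 : List (ℕ × List ℕ × List ℕ) := [
  (3, [17, 19, 21, 16, 18, 19], []), (4, [20], []), (3, [21, 18, 16, 19], []), (3, [21, 18, 16, 18, 19], []),
  (3, [17, 19, 21, 16, 18], []), (3, [21, 18, 16, 19, 16, 18], []), (4, [16, 18, 16], []), (5, [16, 18], []),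
  (3, [17, 21, 18, 16], []), (4, [17, 20], []), (3, [21, 18, 16, 19, 16], []), (5, [19, 16, 18], []),
  (4, [16, 18, 17, 16], []), (3, [17, 19, 21, 18, 16, 18], []), (3, [17, 21, 18, 16, 19, 18], []), (4, [20, 16], []),
  (5, [20], []), (3, [21, 18, 16, 18, 19, 18], []), (3, [17, 19, 21, 16, 18, 16], []), (3, [21, 18, 16, 18], []),
  (5, [16, 18, 16], []), (5, [19, 20], []), (3, [17, 19, 21, 18, 16, 18, 16], []), (4, [17, 20, 16], []),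
  (5, [19, 16, 18, 16], []), (3, [17, 21, 18, 16, 19], []), (5, [16, 19, 20, 16], []), (5, [16, 18, 19, 20], []),
  (5, [20, 16], []), (3, [21, 18, 19, 21], []), (3, [17, 21, 18, 16, 18], []), (5, [19, 20, 16], []),
  (5, [16, 19, 20], []), (5, [16, 19, 20, 18], []), (3, [21, 18, 21], []), (3, [21, 18, 21, 19, 17], []),
  (4, [20, 16, 18], []), (4, [17, 16, 19, 20], []), (4, [16, 18, 19, 20], []), (3, [21, 18, 19, 21, 16], []),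
  (3, [17, 19, 21, 16, 18, 21, 17], []), (3, [21, 18, 16, 18, 19, 21, 16], []), (4, [16, 19, 20], []), (4, [16, 19, 20, 18], []),
  (3, [21, 18, 21, 17], []), (4, [17, 20, 16, 18], []), (3, [21, 18, 21, 16], []), (3, [21, 18, 21, 19, 17, 16], []),
  (4, [20, 21], []), (3, [17, 19, 21, 16, 18, 19, 21], []), (3, [17, 19, 21, 16, 18, 21], []), (4, [20, 16, 18, 16], []),
  (5, [20, 16, 18], []), (3, [21, 18, 16, 19, 21], []), (3, [21, 18, 16, 19, 16, 18, 21], []), (3, [21, 18, 16, 18, 19, 21], []),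
  (5, [19, 20, 16, 18], []), (3, [21, 18, 21, 17, 16], []), (4, [17, 20, 21], []), (4, [17, 20, 16, 18, 16], []),
  (3, [21, 18, 16, 19, 21, 16], []), (3, [21, 18, 16, 19, 21, 17], []), (4, [20, 21, 16], []), (3, [21, 18, 16, 18, 19, 21, 17], []),
  (3, [17, 19, 21, 16, 18, 21, 16], []), (5, [20, 21], []), (5, [20, 21, 19], []), (5, [20, 16, 18, 16], []),
  (3, [21, 18, 16, 18, 21], []), (3, [17, 21, 18, 16, 19, 21, 17], []), (5, [19, 20, 16, 18, 16], []), (3, [21, 18, 16, 19, 21, 17, 16], []),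
  (4, [17, 20, 21, 16], []), (5, [20, 21, 16, 19, 16], []), (5, [20, 21, 16], []), (3, [17, 21, 18, 16, 19, 21], []),
  (3, [21, 18, 16, 18, 21, 17], []), (5, [20, 21, 19, 16], []), (5, [20, 16, 18, 21, 19], []), (5, [20, 21, 16, 19], [])]

/-- Some options of a node. -/
def tOpt0x2 : List (ℕ × List ℕ × List ℕ) := [
  (5, [16, 19, 20, 18, 21], []), (4, [17, 20, 21, 16, 19], []), (4, [20, 21, 16, 19], []), (4, [20, 16, 18, 21], []),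
  (4, [20, 16, 18, 21, 19], []), (4, [16, 19, 20, 18, 21], []), (4, [17, 20, 16, 18, 21], []), (4, [20, 16, 18, 21, 16], []),
  (5, [20, 16, 18, 21], []), (5, [19, 20, 16, 18, 21], []), (4, [17, 20, 16, 18, 21, 16], []), (5, [20, 16, 18, 21, 16], []),
  (5, [19, 20, 16, 18, 21, 16], []), (1, [16, 19, 17, 21, 20, 19], []), (6, [], []), (6, [17], []),
  (1, [21, 20, 19, 16, 18], []), (1, [21, 20, 19, 16], []), (1, [21, 20, 16, 19, 16], []), (1, [19, 17, 21, 20, 19], []),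
  (1, [19, 17, 21, 20, 16], []), (1, [16, 19, 17, 21, 20], []), (6, [18], []), (1, [21, 20, 19], []),
  (1, [16, 19, 17, 19, 21], []), (1, [21, 20], []), (1, [21, 20, 16, 19], []), (6, [18, 17], []),
  (1, [19, 17, 21, 20], []), (6, [20], []), (1, [19, 17, 19, 21], []), (1, [21, 20, 16], []),
  (6, [17, 20], []), (1, [19, 21, 16, 18], []), (1, [19, 21, 16], []), (1, [21], []),
  (1, [16, 19, 21, 16], []), (1, [19, 17, 21, 16], []), (1, [16, 19, 17, 21], []), (6, [20, 18], []),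
  (1, [19, 21], []), (1, [21, 16], []), (1, [16, 19, 17, 19], []), (1, [16, 19, 21], []),
  (6, [17, 20, 18], []), (1, [19, 17, 21], []), (6, [20, 21], []), (7, [], []),
  (1, [19, 17, 19], []), (7, [21, 20], []), (7, [18, 19, 18], []), (7, [20, 21], []),
  (6, [17, 20, 21], []), (1, [16, 19, 17, 16], []), (7, [17, 16, 19], []), (7, [17, 16, 19, 18], []),
  (7, [16], []), (7, [18, 17], []), (7, [18, 19], []), (7, [17], []),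
  (1, [], []), (7, [17, 16, 19, 21], []), (7, [17, 16, 19, 21, 18], []), (7, [21, 20, 16], []),
  (7, [17, 21, 17], []), (7, [17, 21, 20], []), (7, [18, 21], []), (7, [18, 17, 19], []),
  (7, [18, 17, 19, 18], []), (7, [18], []), (7, [16, 18, 21, 18], []), (1, [19, 16], []),
  (7, [16, 18, 21], []), (7, [17, 20, 21], []), (7, [20, 18], []), (7, [20, 17, 19], []),
  (7, [21], []), (7, [20], []), (1, [16, 19, 16], []), (1, [16, 19, 17], [])]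

/-- Some options of a node. -/
def tOpt0x3 : List (ℕ × List ℕ × List ℕ) := [
  (7, [16, 19], []), (7, [16, 19, 20], []), (7, [18, 17, 16], []), (7, [18, 19, 16], []),
  (7, [17, 16], []), (6, [17, 20, 18, 21], []), (1, [16], []), (6, [20, 18, 21], []),
  (7, [16, 19, 20, 18], []), (7, [16, 19, 21], []), (7, [17, 21, 17, 16], []), (7, [17, 21, 20, 16], []),
  (7, [18, 21, 16], []), (7, [21, 17], []), (7, [17, 21], []), (7, [18, 17, 21], []),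
  (7, [17, 20, 16, 19, 18], []), (7, [17, 21, 16, 19], []), (7, [18, 17, 16, 19], []), (7, [16, 19, 18, 21], []),
  (7, [18, 16], []), (7, [17, 21, 17, 16, 19], []), (7, [16, 19, 21, 18, 21], []), (1, [19], []),
  (7, [18, 17, 19, 16], []), (7, [20, 21, 20, 17, 16], []), (1, [19, 17, 16], []), (7, [17, 20, 16, 19], []),
  (7, [17, 20, 21, 16], []), (7, [18, 16, 18], []), (7, [16, 18, 21, 17], []), (7, [16, 19, 18], []),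
  (7, [20, 17], []), (7, [18, 19, 20], []), (7, [17, 20], []), (7, [21, 16, 18, 19], []),
  (7, [21, 16], []), (7, [16, 18], []), (7, [18, 21, 16, 19], []), (7, [18, 21, 16, 19, 18], []),
  (1, [16, 19], []), (1, [19, 17], []), (7, [16, 18, 19, 20], []), (7, [16, 18, 19], []),
  (7, [18, 16, 19], []), (7, [21, 20, 16, 18], []), (7, [21, 16, 19], []), (7, [21, 17, 16], []),
  (7, [17, 21, 16], []), (7, [18, 17, 21, 16], []), (7, [21, 17, 16, 19], []), (7, [16, 18, 17, 19, 18], []),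
  (7, [16, 18, 17, 19], []), (7, [21, 17, 16, 19, 20], []), (7, [21, 16, 18, 17, 19], []), (7, [16, 18, 17], []),
  (7, [18, 19, 16, 18], []), (7, [17, 20, 16], []), (7, [16, 19, 18, 16], []), (7, [21, 16, 19, 18], []),
  (7, [21, 17, 16, 19, 18], []), (7, [16, 19, 21, 18], []), (7, [21, 20, 16, 18, 16], []), (7, [17, 21, 16, 18, 17], []),
  (7, [17, 21, 20, 16, 18], []), (7, [18, 21, 16, 18], []), (7, [21, 16, 18], []), (7, [17, 21, 16, 18, 17, 16], []),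
  (7, [17, 21, 20, 16, 18, 16], []), (7, [18, 21, 16, 18, 16], []), (7, [21, 16, 18, 17], []), (7, [17, 21, 16, 18], []),
  (7, [18, 17, 21, 16, 18], []), (7, [21, 16, 18, 16], []), (7, [21, 16, 18, 17, 16], []), (7, [17, 21, 16, 18, 16], []),
  (7, [18, 17, 21, 16, 18, 16], [])]

/-- A node. -/
def tNode0 : TNode := ⟨[0, 1], [1, 0], 159, tOpt0x0 ++ tOpt0x1 ++ tOpt0x2 ++ tOpt0x3, [1, 16, 18, 26, 37, 58, 63]⟩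

/-- Some options of a node. -/
def tOpt1x0 : List (ℕ × List ℕ × List ℕ) := [
  (0, [1], [3]), (0, [0], [3]), (0, [3, 2, 3], [2]), (0, [3, 2, 3], [2]),
  (1, [21, 18, 16, 18, 21, 16], []), (0, [3, 2, 3], [2]), (0, [3, 2, 3], [2]), (1, [19, 18, 19, 16, 18, 16, 22], []),
  (0, [3, 2, 3], [2]), (0, [3, 2, 3], [2]), (0, [3, 2, 3], [2]), (1, [21, 18, 16, 18, 21, 17, 16], []),
  (1, [16, 18, 21, 16, 18, 19, 21, 18, 19], []), (1, [21, 19, 18, 16, 19, 16, 18, 19, 21], []), (0, [3, 2, 3], [2]), (0, [3, 2, 3], [2]),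
  (1, [19, 18, 19, 16, 18, 17, 16, 22], []), (1, [16, 19, 17, 16, 19, 18, 17, 16, 19, 16], []), (1, [21, 16, 18, 21, 16], []), (0, [3, 2, 3], [2]),
  (1, [21, 16, 18, 16, 19, 17, 21, 19, 23], []), (1, [21, 16, 19, 17, 19, 16, 18, 21, 17], []), (1, [19, 21, 17, 21, 16, 18, 16, 19], []), (1, [16, 19, 21, 18, 16, 18, 21, 16, 19, 22], []),
  (0, [3, 2, 3], [2]), (1, [16, 19, 21, 17, 19, 18, 16, 18, 21, 22], []), (1, [21, 16, 18, 21, 17, 16], []), (1, [21, 16, 18, 19, 17, 21, 19, 17, 16, 22], []),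
  (1, [21, 18, 21], []), (2, [], []), (1, [21, 16, 19, 17, 19, 16, 18, 21], []), (1, [19, 21, 18, 21, 16, 19, 17, 16, 19], []),
  (1, [16, 19, 21, 17, 21, 19, 17, 16], []), (1, [19, 21, 18, 16, 18, 21, 16, 19, 16, 22], []), (1, [16, 19, 21, 17, 19, 18, 21, 16, 22], []), (2, [17], []),
  (1, [21, 18, 21, 17], []), (1, [19, 18, 19, 21, 16, 18, 21, 18, 16, 23], []), (1, [16, 18, 21, 18, 16, 18, 19, 21, 18, 19], []), (1, [18, 19, 21, 19, 16, 18, 21, 20, 16, 23], []),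
  (2, [19, 17, 16, 19, 17, 16, 19, 17], []), (0, [3, 2, 3], [2]), (1, [16, 19, 21, 17, 21, 19, 16], []), (1, [19, 17, 16, 19, 21, 16, 18, 21, 19], []),
  (1, [19, 17, 16, 19, 17, 16, 19], []), (1, [16, 19, 20, 16, 18, 16, 19, 16], []), (0, [3, 2, 3], [2]), (1, [19, 18, 19, 21, 16, 18, 21, 18, 17, 16, 22], []),
  (2, [19, 17, 16, 19, 17, 16, 19], []), (1, [21, 19, 17, 21, 19, 23], []), (1, [], []), (1, [17, 20, 18, 16, 18, 17, 16, 22], []),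
  (1, [19, 21, 17, 19, 16, 18, 21, 17, 20, 16, 23], []), (1, [17, 19, 21, 16, 18, 17, 21, 19, 20, 17, 16, 19, 16, 22], []), (3, [], []), (3, [21, 18, 21], []),
  (0, [3, 2, 3], [2]), (1, [19, 17, 16, 19, 17, 16, 19, 17], []), (1, [19, 21, 17, 19, 18, 16, 18, 21, 20, 16, 23], []), (1, [19, 20, 17, 16, 19, 18, 17, 16, 19, 22], []),
  (1, [21, 16, 18, 21, 19, 20, 19, 16], []), (0, [3, 2, 3], [2]), (1, [17], []), (3, [17], []),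
  (3, [21, 16, 18, 21, 16], []), (1, [21, 19, 17, 19, 16, 18, 21, 20, 16, 22, 23], []), (1, [19, 17, 19, 21, 16, 19, 18, 17, 21, 20, 19, 23], []), (1, [19, 17, 19, 20, 19, 16, 18, 17, 16, 19, 23], []),
  (1, [21, 19, 17, 19, 16, 18, 19, 17, 21, 20, 19, 16, 22, 23], []), (1, [20, 21, 16, 18, 21, 19, 18, 19, 17, 16, 22], []), (2, [16, 19, 16, 18, 17, 19, 17, 16, 19, 16], []), (0, [3, 2, 3], [2]),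
  (0, [3, 2, 3], [2]), (1, [21, 16, 18, 19, 17, 21, 19, 20, 16, 18], []), (1, [16, 19, 21, 18, 21, 17, 20, 19, 16], []), (1, [18, 16, 19, 20, 19, 16], []),
  (0, [3, 2, 3], [2]), (0, [3, 2, 3], [2]), (2, [19, 21, 18, 16, 18, 21, 16, 19, 16, 22], []), (1, [21, 19, 18, 16, 18, 19, 17, 21, 20, 16, 19, 22, 23], [])]

/-- Some options of a node. -/
def tOpt1x1 : List (ℕ × List ℕ × List ℕ) := [
  (1, [21, 19, 17, 16, 19, 16, 18, 21, 20, 17, 19, 16], []), (2, [16, 19, 20, 19, 16], []), (1, [17, 21, 16, 19, 17, 21, 20, 19, 16, 22], []), (1, [19, 21, 18, 16, 18, 21, 20, 16, 19, 16, 22], []),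
  (1, [21, 16, 18, 19, 17, 21, 19, 20, 16], []), (1, [20, 19, 18, 21, 19, 16, 18, 21, 16], []), (2, [21, 16, 18, 21, 16], []), (0, [3, 2, 3], [2]),
  (1, [20, 21, 16, 18, 17, 21, 16, 18, 22], []), (2, [19, 17, 20, 17, 19], []), (1, [19, 20, 18, 19, 18, 17, 22], []), (0, [3, 2, 3], [2]),
  (2, [19, 18, 19, 16, 18, 16, 22], []), (1, [16, 19, 21, 17, 21, 20, 19, 16], []), (1, [19, 17, 21, 16, 19, 16, 18, 21, 20, 19], []), (2, [16, 19, 20, 17, 16, 19, 17, 16, 19, 16], []),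
  (0, [3, 2, 3], [2]), (1, [20, 17, 19, 16, 18, 19, 18, 16, 19, 17, 16, 23], []), (1, [20, 19, 21, 17, 19, 18, 21, 18, 22], []), (1, [16, 19, 20, 19, 16], []),
  (0, [3, 2, 3], [2]), (0, [3, 2, 3], [2]), (1, [19, 17, 20, 17, 19], []), (2, [19, 17, 20, 16, 19, 17, 16, 19], []),
  (0, [3, 2, 3], [2]), (1, [17, 19, 20, 16, 18, 19, 18, 16, 19, 16, 22, 23], []), (3, [16, 19, 20, 19, 16], []), (3, [18, 16, 19, 20, 19, 16], []),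
  (0, [3, 2, 3], [2]), (0, [3, 2, 3], [2]), (1, [17, 16, 19, 20, 19, 16], []), (0, [3, 2, 3], [2]),
  (3, [16, 19, 20, 17, 16, 19, 17, 16, 19, 16], []), (3, [21, 16, 18, 21, 19, 20, 19, 16], []), (0, [3, 2, 3], [2]), (0, [3, 2, 3], [2]),
  (2, [20, 19, 21, 18, 16, 18, 21, 16, 19, 16, 18, 22, 23], []), (0, [3, 2, 3], [2]), (0, [3, 2, 3], [2]), (0, [3, 2, 3], [2]),
  (0, [3, 2, 3], [2]), (0, [3, 2, 3], [2]), (0, [3, 2, 3], [2]), (0, [3, 2, 3], [2]),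
  (0, [3, 2, 3], [2]), (2, [21, 19, 18, 16, 18, 19, 17, 21, 20, 16, 19, 22, 23], []), (0, [3, 2, 3], [2]), (0, [3, 2, 3], [2]),
  (0, [3, 2, 3], [2]), (0, [3, 2, 3], [2]), (0, [3, 2, 3], [2]), (2, [21, 16, 18, 21, 19, 20, 19, 16], []),
  (0, [3, 2, 3], [2]), (0, [3, 2, 3], [2]), (0, [3, 2, 3], [2]), (0, [3, 2, 3], [2]),
  (0, [3, 2, 3], [2]), (0, [3, 2, 3], [2]), (0, [3, 2, 3], [2]), (2, [21, 19, 17, 19, 16, 18, 21, 20, 16, 22, 23], []),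
  (0, [3, 2, 3], [2]), (0, [3, 2, 3], [2]), (0, [3, 2, 3], [2]), (0, [3, 2, 3], [2]),
  (0, [3, 2, 3], [2]), (0, [3, 2, 3], [2]), (0, [3, 2, 3], [2]), (0, [3, 2, 3], [2]),
  (0, [3, 2, 3], [2]), (0, [3, 2, 3], [2]), (0, [3, 2, 3], [2]), (0, [3, 2, 3], [2]),
  (0, [3, 2, 3], [2]), (0, [3, 2, 3], [2]), (0, [3, 2, 3], [2]), (0, [3, 2, 3], [2]),
  (0, [3, 2, 3], [2]), (0, [3, 2, 3], [2]), (0, [3, 2, 3], [2]), (0, [3, 2, 3], [2])]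

/-- Some options of a node. -/
def tOpt1x2 : List (ℕ × List ℕ × List ℕ) := [
  (0, [3, 2, 3], [2]), (0, [3, 2, 3], [2]), (0, [3, 2, 3], [2]), (0, [3, 2, 3], [2]),
  (0, [3, 2, 3], [2]), (0, [3, 2, 3], [2]), (0, [3, 2, 3], [2]), (0, [3, 2, 3], [2]),
  (0, [3, 2, 3], [2]), (0, [3, 2, 3], [2]), (0, [3, 2, 3], [2]), (0, [3, 2, 3], [2]),
  (0, [3, 2, 3], [2]), (0, [3, 2, 3], [2]), (4, [], []), (4, [17], []),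
  (5, [], []), (5, [21, 18, 21], []), (5, [21, 16, 18, 21, 16], []), (0, [3, 2, 3], [2]),
  (5, [21, 18, 16, 18, 21, 16], []), (5, [16, 19, 21, 18, 16, 18, 21, 16, 19, 22], []), (4, [19, 18, 19, 16, 18, 16, 22], []), (5, [19, 17, 16, 19, 17, 16, 19], []),
  (0, [3, 2, 3], [2]), (0, [3, 2, 3], [2]), (5, [19, 21, 18, 21, 16, 19, 17, 16, 19], []), (4, [21, 16, 18, 21, 16], []),
  (5, [19, 21, 18, 16, 18, 21, 16, 19, 16, 22], []), (4, [16, 19, 20, 19, 16], []), (0, [3, 2, 3], [2]), (0, [3, 2, 3], [2]),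
  (4, [21, 19, 17, 19, 16, 18, 21, 20, 16, 22, 23], []), (5, [16, 19, 20, 19, 16], []), (5, [19, 17, 20, 17, 19], []), (0, [3, 2, 3], [2]),
  (5, [21, 16, 18, 21, 19, 20, 19, 16], []), (5, [21, 19, 17, 19, 16, 18, 21, 20, 16, 22, 23], []), (5, [16, 19, 20, 17, 16, 19, 17, 16, 19, 16], []), (4, [19, 17, 20, 17, 19], []),
  (5, [19, 17, 20, 16, 19, 17, 16, 19], []), (0, [3, 2, 3], [2]), (0, [3, 2, 3], [2]), (5, [20, 19, 21, 18, 16, 18, 21, 16, 19, 16, 18, 22, 23], []),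
  (4, [21, 16, 18, 21, 19, 20, 19, 16], []), (5, [21, 19, 18, 16, 18, 19, 17, 21, 20, 16, 19, 22, 23], []), (0, [3, 2, 3], [2]), (6, [], []),
  (0, [3, 2, 3], [2]), (6, [21, 16, 18, 21, 18, 16], []), (6, [20, 16, 19, 20, 19, 16], []), (6, [16, 19, 20, 19, 16], []),
  (0, [3, 2, 3], [2]), (0, [3, 2, 3], [2]), (7, [], []), (7, [18], []),
  (6, [19, 17, 16, 19, 17, 16, 19, 17], []), (6, [18, 17], []), (6, [20, 18, 16, 19, 20, 19, 16], []), (6, [17], []),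
  (0, [2], [3]), (7, [21, 16, 18, 21, 16, 18], []), (7, [21, 16, 18, 21, 16], []), (6, [19, 16, 18, 17, 19, 21, 16, 18, 21, 19, 22, 23], []),
  (6, [21, 16, 18, 19, 21, 16, 18, 16, 19, 17, 16, 22, 23], []), (6, [19, 18, 19, 21, 16, 18, 21, 18, 16, 23], []), (6, [21, 16, 18, 21, 18, 17, 16], []), (6, [20, 18, 16, 19, 20, 19, 17, 16], []),
  (6, [20, 16, 19, 20, 19, 17, 16], []), (6, [18], []), (6, [19, 17, 19, 16, 18, 19, 17, 19, 18, 17, 22], []), (0, [3, 2, 3], [2]),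
  (6, [16, 19, 20, 17, 16, 19, 17, 16, 19, 17, 16], []), (6, [19, 18, 19, 16, 18, 17, 16, 22], []), (6, [20, 16, 19, 20, 16, 18, 16, 19, 16], []), (6, [16, 19, 20, 19, 17, 16], []),
  (6, [20, 21, 16, 18, 19, 21, 19, 16], []), (6, [16, 18, 16], []), (0, [3, 2, 3], [2]), (0, [3, 2, 3], [2])]

/-- Some options of a node. -/
def tOpt1x3 : List (ℕ × List ℕ × List ℕ) := [
  (0, [3, 2, 3], [2]), (0, [3, 2, 3], [2]), (6, [20, 19, 17, 20, 16, 19, 17, 16, 19, 22, 23], []), (6, [18, 19, 17, 16, 19, 17, 16, 19, 17], []),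
  (6, [19, 17, 16, 19, 17, 16, 19], []), (0, [3, 2, 3], [2]), (0, [3, 2, 3], [2]), (0, [3, 2, 3], [2]),
  (0, [3, 2, 3], [2]), (7, [20, 21, 16, 18, 16, 19, 17, 19, 21, 22, 23], []), (6, [19, 21, 18, 16, 18, 19, 21, 18, 16, 19], []), (6, [21, 19, 18, 16, 18, 21, 19, 18, 16, 19, 17, 22, 23], []),
  (6, [19, 21, 18, 16, 18, 21, 16, 19, 16, 18, 22], []), (6, [20, 21, 16, 18, 19, 21, 19, 17, 16], []), (6, [21, 16, 18, 19, 21, 16, 18, 16, 19, 16], []), (6, [19, 18, 19, 21, 16, 18, 21, 18, 17, 16, 22], []),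
  (7, [20, 16, 19, 20, 19, 16], []), (7, [20, 21, 16, 18, 19, 21, 19, 16], []), (7, [16, 19, 21, 17, 21, 19, 16], []), (7, [17, 20, 19, 18, 19, 18, 17, 22], []),
  (6, [19, 20, 17, 20, 16, 19, 17, 16, 19, 17, 23], []), (0, [3, 2, 3], [2]), (0, [3, 2, 3], [2]), (0, [3, 2, 3], [2]),
  (6, [18, 19, 17, 16, 19, 17, 16, 19], []), (6, [19, 17, 19, 16, 18, 19, 17, 19, 18, 22], []), (0, [3, 2, 3], [2]), (7, [16, 19, 20, 19, 16], []),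
  (6, [19, 17, 16, 19, 20, 17, 16, 19], []), (6, [17, 19, 18, 17, 16, 19, 17, 16, 19, 18], []), (6, [16, 19, 20, 17, 16, 19, 17, 16, 19, 16], []), (0, [3, 2, 3], [2]),
  (6, [21, 18, 21, 19, 20, 19, 18, 23], []), (6, [19, 18, 19, 16, 18, 16, 22], []), (6, [16, 18, 21, 16, 18, 19, 21, 18, 19], []), (7, [21, 16, 18, 19, 21, 19, 16], []),
  (6, [19, 20, 17, 21, 16, 19, 16, 18, 21, 19], []), (6, [20, 21, 16, 19, 18, 16, 18, 21, 16, 19, 22], []), (0, [3, 2, 3], [2]), (0, [3, 2, 3], [2]),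
  (0, [3, 2, 3], [2]), (0, [3, 2, 3], [2]), (0, [3, 2, 3], [2]), (0, [3, 2, 3], [2]),
  (0, [3, 2, 3], [2]), (6, [19, 17, 16, 19, 21, 16, 18, 21, 19], []), (7, [19, 17, 20, 21, 18, 21, 19, 17], []), (6, [19, 21, 18, 16, 18, 21, 18, 16, 19, 16, 22], []),
  (6, [19, 21, 18, 16, 18, 19, 21, 18, 16, 19, 17, 22, 23], []), (6, [20, 19, 21, 18, 16, 18, 17, 21, 16, 19, 16, 22, 23], []), (0, [3, 2, 3], [2]), (7, [19, 18, 19, 16, 18, 16, 22], []),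
  (7, [19, 17, 20, 17, 19], []), (0, [3, 2, 3], [2]), (0, [3, 2, 3], [2]), (6, [19, 17, 16, 19, 17, 16, 19, 18], []),
  (6, [16, 19, 16, 18, 21, 18, 16, 18, 21, 19, 22], []), (6, [16, 19, 16, 18, 17, 19, 17, 16, 19, 16], []), (0, [3, 2, 3], [2]), (7, [19, 21, 17, 19, 16, 18, 21, 20, 16, 22, 23], []),
  (0, [3, 2, 3], [2]), (7, [16, 19, 21, 17, 19, 18, 21, 16, 22], []), (6, [21, 16, 18, 21, 16], []), (6, [18, 19, 21, 18, 16, 18, 19, 21, 16, 19, 22, 23], []),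
  (6, [18, 19, 17, 16, 19, 21, 16, 18, 21, 19], []), (6, [19, 21, 18, 16, 18, 21, 16, 19, 16, 22], []), (6, [19, 17, 19, 21, 16, 19, 18, 21, 19], []), (6, [18, 21, 16, 18, 21, 17, 16], []),
  (6, [21, 16, 18, 21, 16, 18], []), (6, [21, 16, 18, 21, 17, 16], []), (6, [21, 19, 18, 16, 18, 19, 21, 16, 19, 22], []), (6, [18, 19, 17, 21, 16, 19, 16, 18, 21, 19, 23], []),
  (6, [19, 21, 18, 16, 18, 21, 20, 16, 19, 16, 22], []), (6, [21, 16, 18, 19, 21, 19, 16], []), (6, [21, 16, 18, 19, 21, 19, 17, 16], []), (6, [18, 21, 16, 18, 21, 16], []),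
  (6, [21, 16, 18, 21, 16, 18, 17], [])]

/-- A node. -/
def tNode1 : TNode := ⟨[0, 1, 159], [1, 0, 220], 12, tOpt1x0 ++ tOpt1x1 ++ tOpt1x2 ++ tOpt1x3, [2, 10, 11, 12, 13, 14, 15]⟩

/-- Some options of a node. -/
def tOpt2x0 : List (ℕ × List ℕ × List ℕ) := [
  (0, [1], [4]), (0, [0], [4]), (0, [4, 2, 4], [2]), (0, [4, 2, 4], [2]),
  (0, [4, 2, 4], [3, 2, 3]), (0, [4, 2, 4], [2]), (0, [4, 2, 4], [2]), (0, [4, 3, 4], [3]),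
  (0, [4, 2, 4], [2]), (0, [4, 2, 4], [2]), (0, [4, 2, 4], [2]), (0, [4, 2, 4], [3, 2, 3]),
  (0, [4, 3, 4], [3]), (0, [4, 3, 4], [3]), (0, [4, 2, 4], [2]), (0, [4, 2, 4], [2]),
  (0, [4, 3, 4], [3]), (0, [4, 3, 4], [3]), (0, [4, 2, 4], [3, 2, 3]), (0, [4, 2, 4], [2]),
  (0, [4, 3, 4], [3]), (0, [4, 3, 4], [3]), (0, [4, 3, 4], [3]), (0, [4, 3, 4], [3]),
  (0, [4, 2, 4], [2]), (0, [4, 3, 4], [3]), (0, [4, 2, 4], [3, 2, 3]), (0, [4, 3, 4], [3]),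
  (0, [4, 2, 4], [3, 2, 3]), (0, [4, 3, 4], [3]), (0, [4, 3, 4], [3]), (0, [4, 3, 4], [3]),
  (0, [4, 3, 4], [3]), (0, [4, 3, 4], [3]), (0, [4, 3, 4], [3]), (0, [4, 3, 4], [3]),
  (0, [4, 2, 4], [3, 2, 3]), (0, [4, 3, 4], [3]), (0, [4, 3, 4], [3]), (0, [3, 4, 3], [4, 3, 4]),
  (0, [4, 3, 4], [3]), (0, [4, 2, 4], [2]), (0, [4, 3, 4], [3]), (0, [4, 3, 4], [3]),
  (0, [4, 3, 4], [3]), (0, [3, 4, 3], [4, 3, 4]), (0, [4, 2, 4], [2]), (0, [4, 3, 4], [3]),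
  (0, [4, 3, 4], [3]), (0, [4, 3, 4], [3]), (0, [3], [4]), (0, [3, 4, 3], [4, 3, 4]),
  (0, [3, 4, 3], [4, 3, 4]), (0, [3, 4, 3], [4, 3, 4]), (0, [4, 3, 4], [3]), (0, [4, 3, 4], [3]),
  (0, [4, 2, 4], [2]), (0, [4, 3, 4], [3]), (0, [3, 4, 3], [4, 3, 4]), (0, [3, 4, 3], [4, 3, 4]),
  (0, [3, 4, 3], [4, 3, 4]), (0, [4, 2, 4], [2]), (0, [4, 2, 4], [3, 2, 3]), (0, [4, 3, 4], [3]),
  (0, [4, 3, 4], [3]), (0, [3, 4, 3], [4, 3, 4]), (0, [3, 4, 3], [4, 3, 4]), (0, [3, 4, 3], [4, 3, 4]),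
  (0, [3, 4, 3], [4, 3, 4]), (0, [3, 4, 3], [4, 3, 4]), (0, [4, 3, 4], [3]), (0, [4, 2, 4], [2]),
  (0, [4, 2, 4], [2]), (0, [3, 4, 3], [4, 3, 4]), (0, [3, 4, 3], [4, 3, 4]), (0, [3, 4, 3], [4, 3, 4]),
  (0, [4, 2, 4], [2]), (0, [4, 2, 4], [2]), (0, [4, 3, 4], [3]), (0, [3, 4, 3], [4, 3, 4])]

/-- Some options of a node. -/
def tOpt2x1 : List (ℕ × List ℕ × List ℕ) := [
  (0, [3, 4, 3], [4, 3, 4]), (0, [4, 3, 2, 3, 4], [3, 2, 3]), (0, [3, 4, 3], [4, 3, 4]), (0, [3, 4, 3], [4, 3, 4]),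
  (0, [3, 4, 3], [4, 3, 4]), (0, [3, 4, 3], [4, 3, 4]), (0, [4, 3, 4], [3]), (0, [4, 2, 4], [2]),
  (0, [3, 4, 3], [4, 3, 4]), (0, [4, 3, 2, 3, 4], [3, 2, 3]), (0, [3, 4, 3], [4, 3, 4]), (0, [4, 2, 4], [2]),
  (0, [4, 3, 4], [3]), (0, [3, 4, 3], [4, 3, 4]), (0, [3, 4, 3], [4, 3, 4]), (0, [4, 3, 2, 3, 4], [3, 2, 3]),
  (0, [4, 2, 4], [2]), (0, [3, 4, 3], [4, 3, 4]), (0, [3, 4, 3], [4, 3, 4]), (0, [3, 4, 3], [4, 3, 4]),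
  (0, [4, 2, 4], [2]), (0, [4, 2, 4], [2]), (0, [3, 4, 3], [4, 3, 4]), (0, [4, 3, 2, 3, 4], [3, 2, 3]),
  (0, [4, 2, 4], [2]), (0, [3, 4, 3], [4, 3, 4]), (0, [4, 3, 2, 3, 4], [3, 2, 3]), (0, [4, 3, 2, 3, 4], [3, 2, 3]),
  (0, [4, 2, 4], [2]), (0, [4, 2, 4], [2]), (0, [3, 4, 3], [4, 3, 4]), (0, [4, 2, 4], [2]),
  (0, [4, 3, 2, 3, 4], [3, 2, 3]), (0, [4, 3, 2, 3, 4], [3, 2, 3]), (0, [4, 2, 4], [2]), (0, [4, 2, 4], [2]),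
  (0, [4, 3, 2, 3, 4], [3, 2, 3]), (0, [4, 2, 4], [2]), (0, [4, 2, 4], [2]), (0, [4, 2, 4], [2]),
  (0, [4, 2, 4], [2]), (0, [4, 2, 4], [2]), (0, [4, 2, 4], [2]), (0, [4, 2, 4], [2]),
  (0, [4, 2, 4], [2]), (0, [4, 3, 2, 3, 4], [3, 2, 3]), (0, [4, 2, 4], [2]), (0, [4, 2, 4], [2]),
  (0, [4, 2, 4], [2]), (0, [4, 2, 4], [2]), (0, [4, 2, 4], [2]), (0, [4, 3, 2, 3, 4], [3, 2, 3]),
  (0, [4, 2, 4], [2]), (0, [4, 2, 4], [2]), (0, [4, 2, 4], [2]), (0, [4, 2, 4], [2]),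
  (0, [4, 2, 4], [2]), (0, [4, 2, 4], [2]), (0, [4, 2, 4], [2]), (0, [4, 3, 2, 3, 4], [3, 2, 3]),
  (0, [4, 2, 4], [2]), (0, [4, 2, 4], [2]), (0, [4, 2, 4], [2]), (0, [4, 2, 4], [2]),
  (0, [4, 2, 4], [2]), (0, [4, 2, 4], [2]), (0, [4, 2, 4], [2]), (0, [4, 2, 4], [2]),
  (0, [4, 2, 4], [2]), (0, [4, 2, 4], [2]), (0, [4, 2, 4], [2]), (0, [4, 2, 4], [2]),
  (0, [4, 2, 4], [2]), (0, [4, 2, 4], [2]), (0, [4, 2, 4], [2]), (0, [4, 2, 4], [2]),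
  (0, [4, 2, 4], [2]), (0, [4, 2, 4], [2]), (0, [4, 2, 4], [2]), (0, [4, 2, 4], [2])]

/-- Some options of a node. -/
def tOpt2x2 : List (ℕ × List ℕ × List ℕ) := [
  (0, [4, 2, 4], [2]), (0, [4, 2, 4], [2]), (0, [4, 2, 4], [2]), (0, [4, 2, 4], [2]),
  (0, [4, 2, 4], [2]), (0, [4, 2, 4], [2]), (0, [4, 2, 4], [2]), (0, [4, 2, 4], [2]),
  (0, [4, 2, 4], [2]), (0, [4, 2, 4], [2]), (0, [4, 2, 4], [2]), (0, [4, 2, 4], [2]),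
  (0, [4, 2, 4], [2]), (0, [4, 2, 4], [2]), (0, [4, 3, 4], [3]), (0, [4, 3, 4], [3]),
  (0, [4, 3, 4], [3]), (0, [4, 3, 4], [3]), (0, [4, 3, 4], [3]), (0, [4, 2, 4], [2]),
  (0, [4, 3, 4], [3]), (0, [4, 3, 4], [3]), (0, [4, 3, 4], [3]), (0, [4, 3, 4], [3]),
  (0, [4, 2, 4], [2]), (0, [4, 2, 4], [2]), (0, [4, 3, 4], [3]), (0, [4, 3, 4], [3]),
  (0, [4, 3, 4], [3]), (0, [4, 3, 2, 3, 4], [3, 2, 3]), (0, [4, 2, 4], [2]), (0, [4, 2, 4], [2]),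
  (0, [4, 3, 2, 3, 4], [3, 2, 3]), (0, [4, 3, 2, 3, 4], [3, 2, 3]), (0, [4, 3, 2, 3, 4], [3, 2, 3]), (0, [4, 2, 4], [2]),
  (0, [4, 3, 2, 3, 4], [3, 2, 3]), (0, [4, 3, 2, 3, 4], [3, 2, 3]), (0, [4, 3, 2, 3, 4], [3, 2, 3]), (0, [4, 3, 2, 3, 4], [3, 2, 3]),
  (0, [4, 3, 2, 3, 4], [3, 2, 3]), (0, [3, 2, 3], [4]), (0, [4, 2, 4], [2]), (0, [4, 3, 2, 3, 4], [3, 2, 3]),
  (0, [4, 3, 2, 3, 4], [3, 2, 3]), (0, [4, 3, 2, 3, 4], [3, 2, 3]), (0, [4, 2, 4], [2]), (1, [18, 21, 18, 16, 18, 19, 21, 19, 18, 16, 22, 23], []),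
  (0, [4, 2, 4], [2]), (1, [21, 17, 21, 17, 23], []), (1, [20, 21, 16, 18, 17, 21, 20, 17, 16, 23], []), (0, [4, 2, 3, 2, 4], [2, 3, 2]),
  (0, [4, 2, 4], [2]), (0, [4, 2, 4], [2]), (0, [3, 4, 2, 4, 3], [4, 3, 2, 3, 4]), (0, [4, 3, 4], [3]),
  (1, [19, 18, 21, 18, 16, 18, 21, 18, 16, 19, 16, 23], []), (1, [20, 21, 16, 18, 21, 20, 16], []), (0, [4, 3, 4], [3]), (0, [4, 3, 4], [3]),
  (0, [2], [4]), (0, [3, 4, 2, 4, 3], [4, 3, 2, 3, 4]), (0, [4, 3, 4], [3]), (1, [19, 16, 18, 17, 19, 18, 17, 16, 19], []),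
  (1, [21, 17, 21, 20, 17, 20, 17, 23], []), (0, [4, 3, 4], [3]), (0, [4, 3, 4], [3]), (1, [20, 19, 21, 19, 18, 16, 18, 21, 17, 20, 16, 22, 23], []),
  (0, [4, 3, 4], [3]), (0, [4, 3, 4], [3]), (1, [19, 21, 18, 16, 18, 21, 18, 16, 18, 19, 16, 22, 23], []), (0, [4, 2, 4], [2]),
  (0, [4, 2, 3, 2, 4], [2, 3, 2]), (0, [4, 2, 3, 2, 4], [2, 3, 2]), (0, [4, 2, 3, 2, 4], [2, 3, 2]), (0, [4, 2, 3, 2, 4], [2, 3, 2]),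
  (1, [21, 18, 19, 21, 19, 18, 22], []), (0, [4, 2, 3, 2, 4], [2, 3, 2]), (0, [4, 2, 4], [2]), (0, [4, 2, 4], [2])]

/-- Some options of a node. -/
def tOpt2x3 : List (ℕ × List ℕ × List ℕ) := [
  (0, [4, 2, 4], [2]), (0, [4, 2, 4], [2]), (1, [20, 19, 21, 18, 16, 19, 16, 18, 21, 19, 20, 22, 23], []), (0, [4, 3, 4], [3]),
  (0, [4, 3, 4], [3]), (0, [4, 2, 4], [2]), (0, [4, 2, 4], [2]), (0, [4, 2, 4], [2]),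
  (0, [4, 2, 4], [2]), (0, [4, 3, 2, 3, 4], [3, 2, 3]), (1, [16, 19, 18, 21, 18, 16, 18, 21, 18, 16, 19, 23], []), (0, [4, 3, 4], [3]),
  (0, [4, 3, 4], [3]), (0, [4, 3, 4], [3]), (0, [4, 3, 4], [3]), (1, [], []),
  (0, [3, 4, 2, 4, 3], [4, 3, 2, 3, 4]), (0, [3, 4, 2, 4, 3], [4, 3, 2, 3, 4]), (0, [4, 3, 2, 3, 4], [3, 2, 3]), (0, [4, 3, 2, 3, 4], [3, 2, 3]),
  (0, [4, 3, 4], [3]), (0, [4, 2, 4], [2]), (0, [4, 2, 4], [2]), (0, [4, 2, 4], [2]),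
  (1, [19, 18, 21, 18, 16, 19, 16, 18, 21, 18, 19, 22, 23], []), (0, [4, 3, 4], [3]), (0, [4, 2, 4], [2]), (0, [4, 3, 4], [3]),
  (0, [4, 2, 3, 2, 4], [2, 3, 2]), (0, [4, 2, 3, 2, 4], [2, 3, 2]), (0, [4, 2, 3, 2, 4], [2, 3, 2]), (0, [4, 2, 4], [2]),
  (0, [4, 2, 3, 2, 4], [2, 3, 2]), (0, [4, 2, 3, 2, 4], [2, 3, 2]), (0, [4, 2, 3, 2, 4], [2, 3, 2]), (0, [4, 3, 4], [3]),
  (1, [20, 19, 17, 16, 19, 17, 16, 19, 20, 22, 23], []), (0, [4, 2, 3, 2, 4], [2, 3, 2]), (0, [4, 2, 4], [2]), (0, [4, 2, 4], [2]),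
  (0, [4, 2, 4], [2]), (0, [4, 2, 4], [2]), (0, [4, 2, 4], [2]), (0, [4, 2, 4], [2]),
  (0, [4, 2, 4], [2]), (0, [4, 2, 3, 2, 4], [2, 3, 2]), (0, [4, 3, 2, 3, 4], [3, 2, 3]), (0, [4, 3, 4], [3]),
  (0, [4, 3, 4], [3]), (1, [20, 19, 17, 16, 19, 17, 16, 19, 17, 20], []), (0, [4, 2, 4], [2]), (0, [4, 3, 2, 3, 4], [3, 2, 3]),
  (0, [4, 3, 2, 3, 4], [3, 2, 3]), (0, [4, 2, 4], [2]), (0, [4, 2, 4], [2]), (0, [4, 2, 3, 2, 4], [2, 3, 2]),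
  (0, [4, 2, 3, 2, 4], [2, 3, 2]), (0, [4, 2, 3, 2, 4], [2, 3, 2]), (0, [4, 2, 4], [2]), (0, [4, 3, 2, 3, 4], [3, 2, 3]),
  (0, [4, 2, 4], [2]), (0, [4, 3, 2, 3, 4], [3, 2, 3]), (0, [4, 2, 3, 2, 4], [2, 3, 2]), (0, [4, 2, 3, 2, 4], [2, 3, 2]),
  (0, [4, 2, 3, 2, 4], [2, 3, 2]), (0, [4, 2, 3, 2, 4], [2, 3, 2]), (0, [4, 2, 3, 2, 4], [2, 3, 2]), (0, [4, 2, 3, 2, 4], [2, 3, 2]),
  (0, [4, 2, 3, 2, 4], [2, 3, 2]), (0, [4, 2, 3, 2, 4], [2, 3, 2]), (0, [4, 2, 3, 2, 4], [2, 3, 2]), (0, [4, 2, 3, 2, 4], [2, 3, 2]),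
  (0, [4, 2, 3, 2, 4], [2, 3, 2]), (0, [4, 2, 3, 2, 4], [2, 3, 2]), (0, [4, 2, 3, 2, 4], [2, 3, 2]), (0, [4, 2, 3, 2, 4], [2, 3, 2]),
  (0, [4, 2, 3, 2, 4], [2, 3, 2])]

/-- A node. -/
def tNode2 : TNode := ⟨[0, 1, 159, 12], [1, 0, 220, 50], 255, tOpt2x0 ++ tOpt2x1 ++ tOpt2x2 ++ tOpt2x3, [3]⟩

/-- Some options of a node. -/
def tOpt3x0 : List (ℕ × List ℕ × List ℕ) := [
  (0, [1], [5]), (0, [0], [5]), (0, [5, 2, 5], [2]), (0, [5, 2, 5], [2]),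
  (0, [5, 2, 5], [3, 2, 3]), (0, [5, 2, 5], [2]), (0, [5, 2, 5], [2]), (0, [5, 3, 5], [3]),
  (0, [5, 2, 5], [2]), (0, [5, 2, 5], [2]), (0, [5, 2, 5], [2]), (0, [5, 2, 5], [3, 2, 3]),
  (0, [5, 3, 5], [3]), (0, [5, 3, 5], [3]), (0, [5, 2, 5], [2]), (0, [5, 2, 5], [2]),
  (0, [5, 3, 5], [3]), (0, [5, 3, 5], [3]), (0, [5, 2, 5], [3, 2, 3]), (0, [5, 2, 5], [2]),
  (0, [5, 3, 5], [3]), (0, [5, 3, 5], [3]), (0, [5, 3, 5], [3]), (0, [5, 3, 5], [3]),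
  (0, [5, 2, 5], [2]), (0, [5, 3, 5], [3]), (0, [5, 2, 5], [3, 2, 3]), (0, [5, 3, 5], [3]),
  (0, [5, 2, 5], [3, 2, 3]), (0, [5, 3, 5], [3]), (0, [5, 3, 5], [3]), (0, [5, 3, 5], [3]),
  (0, [5, 3, 5], [3]), (0, [5, 3, 5], [3]), (0, [5, 3, 5], [3]), (0, [5, 3, 5], [3]),
  (0, [5, 2, 5], [3, 2, 3]), (0, [5, 3, 5], [3]), (0, [4, 3, 4], [5]), (0, [3, 5, 3], [5, 3, 5]),
  (0, [5, 3, 5], [3]), (0, [5, 2, 5], [2]), (0, [5, 3, 5], [3]), (0, [5, 3, 5], [3]),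
  (0, [5, 3, 5], [3]), (0, [3, 5, 3], [5, 3, 5]), (0, [5, 2, 5], [2]), (0, [5, 3, 5], [3]),
  (0, [5, 3, 5], [3]), (0, [5, 3, 5], [3]), (0, [3], [5]), (0, [3, 5, 3], [5, 3, 5]),
  (0, [3, 5, 3], [5, 3, 5]), (0, [3, 5, 3], [5, 3, 5]), (0, [5, 3, 5], [3]), (0, [5, 3, 5], [3]),
  (0, [5, 2, 5], [2]), (0, [5, 3, 5], [3]), (0, [3, 5, 3], [5, 3, 5]), (0, [3, 5, 3], [5, 3, 5]),
  (0, [3, 5, 3], [5, 3, 5]), (0, [5, 2, 5], [2]), (0, [5, 2, 5], [3, 2, 3]), (0, [5, 3, 5], [3]),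
  (0, [5, 3, 5], [3]), (0, [3, 5, 3], [5, 3, 5]), (0, [5, 4, 5], [4]), (0, [3, 5, 3], [5, 3, 5]),
  (0, [3, 5, 3], [5, 3, 5]), (0, [3, 5, 3], [5, 3, 5]), (0, [5, 3, 5], [3]), (0, [5, 2, 5], [2]),
  (0, [5, 2, 5], [2]), (0, [3, 5, 3], [5, 3, 5]), (0, [3, 5, 3], [5, 3, 5]), (0, [3, 5, 3], [5, 3, 5]),
  (0, [5, 2, 5], [2]), (0, [5, 2, 5], [2]), (0, [5, 3, 5], [3]), (0, [3, 5, 3], [5, 3, 5])]

/-- Some options of a node. -/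
def tOpt3x1 : List (ℕ × List ℕ × List ℕ) := [
  (0, [3, 5, 3], [5, 3, 5]), (0, [5, 4, 5], [4]), (0, [3, 5, 3], [5, 3, 5]), (0, [5, 4, 5], [4]),
  (0, [3, 5, 3], [5, 3, 5]), (0, [3, 5, 3], [5, 3, 5]), (0, [5, 3, 5], [3]), (0, [5, 2, 5], [2]),
  (0, [5, 4, 5], [4]), (0, [5, 4, 5], [4]), (0, [5, 4, 5], [4]), (0, [5, 2, 5], [2]),
  (0, [5, 3, 5], [3]), (0, [5, 4, 5], [4]), (0, [3, 5, 3], [5, 3, 5]), (0, [4, 5, 4], [5, 4, 5]),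
  (0, [5, 2, 5], [2]), (0, [3, 5, 3], [5, 3, 5]), (0, [5, 4, 5], [4]), (0, [5, 4, 5], [4]),
  (0, [5, 2, 5], [2]), (0, [5, 2, 5], [2]), (0, [3, 5, 3], [5, 3, 5]), (0, [4, 5, 4], [5, 4, 5]),
  (0, [5, 2, 5], [2]), (0, [5, 4, 5], [4]), (0, [4, 5, 4], [5, 4, 5]), (0, [4, 5, 4], [5, 4, 5]),
  (0, [5, 2, 5], [2]), (0, [5, 2, 5], [2]), (0, [3, 5, 3], [5, 3, 5]), (0, [5, 2, 5], [2]),
  (0, [4, 5, 4], [5, 4, 5]), (0, [4, 5, 4], [5, 4, 5]), (0, [5, 2, 5], [2]), (0, [5, 2, 5], [2]),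
  (0, [4, 5, 4], [5, 4, 5]), (0, [5, 2, 5], [2]), (0, [5, 2, 5], [2]), (0, [5, 2, 5], [2]),
  (0, [5, 2, 5], [2]), (0, [5, 2, 5], [2]), (0, [5, 2, 5], [2]), (0, [5, 2, 5], [2]),
  (0, [5, 2, 5], [2]), (0, [4, 5, 4], [5, 4, 5]), (0, [5, 2, 5], [2]), (0, [5, 2, 5], [2]),
  (0, [5, 2, 5], [2]), (0, [5, 2, 5], [2]), (0, [5, 2, 5], [2]), (0, [5, 4, 5], [4]),
  (0, [5, 2, 5], [2]), (0, [5, 2, 5], [2]), (0, [5, 2, 5], [2]), (0, [5, 2, 5], [2]),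
  (0, [5, 2, 5], [2]), (0, [5, 2, 5], [2]), (0, [5, 2, 5], [2]), (0, [5, 4, 5], [4]),
  (0, [5, 2, 5], [2]), (0, [5, 2, 5], [2]), (0, [5, 2, 5], [2]), (0, [5, 2, 5], [2]),
  (0, [5, 2, 5], [2]), (0, [5, 2, 5], [2]), (0, [5, 2, 5], [2]), (0, [5, 2, 5], [2]),
  (0, [5, 2, 5], [2]), (0, [5, 2, 5], [2]), (0, [5, 2, 5], [2]), (0, [5, 2, 5], [2]),
  (0, [5, 2, 5], [2]), (0, [5, 2, 5], [2]), (0, [5, 2, 5], [2]), (0, [5, 2, 5], [2]),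
  (0, [5, 2, 5], [2]), (0, [5, 2, 5], [2]), (0, [5, 2, 5], [2]), (0, [5, 2, 5], [2])]

/-- Some options of a node. -/
def tOpt3x2 : List (ℕ × List ℕ × List ℕ) := [
  (0, [5, 2, 5], [2]), (0, [5, 2, 5], [2]), (0, [5, 2, 5], [2]), (0, [5, 2, 5], [2]),
  (0, [5, 2, 5], [2]), (0, [5, 2, 5], [2]), (0, [5, 2, 5], [2]), (0, [5, 2, 5], [2]),
  (0, [5, 2, 5], [2]), (0, [5, 2, 5], [2]), (0, [5, 2, 5], [2]), (0, [5, 2, 5], [2]),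
  (0, [5, 2, 5], [2]), (0, [5, 2, 5], [2]), (0, [5, 3, 5], [3]), (0, [5, 3, 5], [3]),
  (0, [5, 3, 5], [3]), (0, [5, 3, 5], [3]), (0, [5, 3, 5], [3]), (0, [5, 2, 5], [2]),
  (0, [5, 3, 5], [3]), (0, [5, 3, 5], [3]), (0, [5, 3, 5], [3]), (0, [5, 3, 5], [3]),
  (0, [5, 2, 5], [2]), (0, [5, 2, 5], [2]), (0, [5, 3, 5], [3]), (0, [5, 3, 5], [3]),
  (0, [5, 3, 5], [3]), (0, [4, 5, 4], [5, 4, 5]), (0, [5, 2, 5], [2]), (0, [5, 2, 5], [2]),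
  (0, [5, 4, 5], [4]), (0, [5, 4, 5], [4]), (0, [4, 5, 4], [5, 4, 5]), (0, [5, 2, 5], [2]),
  (0, [4, 5, 4], [5, 4, 5]), (0, [5, 4, 5], [4]), (0, [4, 5, 4], [5, 4, 5]), (0, [5, 4, 5], [4]),
  (0, [4, 5, 4], [5, 4, 5]), (0, [3, 2, 3], [5]), (0, [5, 2, 5], [2]), (0, [4, 5, 4], [5, 4, 5]),
  (0, [4, 5, 4], [5, 4, 5]), (0, [3, 5, 3], [4, 2, 4]), (0, [5, 2, 5], [2]), (0, [5, 3, 5], [4, 3, 4]),
  (0, [5, 2, 5], [2]), (0, [5, 3, 5], [4, 3, 4]), (0, [5, 3, 5], [4, 3, 4]), (0, [4, 5, 4], [5, 4, 5]),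
  (0, [5, 2, 5], [2]), (0, [5, 2, 5], [2]), (0, [5, 4, 2, 4, 5], [4, 2, 4]), (0, [5, 3, 5], [3]),
  (0, [5, 4, 2, 4, 5], [4, 2, 4]), (0, [5, 3, 5], [4, 3, 4]), (0, [5, 3, 5], [3]), (0, [5, 3, 5], [3]),
  (0, [2], [5]), (0, [5, 4, 2, 4, 5], [4, 2, 4]), (0, [5, 3, 5], [3]), (1, [20, 21, 18, 17, 21, 19, 20, 19, 17, 22], []),
  (0, [5, 2, 5], [4, 2, 4]), (0, [5, 3, 5], [3]), (0, [5, 2, 5], [4, 2, 4]), (0, [5, 3, 5], [4, 3, 4]),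
  (0, [5, 3, 5], [3]), (0, [5, 3, 5], [3]), (0, [5, 4, 2, 4, 5], [4, 2, 4]), (0, [5, 2, 5], [2]),
  (0, [5, 4, 2, 4, 5], [4, 2, 4]), (0, [5, 4, 5], [4]), (0, [5, 4, 5], [4]), (0, [4, 5, 4], [5, 4, 5]),
  (0, [5, 3, 5], [4, 3, 4]), (0, [4, 5, 4], [5, 4, 5]), (0, [5, 2, 5], [2]), (0, [5, 2, 5], [2])]

/-- Some options of a node. -/
def tOpt3x3 : List (ℕ × List ℕ × List ℕ) := [
  (0, [5, 2, 5], [2]), (0, [5, 2, 5], [2]), (1, [20, 19, 20, 19], []), (0, [5, 3, 5], [3]),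
  (0, [5, 3, 5], [3]), (0, [5, 2, 5], [2]), (0, [5, 2, 5], [2]), (0, [5, 2, 5], [2]),
  (0, [5, 2, 5], [2]), (0, [5, 3, 2, 3, 5], [3, 2, 3]), (0, [5, 4, 2, 4, 5], [4, 2, 4]), (0, [5, 3, 5], [3]),
  (0, [5, 3, 5], [3]), (0, [5, 2, 5], [4, 2, 4]), (0, [5, 3, 5], [3]), (0, [4], [5]),
  (0, [5, 4, 2, 4, 5], [4, 2, 4]), (0, [5, 4, 2, 4, 5], [4, 2, 4]), (0, [5, 3, 2, 3, 5], [3, 2, 3]), (0, [5, 3, 2, 3, 5], [3, 2, 3]),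
  (0, [5, 3, 5], [3]), (0, [5, 2, 5], [2]), (0, [5, 2, 5], [2]), (0, [5, 2, 5], [2]),
  (1, [], []), (0, [5, 3, 5], [3]), (0, [5, 2, 5], [2]), (0, [5, 3, 5], [3]),
  (0, [5, 2, 3, 2, 5], [2, 3, 2]), (0, [5, 4, 2, 4, 5], [4, 2, 4]), (0, [5, 2, 3, 2, 5], [2, 3, 2]), (0, [5, 2, 5], [2]),
  (0, [4, 5, 4], [5, 4, 5]), (0, [5, 4, 5], [4]), (0, [5, 4, 5], [4]), (0, [5, 3, 5], [3]),
  (1, [20, 21, 18, 17, 21, 20, 17, 22], []), (0, [5, 4, 2, 4, 5], [4, 2, 4]), (0, [5, 2, 5], [2]), (0, [5, 2, 5], [2]),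
  (0, [5, 2, 5], [2]), (0, [4, 2, 4], [5]), (0, [5, 2, 5], [2]), (0, [5, 2, 5], [2]),
  (0, [5, 2, 5], [2]), (0, [5, 2, 3, 2, 5], [2, 3, 2]), (0, [5, 3, 2, 3, 5], [3, 2, 3]), (0, [5, 3, 5], [3]),
  (0, [5, 3, 5], [3]), (0, [5, 4, 2, 4, 5], [4, 2, 4]), (0, [5, 2, 5], [2]), (0, [5, 3, 2, 3, 5], [3, 2, 3]),
  (0, [5, 3, 2, 3, 5], [3, 2, 3]), (0, [5, 2, 5], [2]), (0, [5, 2, 5], [2]), (0, [5, 2, 3, 2, 5], [2, 3, 2]),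
  (0, [5, 4, 2, 4, 5], [4, 2, 4]), (0, [5, 2, 3, 2, 5], [2, 3, 2]), (0, [5, 2, 5], [2]), (0, [5, 3, 2, 3, 5], [3, 2, 3]),
  (0, [5, 2, 5], [2]), (0, [5, 3, 2, 3, 5], [3, 2, 3]), (0, [4, 5, 4], [5, 4, 5]), (0, [5, 4, 2, 4, 5], [4, 2, 4]),
  (0, [5, 2, 3, 2, 5], [2, 3, 2]), (0, [5, 4, 2, 4, 5], [4, 2, 4]), (0, [5, 2, 3, 2, 5], [2, 3, 2]), (0, [5, 2, 5], [4, 2, 4]),
  (0, [4, 5, 4], [5, 4, 5]), (0, [5, 2, 5], [4, 2, 4]), (0, [5, 4, 2, 4, 5], [4, 2, 4]), (0, [5, 2, 3, 2, 5], [2, 3, 2]),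
  (0, [5, 4, 2, 4, 5], [4, 2, 4]), (0, [4, 5, 4], [5, 4, 5]), (0, [5, 2, 5], [4, 2, 4]), (0, [4, 5, 4], [5, 4, 5]),
  (0, [5, 2, 5], [4, 2, 4])]

/-- A node. -/
def tNode3 : TNode := ⟨[0, 1, 159, 12, 255], [1, 0, 220, 50, 255], 268, tOpt3x0 ++ tOpt3x1 ++ tOpt3x2 ++ tOpt3x3, [4]⟩

/-- Some options of a node. -/
def tOpt4x0 : List (ℕ × List ℕ × List ℕ) := [
  (0, [1], [6]), (0, [0], [6]), (0, [6, 3, 6], [3]), (0, [4, 6, 3, 6, 4], [6, 3, 6]),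
  (0, [6, 2, 6], [2]), (0, [6, 3, 6], [3]), (0, [4, 6, 3, 6, 4], [6, 3, 6]), (0, [6, 2, 6], [2]),
  (0, [6, 3, 6], [3]), (0, [6, 4, 6], [4]), (0, [6, 4, 6], [4]), (0, [6, 2, 6], [2]),
  (0, [6, 2, 6], [2]), (0, [6, 2, 6], [2]), (0, [6, 4, 6], [4]), (0, [6, 4, 6], [4]),
  (0, [6, 2, 6], [2]), (0, [6, 2, 6], [2]), (0, [6, 2, 6], [2]), (0, [6, 4, 6], [2, 4, 2]),
  (0, [6, 2, 6], [2]), (0, [6, 2, 6], [2]), (0, [6, 2, 6], [2]), (0, [6, 2, 6], [2]),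
  (0, [6, 4, 6], [2, 4, 2]), (0, [6, 2, 6], [2]), (0, [6, 2, 6], [2]), (0, [6, 2, 6], [2]),
  (0, [6, 2, 6], [2]), (0, [6, 2, 6], [2]), (0, [6, 2, 6], [2]), (0, [6, 2, 6], [2]),
  (0, [6, 2, 6], [2]), (0, [6, 2, 6], [2]), (0, [6, 2, 6], [2]), (0, [6, 2, 6], [2]),
  (0, [6, 2, 6], [2]), (0, [6, 2, 6], [2]), (0, [6, 2, 6], [2]), (0, [6, 2, 6], [2]),
  (0, [6, 2, 6], [2]), (0, [6, 3, 6], [3]), (0, [6, 2, 6], [2]), (0, [6, 2, 6], [2]),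
  (0, [6, 2, 6], [2]), (0, [6, 2, 6], [2]), (0, [6, 3, 6], [3]), (0, [6, 2, 6], [2]),
  (0, [6, 2, 6], [2]), (0, [6, 2, 6], [2]), (0, [3], [6]), (0, [6, 2, 6], [2]),
  (0, [6, 2, 6], [2]), (0, [6, 2, 6], [2]), (0, [6, 2, 6], [2]), (0, [6, 2, 6], [2]),
  (0, [6, 3, 6], [3]), (0, [6, 2, 6], [2]), (0, [6, 2, 6], [2]), (0, [6, 2, 6], [2]),
  (0, [6, 2, 6], [2]), (0, [6, 3, 6], [3]), (0, [6, 2, 6], [2]), (0, [6, 2, 6], [2]),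
  (0, [6, 2, 6], [2]), (0, [6, 2, 6], [2]), (0, [6, 2, 6], [2]), (0, [6, 2, 6], [2]),
  (0, [6, 2, 6], [2]), (0, [6, 2, 6], [2]), (0, [6, 2, 6], [2]), (0, [6, 3, 6], [3]),
  (0, [6, 3, 6], [3]), (0, [6, 2, 6], [2]), (0, [6, 2, 6], [2]), (0, [6, 2, 6], [2]),
  (0, [6, 3, 6], [3]), (0, [6, 3, 6], [3]), (0, [6, 2, 6], [2]), (0, [6, 2, 6], [2])]

/-- Some options of a node. -/
def tOpt4x1 : List (ℕ × List ℕ × List ℕ) := [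
  (0, [6, 2, 6], [2]), (0, [6, 2, 6], [2]), (0, [6, 2, 6], [2]), (0, [6, 2, 6], [2]),
  (0, [6, 2, 6], [2]), (0, [6, 2, 6], [2]), (0, [6, 2, 6], [2]), (0, [6, 3, 6], [3]),
  (0, [6, 2, 6], [2]), (0, [6, 2, 6], [2]), (0, [6, 2, 6], [2]), (0, [6, 3, 6], [3]),
  (0, [6, 2, 6], [2]), (0, [6, 2, 6], [2]), (0, [6, 2, 6], [2]), (0, [6, 2, 6], [2]),
  (0, [6, 4, 6], [4]), (0, [6, 2, 6], [2]), (0, [6, 2, 6], [2]), (0, [6, 2, 6], [2]),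
  (0, [6, 3, 6], [3]), (0, [6, 4, 6], [4]), (0, [6, 2, 6], [2]), (0, [6, 2, 6], [2]),
  (0, [6, 3, 6], [3]), (0, [6, 2, 6], [2]), (0, [6, 2, 6], [2]), (0, [6, 2, 6], [2]),
  (0, [3, 6, 3], [6, 3, 6]), (0, [6, 4, 6], [4]), (0, [6, 2, 6], [2]), (0, [3, 6, 3], [6, 3, 6]),
  (0, [6, 2, 6], [2]), (0, [6, 2, 6], [2]), (0, [6, 4, 6], [4]), (0, [4, 6, 3, 6, 4], [6, 3, 6]),
  (0, [6, 2, 6], [2]), (0, [3, 6, 3], [6, 3, 6]), (0, [3, 6, 3], [6, 3, 6]), (0, [5, 6, 3, 6, 5], [6, 3, 6]),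
  (0, [6, 4, 6], [2, 4, 2]), (0, [6, 4, 6], [2, 4, 2]), (0, [3, 6, 3], [6, 3, 6]), (0, [3, 6, 3], [6, 3, 6]),
  (0, [6, 5, 6], [5]), (0, [6, 2, 6], [2]), (0, [5, 6, 3, 6, 5], [6, 3, 6]), (0, [5, 6, 3, 6, 5], [6, 3, 6]),
  (0, [6, 4, 6], [4]), (0, [6, 4, 6], [4]), (0, [6, 4, 6], [4]), (0, [6, 2, 6], [2]),
  (0, [6, 5, 6], [5]), (0, [6, 5, 6], [5]), (0, [5, 6, 3, 6, 5], [6, 3, 6]), (0, [5, 6, 3, 6, 5], [6, 3, 6]),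
  (0, [6, 5, 6], [5]), (0, [5, 6, 3, 6, 5], [6, 3, 6]), (0, [6, 4, 6], [4]), (0, [6, 2, 6], [2]),
  (1, [], []), (0, [6, 5, 6], [2, 5, 2]), (0, [6, 5, 6], [5]), (0, [5, 6, 3, 6, 5], [6, 3, 6]),
  (0, [5, 6, 3, 6, 5], [6, 3, 6]), (0, [3, 6, 3], [6, 3, 6]), (0, [3, 6, 3], [6, 3, 6]), (0, [3, 6, 3], [6, 3, 6]),
  (0, [6, 5, 6], [5]), (0, [2, 3, 6, 4, 6, 3, 2], [3, 6, 3, 4, 3, 6, 3]), (0, [3, 6, 3], [6, 3, 6]), (0, [6, 5, 6], [5]),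
  (0, [6, 5, 6], [5]), (0, [3, 6, 3], [6, 3, 6]), (0, [6, 5, 6], [5]), (0, [6, 5, 6], [5]),
  (0, [6, 5, 6], [2, 5, 2]), (0, [6, 5, 6], [5]), (0, [3, 6, 3], [6, 3, 6]), (0, [3, 6, 3], [6, 3, 6])]

/-- Some options of a node. -/
def tOpt4x2 : List (ℕ × List ℕ × List ℕ) := [
  (0, [3, 6, 3], [6, 3, 6]), (0, [3, 6, 3], [6, 3, 6]), (0, [3, 6, 3], [6, 3, 6]), (0, [6, 5, 6], [5]),
  (0, [3, 6, 3], [6, 3, 6]), (0, [3, 6, 3], [6, 3, 6]), (0, [6, 5, 6], [5]), (0, [6, 4, 6], [4]),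
  (0, [3, 6, 3], [6, 3, 6]), (0, [3, 6, 3], [6, 3, 6]), (0, [6, 4, 6], [4]), (0, [6, 4, 6], [4]),
  (0, [6, 4, 6], [4]), (0, [6, 3, 6], [3]), (0, [6, 2, 6], [2]), (0, [6, 2, 6], [2]),
  (0, [6, 2, 6], [2]), (0, [6, 2, 6], [2]), (0, [6, 2, 6], [2]), (0, [6, 3, 6], [3]),
  (0, [6, 2, 6], [2]), (0, [6, 2, 6], [2]), (0, [6, 2, 6], [2]), (0, [6, 2, 6], [2]),
  (0, [6, 3, 6], [2, 3, 2]), (0, [6, 3, 6], [3]), (0, [6, 2, 6], [2]), (0, [6, 2, 6], [2]),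
  (0, [6, 2, 6], [2]), (0, [6, 2, 6], [2]), (0, [6, 3, 6], [2, 3, 2]), (0, [6, 3, 6], [3]),
  (0, [6, 2, 6], [2]), (0, [6, 2, 6], [2]), (0, [6, 2, 6], [2]), (0, [6, 3, 6], [2, 3, 2]),
  (0, [6, 2, 6], [2]), (0, [6, 2, 6], [2]), (0, [6, 2, 6], [2]), (0, [6, 2, 6], [2]),
  (0, [6, 2, 6], [2]), (0, [3, 2, 3], [6]), (0, [6, 3, 6], [2, 3, 2]), (0, [6, 2, 6], [2]),
  (0, [6, 2, 6], [2]), (0, [6, 2, 6], [2]), (0, [3, 6, 3], [6, 3, 6]), (0, [6, 2, 6], [2]),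
  (0, [6, 3, 6], [2, 3, 2]), (0, [6, 2, 6], [2]), (0, [6, 2, 6], [2]), (0, [6, 2, 6], [2]),
  (0, [6, 4, 6], [4]), (0, [3, 6, 3], [6, 3, 6]), (0, [6, 2, 6], [2]), (0, [6, 2, 6], [2]),
  (0, [6, 2, 6], [2]), (0, [6, 2, 6], [2]), (0, [6, 2, 6], [2]), (0, [6, 2, 6], [2]),
  (0, [2], [6]), (0, [6, 2, 6], [2]), (0, [6, 2, 6], [2]), (0, [6, 2, 6], [2]),
  (0, [6, 2, 6], [2]), (0, [6, 2, 6], [2]), (0, [6, 2, 6], [2]), (0, [6, 2, 6], [2]),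
  (0, [6, 2, 6], [2]), (0, [6, 2, 6], [2]), (0, [6, 2, 6], [2]), (0, [5, 2, 5], [6]),
  (0, [6, 2, 6], [2]), (0, [6, 2, 6], [2]), (0, [6, 2, 6], [2]), (0, [6, 2, 6], [2]),
  (0, [6, 2, 6], [2]), (0, [6, 2, 6], [2]), (0, [6, 4, 6], [4]), (0, [6, 5, 6], [5])]

/-- Some options of a node. -/
def tOpt4x3 : List (ℕ × List ℕ × List ℕ) := [
  (0, [3, 6, 3], [6, 3, 6]), (0, [6, 3, 6], [3]), (0, [6, 2, 6], [2]), (0, [6, 2, 6], [2]),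
  (0, [6, 2, 6], [2]), (0, [6, 5, 6], [5]), (0, [6, 3, 6], [2, 3, 2]), (0, [6, 4, 6], [4]),
  (0, [3, 6, 3], [6, 3, 6]), (0, [6, 2, 6], [2]), (0, [6, 2, 6], [2]), (0, [6, 2, 6], [2]),
  (0, [6, 2, 6], [2]), (0, [6, 2, 6], [2]), (0, [6, 2, 6], [2]), (0, [4], [6]),
  (0, [6, 2, 6], [2]), (0, [6, 2, 6], [2]), (0, [6, 2, 6], [2]), (0, [6, 2, 6], [2]),
  (0, [6, 2, 6], [2]), (0, [3, 6, 3], [6, 3, 6]), (0, [3, 6, 3], [6, 3, 6]), (0, [6, 4, 6], [2, 4, 2]),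
  (0, [5], [6]), (0, [6, 2, 6], [2]), (0, [6, 5, 6], [2, 5, 2]), (0, [6, 2, 6], [2]),
  (0, [6, 2, 6], [2]), (0, [6, 2, 6], [2]), (0, [6, 2, 6], [2]), (0, [3, 6, 3], [6, 3, 6]),
  (0, [6, 2, 6], [2]), (0, [6, 2, 6], [2]), (0, [6, 2, 6], [2]), (0, [6, 2, 6], [2]),
  (0, [6, 2, 6], [2]), (0, [6, 2, 6], [2]), (0, [3, 6, 3], [6, 3, 6]), (0, [6, 3, 6], [3]),
  (0, [3, 6, 3], [6, 3, 6]), (0, [4, 2, 4], [6]), (0, [3, 6, 3], [6, 3, 6]), (0, [6, 3, 6], [3]),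
  (0, [3, 6, 3], [6, 3, 6]), (0, [6, 2, 6], [2]), (0, [6, 2, 6], [2]), (0, [6, 2, 6], [2]),
  (0, [6, 2, 6], [2]), (0, [6, 2, 6], [2]), (0, [3, 6, 3], [6, 3, 6]), (0, [6, 2, 6], [2]),
  (0, [6, 2, 6], [2]), (0, [3, 6, 3], [6, 3, 6]), (0, [3, 6, 3], [6, 3, 6]), (0, [6, 2, 6], [2]),
  (0, [6, 2, 6], [2]), (0, [6, 2, 6], [2]), (0, [2, 5, 2], [6, 4, 6]), (0, [6, 2, 6], [2]),
  (0, [6, 3, 6], [3]), (0, [6, 2, 6], [2]), (0, [6, 2, 6], [2]), (0, [6, 2, 6], [2]),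
  (0, [6, 2, 6], [2]), (0, [6, 2, 6], [2]), (0, [6, 2, 6], [2]), (0, [6, 2, 6], [2]),
  (0, [6, 2, 6], [2]), (0, [6, 2, 6], [2]), (0, [6, 2, 6], [2]), (0, [6, 2, 6], [2]),
  (0, [6, 2, 6], [2]), (0, [6, 2, 6], [2]), (0, [6, 2, 6], [2]), (0, [6, 2, 6], [2]),
  (0, [6, 2, 6], [2])]

/-- A node. -/
def tNode4 : TNode := ⟨[0, 1, 159, 12, 255, 268], [1, 0, 220, 50, 255, 264], 135, tOpt4x0 ++ tOpt4x1 ++ tOpt4x2 ++ tOpt4x3, [5]⟩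

/-- Some options of a node. -/
def tOpt5x0 : List (ℕ × List ℕ × List ℕ) := [
  (0, [1], [7]), (0, [0], [7]), (0, [7, 4, 7], [4]), (0, [7, 3, 7], [3]),
  (0, [7, 2, 7], [2]), (0, [7, 6, 7], [6]), (0, [7, 3, 7], [3]), (0, [7, 2, 7], [2]),
  (0, [7, 5, 7], [5]), (0, [7, 3, 7], [3]), (0, [7, 3, 7], [3]), (0, [7, 2, 7], [2]),
  (0, [7, 2, 7], [2]), (0, [7, 2, 7], [2]), (0, [7, 3, 7], [3]), (0, [7, 3, 7], [3]),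
  (0, [7, 2, 7], [2]), (0, [7, 2, 7], [2]), (0, [7, 2, 7], [2]), (0, [7, 3, 7], [3]),
  (0, [7, 2, 7], [2]), (0, [7, 2, 7], [2]), (0, [7, 2, 7], [2]), (0, [7, 2, 7], [2]),
  (0, [7, 3, 7], [3]), (0, [7, 2, 7], [2]), (0, [7, 2, 7], [2]), (0, [7, 2, 7], [2]),
  (0, [7, 2, 7], [2]), (0, [7, 2, 7], [2]), (0, [7, 2, 7], [2]), (0, [7, 2, 7], [2]),
  (0, [7, 2, 7], [2]), (0, [7, 2, 7], [2]), (0, [7, 2, 7], [2]), (0, [7, 2, 7], [2]),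
  (0, [7, 2, 7], [2]), (0, [7, 2, 7], [2]), (0, [7, 2, 7], [2]), (0, [7, 2, 7], [2]),
  (0, [7, 2, 7], [2]), (0, [7, 4, 7], [4]), (0, [7, 2, 7], [2]), (0, [7, 2, 7], [2]),
  (0, [7, 2, 7], [2]), (0, [7, 2, 7], [2]), (0, [7, 4, 7], [4]), (0, [7, 2, 7], [2]),
  (0, [7, 2, 7], [2]), (0, [7, 2, 7], [2]), (0, [3], [7]), (0, [7, 2, 7], [2]),
  (0, [7, 2, 7], [2]), (0, [7, 2, 7], [2]), (0, [7, 2, 7], [2]), (0, [7, 2, 7], [2]),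
  (0, [7, 5, 7], [5]), (0, [7, 2, 7], [2]), (0, [7, 2, 7], [2]), (0, [7, 2, 7], [2]),
  (0, [7, 2, 7], [2]), (0, [7, 5, 7], [5]), (0, [7, 2, 7], [2]), (0, [7, 2, 7], [2]),
  (0, [7, 2, 7], [2]), (0, [7, 2, 7], [2]), (0, [7, 2, 7], [2]), (0, [7, 2, 7], [2]),
  (0, [7, 2, 7], [2]), (0, [7, 2, 7], [2]), (0, [7, 2, 7], [2]), (0, [7, 5, 2, 5, 7], [5, 2, 5]),
  (0, [7, 5, 2, 5, 7], [5, 2, 5]), (0, [7, 2, 7], [2]), (0, [7, 2, 7], [2]), (0, [7, 2, 7], [2]),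
  (0, [7, 5, 2, 5, 7], [5, 2, 5]), (0, [7, 5, 2, 5, 7], [5, 2, 5]), (0, [7, 2, 7], [2]), (0, [7, 2, 7], [2])]

/-- Some options of a node. -/
def tOpt5x1 : List (ℕ × List ℕ × List ℕ) := [
  (0, [7, 2, 7], [2]), (0, [7, 2, 7], [2]), (0, [7, 2, 7], [2]), (0, [7, 2, 7], [2]),
  (0, [7, 2, 7], [2]), (0, [7, 2, 7], [2]), (0, [7, 2, 7], [2]), (0, [7, 6, 4, 6, 7], [3, 6, 4, 6, 3]),
  (0, [7, 2, 7], [2]), (0, [7, 2, 7], [2]), (0, [7, 2, 7], [2]), (1, [], []),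
  (0, [7, 2, 7], [2]), (0, [7, 2, 7], [2]), (0, [7, 2, 7], [2]), (0, [7, 2, 7], [2]),
  (0, [7, 3, 7], [3]), (0, [7, 2, 7], [2]), (0, [7, 2, 7], [2]), (0, [7, 2, 7], [2]),
  (0, [7, 4, 2, 4, 7], [4, 2, 4]), (0, [7, 3, 7], [3]), (0, [7, 2, 7], [2]), (0, [7, 2, 7], [2]),
  (0, [7, 4, 2, 4, 7], [4, 2, 4]), (0, [7, 2, 7], [2]), (0, [7, 2, 7], [2]), (0, [7, 2, 7], [2]),
  (0, [7, 3, 7], [3]), (0, [7, 3, 7], [3]), (0, [7, 2, 7], [2]), (0, [7, 3, 7], [3]),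
  (0, [7, 2, 7], [2]), (0, [7, 2, 7], [2]), (0, [7, 3, 7], [3]), (0, [7, 3, 7], [3]),
  (0, [7, 2, 7], [2]), (0, [7, 3, 7], [3]), (0, [7, 3, 7], [3]), (0, [7, 3, 7], [3]),
  (0, [7, 3, 7], [3]), (0, [7, 3, 7], [3]), (0, [7, 3, 7], [3]), (0, [7, 3, 7], [3]),
  (0, [7, 3, 7], [3]), (0, [7, 2, 7], [2]), (0, [7, 3, 7], [3]), (0, [7, 3, 7], [3]),
  (0, [7, 3, 7], [3]), (0, [7, 3, 7], [3]), (0, [7, 3, 7], [3]), (0, [7, 2, 7], [2]),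
  (0, [7, 3, 7], [3]), (0, [7, 3, 7], [3]), (0, [7, 3, 7], [3]), (0, [7, 3, 7], [3]),
  (0, [7, 3, 7], [3]), (0, [7, 3, 7], [3]), (0, [7, 3, 7], [3]), (0, [7, 2, 7], [2]),
  (0, [6], [7]), (0, [7, 3, 7], [3]), (0, [7, 3, 7], [3]), (0, [7, 3, 7], [3]),
  (0, [7, 3, 7], [3]), (0, [7, 3, 7], [3]), (0, [7, 3, 7], [3]), (0, [7, 3, 7], [3]),
  (0, [7, 3, 7], [3]), (0, [7, 3, 7], [3]), (0, [7, 3, 7], [3]), (0, [7, 3, 7], [3]),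
  (0, [7, 3, 7], [3]), (0, [7, 3, 7], [3]), (0, [7, 3, 7], [3]), (0, [7, 3, 7], [3]),
  (0, [7, 3, 7], [3]), (0, [7, 3, 7], [3]), (0, [7, 3, 7], [3]), (0, [7, 3, 7], [3])]

/-- Some options of a node. -/
def tOpt5x2 : List (ℕ × List ℕ × List ℕ) := [
  (0, [7, 3, 7], [3]), (0, [7, 3, 7], [3]), (0, [7, 3, 7], [3]), (0, [7, 3, 7], [3]),
  (0, [7, 3, 7], [3]), (0, [7, 3, 7], [3]), (0, [7, 3, 7], [3]), (0, [7, 3, 7], [3]),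
  (0, [7, 3, 7], [3]), (0, [7, 3, 7], [3]), (0, [7, 3, 7], [3]), (0, [7, 3, 7], [3]),
  (0, [7, 3, 7], [3]), (0, [7, 4, 7], [3, 4, 3]), (0, [7, 2, 7], [2]), (0, [7, 2, 7], [2]),
  (0, [7, 2, 7], [2]), (0, [7, 2, 7], [2]), (0, [7, 2, 7], [2]), (0, [6, 7, 6], [3, 2, 3]),
  (0, [7, 2, 7], [2]), (0, [7, 2, 7], [2]), (0, [7, 2, 7], [2]), (0, [7, 2, 7], [2]),
  (0, [7, 3, 7], [3]), (0, [7, 5, 7], [3, 5, 3]), (0, [7, 2, 7], [2]), (0, [7, 2, 7], [2]),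
  (0, [7, 2, 7], [2]), (0, [7, 2, 7], [2]), (0, [7, 3, 7], [3]), (0, [7, 4, 7], [3, 4, 3]),
  (0, [7, 2, 7], [2]), (0, [7, 2, 7], [2]), (0, [7, 2, 7], [2]), (0, [7, 3, 7], [3]),
  (0, [7, 2, 7], [2]), (0, [7, 2, 7], [2]), (0, [7, 2, 7], [2]), (0, [7, 2, 7], [2]),
  (0, [7, 2, 7], [2]), (0, [3, 2, 3], [7]), (0, [7, 3, 7], [3]), (0, [7, 2, 7], [2]),
  (0, [7, 2, 7], [2]), (0, [7, 2, 7], [2]), (0, [7, 3, 7], [3]), (0, [7, 2, 7], [2]),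
  (0, [7, 3, 7], [3]), (0, [7, 2, 7], [2]), (0, [7, 2, 7], [2]), (0, [7, 2, 7], [2]),
  (0, [7, 3, 7], [3]), (0, [7, 3, 7], [3]), (0, [7, 2, 7], [2]), (0, [7, 2, 7], [2]),
  (0, [7, 2, 7], [2]), (0, [7, 2, 7], [2]), (0, [7, 2, 7], [2]), (0, [7, 2, 7], [2]),
  (0, [2], [7]), (0, [7, 2, 7], [2]), (0, [7, 2, 7], [2]), (0, [7, 2, 7], [2]),
  (0, [7, 2, 7], [2]), (0, [7, 2, 7], [2]), (0, [7, 2, 7], [2]), (0, [7, 2, 7], [2]),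
  (0, [7, 2, 7], [2]), (0, [7, 2, 7], [2]), (0, [7, 2, 7], [2]), (0, [5, 2, 5], [7]),
  (0, [7, 2, 7], [2]), (0, [7, 2, 7], [2]), (0, [7, 2, 7], [2]), (0, [7, 2, 7], [2]),
  (0, [7, 2, 7], [2]), (0, [7, 2, 7], [2]), (0, [7, 3, 7], [3]), (0, [7, 3, 7], [3])]

/-- Some options of a node. -/
def tOpt5x3 : List (ℕ × List ℕ × List ℕ) := [
  (0, [7, 3, 7], [3]), (0, [5, 4, 5], [7]), (0, [7, 2, 7], [2]), (0, [7, 2, 7], [2]),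
  (0, [7, 2, 7], [2]), (0, [7, 3, 7], [3]), (0, [7, 3, 7], [3]), (0, [7, 3, 7], [3]),
  (0, [7, 3, 7], [3]), (0, [7, 2, 7], [2]), (0, [7, 2, 7], [2]), (0, [7, 2, 7], [2]),
  (0, [7, 2, 7], [2]), (0, [7, 2, 7], [2]), (0, [7, 2, 7], [2]), (0, [4], [7]),
  (0, [7, 2, 7], [2]), (0, [7, 2, 7], [2]), (0, [7, 2, 7], [2]), (0, [7, 2, 7], [2]),
  (0, [7, 2, 7], [2]), (0, [7, 3, 7], [3]), (0, [7, 3, 7], [3]), (0, [7, 3, 7], [3]),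
  (0, [5], [7]), (0, [7, 2, 7], [2]), (0, [7, 3, 7], [3]), (0, [7, 2, 7], [2]),
  (0, [7, 2, 7], [2]), (0, [7, 2, 7], [2]), (0, [7, 2, 7], [2]), (0, [7, 3, 7], [3]),
  (0, [7, 2, 7], [2]), (0, [7, 2, 7], [2]), (0, [7, 2, 7], [2]), (0, [7, 2, 7], [2]),
  (0, [7, 2, 7], [2]), (0, [7, 2, 7], [2]), (0, [7, 3, 7], [3]), (0, [7, 6, 7], [6]),
  (0, [7, 3, 7], [3]), (0, [4, 2, 4], [7]), (0, [7, 3, 7], [3]), (0, [4, 7, 4], [7, 4, 7]),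
  (0, [7, 3, 7], [3]), (0, [7, 2, 7], [2]), (0, [7, 2, 7], [2]), (0, [7, 2, 7], [2]),
  (0, [7, 2, 7], [2]), (0, [7, 2, 7], [2]), (0, [7, 3, 7], [3]), (0, [7, 2, 7], [2]),
  (0, [7, 2, 7], [2]), (0, [7, 3, 7], [3]), (0, [7, 3, 7], [3]), (0, [7, 2, 7], [2]),
  (0, [7, 2, 7], [2]), (0, [7, 2, 7], [2]), (0, [7, 3, 7], [3]), (0, [7, 2, 7], [2]),
  (0, [7, 6, 7], [6]), (0, [7, 2, 7], [2]), (0, [7, 2, 7], [2]), (0, [7, 2, 7], [2]),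
  (0, [7, 2, 7], [2]), (0, [7, 2, 7], [2]), (0, [7, 2, 7], [2]), (0, [7, 2, 7], [2]),
  (0, [7, 2, 7], [2]), (0, [7, 2, 7], [2]), (0, [7, 2, 7], [2]), (0, [7, 2, 7], [2]),
  (0, [7, 2, 7], [2]), (0, [7, 2, 7], [2]), (0, [7, 2, 7], [2]), (0, [7, 2, 7], [2]),
  (0, [7, 2, 7], [2])]

/-- A node. -/
def tNode5 : TNode := ⟨[0, 1, 159, 12, 255, 268, 135], [1, 0, 220, 50, 255, 264, 140], 183, tOpt5x0 ++ tOpt5x1 ++ tOpt5x2 ++ tOpt5x3, [6]⟩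

/-- Some options of a node. -/
def tOpt6x0 : List (ℕ × List ℕ × List ℕ) := [
  (0, [1], [8]), (0, [0], [8]), (0, [8, 2, 8], [2]), (0, [8, 2, 8], [2]),
  (0, [8, 2, 8], [3, 2, 3]), (0, [8, 2, 8], [2]), (0, [8, 2, 8], [2]), (0, [8, 5, 8], [5]),
  (0, [8, 2, 8], [2]), (0, [8, 2, 8], [2]), (0, [8, 2, 8], [2]), (0, [8, 2, 8], [3, 2, 3]),
  (0, [8, 4, 8], [7, 4, 7]), (0, [8, 5, 8], [5]), (0, [8, 2, 8], [2]), (0, [8, 2, 8], [2]),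
  (0, [8, 5, 8], [5]), (0, [8, 4, 8], [7, 4, 7]), (0, [8, 2, 8], [3, 2, 3]), (0, [8, 2, 8], [2]),
  (0, [6, 8, 6], [8, 6, 8]), (0, [8, 5, 8], [5]), (0, [8, 5, 8], [5]), (0, [8, 5, 8], [5]),
  (0, [8, 2, 8], [2]), (0, [8, 5, 8], [5]), (0, [8, 2, 8], [3, 2, 3]), (0, [6, 8, 6], [8, 6, 8]),
  (0, [8, 2, 8], [3, 2, 3]), (0, [8, 4, 8], [4]), (0, [8, 4, 8], [4]), (0, [8, 4, 8], [7, 4, 7]),
  (0, [5, 3, 5], [8]), (0, [8, 5, 8], [5]), (0, [8, 5, 8], [5]), (0, [8, 4, 8], [4]),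
  (0, [8, 2, 8], [3, 2, 3]), (0, [8, 4, 8], [4]), (0, [4, 3, 4], [8]), (0, [8, 3, 8], [3]),
  (0, [8, 4, 2, 4, 8], [7, 4, 2, 4, 7]), (0, [8, 2, 8], [2]), (0, [2, 8, 2], [5, 3, 5]), (0, [8, 4, 8], [4]),
  (0, [8, 4, 8], [4]), (0, [8, 3, 8], [3]), (0, [8, 2, 8], [2]), (0, [8, 4, 8], [3, 4, 3]),
  (0, [8, 4, 2, 4, 8], [7, 4, 2, 4, 7]), (0, [8, 4, 8], [4]), (0, [3], [8]), (0, [8, 3, 8], [3]),
  (0, [8, 3, 8], [3]), (0, [8, 3, 8], [3]), (0, [8, 4, 8], [7, 4, 7]), (0, [8, 4, 8], [7, 4, 7]),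
  (0, [8, 2, 8], [2]), (0, [8, 5, 8], [5]), (0, [8, 3, 8], [3]), (0, [8, 3, 8], [3]),
  (0, [8, 3, 8], [3]), (0, [8, 2, 8], [2]), (0, [8, 2, 8], [3, 2, 3]), (0, [8, 5, 8], [5]),
  (0, [8, 5, 8], [5]), (0, [8, 3, 8], [3]), (0, [8, 3, 8], [3]), (0, [8, 3, 8], [3]),
  (0, [8, 3, 8], [3]), (0, [8, 3, 8], [3]), (0, [8, 4, 2, 4, 8], [7, 4, 2, 4, 7]), (0, [8, 2, 8], [2]),
  (0, [8, 2, 8], [2]), (0, [6, 3, 6], [8]), (0, [8, 3, 8], [3]), (0, [8, 3, 8], [3]),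
  (0, [8, 2, 8], [2]), (0, [8, 2, 8], [2]), (0, [8, 4, 2, 4, 8], [7, 4, 2, 4, 7]), (0, [8, 3, 8], [3])]

/-- Some options of a node. -/
def tOpt6x1 : List (ℕ × List ℕ × List ℕ) := [
  (0, [8, 3, 8], [3]), (0, [8, 3, 8], [3]), (0, [8, 3, 8], [3]), (0, [8, 3, 8], [3]),
  (0, [8, 3, 8], [3]), (0, [8, 3, 8], [3]), (0, [8, 4, 8], [4]), (0, [8, 2, 8], [2]),
  (0, [8, 3, 8], [3]), (0, [8, 3, 8], [3]), (0, [8, 3, 8], [3]), (0, [7], [8]),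
  (0, [8, 4, 8], [4]), (0, [8, 3, 8], [3]), (0, [8, 3, 8], [3]), (0, [8, 3, 8], [3]),
  (0, [8, 2, 8], [2]), (0, [8, 3, 8], [3]), (0, [8, 3, 8], [3]), (0, [8, 3, 8], [3]),
  (0, [8, 2, 8], [2]), (0, [8, 2, 8], [2]), (0, [8, 3, 8], [3]), (0, [8, 3, 8], [3]),
  (0, [8, 2, 8], [2]), (0, [8, 3, 8], [3]), (0, [8, 3, 8], [3]), (0, [8, 3, 8], [3]),
  (0, [8, 2, 8], [2]), (0, [8, 2, 8], [2]), (0, [8, 3, 8], [3]), (0, [8, 2, 8], [2]),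
  (0, [8, 3, 8], [3]), (0, [8, 3, 8], [3]), (0, [8, 2, 8], [2]), (0, [8, 2, 8], [2]),
  (0, [8, 3, 8], [3]), (0, [8, 2, 8], [2]), (0, [8, 2, 8], [2]), (0, [8, 2, 8], [2]),
  (0, [8, 2, 8], [2]), (0, [8, 2, 8], [2]), (0, [8, 2, 8], [2]), (0, [8, 2, 8], [2]),
  (0, [8, 2, 8], [2]), (0, [8, 3, 8], [3]), (0, [8, 2, 8], [2]), (0, [8, 2, 8], [2]),
  (0, [8, 2, 8], [2]), (0, [8, 2, 8], [2]), (0, [8, 2, 8], [2]), (0, [8, 3, 8], [3]),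
  (0, [8, 2, 8], [2]), (0, [8, 2, 8], [2]), (0, [8, 2, 8], [2]), (0, [8, 2, 8], [2]),
  (0, [8, 2, 8], [2]), (0, [8, 2, 8], [2]), (0, [8, 2, 8], [2]), (0, [8, 3, 8], [3]),
  (0, [6], [8]), (0, [8, 2, 8], [2]), (0, [8, 2, 8], [2]), (0, [8, 2, 8], [2]),
  (0, [8, 2, 8], [2]), (0, [8, 2, 8], [2]), (0, [8, 2, 8], [2]), (0, [8, 2, 8], [2]),
  (0, [8, 2, 8], [2]), (0, [8, 2, 8], [2]), (0, [8, 2, 8], [2]), (0, [8, 2, 8], [2]),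
  (0, [8, 2, 8], [2]), (0, [8, 2, 8], [2]), (0, [8, 2, 8], [2]), (0, [8, 2, 8], [2]),
  (0, [8, 2, 8], [2]), (0, [8, 2, 8], [2]), (0, [8, 2, 8], [2]), (0, [8, 2, 8], [2])]

/-- Some options of a node. -/
def tOpt6x2 : List (ℕ × List ℕ × List ℕ) := [
  (0, [8, 2, 8], [2]), (0, [8, 2, 8], [2]), (0, [8, 2, 8], [2]), (0, [8, 2, 8], [2]),
  (0, [8, 2, 8], [2]), (0, [8, 2, 8], [2]), (0, [8, 2, 8], [2]), (0, [8, 2, 8], [2]),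
  (0, [8, 2, 8], [2]), (0, [8, 2, 8], [2]), (0, [8, 2, 8], [2]), (0, [8, 2, 8], [2]),
  (0, [8, 2, 8], [2]), (0, [8, 2, 8], [2]), (0, [8, 4, 8], [4]), (0, [8, 5, 8], [5]),
  (0, [8, 5, 8], [5]), (0, [8, 4, 8], [4]), (0, [8, 4, 8], [4]), (0, [8, 2, 8], [2]),
  (0, [8, 5, 8], [5]), (0, [8, 5, 8], [5]), (1, [], []), (0, [8, 4, 8], [3, 4, 3]),
  (0, [8, 2, 8], [2]), (0, [8, 2, 8], [2]), (0, [6, 3, 2, 3, 6], [4, 8, 4]), (0, [8, 4, 8], [4]),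
  (0, [8, 4, 8], [3, 4, 3]), (0, [8, 3, 8], [3]), (0, [8, 2, 8], [2]), (0, [8, 2, 8], [2]),
  (0, [8, 3, 8], [3]), (0, [8, 3, 8], [3]), (0, [8, 3, 8], [3]), (0, [8, 2, 8], [2]),
  (0, [8, 3, 8], [3]), (0, [8, 3, 8], [3]), (0, [8, 3, 8], [3]), (0, [8, 3, 8], [3]),
  (0, [8, 3, 8], [3]), (0, [3, 2, 3], [8]), (0, [8, 2, 8], [2]), (0, [8, 3, 8], [3]),
  (0, [8, 3, 8], [3]), (0, [8, 3, 8], [3]), (0, [8, 2, 8], [2]), (0, [8, 3, 8], [3]),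
  (0, [8, 2, 8], [2]), (0, [8, 3, 8], [3]), (0, [8, 3, 8], [3]), (0, [8, 3, 8], [3]),
  (0, [8, 2, 8], [2]), (0, [8, 2, 8], [2]), (0, [8, 3, 8], [3]), (0, [3, 5, 3], [8, 4, 8]),
  (0, [8, 3, 8], [3]), (0, [8, 3, 8], [3]), (0, [8, 5, 8], [5]), (0, [8, 5, 8], [5]),
  (0, [2], [8]), (0, [8, 3, 8], [3]), (0, [8, 5, 8], [5]), (0, [8, 3, 8], [3]),
  (0, [8, 2, 8], [4, 2, 4]), (0, [8, 4, 8], [4]), (0, [8, 2, 8], [4, 2, 4]), (0, [8, 3, 8], [3]),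
  (0, [8, 5, 8], [5]), (0, [8, 5, 8], [5]), (0, [8, 3, 8], [3]), (0, [5, 2, 5], [8]),
  (0, [8, 3, 8], [3]), (0, [8, 3, 8], [3]), (0, [8, 3, 8], [3]), (0, [8, 3, 8], [3]),
  (0, [8, 3, 8], [3]), (0, [8, 3, 8], [3]), (0, [8, 2, 8], [2]), (0, [8, 2, 8], [2])]

/-- Some options of a node. -/
def tOpt6x3 : List (ℕ × List ℕ × List ℕ) := [
  (0, [8, 2, 8], [2]), (0, [8, 2, 8], [2]), (0, [8, 2, 8], [5, 2, 5]), (0, [8, 6, 8], [6]),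
  (0, [8, 2, 8], [5, 2, 5]), (0, [8, 2, 8], [2]), (0, [8, 2, 8], [2]), (0, [8, 2, 8], [2]),
  (0, [8, 2, 8], [2]), (0, [8, 3, 8], [3]), (0, [8, 3, 8], [3]), (0, [8, 5, 8], [5]),
  (0, [8, 5, 8], [5]), (0, [8, 2, 8], [4, 2, 4]), (0, [8, 4, 8], [4]), (0, [4], [8]),
  (0, [8, 3, 8], [3]), (0, [8, 3, 8], [3]), (0, [8, 3, 8], [3]), (0, [8, 3, 8], [3]),
  (0, [8, 6, 8], [6]), (0, [8, 2, 8], [2]), (0, [8, 2, 8], [2]), (0, [8, 2, 8], [2]),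
  (0, [5], [8]), (0, [8, 2, 8], [5, 2, 5]), (0, [8, 2, 8], [2]), (0, [8, 5, 8], [5]),
  (0, [8, 2, 8], [5, 2, 5]), (0, [8, 3, 8], [3]), (0, [8, 2, 8], [5, 2, 5]), (0, [8, 2, 8], [2]),
  (0, [8, 3, 8], [3]), (0, [8, 3, 8], [3]), (0, [8, 3, 8], [3]), (0, [8, 5, 8], [5]),
  (0, [8, 3, 8], [3]), (0, [8, 3, 8], [3]), (0, [8, 2, 8], [2]), (0, [8, 2, 8], [2]),
  (0, [8, 2, 8], [2]), (0, [4, 2, 4], [8]), (0, [8, 2, 8], [2]), (0, [8, 2, 8], [2]),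
  (0, [8, 2, 8], [2]), (0, [8, 3, 8], [3]), (0, [8, 3, 8], [3]), (0, [8, 5, 8], [5]),
  (0, [8, 5, 8], [5]), (0, [8, 3, 8], [3]), (0, [8, 2, 8], [2]), (0, [8, 3, 8], [3]),
  (0, [8, 3, 8], [3]), (0, [8, 2, 8], [2]), (0, [8, 2, 8], [2]), (0, [8, 2, 8], [5, 2, 5]),
  (0, [8, 3, 8], [3]), (0, [8, 2, 8], [5, 2, 5]), (0, [8, 2, 8], [2]), (0, [8, 3, 8], [3]),
  (0, [8, 2, 8], [2]), (0, [8, 3, 8], [3]), (0, [8, 3, 8], [3]), (0, [8, 3, 8], [3]),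
  (0, [8, 3, 8], [3]), (0, [8, 3, 8], [3]), (0, [8, 3, 8], [3]), (0, [8, 2, 8], [4, 2, 4]),
  (0, [8, 3, 8], [3]), (0, [8, 2, 8], [4, 2, 4]), (0, [8, 3, 8], [3]), (0, [8, 3, 8], [3]),
  (0, [8, 3, 8], [3]), (0, [8, 3, 8], [3]), (0, [8, 2, 8], [4, 2, 4]), (0, [8, 3, 8], [3]),
  (0, [8, 2, 8], [4, 2, 4])]

/-- A node. -/
def tNode6 : TNode := ⟨[0, 1, 159, 12, 255, 268, 135, 183], [1, 0, 220, 50, 255, 264, 140, 91], 182, tOpt6x0 ++ tOpt6x1 ++ tOpt6x2 ++ tOpt6x3, [7]⟩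

/-- Some options of a node. -/
def tOpt7x0 : List (ℕ × List ℕ × List ℕ) := [
  (0, [1], [9]), (0, [0], [9]), (0, [9, 4, 9], [8, 4, 8]), (0, [9, 3, 9], [3]),
  (0, [9, 2, 9], [2]), (0, [9, 5, 9], [5]), (0, [9, 3, 9], [3]), (0, [9, 2, 9], [2]),
  (1, [], []), (0, [9, 3, 9], [3]), (0, [9, 3, 9], [3]), (0, [9, 2, 9], [2]),
  (0, [9, 2, 9], [2]), (0, [9, 2, 9], [2]), (0, [9, 3, 9], [3]), (0, [9, 3, 9], [3]),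
  (0, [9, 2, 9], [2]), (0, [9, 2, 9], [2]), (0, [9, 2, 9], [2]), (0, [9, 3, 9], [3]),
  (0, [9, 2, 9], [2]), (0, [9, 2, 9], [2]), (0, [9, 2, 9], [2]), (0, [9, 2, 9], [2]),
  (0, [9, 3, 9], [3]), (0, [9, 2, 9], [2]), (0, [9, 2, 9], [2]), (0, [9, 2, 9], [2]),
  (0, [9, 2, 9], [2]), (0, [9, 2, 9], [2]), (0, [9, 2, 9], [2]), (0, [9, 2, 9], [2]),
  (0, [9, 2, 9], [2]), (0, [9, 2, 9], [2]), (0, [9, 2, 9], [2]), (0, [9, 2, 9], [2]),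
  (0, [9, 2, 9], [2]), (0, [9, 2, 9], [2]), (0, [9, 2, 9], [2]), (0, [9, 2, 9], [2]),
  (0, [9, 2, 9], [2]), (0, [9, 4, 9], [8, 4, 8]), (0, [9, 2, 9], [2]), (0, [9, 2, 9], [2]),
  (0, [9, 2, 9], [2]), (0, [9, 2, 9], [2]), (0, [9, 4, 9], [8, 4, 8]), (0, [9, 2, 9], [2]),
  (0, [9, 2, 9], [2]), (0, [9, 2, 9], [2]), (0, [3], [9]), (0, [9, 2, 9], [2]),
  (0, [9, 2, 9], [2]), (0, [9, 2, 9], [2]), (0, [9, 2, 9], [2]), (0, [9, 2, 9], [2]),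
  (0, [9, 4, 9], [8, 4, 8]), (0, [9, 2, 9], [2]), (0, [9, 2, 9], [2]), (0, [9, 2, 9], [2]),
  (0, [9, 2, 9], [2]), (0, [9, 4, 9], [8, 4, 8]), (0, [9, 2, 9], [2]), (0, [9, 2, 9], [2]),
  (0, [9, 2, 9], [2]), (0, [9, 2, 9], [2]), (0, [9, 2, 9], [2]), (0, [9, 2, 9], [2]),
  (0, [9, 2, 9], [2]), (0, [9, 2, 9], [2]), (0, [9, 2, 9], [2]), (0, [9, 4, 9], [8, 4, 8]),
  (0, [9, 4, 9], [8, 4, 8]), (0, [9, 2, 9], [2]), (0, [9, 2, 9], [2]), (0, [9, 2, 9], [2]),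
  (0, [9, 4, 9], [8, 4, 8]), (0, [9, 4, 9], [8, 4, 8]), (0, [9, 2, 9], [2]), (0, [9, 2, 9], [2])]

/-- Some options of a node. -/
def tOpt7x1 : List (ℕ × List ℕ × List ℕ) := [
  (0, [9, 2, 9], [2]), (0, [9, 2, 9], [2]), (0, [9, 2, 9], [2]), (0, [9, 2, 9], [2]),
  (0, [9, 2, 9], [2]), (0, [9, 2, 9], [2]), (0, [9, 2, 9], [2]), (0, [9, 4, 9], [8, 4, 8]),
  (0, [9, 2, 9], [2]), (0, [9, 2, 9], [2]), (0, [9, 2, 9], [2]), (0, [7], [9]),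
  (0, [9, 2, 9], [2]), (0, [9, 2, 9], [2]), (0, [9, 2, 9], [2]), (0, [9, 2, 9], [2]),
  (0, [9, 3, 9], [3]), (0, [9, 2, 9], [2]), (0, [9, 2, 9], [2]), (0, [9, 2, 9], [2]),
  (0, [9, 5, 9], [5]), (0, [9, 3, 9], [3]), (0, [9, 2, 9], [2]), (0, [9, 2, 9], [2]),
  (0, [9, 5, 9], [5]), (0, [9, 2, 9], [2]), (0, [9, 2, 9], [2]), (0, [9, 2, 9], [2]),
  (0, [9, 3, 9], [3]), (0, [9, 3, 9], [3]), (0, [9, 2, 9], [2]), (0, [9, 3, 9], [3]),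
  (0, [9, 2, 9], [2]), (0, [9, 2, 9], [2]), (0, [9, 3, 9], [3]), (0, [9, 3, 9], [3]),
  (0, [9, 2, 9], [2]), (0, [9, 3, 9], [3]), (0, [9, 3, 9], [3]), (0, [9, 3, 9], [3]),
  (0, [9, 3, 9], [3]), (0, [9, 3, 9], [3]), (0, [9, 3, 9], [3]), (0, [9, 3, 9], [3]),
  (0, [9, 3, 9], [3]), (0, [9, 2, 9], [2]), (0, [9, 3, 9], [3]), (0, [9, 3, 9], [3]),
  (0, [9, 3, 9], [3]), (0, [9, 3, 9], [3]), (0, [9, 3, 9], [3]), (0, [9, 2, 9], [2]),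
  (0, [9, 3, 9], [3]), (0, [9, 3, 9], [3]), (0, [9, 3, 9], [3]), (0, [9, 3, 9], [3]),
  (0, [9, 3, 9], [3]), (0, [9, 3, 9], [3]), (0, [9, 3, 9], [3]), (0, [9, 2, 9], [2]),
  (0, [6], [9]), (0, [9, 3, 9], [3]), (0, [9, 3, 9], [3]), (0, [9, 3, 9], [3]),
  (0, [9, 3, 9], [3]), (0, [9, 3, 9], [3]), (0, [9, 3, 9], [3]), (0, [9, 3, 9], [3]),
  (0, [9, 3, 9], [3]), (0, [9, 3, 9], [3]), (0, [9, 3, 9], [3]), (0, [9, 3, 9], [3]),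
  (0, [9, 3, 9], [3]), (0, [9, 3, 9], [3]), (0, [9, 3, 9], [3]), (0, [9, 3, 9], [3]),
  (0, [9, 3, 9], [3]), (0, [9, 3, 9], [3]), (0, [9, 3, 9], [3]), (0, [9, 3, 9], [3])]

/-- Some options of a node. -/
def tOpt7x2 : List (ℕ × List ℕ × List ℕ) := [
  (0, [9, 3, 9], [3]), (0, [9, 3, 9], [3]), (0, [9, 3, 9], [3]), (0, [9, 3, 9], [3]),
  (0, [9, 3, 9], [3]), (0, [9, 3, 9], [3]), (0, [9, 3, 9], [3]), (0, [9, 3, 9], [3]),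
  (0, [9, 3, 9], [3]), (0, [9, 3, 9], [3]), (0, [9, 3, 9], [3]), (0, [9, 3, 9], [3]),
  (0, [9, 3, 9], [3]), (0, [9, 4, 9], [8, 4, 8]), (0, [9, 2, 9], [2]), (0, [9, 2, 9], [2]),
  (0, [9, 2, 9], [2]), (0, [9, 2, 9], [2]), (0, [9, 2, 9], [2]), (0, [9, 4, 9], [8, 4, 8]),
  (0, [9, 2, 9], [2]), (0, [9, 2, 9], [2]), (0, [8], [9]), (0, [9, 2, 9], [2]),
  (0, [9, 3, 9], [3]), (0, [9, 4, 9], [8, 4, 8]), (0, [9, 2, 9], [2]), (0, [9, 2, 9], [2]),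
  (0, [9, 2, 9], [2]), (0, [9, 2, 9], [2]), (0, [9, 3, 9], [3]), (0, [9, 4, 9], [8, 4, 8]),
  (0, [9, 2, 9], [2]), (0, [9, 2, 9], [2]), (0, [9, 2, 9], [2]), (0, [9, 3, 9], [3]),
  (0, [9, 2, 9], [2]), (0, [9, 2, 9], [2]), (0, [9, 2, 9], [2]), (0, [9, 2, 9], [2]),
  (0, [9, 2, 9], [2]), (0, [3, 2, 3], [9]), (0, [9, 3, 9], [3]), (0, [9, 2, 9], [2]),
  (0, [9, 2, 9], [2]), (0, [9, 2, 9], [2]), (0, [9, 3, 9], [3]), (0, [9, 2, 9], [2]),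
  (0, [9, 3, 9], [3]), (0, [9, 2, 9], [2]), (0, [9, 2, 9], [2]), (0, [9, 2, 9], [2]),
  (0, [9, 3, 9], [3]), (0, [9, 3, 9], [3]), (0, [9, 2, 9], [2]), (0, [9, 2, 9], [2]),
  (0, [9, 2, 9], [2]), (0, [9, 2, 9], [2]), (0, [9, 2, 9], [2]), (0, [9, 2, 9], [2]),
  (0, [2], [9]), (0, [9, 2, 9], [2]), (0, [9, 2, 9], [2]), (0, [9, 2, 9], [2]),
  (0, [9, 2, 9], [2]), (0, [9, 2, 9], [2]), (0, [9, 2, 9], [2]), (0, [9, 2, 9], [2]),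
  (0, [9, 2, 9], [2]), (0, [9, 2, 9], [2]), (0, [9, 2, 9], [2]), (0, [5, 2, 5], [9]),
  (0, [9, 2, 9], [2]), (0, [9, 2, 9], [2]), (0, [9, 2, 9], [2]), (0, [9, 2, 9], [2]),
  (0, [9, 2, 9], [2]), (0, [9, 2, 9], [2]), (0, [9, 3, 9], [3]), (0, [9, 3, 9], [3])]

/-- Some options of a node. -/
def tOpt7x3 : List (ℕ × List ℕ × List ℕ) := [
  (0, [9, 3, 9], [3]), (0, [5, 4, 5], [9]), (0, [9, 2, 9], [2]), (0, [9, 2, 9], [2]),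
  (0, [9, 2, 9], [2]), (0, [9, 3, 9], [3]), (0, [8, 2, 8], [9]), (0, [9, 3, 9], [3]),
  (0, [9, 3, 9], [3]), (0, [9, 2, 9], [2]), (0, [9, 2, 9], [2]), (0, [9, 2, 9], [2]),
  (0, [9, 2, 9], [2]), (0, [9, 2, 9], [2]), (0, [9, 2, 9], [2]), (0, [4], [9]),
  (0, [9, 2, 9], [2]), (0, [9, 2, 9], [2]), (0, [9, 2, 9], [2]), (0, [9, 2, 9], [2]),
  (0, [9, 2, 9], [2]), (0, [9, 3, 9], [3]), (0, [9, 3, 9], [3]), (0, [9, 3, 9], [3]),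
  (0, [5], [9]), (0, [9, 2, 9], [2]), (0, [9, 3, 9], [3]), (0, [9, 2, 9], [2]),
  (0, [9, 2, 9], [2]), (0, [9, 2, 9], [2]), (0, [9, 2, 9], [2]), (0, [9, 3, 9], [3]),
  (0, [9, 2, 9], [2]), (0, [9, 2, 9], [2]), (0, [9, 2, 9], [2]), (0, [9, 2, 9], [2]),
  (0, [9, 2, 9], [2]), (0, [9, 2, 9], [2]), (0, [9, 3, 9], [3]), (0, [9, 4, 9], [8, 4, 8]),
  (0, [9, 3, 9], [3]), (0, [4, 2, 4], [9]), (0, [9, 3, 9], [3]), (0, [9, 4, 9], [8, 4, 8]),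
  (0, [9, 3, 9], [3]), (0, [9, 2, 9], [2]), (0, [9, 2, 9], [2]), (0, [9, 2, 9], [2]),
  (0, [9, 2, 9], [2]), (0, [9, 2, 9], [2]), (0, [9, 3, 9], [3]), (0, [9, 2, 9], [2]),
  (0, [9, 2, 9], [2]), (0, [9, 3, 9], [3]), (0, [9, 3, 9], [3]), (0, [9, 2, 9], [2]),
  (0, [9, 2, 9], [2]), (0, [9, 2, 9], [2]), (0, [9, 3, 9], [3]), (0, [9, 2, 9], [2]),
  (0, [9, 4, 9], [8, 4, 8]), (0, [9, 2, 9], [2]), (0, [9, 2, 9], [2]), (0, [9, 2, 9], [2]),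
  (0, [9, 2, 9], [2]), (0, [9, 2, 9], [2]), (0, [9, 2, 9], [2]), (0, [9, 2, 9], [2]),
  (0, [9, 2, 9], [2]), (0, [9, 2, 9], [2]), (0, [9, 2, 9], [2]), (0, [9, 2, 9], [2]),
  (0, [9, 2, 9], [2]), (0, [9, 2, 9], [2]), (0, [9, 2, 9], [2]), (0, [9, 2, 9], [2]),
  (0, [9, 2, 9], [2])]

/-- A node. -/
def tNode7 : TNode := ⟨[0, 1, 159, 12, 255, 268, 135, 183, 182], [1, 0, 220, 50, 255, 264, 140, 91, 182], 8, tOpt7x0 ++ tOpt7x1 ++ tOpt7x2 ++ tOpt7x3, [8]⟩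

/-- Some options of a node. -/
def tOpt8x0 : List (ℕ × List ℕ × List ℕ) := [
  (0, [1], [10]), (0, [0], [10]), (0, [10, 3, 10], [3]), (0, [10, 4, 10], [4]),
  (0, [10, 2, 10], [2]), (0, [10, 3, 10], [3]), (0, [10, 4, 10], [4]), (0, [10, 2, 10], [2]),
  (0, [9], [10]), (0, [10, 8, 10], [8]), (0, [10, 8, 10], [8]), (0, [10, 2, 10], [2]),
  (0, [10, 2, 10], [2]), (0, [10, 2, 10], [2]), (0, [10, 8, 10], [8]), (0, [10, 8, 10], [8]),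
  (0, [10, 2, 10], [2]), (0, [10, 2, 10], [2]), (0, [10, 2, 10], [2]), (0, [10, 4, 10], [4]),
  (0, [10, 2, 10], [2]), (0, [10, 2, 10], [2]), (0, [10, 2, 10], [2]), (0, [10, 2, 10], [2]),
  (0, [10, 4, 10], [4]), (0, [10, 2, 10], [2]), (0, [10, 2, 10], [2]), (0, [10, 2, 10], [2]),
  (0, [10, 2, 10], [2]), (0, [10, 2, 10], [2]), (0, [10, 2, 10], [2]), (0, [10, 2, 10], [2]),
  (0, [10, 2, 10], [2]), (0, [10, 2, 10], [2]), (0, [10, 2, 10], [2]), (0, [10, 2, 10], [2]),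
  (0, [10, 2, 10], [2]), (0, [10, 2, 10], [2]), (0, [10, 2, 10], [2]), (0, [10, 2, 10], [2]),
  (0, [10, 2, 10], [2]), (0, [10, 3, 10], [3]), (0, [10, 2, 10], [2]), (0, [10, 2, 10], [2]),
  (0, [10, 2, 10], [2]), (0, [10, 2, 10], [2]), (0, [10, 3, 10], [3]), (0, [10, 2, 10], [2]),
  (0, [10, 2, 10], [2]), (0, [10, 2, 10], [2]), (0, [3], [10]), (0, [10, 2, 10], [2]),
  (0, [10, 2, 10], [2]), (0, [10, 2, 10], [2]), (0, [10, 2, 10], [2]), (0, [10, 2, 10], [2]),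
  (0, [10, 3, 10], [3]), (0, [10, 2, 10], [2]), (0, [10, 2, 10], [2]), (0, [10, 2, 10], [2]),
  (0, [10, 2, 10], [2]), (0, [10, 3, 10], [3]), (0, [10, 2, 10], [2]), (0, [10, 2, 10], [2]),
  (0, [10, 2, 10], [2]), (0, [10, 2, 10], [2]), (0, [10, 2, 10], [2]), (0, [10, 2, 10], [2]),
  (0, [10, 2, 10], [2]), (0, [10, 2, 10], [2]), (0, [10, 2, 10], [2]), (0, [10, 3, 10], [3]),
  (0, [10, 3, 10], [3]), (0, [10, 2, 10], [2]), (0, [10, 2, 10], [2]), (0, [10, 2, 10], [2]),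
  (0, [10, 3, 10], [3]), (0, [10, 3, 10], [3]), (0, [10, 2, 10], [2]), (0, [10, 2, 10], [2])]

/-- Some options of a node. -/
def tOpt8x1 : List (ℕ × List ℕ × List ℕ) := [
  (0, [10, 2, 10], [2]), (0, [10, 2, 10], [2]), (0, [10, 2, 10], [2]), (0, [10, 2, 10], [2]),
  (0, [10, 2, 10], [2]), (0, [10, 2, 10], [2]), (0, [10, 2, 10], [2]), (0, [10, 3, 10], [3]),
  (0, [10, 2, 10], [2]), (0, [10, 2, 10], [2]), (0, [10, 2, 10], [2]), (0, [7], [10]),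
  (0, [10, 2, 10], [2]), (0, [10, 2, 10], [2]), (0, [10, 2, 10], [2]), (0, [10, 2, 10], [2]),
  (0, [10, 6, 10], [6]), (0, [10, 2, 10], [2]), (0, [10, 2, 10], [2]), (0, [10, 2, 10], [2]),
  (0, [10, 3, 10], [3]), (0, [10, 6, 10], [6]), (0, [10, 2, 10], [2]), (0, [10, 2, 10], [2]),
  (0, [10, 3, 10], [3]), (0, [10, 2, 10], [2]), (0, [10, 2, 10], [2]), (0, [10, 2, 10], [2]),
  (0, [10, 4, 10], [4]), (0, [10, 5, 10], [5]), (0, [10, 2, 10], [2]), (0, [10, 4, 10], [4]),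
  (0, [10, 2, 10], [2]), (0, [10, 2, 10], [2]), (0, [10, 5, 10], [2, 5, 2]), (0, [10, 4, 10], [4]),
  (0, [10, 2, 10], [2]), (0, [10, 4, 10], [4]), (0, [10, 4, 10], [4]), (0, [10, 4, 10], [4]),
  (0, [10, 4, 10], [4]), (0, [10, 4, 10], [4]), (0, [10, 4, 10], [4]), (0, [10, 4, 10], [4]),
  (0, [10, 4, 10], [4]), (0, [10, 2, 10], [2]), (0, [10, 4, 10], [4]), (0, [10, 4, 10], [4]),
  (1, [], []), (0, [10, 5, 10], [6, 5, 6]), (0, [10, 5, 10], [5]), (0, [10, 2, 10], [2]),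
  (0, [10, 4, 10], [4]), (0, [10, 4, 10], [4]), (0, [10, 4, 10], [4]), (0, [10, 4, 10], [4]),
  (0, [10, 4, 10], [4]), (0, [10, 4, 10], [4]), (0, [5, 6, 4, 6, 5], [10, 5, 4, 5, 10]), (0, [10, 2, 10], [2]),
  (0, [6], [10]), (0, [10, 4, 10], [4]), (0, [10, 4, 10], [4]), (0, [10, 4, 10], [4]),
  (0, [10, 4, 10], [4]), (0, [10, 4, 10], [4]), (0, [10, 4, 10], [4]), (0, [10, 4, 10], [4]),
  (0, [10, 4, 10], [4]), (0, [10, 4, 10], [4]), (0, [10, 4, 10], [4]), (0, [10, 4, 10], [4]),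
  (0, [10, 4, 10], [4]), (0, [10, 4, 10], [4]), (0, [10, 4, 10], [4]), (0, [10, 4, 10], [4]),
  (0, [10, 4, 10], [4]), (0, [10, 4, 10], [4]), (0, [10, 4, 10], [4]), (0, [10, 4, 10], [4])]

/-- Some options of a node. -/
def tOpt8x2 : List (ℕ × List ℕ × List ℕ) := [
  (0, [10, 4, 10], [4]), (0, [10, 4, 10], [4]), (0, [10, 4, 10], [4]), (0, [10, 4, 10], [4]),
  (0, [10, 4, 10], [4]), (0, [10, 4, 10], [4]), (0, [10, 4, 10], [4]), (0, [3, 3, 6, 8, 4, 6, 10], [4, 8]),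
  (0, [10, 4, 10], [4]), (0, [10, 4, 10], [4]), (0, [5, 6, 4, 6, 5], [10, 5, 4, 5, 10]), (0, [10, 8, 10], [8]),
  (0, [10, 8, 10], [8]), (0, [10, 3, 10], [3]), (0, [10, 2, 10], [2]), (0, [10, 2, 10], [2]),
  (0, [10, 2, 10], [2]), (0, [10, 2, 10], [2]), (0, [10, 2, 10], [2]), (0, [10, 3, 10], [3]),
  (0, [10, 2, 10], [2]), (0, [10, 2, 10], [2]), (0, [8], [10]), (0, [10, 2, 10], [2]),
  (0, [10, 3, 10], [2, 3, 2]), (0, [10, 3, 10], [3]), (0, [10, 2, 10], [2]), (0, [10, 2, 10], [2]),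
  (0, [10, 2, 10], [2]), (0, [10, 2, 10], [2]), (0, [10, 3, 10], [2, 3, 2]), (0, [10, 3, 10], [3]),
  (0, [10, 2, 10], [2]), (0, [10, 2, 10], [2]), (0, [10, 2, 10], [2]), (0, [10, 3, 10], [2, 3, 2]),
  (0, [10, 2, 10], [2]), (0, [10, 2, 10], [2]), (0, [10, 2, 10], [2]), (0, [10, 2, 10], [2]),
  (0, [10, 2, 10], [2]), (0, [3, 2, 3], [10]), (0, [10, 3, 10], [2, 3, 2]), (0, [10, 2, 10], [2]),
  (0, [10, 2, 10], [2]), (0, [10, 2, 10], [2]), (0, [10, 4, 10], [4]), (0, [10, 2, 10], [2]),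
  (0, [10, 3, 10], [2, 3, 2]), (0, [10, 2, 10], [2]), (0, [10, 2, 10], [2]), (0, [10, 2, 10], [2]),
  (0, [10, 5, 10], [5]), (0, [10, 4, 10], [4]), (0, [10, 2, 10], [2]), (0, [10, 2, 10], [2]),
  (0, [10, 2, 10], [2]), (0, [10, 2, 10], [2]), (0, [10, 2, 10], [2]), (0, [10, 2, 10], [2]),
  (0, [2], [10]), (0, [10, 2, 10], [2]), (0, [10, 2, 10], [2]), (0, [10, 2, 10], [2]),
  (0, [10, 2, 10], [2]), (0, [10, 2, 10], [2]), (0, [10, 2, 10], [2]), (0, [10, 2, 10], [2]),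
  (0, [10, 2, 10], [2]), (0, [10, 2, 10], [2]), (0, [10, 2, 10], [2]), (0, [5, 2, 5], [10]),
  (0, [10, 2, 10], [2]), (0, [10, 2, 10], [2]), (0, [10, 2, 10], [2]), (0, [10, 2, 10], [2]),
  (0, [10, 2, 10], [2]), (0, [10, 2, 10], [2]), (0, [10, 5, 10], [6, 5, 6]), (0, [10, 4, 10], [4])]

/-- Some options of a node. -/
def tOpt8x3 : List (ℕ × List ℕ × List ℕ) := [
  (0, [10, 4, 10], [4]), (0, [10, 3, 10], [3]), (0, [10, 2, 10], [2]), (0, [10, 2, 10], [2]),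
  (0, [10, 2, 10], [2]), (0, [10, 4, 10], [4]), (0, [8, 2, 8], [10]), (0, [10, 5, 10], [7, 5, 7]),
  (0, [10, 4, 10], [4]), (0, [10, 2, 10], [2]), (0, [10, 2, 10], [2]), (0, [10, 2, 10], [2]),
  (0, [10, 2, 10], [2]), (0, [10, 2, 10], [2]), (0, [10, 2, 10], [2]), (0, [4], [10]),
  (0, [10, 2, 10], [2]), (0, [10, 2, 10], [2]), (0, [10, 2, 10], [2]), (0, [10, 2, 10], [2]),
  (0, [10, 2, 10], [2]), (0, [10, 4, 10], [4]), (0, [10, 4, 10], [4]), (0, [10, 4, 10], [4]),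
  (0, [5], [10]), (0, [10, 2, 10], [2]), (0, [10, 4, 10], [4]), (0, [10, 2, 10], [2]),
  (0, [10, 2, 10], [2]), (0, [10, 2, 10], [2]), (0, [10, 2, 10], [2]), (0, [10, 4, 10], [4]),
  (0, [10, 2, 10], [2]), (0, [10, 2, 10], [2]), (0, [10, 2, 10], [2]), (0, [10, 2, 10], [2]),
  (0, [10, 2, 10], [2]), (0, [10, 2, 10], [2]), (0, [10, 4, 10], [4]), (0, [10, 3, 10], [3]),
  (0, [10, 4, 10], [4]), (0, [4, 2, 4], [10]), (0, [10, 4, 10], [4]), (0, [10, 3, 10], [3]),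
  (0, [10, 4, 10], [4]), (0, [10, 2, 10], [2]), (0, [10, 2, 10], [2]), (0, [10, 2, 10], [2]),
  (0, [10, 2, 10], [2]), (0, [10, 2, 10], [2]), (0, [10, 4, 10], [4]), (0, [10, 2, 10], [2]),
  (0, [10, 2, 10], [2]), (0, [10, 4, 10], [4]), (0, [10, 4, 10], [4]), (0, [10, 2, 10], [2]),
  (0, [10, 2, 10], [2]), (0, [10, 2, 10], [2]), (0, [10, 4, 10], [4]), (0, [10, 2, 10], [2]),
  (0, [10, 3, 10], [3]), (0, [10, 2, 10], [2]), (0, [10, 2, 10], [2]), (0, [10, 2, 10], [2]),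
  (0, [10, 2, 10], [2]), (0, [10, 2, 10], [2]), (0, [10, 2, 10], [2]), (0, [10, 2, 10], [2]),
  (0, [10, 2, 10], [2]), (0, [10, 2, 10], [2]), (0, [10, 2, 10], [2]), (0, [10, 2, 10], [2]),
  (0, [10, 2, 10], [2]), (0, [10, 2, 10], [2]), (0, [10, 2, 10], [2]), (0, [10, 2, 10], [2]),
  (0, [10, 2, 10], [2])]

/-- A node. -/
def tNode8 : TNode := ⟨[0, 1, 159, 12, 255, 268, 135, 183, 182, 8], [1, 0, 220, 50, 255, 264, 140, 91, 182, 8], 128, tOpt8x0 ++ tOpt8x1 ++ tOpt8x2 ++ tOpt8x3, [9]⟩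

/-- A node. -/
def tNode9 : TNode := ⟨[0, 1, 159, 12, 255, 268, 135, 183, 182, 8, 128], [1, 0, 220, 50, 255, 264, 140, 91, 182, 8, 128], 0, [], []⟩

/-- Some options of a node. -/
def tOpt10x0 : List (ℕ × List ℕ × List ℕ) := [
  (0, [1], [4]), (0, [0], [4]), (0, [4, 2, 4], [2]), (0, [4, 2, 4], [2]),
  (0, [4, 3, 4], [3]), (0, [4, 2, 4], [2]), (0, [4, 2, 4], [2]), (0, [4, 3, 4], [3]),
  (0, [4, 2, 4], [2]), (0, [4, 2, 4], [2]), (0, [4, 2, 4], [2]), (0, [4, 3, 4], [3]),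
  (0, [4, 3, 4], [3]), (0, [4, 3, 4], [3]), (0, [4, 2, 4], [2]), (0, [4, 2, 4], [2]),
  (0, [4, 3, 4], [3]), (0, [4, 3, 4], [3]), (0, [4, 3, 4], [3]), (0, [4, 2, 4], [2]),
  (0, [4, 3, 4], [3]), (0, [4, 3, 4], [3]), (0, [4, 3, 4], [3]), (0, [4, 3, 4], [3]),
  (0, [4, 2, 4], [2]), (0, [4, 3, 4], [3]), (0, [4, 3, 4], [3]), (0, [4, 3, 4], [3]),
  (0, [4, 3, 4], [3]), (0, [3], [4]), (0, [4, 3, 4], [3]), (0, [4, 3, 4], [3]),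
  (0, [4, 3, 4], [3]), (0, [4, 3, 4], [3]), (0, [4, 3, 4], [3]), (0, [4, 2, 4], [3, 2, 3]),
  (0, [4, 3, 4], [3]), (0, [4, 3, 4], [3]), (0, [4, 3, 4], [3]), (0, [3, 4, 3], [4, 3, 4]),
  (0, [4, 3, 4], [3]), (0, [4, 2, 4], [2]), (0, [4, 3, 4], [3]), (0, [4, 3, 4], [3]),
  (0, [4, 3, 4], [3]), (0, [3, 4, 3], [4, 3, 4]), (0, [4, 2, 4], [2]), (0, [4, 3, 4], [3]),
  (0, [4, 3, 4], [3]), (0, [4, 3, 4], [3]), (0, [4, 3, 4], [3]), (0, [3, 4, 3], [4, 3, 4]),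
  (0, [3, 4, 3], [4, 3, 4]), (0, [3, 4, 3], [4, 3, 4]), (0, [4, 3, 4], [3]), (0, [4, 3, 4], [3]),
  (0, [4, 2, 4], [2]), (0, [4, 3, 4], [3]), (0, [3, 4, 3], [4, 3, 4]), (0, [3, 4, 3], [4, 3, 4]),
  (0, [3, 4, 3], [4, 3, 4]), (0, [4, 2, 4], [2]), (0, [4, 3, 4], [3]), (0, [4, 3, 4], [3]),
  (0, [4, 3, 4], [3]), (0, [3, 4, 3], [4, 3, 4]), (0, [3, 4, 3], [4, 3, 4]), (0, [3, 4, 3], [4, 3, 4]),
  (0, [3, 4, 3], [4, 3, 4]), (0, [3, 4, 3], [4, 3, 4]), (0, [4, 3, 4], [3]), (0, [4, 2, 4], [2]),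
  (0, [4, 2, 4], [2]), (0, [3, 4, 3], [4, 3, 4]), (0, [3, 4, 3], [4, 3, 4]), (0, [3, 4, 3], [4, 3, 4]),
  (0, [4, 2, 4], [2]), (0, [4, 2, 4], [2]), (0, [4, 3, 4], [3]), (0, [3, 4, 3], [4, 3, 4])]

/-- Some options of a node. -/
def tOpt10x1 : List (ℕ × List ℕ × List ℕ) := [
  (0, [3, 4, 3], [4, 3, 4]), (0, [4, 2, 4], [3, 2, 3]), (0, [3, 4, 3], [4, 3, 4]), (0, [3, 4, 3], [4, 3, 4]),
  (0, [3, 4, 3], [4, 3, 4]), (0, [3, 4, 3], [4, 3, 4]), (0, [4, 2, 4], [3, 2, 3]), (0, [4, 2, 4], [2]),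
  (0, [3, 4, 3], [4, 3, 4]), (0, [4, 2, 4], [3, 2, 3]), (0, [3, 4, 3], [4, 3, 4]), (0, [4, 2, 4], [2]),
  (0, [4, 2, 4], [3, 2, 3]), (0, [3, 4, 3], [4, 3, 4]), (0, [3, 4, 3], [4, 3, 4]), (0, [3, 4, 3], [4, 3, 4]),
  (0, [4, 2, 4], [2]), (0, [3, 4, 3], [4, 3, 4]), (0, [3, 4, 3], [4, 3, 4]), (0, [3, 4, 3], [4, 3, 4]),
  (0, [4, 2, 4], [2]), (0, [4, 2, 4], [2]), (0, [3, 4, 3], [4, 3, 4]), (0, [3, 4, 3], [4, 3, 4]),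
  (0, [4, 2, 4], [2]), (0, [3, 4, 3], [4, 3, 4]), (0, [3, 4, 3], [4, 3, 4]), (0, [3, 4, 3], [4, 3, 4]),
  (0, [4, 2, 4], [2]), (0, [4, 2, 4], [2]), (0, [3, 4, 3], [4, 3, 4]), (0, [4, 2, 4], [2]),
  (0, [3, 4, 3], [4, 3, 4]), (0, [3, 4, 3], [4, 3, 4]), (0, [4, 2, 4], [2]), (0, [4, 2, 4], [2]),
  (0, [3, 4, 3], [4, 3, 4]), (0, [4, 2, 4], [2]), (0, [4, 2, 4], [2]), (0, [4, 2, 4], [2]),
  (0, [4, 2, 4], [2]), (0, [4, 2, 4], [2]), (0, [4, 2, 4], [2]), (0, [4, 2, 4], [2]),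
  (0, [4, 2, 4], [2]), (0, [3, 4, 3], [4, 3, 4]), (0, [4, 2, 4], [2]), (0, [4, 2, 4], [2]),
  (0, [4, 2, 4], [2]), (0, [4, 2, 4], [2]), (0, [4, 2, 4], [2]), (0, [4, 2, 4], [3, 2, 3]),
  (0, [4, 2, 4], [2]), (0, [4, 2, 4], [2]), (0, [4, 2, 4], [2]), (0, [4, 2, 4], [2]),
  (0, [4, 2, 4], [2]), (0, [4, 2, 4], [2]), (0, [4, 2, 4], [2]), (0, [4, 2, 4], [3, 2, 3]),
  (0, [4, 2, 4], [2]), (0, [4, 2, 4], [2]), (0, [4, 2, 4], [2]), (0, [4, 2, 4], [2]),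
  (0, [4, 2, 4], [2]), (0, [4, 2, 4], [2]), (0, [4, 2, 4], [2]), (0, [4, 2, 4], [2]),
  (0, [4, 2, 4], [2]), (0, [4, 2, 4], [2]), (0, [4, 2, 4], [2]), (0, [4, 2, 4], [2]),
  (0, [4, 2, 4], [2]), (0, [4, 2, 4], [2]), (0, [4, 2, 4], [2]), (0, [4, 2, 4], [2]),
  (0, [4, 2, 4], [2]), (0, [4, 2, 4], [2]), (0, [4, 2, 4], [2]), (0, [4, 2, 4], [2])]

/-- Some options of a node. -/
def tOpt10x2 : List (ℕ × List ℕ × List ℕ) := [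
  (0, [4, 2, 4], [2]), (0, [4, 2, 4], [2]), (0, [4, 2, 4], [2]), (0, [4, 2, 4], [2]),
  (0, [4, 2, 4], [2]), (0, [4, 2, 4], [2]), (0, [4, 2, 4], [2]), (0, [4, 2, 4], [2]),
  (0, [4, 2, 4], [2]), (0, [4, 2, 4], [2]), (0, [4, 2, 4], [2]), (0, [4, 2, 4], [2]),
  (0, [4, 2, 4], [2]), (0, [4, 2, 4], [2]), (0, [4, 3, 4], [3]), (0, [4, 3, 4], [3]),
  (0, [4, 3, 4], [3]), (0, [4, 3, 4], [3]), (0, [4, 3, 4], [3]), (0, [4, 2, 4], [2]),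
  (0, [4, 3, 4], [3]), (0, [4, 2, 4], [3, 2, 3]), (0, [4, 3, 4], [3]), (0, [4, 2, 4], [3, 2, 3]),
  (0, [4, 2, 4], [2]), (0, [4, 2, 4], [2]), (0, [4, 2, 4], [3, 2, 3]), (0, [4, 3, 4], [3]),
  (0, [4, 2, 4], [3, 2, 3]), (0, [4, 3, 4], [3]), (0, [4, 2, 4], [2]), (0, [4, 2, 4], [2]),
  (0, [4, 3, 4], [3]), (0, [4, 3, 4], [3]), (0, [4, 3, 4], [3]), (0, [4, 2, 4], [2]),
  (0, [4, 3, 4], [3]), (0, [4, 3, 4], [3]), (0, [4, 2, 4], [3, 2, 3]), (0, [4, 3, 4], [3]),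
  (0, [4, 2, 4], [3, 2, 3]), (0, [4, 2, 4], [2]), (0, [4, 2, 4], [2]), (0, [4, 2, 4], [3, 2, 3]),
  (0, [4, 3, 4], [3]), (0, [4, 2, 4], [3, 2, 3]), (0, [4, 2, 4], [2]), (0, [4, 3, 4], [3]),
  (0, [3, 2, 3], [4]), (0, [4, 3, 4], [3]), (0, [4, 3, 4], [3]), (0, [4, 3, 4], [3]),
  (0, [4, 2, 4], [2]), (0, [4, 2, 4], [2]), (0, [3, 4, 3], [4, 3, 4]), (0, [3, 4, 3], [4, 3, 4]),
  (0, [3, 4, 3], [4, 3, 4]), (0, [4, 3, 4], [3]), (0, [4, 3, 4], [3]), (0, [4, 3, 4], [3]),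
  (0, [2], [4]), (0, [3, 4, 3], [4, 3, 4]), (0, [3, 4, 3], [4, 3, 4]), (0, [3, 4, 3], [4, 3, 4]),
  (0, [4, 3, 4], [3]), (0, [4, 3, 4], [3]), (0, [4, 3, 4], [3]), (0, [4, 3, 4], [3]),
  (0, [4, 3, 4], [3]), (0, [4, 3, 4], [3]), (0, [3, 4, 3], [4, 3, 4]), (0, [4, 2, 4], [2]),
  (0, [3, 4, 3], [4, 3, 4]), (0, [4, 3, 4], [3]), (0, [4, 3, 4], [3]), (0, [4, 3, 4], [3]),
  (0, [4, 3, 4], [3]), (0, [4, 3, 4], [3]), (0, [4, 2, 4], [2]), (0, [4, 2, 4], [2])]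

/-- Some options of a node. -/
def tOpt10x3 : List (ℕ × List ℕ × List ℕ) := [
  (0, [4, 2, 4], [2]), (0, [4, 2, 4], [2]), (0, [3, 4, 3], [4, 3, 4]), (0, [3, 4, 3], [4, 3, 4]),
  (0, [3, 4, 3], [4, 3, 4]), (0, [4, 2, 4], [2]), (0, [4, 2, 4], [2]), (0, [4, 2, 4], [2]),
  (0, [4, 2, 4], [2]), (0, [3, 4, 3], [4, 3, 4]), (0, [3, 4, 3], [4, 3, 4]), (0, [3, 4, 3], [4, 3, 4]),
  (0, [3, 4, 3], [4, 3, 4]), (0, [4, 3, 4], [3]), (0, [4, 3, 4], [3]), (0, [4, 3, 4], [3]),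
  (0, [3, 4, 3], [4, 3, 4]), (0, [3, 4, 3], [4, 3, 4]), (0, [3, 4, 3], [4, 3, 4]), (0, [3, 4, 3], [4, 3, 4]),
  (0, [3, 4, 3], [4, 3, 4]), (0, [4, 2, 4], [2]), (0, [4, 2, 4], [2]), (0, [4, 2, 4], [2]),
  (0, [3, 4, 3], [4, 3, 4]), (0, [3, 4, 3], [4, 3, 4]), (0, [4, 2, 4], [2]), (0, [3, 4, 3], [4, 3, 4]),
  (0, [3, 4, 3], [4, 3, 4]), (0, [3, 4, 3], [4, 3, 4]), (0, [3, 4, 3], [4, 3, 4]), (0, [4, 2, 4], [2]),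
  (0, [4, 3, 4], [3]), (0, [4, 3, 4], [3]), (0, [4, 3, 4], [3]), (0, [3, 4, 3], [4, 3, 4]),
  (0, [3, 4, 3], [4, 3, 4]), (0, [3, 4, 3], [4, 3, 4]), (0, [4, 2, 4], [2]), (0, [4, 2, 4], [2]),
  (0, [4, 2, 4], [2]), (0, [4, 2, 4], [2]), (0, [4, 2, 4], [2]), (0, [4, 2, 4], [2]),
  (0, [4, 2, 4], [2]), (0, [3, 4, 3], [4, 3, 4]), (0, [3, 4, 3], [4, 3, 4]), (0, [3, 4, 3], [4, 3, 4]),
  (0, [3, 4, 3], [4, 3, 4]), (0, [3, 4, 3], [4, 3, 4]), (0, [4, 2, 4], [2]), (0, [3, 4, 3], [4, 3, 4]),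
  (0, [3, 4, 3], [4, 3, 4]), (0, [4, 2, 4], [2]), (0, [4, 2, 4], [2]), (0, [3, 4, 3], [4, 3, 4]),
  (0, [3, 4, 3], [4, 3, 4]), (0, [3, 4, 3], [4, 3, 4]), (0, [4, 2, 4], [2]), (0, [3, 4, 3], [4, 3, 4]),
  (0, [4, 2, 4], [2]), (0, [3, 4, 3], [4, 3, 4]), (0, [4, 3, 4], [3]), (0, [3, 4, 3], [4, 3, 4]),
  (0, [3, 4, 3], [4, 3, 4]), (0, [3, 4, 3], [4, 3, 4]), (0, [3, 4, 3], [4, 3, 4]), (0, [4, 3, 4], [3]),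
  (0, [4, 3, 4], [3]), (0, [4, 3, 4], [3]), (0, [3, 4, 3], [4, 3, 4]), (0, [3, 4, 3], [4, 3, 4]),
  (0, [3, 4, 3], [4, 3, 4]), (0, [4, 3, 4], [3]), (0, [4, 3, 4], [3]), (0, [4, 3, 4], [3]),
  (0, [4, 3, 4], [3])]

/-- A node. -/
def tNode10 : TNode := ⟨[0, 1, 159, 12], [1, 0, 220, 29], 90, tOpt10x0 ++ tOpt10x1 ++ tOpt10x2 ++ tOpt10x3, []⟩

/-- Some options of a node. -/
def tOpt11x0 : List (ℕ × List ℕ × List ℕ) := [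
  (0, [1], [4]), (0, [0], [4]), (0, [4, 2, 4], [2]), (0, [4, 2, 4], [2]),
  (0, [4, 3, 4], [3]), (0, [4, 2, 4], [2]), (0, [4, 2, 4], [2]), (0, [4, 3, 4], [3]),
  (0, [4, 2, 4], [2]), (0, [4, 2, 4], [2]), (0, [4, 2, 4], [2]), (0, [4, 3, 4], [3]),
  (0, [4, 3, 4], [3]), (0, [4, 3, 4], [3]), (0, [4, 2, 4], [2]), (0, [4, 2, 4], [2]),
  (0, [4, 3, 4], [3]), (0, [4, 3, 4], [3]), (0, [4, 3, 4], [3]), (0, [4, 2, 4], [2]),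
  (0, [4, 3, 4], [3]), (0, [4, 3, 4], [3]), (0, [4, 3, 4], [3]), (0, [4, 3, 4], [3]),
  (0, [4, 2, 4], [2]), (0, [4, 3, 4], [3]), (0, [4, 3, 4], [3]), (0, [4, 3, 4], [3]),
  (0, [4, 3, 4], [3]), (0, [4, 3, 4], [3]), (0, [4, 3, 4], [3]), (0, [4, 3, 4], [3]),
  (0, [4, 3, 4], [3]), (0, [4, 3, 4], [3]), (0, [4, 3, 4], [3]), (0, [4, 3, 4], [3]),
  (0, [4, 3, 4], [3]), (0, [4, 3, 4], [3]), (0, [4, 3, 4], [3]), (0, [3, 4, 2, 4, 3], [4, 2, 4]),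
  (0, [4, 3, 4], [3]), (0, [4, 2, 4], [2]), (0, [4, 3, 4], [3]), (0, [4, 3, 4], [3]),
  (0, [4, 3, 4], [3]), (0, [3, 4, 2, 4, 3], [4, 2, 4]), (0, [4, 2, 4], [2]), (0, [4, 3, 4], [3]),
  (0, [4, 3, 4], [3]), (0, [4, 3, 4], [3]), (0, [4, 3, 4], [3]), (0, [3, 4, 2, 4, 3], [4, 2, 4]),
  (0, [3, 4, 2, 4, 3], [4, 2, 4]), (0, [3, 4, 2, 4, 3], [4, 2, 4]), (0, [3], [4]), (0, [4, 2, 4], [3, 2, 3]),
  (0, [4, 2, 4], [2]), (0, [4, 3, 4], [3]), (0, [3, 4, 2, 4, 3], [4, 2, 4]), (0, [3, 4, 2, 4, 3], [4, 2, 4]),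
  (0, [3, 4, 2, 4, 3], [4, 2, 4]), (0, [4, 2, 4], [2]), (0, [4, 3, 4], [3]), (0, [4, 2, 4], [3, 2, 3]),
  (0, [4, 2, 4], [3, 2, 3]), (0, [3, 4, 2, 4, 3], [4, 2, 4]), (0, [3, 4, 2, 4, 3], [4, 2, 4]), (0, [3, 4, 2, 4, 3], [4, 2, 4]),
  (0, [3, 4, 2, 4, 3], [4, 2, 4]), (0, [3, 4, 2, 4, 3], [4, 2, 4]), (0, [4, 3, 4], [3]), (0, [4, 2, 4], [2]),
  (0, [4, 2, 4], [2]), (0, [3, 4, 2, 4, 3], [4, 2, 4]), (0, [3, 4, 2, 4, 3], [4, 2, 4]), (0, [3, 4, 2, 4, 3], [4, 2, 4]),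
  (0, [4, 2, 4], [2]), (0, [4, 2, 4], [2]), (0, [4, 3, 4], [3]), (0, [3, 4, 2, 4, 3], [4, 2, 4])]

/-- Some options of a node. -/
def tOpt11x1 : List (ℕ × List ℕ × List ℕ) := [
  (0, [3, 4, 2, 4, 3], [4, 2, 4]), (0, [3, 4, 2, 4, 3], [4, 3, 2, 3, 4]), (0, [3, 4, 2, 4, 3], [4, 2, 4]), (0, [3, 4, 2, 4, 3], [4, 2, 4]),
  (0, [3, 4, 2, 4, 3], [4, 2, 4]), (0, [3, 4, 2, 4, 3], [4, 2, 4]), (0, [4, 3, 4], [3]), (0, [4, 2, 4], [2]),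
  (0, [3, 4, 2, 4, 3], [4, 2, 4]), (0, [3, 4, 2, 4, 3], [4, 3, 2, 3, 4]), (0, [3, 4, 2, 4, 3], [4, 2, 4]), (0, [4, 2, 4], [2]),
  (0, [4, 3, 4], [3]), (0, [3, 4, 2, 4, 3], [4, 2, 4]), (0, [3, 4, 2, 4, 3], [4, 2, 4]), (0, [3, 4, 2, 4, 3], [4, 3, 2, 3, 4]),
  (0, [4, 2, 4], [2]), (0, [3, 4, 2, 4, 3], [4, 2, 4]), (0, [3, 4, 2, 4, 3], [4, 2, 4]), (0, [3, 4, 2, 4, 3], [4, 2, 4]),
  (0, [4, 2, 4], [2]), (0, [4, 2, 4], [2]), (0, [3, 4, 2, 4, 3], [4, 2, 4]), (0, [3, 4, 2, 4, 3], [4, 3, 2, 3, 4]),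
  (0, [4, 2, 4], [2]), (0, [3, 4, 2, 4, 3], [4, 2, 4]), (0, [4, 2, 4], [3, 2, 3]), (0, [4, 2, 4], [3, 2, 3]),
  (0, [4, 2, 4], [2]), (0, [4, 2, 4], [2]), (0, [3, 4, 2, 4, 3], [4, 2, 4]), (0, [4, 2, 4], [2]),
  (0, [4, 2, 4], [3, 2, 3]), (0, [4, 2, 4], [3, 2, 3]), (0, [4, 2, 4], [2]), (0, [4, 2, 4], [2]),
  (0, [3, 4, 2, 4, 3], [4, 3, 2, 3, 4]), (0, [4, 2, 4], [2]), (0, [4, 2, 4], [2]), (0, [4, 2, 4], [2]),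
  (0, [4, 2, 4], [2]), (0, [4, 2, 4], [2]), (0, [4, 2, 4], [2]), (0, [4, 2, 4], [2]),
  (0, [4, 2, 4], [2]), (0, [3, 4, 2, 4, 3], [4, 3, 2, 3, 4]), (0, [4, 2, 4], [2]), (0, [4, 2, 4], [2]),
  (0, [4, 2, 4], [2]), (0, [4, 2, 4], [2]), (0, [4, 2, 4], [2]), (0, [3, 4, 2, 4, 3], [4, 3, 2, 3, 4]),
  (0, [4, 2, 4], [2]), (0, [4, 2, 4], [2]), (0, [4, 2, 4], [2]), (0, [4, 2, 4], [2]),
  (0, [4, 2, 4], [2]), (0, [4, 2, 4], [2]), (0, [4, 2, 4], [2]), (0, [3, 4, 2, 4, 3], [4, 3, 2, 3, 4]),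
  (0, [4, 2, 4], [2]), (0, [4, 2, 4], [2]), (0, [4, 2, 4], [2]), (0, [4, 2, 4], [2]),
  (0, [4, 2, 4], [2]), (0, [4, 2, 4], [2]), (0, [4, 2, 4], [2]), (0, [4, 2, 4], [2]),
  (0, [4, 2, 4], [2]), (0, [4, 2, 4], [2]), (0, [4, 2, 4], [2]), (0, [4, 2, 4], [2]),
  (0, [4, 2, 4], [2]), (0, [4, 2, 4], [2]), (0, [4, 2, 4], [2]), (0, [4, 2, 4], [2]),
  (0, [4, 2, 4], [2]), (0, [4, 2, 4], [2]), (0, [4, 2, 4], [2]), (0, [4, 2, 4], [2])]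

/-- Some options of a node. -/
def tOpt11x2 : List (ℕ × List ℕ × List ℕ) := [
  (0, [4, 2, 4], [2]), (0, [4, 2, 4], [2]), (0, [4, 2, 4], [2]), (0, [4, 2, 4], [2]),
  (0, [4, 2, 4], [2]), (0, [4, 2, 4], [2]), (0, [4, 2, 4], [2]), (0, [4, 2, 4], [2]),
  (0, [4, 2, 4], [2]), (0, [4, 2, 4], [2]), (0, [4, 2, 4], [2]), (0, [4, 2, 4], [2]),
  (0, [4, 2, 4], [2]), (0, [4, 2, 4], [2]), (0, [4, 2, 4], [3, 2, 3]), (0, [4, 2, 4], [3, 2, 3]),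
  (0, [4, 3, 4], [3]), (0, [4, 3, 4], [3]), (0, [4, 3, 4], [3]), (0, [4, 2, 4], [2]),
  (0, [4, 3, 4], [3]), (0, [4, 3, 4], [3]), (0, [4, 2, 4], [3, 2, 3]), (0, [4, 3, 4], [3]),
  (0, [4, 2, 4], [2]), (0, [4, 2, 4], [2]), (0, [4, 3, 4], [3]), (0, [4, 2, 4], [3, 2, 3]),
  (0, [4, 3, 4], [3]), (0, [4, 2, 4], [3, 2, 3]), (0, [4, 2, 4], [2]), (0, [4, 2, 4], [2]),
  (0, [4, 2, 4], [3, 2, 3]), (0, [4, 3, 4], [3]), (0, [4, 3, 4], [3]), (0, [4, 2, 4], [2]),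
  (0, [4, 3, 4], [3]), (0, [4, 3, 4], [3]), (0, [4, 3, 4], [3]), (0, [4, 2, 4], [3, 2, 3]),
  (0, [4, 3, 4], [3]), (0, [4, 2, 4], [2]), (0, [4, 2, 4], [2]), (0, [4, 3, 4], [3]),
  (0, [4, 2, 4], [3, 2, 3]), (0, [4, 3, 4], [3]), (0, [4, 2, 4], [2]), (0, [3, 4, 2, 4, 3], [4, 2, 4]),
  (0, [4, 2, 4], [2]), (0, [3, 4, 2, 4, 3], [4, 2, 4]), (0, [3, 4, 2, 4, 3], [4, 2, 4]), (0, [3, 4, 2, 4, 3], [4, 2, 4]),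
  (0, [4, 2, 4], [2]), (0, [4, 2, 4], [2]), (0, [4, 2, 4], [3, 2, 3]), (0, [4, 2, 4], [3, 2, 3]),
  (0, [3, 4, 2, 4, 3], [4, 2, 4]), (0, [3, 4, 2, 4, 3], [4, 2, 4]), (0, [3, 4, 2, 4, 3], [4, 2, 4]), (0, [3, 4, 2, 4, 3], [4, 2, 4]),
  (0, [2], [4]), (0, [4, 2, 4], [3, 2, 3]), (0, [4, 2, 4], [3, 2, 3]), (0, [3, 4, 2, 4, 3], [4, 2, 4]),
  (0, [3, 4, 2, 4, 3], [4, 2, 4]), (0, [3, 4, 2, 4, 3], [4, 2, 4]), (0, [3, 4, 2, 4, 3], [4, 2, 4]), (0, [3, 4, 2, 4, 3], [4, 2, 4]),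
  (0, [3, 4, 2, 4, 3], [4, 2, 4]), (0, [3, 4, 2, 4, 3], [4, 2, 4]), (0, [3, 4, 2, 4, 3], [4, 2, 4]), (0, [4, 2, 4], [2]),
  (0, [3, 4, 2, 4, 3], [4, 2, 4]), (0, [3, 4, 2, 4, 3], [4, 2, 4]), (0, [3, 4, 2, 4, 3], [4, 2, 4]), (0, [3, 4, 2, 4, 3], [4, 2, 4]),
  (0, [3, 4, 2, 4, 3], [4, 2, 4]), (0, [3, 4, 2, 4, 3], [4, 2, 4]), (0, [4, 2, 4], [2]), (0, [4, 2, 4], [2])]

/-- Some options of a node. -/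
def tOpt11x3 : List (ℕ × List ℕ × List ℕ) := [
  (0, [4, 2, 4], [2]), (0, [4, 2, 4], [2]), (0, [3, 4, 2, 4, 3], [4, 2, 4]), (0, [3, 4, 2, 4, 3], [4, 2, 4]),
  (0, [3, 4, 2, 4, 3], [4, 2, 4]), (0, [4, 2, 4], [2]), (0, [3, 2, 3], [4]), (0, [4, 2, 4], [2]),
  (0, [4, 2, 4], [2]), (0, [4, 2, 4], [3, 2, 3]), (0, [3, 4, 2, 4, 3], [4, 2, 4]), (0, [3, 4, 2, 4, 3], [4, 2, 4]),
  (0, [3, 4, 2, 4, 3], [4, 2, 4]), (0, [3, 4, 2, 4, 3], [4, 2, 4]), (0, [3, 4, 2, 4, 3], [4, 2, 4]), (0, [3, 4, 2, 4, 3], [4, 2, 4]),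
  (0, [4, 2, 4], [3, 2, 3]), (0, [4, 2, 4], [3, 2, 3]), (0, [4, 2, 4], [3, 2, 3]), (0, [4, 2, 4], [3, 2, 3]),
  (0, [3, 4, 2, 4, 3], [4, 2, 4]), (0, [4, 2, 4], [2]), (0, [4, 2, 4], [2]), (0, [4, 2, 4], [2]),
  (0, [3, 4, 2, 4, 3], [4, 2, 4]), (0, [3, 4, 2, 4, 3], [4, 2, 4]), (0, [4, 2, 4], [2]), (0, [4, 2, 4], [3, 2, 3]),
  (0, [3, 4, 2, 4, 3], [4, 2, 4]), (0, [3, 4, 2, 4, 3], [4, 2, 4]), (0, [3, 4, 2, 4, 3], [4, 2, 4]), (0, [4, 2, 4], [2]),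
  (0, [3, 4, 2, 4, 3], [4, 2, 4]), (0, [3, 4, 2, 4, 3], [4, 2, 4]), (0, [3, 4, 2, 4, 3], [4, 2, 4]), (0, [4, 2, 4], [3, 2, 3]),
  (0, [3, 4, 2, 4, 3], [4, 2, 4]), (0, [3, 4, 2, 4, 3], [4, 2, 4]), (0, [4, 2, 4], [2]), (0, [4, 2, 4], [2]),
  (0, [4, 2, 4], [2]), (0, [4, 2, 4], [2]), (0, [4, 2, 4], [2]), (0, [4, 2, 4], [2]),
  (0, [4, 2, 4], [2]), (0, [3, 4, 2, 4, 3], [4, 2, 4]), (0, [4, 2, 4], [3, 2, 3]), (0, [3, 4, 2, 4, 3], [4, 2, 4]),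
  (0, [3, 4, 2, 4, 3], [4, 2, 4]), (0, [3, 4, 2, 4, 3], [4, 2, 4]), (0, [4, 2, 4], [2]), (0, [4, 2, 4], [3, 2, 3]),
  (0, [4, 2, 4], [3, 2, 3]), (0, [4, 2, 4], [2]), (0, [4, 2, 4], [2]), (0, [3, 4, 2, 4, 3], [4, 2, 4]),
  (0, [3, 4, 2, 4, 3], [4, 2, 4]), (0, [3, 4, 2, 4, 3], [4, 2, 4]), (0, [4, 2, 4], [2]), (0, [4, 2, 4], [3, 2, 3]),
  (0, [4, 2, 4], [2]), (0, [4, 2, 4], [3, 2, 3]), (0, [3, 4, 2, 4, 3], [4, 2, 4]), (0, [3, 4, 2, 4, 3], [4, 2, 4]),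
  (0, [3, 4, 2, 4, 3], [4, 2, 4]), (0, [3, 4, 2, 4, 3], [4, 2, 4]), (0, [3, 4, 2, 4, 3], [4, 2, 4]), (0, [3, 4, 2, 4, 3], [4, 2, 4]),
  (0, [3, 4, 2, 4, 3], [4, 2, 4]), (0, [3, 4, 2, 4, 3], [4, 2, 4]), (0, [3, 4, 2, 4, 3], [4, 2, 4]), (0, [3, 4, 2, 4, 3], [4, 2, 4]),
  (0, [3, 4, 2, 4, 3], [4, 2, 4]), (0, [3, 4, 2, 4, 3], [4, 2, 4]), (0, [3, 4, 2, 4, 3], [4, 2, 4]), (0, [3, 4, 2, 4, 3], [4, 2, 4]),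
  (0, [3, 4, 2, 4, 3], [4, 2, 4])]

/-- A node. -/
def tNode11 : TNode := ⟨[0, 1, 159, 12], [1, 0, 220, 54], 311, tOpt11x0 ++ tOpt11x1 ++ tOpt11x2 ++ tOpt11x3, []⟩

/-- Some options of a node. -/
def tOpt12x0 : List (ℕ × List ℕ × List ℕ) := [
  (0, [1], [4]), (0, [0], [4]), (0, [4, 3, 4], [3]), (0, [4, 3, 2, 3, 4], [3, 2, 3]),
  (0, [4, 2, 4], [2]), (0, [4, 3, 4], [3]), (0, [4, 3, 2, 3, 4], [3, 2, 3]), (0, [4, 2, 4], [2]),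
  (0, [4, 3, 4], [3]), (0, [4, 3, 2, 3, 4], [3, 2, 3]), (0, [4, 3, 2, 3, 4], [3, 2, 3]), (0, [4, 2, 4], [2]),
  (0, [4, 2, 4], [2]), (0, [4, 2, 4], [2]), (0, [4, 3, 2, 3, 4], [3, 2, 3]), (0, [4, 3, 2, 3, 4], [3, 2, 3]),
  (0, [4, 2, 4], [2]), (0, [4, 2, 4], [2]), (0, [4, 2, 4], [2]), (0, [4, 3, 2, 3, 4], [3, 2, 3]),
  (0, [4, 2, 4], [2]), (0, [4, 2, 4], [2]), (0, [4, 2, 4], [2]), (0, [4, 2, 4], [2]),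
  (0, [4, 3, 2, 3, 4], [3, 2, 3]), (0, [4, 2, 4], [2]), (0, [4, 2, 4], [2]), (0, [4, 2, 4], [2]),
  (0, [4, 2, 4], [2]), (0, [4, 2, 4], [2]), (0, [4, 2, 4], [2]), (0, [4, 2, 4], [2]),
  (0, [4, 2, 4], [2]), (0, [4, 2, 4], [2]), (0, [4, 2, 4], [2]), (0, [4, 2, 4], [2]),
  (0, [4, 2, 4], [2]), (0, [4, 2, 4], [2]), (0, [4, 2, 4], [2]), (0, [4, 2, 4], [2]),
  (0, [4, 2, 4], [2]), (0, [4, 3, 4], [3]), (0, [4, 2, 4], [2]), (0, [4, 2, 4], [2]),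
  (0, [4, 2, 4], [2]), (0, [4, 2, 4], [2]), (0, [4, 3, 4], [3]), (0, [4, 2, 4], [2]),
  (0, [4, 2, 4], [2]), (0, [4, 2, 4], [2]), (0, [4, 2, 4], [2]), (0, [4, 2, 4], [2]),
  (0, [4, 2, 4], [2]), (0, [4, 2, 4], [2]), (0, [4, 2, 4], [2]), (0, [4, 2, 4], [2]),
  (0, [4, 3, 4], [3]), (0, [4, 2, 4], [2]), (0, [4, 2, 4], [2]), (0, [4, 2, 4], [2]),
  (0, [4, 2, 4], [2]), (0, [4, 3, 4], [3]), (0, [4, 2, 4], [2]), (0, [4, 2, 4], [2]),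
  (0, [4, 2, 4], [2]), (0, [4, 2, 4], [2]), (0, [4, 2, 4], [2]), (0, [4, 2, 4], [2]),
  (0, [4, 2, 4], [2]), (0, [4, 2, 4], [2]), (0, [4, 2, 4], [2]), (0, [4, 3, 4], [3]),
  (0, [4, 3, 4], [3]), (0, [4, 2, 4], [2]), (0, [4, 2, 4], [2]), (0, [4, 2, 4], [2]),
  (0, [4, 3, 4], [3]), (0, [4, 3, 4], [3]), (0, [4, 2, 4], [2]), (0, [4, 2, 4], [2])]

/-- Some options of a node. -/
def tOpt12x1 : List (ℕ × List ℕ × List ℕ) := [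
  (0, [4, 2, 4], [2]), (0, [4, 2, 4], [2]), (0, [4, 2, 4], [2]), (0, [4, 2, 4], [2]),
  (0, [4, 2, 4], [2]), (0, [4, 2, 4], [2]), (0, [4, 2, 4], [2]), (0, [4, 3, 4], [3]),
  (0, [4, 2, 4], [2]), (0, [4, 2, 4], [2]), (0, [4, 2, 4], [2]), (0, [4, 3, 4], [3]),
  (0, [4, 2, 4], [2]), (0, [4, 2, 4], [2]), (0, [4, 2, 4], [2]), (0, [4, 2, 4], [2]),
  (0, [4, 3, 2, 3, 4], [3, 2, 3]), (0, [4, 2, 4], [2]), (0, [4, 2, 4], [2]), (0, [4, 2, 4], [2]),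
  (0, [4, 3, 4], [3]), (0, [4, 3, 2, 3, 4], [3, 2, 3]), (0, [4, 2, 4], [2]), (0, [4, 2, 4], [2]),
  (0, [4, 3, 4], [3]), (0, [4, 2, 4], [2]), (0, [4, 2, 4], [2]), (0, [4, 2, 4], [2]),
  (0, [4, 3, 2, 3, 4], [3, 2, 3]), (0, [4, 3, 2, 3, 4], [3, 2, 3]), (0, [4, 2, 4], [2]), (0, [4, 3, 2, 3, 4], [3, 2, 3]),
  (0, [4, 2, 4], [2]), (0, [4, 2, 4], [2]), (0, [4, 3, 2, 3, 4], [3, 2, 3]), (0, [4, 3, 2, 3, 4], [3, 2, 3]),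
  (0, [4, 2, 4], [2]), (0, [4, 3, 4], [3]), (0, [4, 3, 4], [3]), (0, [4, 3, 2, 3, 4], [3, 2, 3]),
  (0, [4, 3, 2, 3, 4], [3, 2, 3]), (0, [4, 3, 2, 3, 4], [3, 2, 3]), (0, [4, 3, 4], [3]), (0, [4, 3, 4], [3]),
  (0, [4, 3, 2, 3, 4], [3, 2, 3]), (0, [4, 2, 4], [2]), (0, [4, 3, 2, 3, 4], [3, 2, 3]), (0, [4, 3, 2, 3, 4], [3, 2, 3]),
  (0, [4, 3, 4], [3]), (0, [4, 3, 2, 3, 4], [3, 2, 3]), (0, [4, 3, 2, 3, 4], [3, 2, 3]), (0, [4, 2, 4], [2]),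
  (0, [4, 3, 2, 3, 4], [3, 2, 3]), (0, [4, 3, 2, 3, 4], [3, 2, 3]), (0, [4, 3, 2, 3, 4], [3, 2, 3]), (0, [4, 3, 2, 3, 4], [3, 2, 3]),
  (0, [4, 3, 2, 3, 4], [3, 2, 3]), (0, [4, 3, 2, 3, 4], [3, 2, 3]), (0, [4, 3, 4], [3]), (0, [4, 2, 4], [2]),
  (0, [4, 3, 2, 3, 4], [3, 2, 3]), (0, [4, 3, 2, 3, 4], [3, 2, 3]), (0, [4, 3, 4], [3]), (0, [4, 3, 2, 3, 4], [3, 2, 3]),
  (0, [4, 3, 2, 3, 4], [3, 2, 3]), (0, [4, 3, 2, 3, 4], [3, 2, 3]), (0, [4, 3, 2, 3, 4], [3, 2, 3]), (0, [4, 3, 2, 3, 4], [3, 2, 3]),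
  (0, [4, 3, 2, 3, 4], [3, 2, 3]), (0, [4, 3, 2, 3, 4], [3, 2, 3]), (0, [4, 3, 2, 3, 4], [3, 2, 3]), (0, [4, 3, 2, 3, 4], [3, 2, 3]),
  (0, [4, 3, 4], [3]), (0, [4, 3, 4], [2, 3, 2]), (0, [4, 3, 2, 3, 4], [3, 2, 3]), (0, [4, 3, 2, 3, 4], [3, 2, 3]),
  (0, [4, 3, 2, 3, 4], [3, 2, 3]), (0, [4, 3, 2, 3, 4], [3, 2, 3]), (0, [4, 3, 4], [2, 3, 2]), (0, [4, 3, 4], [2, 3, 2])]

/-- Some options of a node. -/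
def tOpt12x2 : List (ℕ × List ℕ × List ℕ) := [
  (0, [4, 3, 4], [2, 3, 2]), (0, [4, 3, 4], [3]), (0, [4, 3, 4], [3]), (0, [4, 3, 4], [3]),
  (0, [4, 3, 4], [3]), (0, [4, 3, 4], [3]), (0, [4, 3, 4], [3]), (0, [4, 3, 4], [3]),
  (0, [4, 3, 2, 3, 4], [3, 2, 3]), (0, [4, 3, 2, 3, 4], [3, 2, 3]), (0, [4, 3, 4], [3]), (0, [4, 3, 2, 3, 4], [3, 2, 3]),
  (0, [4, 3, 2, 3, 4], [3, 2, 3]), (0, [4, 3, 4], [3]), (0, [3], [4]), (0, [4, 2, 4], [2]),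
  (0, [4, 2, 4], [2]), (0, [4, 2, 4], [2]), (0, [4, 2, 4], [2]), (0, [4, 3, 4], [3]),
  (0, [4, 2, 4], [2]), (0, [4, 2, 4], [2]), (0, [4, 2, 4], [2]), (0, [4, 2, 4], [2]),
  (0, [4, 3, 4], [2, 3, 2]), (0, [4, 3, 4], [3]), (0, [4, 2, 4], [2]), (0, [4, 2, 4], [2]),
  (0, [4, 2, 4], [2]), (0, [4, 2, 4], [2]), (0, [4, 3, 4], [2, 3, 2]), (0, [4, 3, 4], [3]),
  (0, [4, 2, 4], [2]), (0, [4, 2, 4], [2]), (0, [4, 2, 4], [2]), (0, [4, 3, 4], [2, 3, 2]),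
  (0, [4, 2, 4], [2]), (0, [4, 2, 4], [2]), (0, [4, 2, 4], [2]), (0, [4, 2, 4], [2]),
  (0, [4, 2, 4], [2]), (0, [4, 3, 4], [2, 3, 2]), (0, [4, 3, 4], [2, 3, 2]), (0, [4, 2, 4], [2]),
  (0, [4, 2, 4], [2]), (0, [4, 2, 4], [2]), (0, [4, 3, 4], [3]), (0, [4, 2, 4], [2]),
  (0, [4, 3, 4], [2, 3, 2]), (0, [4, 2, 4], [2]), (0, [4, 2, 4], [2]), (0, [4, 2, 4], [2]),
  (0, [4, 3, 4], [3]), (0, [4, 3, 2, 3, 4], [3, 2, 3]), (0, [4, 2, 4], [2]), (0, [4, 2, 4], [2]),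
  (0, [4, 2, 4], [2]), (0, [4, 2, 4], [2]), (0, [4, 2, 4], [2]), (0, [4, 2, 4], [2]),
  (0, [2], [4]), (0, [4, 2, 4], [2]), (0, [4, 2, 4], [2]), (0, [4, 2, 4], [2]),
  (0, [4, 2, 4], [2]), (0, [4, 2, 4], [2]), (0, [4, 2, 4], [2]), (0, [4, 2, 4], [2]),
  (0, [4, 2, 4], [2]), (0, [4, 2, 4], [2]), (0, [4, 2, 4], [2]), (0, [4, 3, 2, 3, 4], [3, 2, 3]),
  (0, [4, 2, 4], [2]), (0, [4, 2, 4], [2]), (0, [4, 2, 4], [2]), (0, [4, 2, 4], [2]),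
  (0, [4, 2, 4], [2]), (0, [4, 2, 4], [2]), (0, [4, 3, 2, 3, 4], [3, 2, 3]), (0, [4, 3, 2, 3, 4], [3, 2, 3])]

/-- Some options of a node. -/
def tOpt12x3 : List (ℕ × List ℕ × List ℕ) := [
  (0, [4, 3, 4], [3]), (0, [4, 3, 4], [3]), (0, [4, 2, 4], [2]), (0, [4, 2, 4], [2]),
  (0, [4, 2, 4], [2]), (0, [4, 3, 4], [3]), (0, [3, 2, 3], [4]), (0, [4, 3, 4], [3]),
  (0, [4, 3, 4], [2, 3, 2]), (0, [4, 2, 4], [2]), (0, [4, 2, 4], [2]), (0, [4, 2, 4], [2]),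
  (0, [4, 2, 4], [2]), (0, [4, 2, 4], [2]), (0, [4, 2, 4], [2]), (0, [4, 2, 4], [2]),
  (0, [4, 2, 4], [2]), (0, [4, 2, 4], [2]), (0, [4, 2, 4], [2]), (0, [4, 2, 4], [2]),
  (0, [4, 2, 4], [2]), (0, [4, 3, 4], [3]), (0, [4, 3, 4], [2, 3, 2]), (0, [4, 3, 2, 3, 4], [3, 2, 3]),
  (0, [4, 2, 4], [2]), (0, [4, 2, 4], [2]), (0, [4, 3, 2, 3, 4], [3, 2, 3]), (0, [4, 2, 4], [2]),
  (0, [4, 2, 4], [2]), (0, [4, 2, 4], [2]), (0, [4, 2, 4], [2]), (0, [4, 3, 4], [2, 3, 2]),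
  (0, [4, 2, 4], [2]), (0, [4, 2, 4], [2]), (0, [4, 2, 4], [2]), (0, [4, 2, 4], [2]),
  (0, [4, 2, 4], [2]), (0, [4, 2, 4], [2]), (0, [4, 3, 4], [2, 3, 2]), (0, [4, 3, 4], [3]),
  (0, [4, 3, 2, 3, 4], [3, 2, 3]), (0, [4, 3, 2, 3, 4], [3, 2, 3]), (0, [4, 3, 4], [3]), (0, [4, 3, 4], [3]),
  (0, [4, 3, 4], [2, 3, 2]), (0, [4, 2, 4], [2]), (0, [4, 2, 4], [2]), (0, [4, 2, 4], [2]),
  (0, [4, 2, 4], [2]), (0, [4, 2, 4], [2]), (0, [4, 3, 4], [2, 3, 2]), (0, [4, 2, 4], [2]),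
  (0, [4, 2, 4], [2]), (0, [4, 3, 4], [3]), (0, [4, 3, 4], [2, 3, 2]), (0, [4, 2, 4], [2]),
  (0, [4, 2, 4], [2]), (0, [4, 2, 4], [2]), (0, [4, 3, 4], [2, 3, 2]), (0, [4, 2, 4], [2]),
  (0, [4, 3, 4], [3]), (0, [4, 2, 4], [2]), (0, [4, 2, 4], [2]), (0, [4, 2, 4], [2]),
  (0, [4, 2, 4], [2]), (0, [4, 2, 4], [2]), (0, [4, 2, 4], [2]), (0, [4, 2, 4], [2]),
  (0, [4, 2, 4], [2]), (0, [4, 2, 4], [2]), (0, [4, 2, 4], [2]), (0, [4, 2, 4], [2]),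
  (0, [4, 2, 4], [2]), (0, [4, 2, 4], [2]), (0, [4, 2, 4], [2]), (0, [4, 2, 4], [2]),
  (0, [4, 2, 4], [2])]

/-- A node. -/
def tNode12 : TNode := ⟨[0, 1, 159, 12], [1, 0, 220, 174], 167, tOpt12x0 ++ tOpt12x1 ++ tOpt12x2 ++ tOpt12x3, []⟩

/-- Some options of a node. -/
def tOpt13x0 : List (ℕ × List ℕ × List ℕ) := [
  (0, [1], [4]), (0, [0], [4]), (0, [4, 3, 4], [3]), (0, [3, 4, 3], [4, 3, 4]),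
  (0, [4, 2, 4], [2]), (0, [4, 3, 4], [3]), (0, [3, 4, 3], [4, 3, 4]), (0, [4, 2, 4], [2]),
  (0, [4, 3, 4], [3]), (0, [3, 4, 3], [4, 3, 4]), (0, [3, 4, 3], [4, 3, 4]), (0, [4, 2, 4], [2]),
  (0, [4, 2, 4], [2]), (0, [4, 2, 4], [2]), (0, [3, 4, 3], [4, 3, 4]), (0, [3, 4, 3], [4, 3, 4]),
  (0, [4, 2, 4], [2]), (0, [4, 2, 4], [2]), (0, [4, 2, 4], [2]), (0, [3, 4, 3], [4, 3, 4]),
  (0, [4, 2, 4], [2]), (0, [4, 2, 4], [2]), (0, [4, 2, 4], [2]), (0, [4, 2, 4], [2]),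
  (0, [3, 4, 3], [4, 3, 4]), (0, [4, 2, 4], [2]), (0, [4, 2, 4], [2]), (0, [4, 2, 4], [2]),
  (0, [4, 2, 4], [2]), (0, [4, 2, 4], [2]), (0, [4, 2, 4], [2]), (0, [4, 2, 4], [2]),
  (0, [4, 2, 4], [2]), (0, [4, 2, 4], [2]), (0, [4, 2, 4], [2]), (0, [4, 2, 4], [2]),
  (0, [4, 2, 4], [2]), (0, [4, 2, 4], [2]), (0, [4, 2, 4], [2]), (0, [4, 2, 4], [2]),
  (0, [4, 2, 4], [2]), (0, [4, 3, 4], [3]), (0, [4, 2, 4], [2]), (0, [4, 2, 4], [2]),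
  (0, [4, 2, 4], [2]), (0, [4, 2, 4], [2]), (0, [4, 3, 4], [3]), (0, [4, 2, 4], [2]),
  (0, [4, 2, 4], [2]), (0, [4, 2, 4], [2]), (0, [4, 2, 4], [2]), (0, [4, 2, 4], [2]),
  (0, [4, 2, 4], [2]), (0, [4, 2, 4], [2]), (0, [4, 2, 4], [2]), (0, [4, 2, 4], [2]),
  (0, [4, 3, 4], [3]), (0, [4, 2, 4], [2]), (0, [4, 2, 4], [2]), (0, [4, 2, 4], [2]),
  (0, [4, 2, 4], [2]), (0, [4, 3, 4], [3]), (0, [4, 2, 4], [2]), (0, [4, 2, 4], [2]),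
  (0, [4, 2, 4], [2]), (0, [4, 2, 4], [2]), (0, [4, 2, 4], [2]), (0, [4, 2, 4], [2]),
  (0, [4, 2, 4], [2]), (0, [4, 2, 4], [2]), (0, [4, 2, 4], [2]), (0, [4, 3, 4], [3]),
  (0, [4, 3, 4], [3]), (0, [4, 2, 4], [2]), (0, [4, 2, 4], [2]), (0, [4, 2, 4], [2]),
  (0, [4, 3, 4], [3]), (0, [4, 3, 4], [3]), (0, [4, 2, 4], [2]), (0, [4, 2, 4], [2])]

/-- Some options of a node. -/
def tOpt13x1 : List (ℕ × List ℕ × List ℕ) := [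
  (0, [4, 2, 4], [2]), (0, [4, 2, 4], [2]), (0, [4, 2, 4], [2]), (0, [4, 2, 4], [2]),
  (0, [4, 2, 4], [2]), (0, [4, 2, 4], [2]), (0, [4, 2, 4], [2]), (0, [4, 3, 4], [3]),
  (0, [4, 2, 4], [2]), (0, [4, 2, 4], [2]), (0, [4, 2, 4], [2]), (0, [4, 3, 4], [3]),
  (0, [4, 2, 4], [2]), (0, [4, 2, 4], [2]), (0, [4, 2, 4], [2]), (0, [4, 2, 4], [2]),
  (0, [3, 4, 3], [4, 3, 4]), (0, [4, 2, 4], [2]), (0, [4, 2, 4], [2]), (0, [4, 2, 4], [2]),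
  (0, [4, 3, 4], [3]), (0, [3, 4, 3], [4, 3, 4]), (0, [4, 2, 4], [2]), (0, [4, 2, 4], [2]),
  (0, [4, 3, 4], [3]), (0, [4, 2, 4], [2]), (0, [4, 2, 4], [2]), (0, [4, 2, 4], [2]),
  (0, [4, 3, 4], [3]), (0, [3, 4, 3], [4, 3, 4]), (0, [4, 2, 4], [2]), (0, [4, 3, 4], [3]),
  (0, [4, 2, 4], [2]), (0, [4, 2, 4], [2]), (0, [3, 4, 3], [4, 3, 4]), (0, [3, 4, 3], [4, 3, 4]),
  (0, [4, 2, 4], [2]), (0, [3, 4, 3], [4, 3, 4]), (0, [3, 4, 3], [4, 3, 4]), (0, [3, 4, 3], [4, 3, 4]),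
  (0, [3, 4, 3], [4, 3, 4]), (0, [3, 4, 3], [4, 3, 4]), (0, [3, 4, 3], [4, 3, 4]), (0, [3, 4, 3], [4, 3, 4]),
  (0, [3, 4, 3], [4, 3, 4]), (0, [4, 2, 4], [2]), (0, [3, 4, 3], [4, 3, 4]), (0, [3, 4, 3], [4, 3, 4]),
  (0, [4, 3, 4], [3]), (0, [3, 4, 3], [4, 3, 4]), (0, [3, 4, 3], [4, 3, 4]), (0, [4, 2, 4], [2]),
  (0, [4, 3, 4], [3]), (0, [3, 4, 3], [4, 3, 4]), (0, [3, 4, 3], [4, 3, 4]), (0, [3, 4, 3], [4, 3, 4]),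
  (0, [4, 3, 4], [3]), (0, [3, 4, 3], [4, 3, 4]), (0, [4, 3, 4], [3]), (0, [4, 2, 4], [2]),
  (0, [3, 4, 3], [4, 3, 4]), (0, [3, 4, 3], [4, 3, 4]), (0, [4, 3, 4], [2, 3, 2]), (0, [3, 4, 3], [4, 3, 4]),
  (0, [3, 4, 3], [4, 3, 4]), (0, [3, 4, 3], [4, 3, 4]), (0, [3, 4, 3], [4, 3, 4]), (0, [3, 4, 3], [4, 3, 4]),
  (0, [3, 4, 3], [4, 3, 4]), (0, [3, 4, 3], [4, 3, 4]), (0, [3, 4, 3], [4, 3, 4]), (0, [3, 4, 3], [4, 3, 4]),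
  (0, [4, 3, 4], [2, 3, 2]), (0, [4, 3, 4], [3]), (0, [4, 3, 4], [3]), (0, [3, 4, 3], [4, 3, 4]),
  (0, [3, 4, 3], [4, 3, 4]), (0, [4, 3, 4], [3]), (0, [4, 3, 4], [3]), (0, [4, 3, 4], [3])]

/-- Some options of a node. -/
def tOpt13x2 : List (ℕ × List ℕ × List ℕ) := [
  (0, [4, 3, 4], [3]), (0, [3, 4, 3], [4, 3, 4]), (0, [3, 4, 3], [4, 3, 4]), (0, [4, 3, 4], [2, 3, 2]),
  (0, [3, 4, 3], [4, 3, 4]), (0, [3, 4, 3], [4, 3, 4]), (0, [4, 3, 4], [2, 3, 2]), (0, [4, 3, 4], [3]),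
  (0, [4, 3, 4], [3]), (0, [4, 3, 4], [3]), (0, [4, 3, 4], [3]), (0, [3, 4, 3], [4, 3, 4]),
  (0, [3, 4, 3], [4, 3, 4]), (0, [4, 3, 4], [3]), (0, [4, 2, 4], [2]), (0, [4, 2, 4], [2]),
  (0, [3], [4]), (0, [4, 2, 4], [2]), (0, [4, 2, 4], [2]), (0, [4, 3, 4], [3]),
  (0, [4, 2, 4], [2]), (0, [4, 2, 4], [2]), (0, [4, 2, 4], [2]), (0, [4, 2, 4], [2]),
  (0, [4, 3, 4], [2, 3, 2]), (0, [4, 3, 4], [3]), (0, [4, 2, 4], [2]), (0, [4, 2, 4], [2]),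
  (0, [4, 2, 4], [2]), (0, [4, 2, 4], [2]), (0, [4, 3, 4], [2, 3, 2]), (0, [4, 3, 4], [3]),
  (0, [4, 2, 4], [2]), (0, [4, 2, 4], [2]), (0, [4, 2, 4], [2]), (0, [4, 3, 4], [2, 3, 2]),
  (0, [4, 2, 4], [2]), (0, [4, 2, 4], [2]), (0, [4, 2, 4], [2]), (0, [4, 2, 4], [2]),
  (0, [4, 2, 4], [2]), (0, [4, 3, 4], [2, 3, 2]), (0, [3, 2, 3], [4]), (0, [4, 2, 4], [2]),
  (0, [4, 2, 4], [2]), (0, [4, 2, 4], [2]), (0, [3, 4, 3], [4, 3, 4]), (0, [4, 2, 4], [2]),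
  (0, [4, 3, 4], [2, 3, 2]), (0, [4, 2, 4], [2]), (0, [4, 2, 4], [2]), (0, [4, 2, 4], [2]),
  (0, [3, 4, 3], [4, 3, 4]), (0, [4, 3, 4], [3]), (0, [4, 2, 4], [2]), (0, [4, 2, 4], [2]),
  (0, [4, 2, 4], [2]), (0, [4, 2, 4], [2]), (0, [4, 2, 4], [2]), (0, [4, 2, 4], [2]),
  (0, [2], [4]), (0, [4, 2, 4], [2]), (0, [4, 2, 4], [2]), (0, [4, 2, 4], [2]),
  (0, [4, 2, 4], [2]), (0, [4, 2, 4], [2]), (0, [4, 2, 4], [2]), (0, [4, 2, 4], [2]),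
  (0, [4, 2, 4], [2]), (0, [4, 2, 4], [2]), (0, [4, 2, 4], [2]), (0, [4, 3, 4], [3]),
  (0, [4, 2, 4], [2]), (0, [4, 2, 4], [2]), (0, [4, 2, 4], [2]), (0, [4, 2, 4], [2]),
  (0, [4, 2, 4], [2]), (0, [4, 2, 4], [2]), (0, [4, 3, 4], [3]), (0, [3, 4, 3], [4, 3, 4])]

/-- Some options of a node. -/
def tOpt13x3 : List (ℕ × List ℕ × List ℕ) := [
  (0, [3, 4, 3], [4, 3, 4]), (0, [3, 4, 3], [4, 3, 4]), (0, [4, 2, 4], [2]), (0, [4, 2, 4], [2]),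
  (0, [4, 2, 4], [2]), (0, [3, 4, 3], [4, 3, 4]), (0, [4, 3, 4], [2, 3, 2]), (0, [3, 4, 3], [4, 3, 4]),
  (0, [3, 4, 3], [4, 3, 4]), (0, [4, 2, 4], [2]), (0, [4, 2, 4], [2]), (0, [4, 2, 4], [2]),
  (0, [4, 2, 4], [2]), (0, [4, 2, 4], [2]), (0, [4, 2, 4], [2]), (0, [4, 2, 4], [2]),
  (0, [4, 2, 4], [2]), (0, [4, 2, 4], [2]), (0, [4, 2, 4], [2]), (0, [4, 2, 4], [2]),
  (0, [4, 2, 4], [2]), (0, [3, 4, 3], [4, 3, 4]), (0, [3, 4, 3], [4, 3, 4]), (0, [3, 4, 3], [4, 3, 4]),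
  (0, [4, 2, 4], [2]), (0, [4, 2, 4], [2]), (0, [4, 3, 4], [3]), (0, [4, 2, 4], [2]),
  (0, [4, 2, 4], [2]), (0, [4, 2, 4], [2]), (0, [4, 2, 4], [2]), (0, [3, 4, 3], [4, 3, 4]),
  (0, [4, 2, 4], [2]), (0, [4, 2, 4], [2]), (0, [4, 2, 4], [2]), (0, [4, 2, 4], [2]),
  (0, [4, 2, 4], [2]), (0, [4, 2, 4], [2]), (0, [3, 4, 3], [4, 3, 4]), (0, [3, 4, 3], [4, 3, 4]),
  (0, [3, 4, 3], [4, 3, 4]), (0, [3, 4, 3], [4, 3, 4]), (0, [3, 4, 3], [4, 3, 4]), (0, [3, 4, 3], [4, 3, 4]),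
  (0, [3, 4, 3], [4, 3, 4]), (0, [4, 2, 4], [2]), (0, [4, 2, 4], [2]), (0, [4, 2, 4], [2]),
  (0, [4, 2, 4], [2]), (0, [4, 2, 4], [2]), (0, [3, 4, 3], [4, 3, 4]), (0, [4, 2, 4], [2]),
  (0, [4, 2, 4], [2]), (0, [3, 4, 3], [4, 3, 4]), (0, [3, 4, 3], [4, 3, 4]), (0, [4, 2, 4], [2]),
  (0, [4, 2, 4], [2]), (0, [4, 2, 4], [2]), (0, [3, 4, 3], [4, 3, 4]), (0, [4, 2, 4], [2]),
  (0, [3, 4, 3], [4, 3, 4]), (0, [4, 2, 4], [2]), (0, [4, 2, 4], [2]), (0, [4, 2, 4], [2]),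
  (0, [4, 2, 4], [2]), (0, [4, 2, 4], [2]), (0, [4, 2, 4], [2]), (0, [4, 2, 4], [2]),
  (0, [4, 2, 4], [2]), (0, [4, 2, 4], [2]), (0, [4, 2, 4], [2]), (0, [4, 2, 4], [2]),
  (0, [4, 2, 4], [2]), (0, [4, 2, 4], [2]), (0, [4, 2, 4], [2]), (0, [4, 2, 4], [2]),
  (0, [4, 2, 4], [2])]

/-- A node. -/
def tNode13 : TNode := ⟨[0, 1, 159, 12], [1, 0, 220, 176], 24, tOpt13x0 ++ tOpt13x1 ++ tOpt13x2 ++ tOpt13x3, []⟩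

/-- Some options of a node. -/
def tOpt14x0 : List (ℕ × List ℕ × List ℕ) := [
  (0, [1], [4]), (0, [0], [4]), (0, [4, 2, 4], [2]), (0, [4, 2, 4], [2]),
  (0, [3, 4, 2, 3, 2, 4, 3], [4, 2, 3, 2, 4]), (0, [4, 2, 4], [2]), (0, [4, 2, 4], [2]), (0, [3, 4, 2, 3, 2, 4, 3], [4, 2, 3, 2, 4]),
  (0, [4, 2, 4], [2]), (0, [4, 2, 4], [2]), (0, [4, 2, 4], [2]), (0, [3, 4, 2, 3, 2, 4, 3], [4, 2, 3, 2, 4]),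
  (0, [3, 4, 2, 3, 2, 4, 3], [4, 2, 3, 2, 4]), (0, [3, 4, 2, 3, 2, 4, 3], [4, 2, 3, 2, 4]), (0, [4, 2, 4], [2]), (0, [4, 2, 4], [2]),
  (0, [3, 4, 2, 3, 2, 4, 3], [4, 2, 3, 2, 4]), (0, [3, 4, 2, 3, 2, 4, 3], [4, 2, 3, 2, 4]), (0, [3, 4, 2, 3, 2, 4, 3], [4, 2, 3, 2, 4]), (0, [4, 2, 4], [2]),
  (0, [3, 4, 2, 3, 2, 4, 3], [4, 2, 3, 2, 4]), (0, [4, 2, 3, 2, 4], [2, 3, 2]), (0, [3, 4, 2, 3, 2, 4, 3], [4, 2, 3, 2, 4]), (0, [3, 4, 2, 3, 2, 4, 3], [4, 2, 3, 2, 4]),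
  (0, [4, 2, 4], [2]), (0, [3, 4, 2, 3, 2, 4, 3], [4, 2, 3, 2, 4]), (0, [3, 4, 2, 3, 2, 4, 3], [4, 2, 3, 2, 4]), (0, [3, 4, 2, 3, 2, 4, 3], [4, 2, 3, 2, 4]),
  (0, [4, 3, 4], [3]), (0, [4, 3, 4], [3]), (0, [4, 3, 4], [3]), (0, [3, 4, 2, 3, 2, 4, 3], [4, 2, 3, 2, 4]),
  (0, [4, 3, 4], [3]), (0, [4, 2, 3, 2, 4], [2, 3, 2]), (0, [3, 4, 2, 3, 2, 4, 3], [4, 2, 3, 2, 4]), (0, [4, 3, 4], [3]),
  (0, [4, 2, 3, 2, 4], [2, 3, 2]), (0, [4, 3, 4], [3]), (0, [4, 2, 3, 2, 4], [2, 3, 2]), (0, [4, 3, 4], [3]),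
  (0, [4, 3, 2, 3, 4], [3, 2, 3]), (0, [4, 2, 4], [2]), (0, [4, 2, 3, 2, 4], [2, 3, 2]), (0, [4, 3, 4], [3]),
  (0, [4, 3, 4], [3]), (0, [4, 3, 4], [3]), (0, [4, 2, 4], [2]), (0, [4, 2, 3, 2, 4], [2, 3, 2]),
  (0, [4, 3, 2, 3, 4], [3, 2, 3]), (0, [4, 3, 4], [3]), (0, [4, 2, 3, 2, 4], [2, 3, 2]), (0, [4, 2, 3, 2, 4], [2, 3, 2]),
  (0, [4, 2, 3, 2, 4], [2, 3, 2]), (0, [4, 2, 3, 2, 4], [2, 3, 2]), (0, [4, 3, 2, 3, 4], [3, 2, 3]), (0, [4, 3, 2, 3, 4], [3, 2, 3]),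
  (0, [4, 2, 4], [2]), (0, [4, 2, 3, 2, 4], [2, 3, 2]), (0, [4, 2, 3, 2, 4], [2, 3, 2]), (0, [4, 2, 3, 2, 4], [2, 3, 2]),
  (0, [4, 2, 3, 2, 4], [2, 3, 2]), (0, [4, 2, 4], [2]), (0, [4, 3, 4], [3]), (0, [4, 3, 2, 3, 4], [3, 2, 3]),
  (0, [4, 3, 2, 3, 4], [3, 2, 3]), (0, [4, 3, 4], [3]), (0, [3, 4, 2, 3, 2, 4, 3], [4, 2, 3, 2, 4]), (0, [4, 3, 4], [3]),
  (0, [4, 3, 4], [3]), (0, [4, 3, 4], [3]), (0, [4, 3, 2, 3, 4], [3, 2, 3]), (0, [4, 2, 4], [2]),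
  (0, [4, 2, 4], [2]), (0, [4, 3, 4], [3]), (0, [4, 3, 4], [3]), (0, [3, 4, 2, 3, 2, 4, 3], [4, 2, 3, 2, 4]),
  (0, [4, 2, 4], [2]), (0, [4, 2, 4], [2]), (0, [4, 3, 2, 3, 4], [3, 2, 3]), (0, [3, 4, 2, 3, 2, 4, 3], [4, 2, 3, 2, 4])]

/-- Some options of a node. -/
def tOpt14x1 : List (ℕ × List ℕ × List ℕ) := [
  (0, [4, 2, 3, 2, 4], [2, 3, 2]), (0, [4, 3, 4], [3]), (0, [3, 4, 2, 3, 2, 4, 3], [4, 2, 3, 2, 4]), (0, [3, 4, 2, 3, 2, 4, 3], [4, 2, 3, 2, 4]),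
  (0, [4, 2, 3, 2, 4], [2, 3, 2]), (0, [3, 4, 2, 3, 2, 4, 3], [4, 2, 3, 2, 4]), (0, [4, 3, 4], [3]), (0, [4, 2, 4], [2]),
  (0, [3, 4, 2, 3, 2, 4, 3], [4, 2, 3, 2, 4]), (0, [4, 3, 4], [3]), (0, [3, 4, 2, 3, 2, 4, 3], [4, 2, 3, 2, 4]), (0, [4, 2, 4], [2]),
  (0, [4, 3, 4], [3]), (0, [3, 4, 2, 3, 2, 4, 3], [4, 2, 3, 2, 4]), (0, [3, 4, 2, 3, 2, 4, 3], [4, 2, 3, 2, 4]), (0, [4, 3, 2, 3, 4], [3, 2, 3]),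
  (0, [4, 2, 4], [2]), (0, [3, 4, 2, 3, 2, 4, 3], [4, 2, 3, 2, 4]), (0, [3, 4, 2, 3, 2, 4, 3], [4, 2, 3, 2, 4]), (0, [3, 4, 2, 3, 2, 4, 3], [4, 2, 3, 2, 4]),
  (0, [4, 2, 4], [2]), (0, [4, 2, 4], [2]), (0, [3, 4, 2, 3, 2, 4, 3], [4, 2, 3, 2, 4]), (0, [4, 3, 2, 3, 4], [3, 2, 3]),
  (0, [4, 2, 4], [2]), (0, [3, 4, 2, 3, 2, 4, 3], [4, 2, 3, 2, 4]), (0, [4, 3, 2, 3, 4], [3, 2, 3]), (0, [4, 3, 2, 3, 4], [3, 2, 3]),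
  (0, [4, 2, 4], [2]), (0, [4, 2, 4], [2]), (0, [3, 4, 2, 3, 2, 4, 3], [4, 2, 3, 2, 4]), (0, [4, 2, 4], [2]),
  (0, [4, 3, 2, 3, 4], [3, 2, 3]), (0, [4, 3, 2, 3, 4], [3, 2, 3]), (0, [4, 2, 4], [2]), (0, [4, 2, 4], [2]),
  (0, [4, 3, 2, 3, 4], [3, 2, 3]), (0, [4, 2, 4], [2]), (0, [4, 2, 4], [2]), (0, [4, 2, 4], [2]),
  (0, [4, 2, 4], [2]), (0, [4, 2, 4], [2]), (0, [4, 2, 4], [2]), (0, [4, 2, 4], [2]),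
  (0, [4, 2, 4], [2]), (0, [4, 3, 2, 3, 4], [3, 2, 3]), (0, [4, 2, 4], [2]), (0, [4, 2, 4], [2]),
  (0, [4, 2, 4], [2]), (0, [4, 2, 4], [2]), (0, [4, 2, 4], [2]), (0, [4, 3, 4], [3]),
  (0, [4, 2, 4], [2]), (0, [4, 2, 4], [2]), (0, [4, 2, 4], [2]), (0, [4, 2, 4], [2]),
  (0, [4, 2, 4], [2]), (0, [4, 2, 4], [2]), (0, [4, 2, 4], [2]), (0, [4, 3, 4], [3]),
  (0, [4, 2, 4], [2]), (0, [4, 2, 4], [2]), (0, [4, 2, 4], [2]), (0, [4, 2, 4], [2]),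
  (0, [4, 2, 4], [2]), (0, [4, 2, 4], [2]), (0, [4, 2, 4], [2]), (0, [4, 2, 4], [2]),
  (0, [4, 2, 4], [2]), (0, [4, 2, 4], [2]), (0, [4, 2, 4], [2]), (0, [4, 2, 4], [2]),
  (0, [4, 2, 4], [2]), (0, [4, 2, 4], [2]), (0, [4, 2, 4], [2]), (0, [4, 2, 4], [2]),
  (0, [4, 2, 4], [2]), (0, [4, 2, 4], [2]), (0, [4, 2, 4], [2]), (0, [4, 2, 4], [2])]

/-- Some options of a node. -/
def tOpt14x2 : List (ℕ × List ℕ × List ℕ) := [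
  (0, [4, 2, 4], [2]), (0, [4, 2, 4], [2]), (0, [4, 2, 4], [2]), (0, [4, 2, 4], [2]),
  (0, [4, 2, 4], [2]), (0, [4, 2, 4], [2]), (0, [4, 2, 4], [2]), (0, [4, 2, 4], [2]),
  (0, [4, 2, 4], [2]), (0, [4, 2, 4], [2]), (0, [4, 2, 4], [2]), (0, [4, 2, 4], [2]),
  (0, [4, 2, 4], [2]), (0, [4, 2, 4], [2]), (0, [4, 3, 4], [3]), (0, [3, 4, 2, 4, 3], [4, 3, 2, 3, 4]),
  (0, [3, 4, 2, 4, 3], [4, 3, 2, 3, 4]), (0, [4, 3, 4], [3]), (0, [4, 3, 4], [3]), (0, [4, 2, 4], [2]),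
  (0, [3, 4, 2, 4, 3], [4, 3, 2, 3, 4]), (0, [4, 3, 2, 3, 4], [3, 2, 3]), (0, [3, 4, 2, 4, 3], [4, 3, 2, 3, 4]), (0, [4, 3, 2, 3, 4], [3, 2, 3]),
  (0, [4, 2, 4], [2]), (0, [4, 2, 4], [2]), (0, [4, 3, 2, 3, 4], [3, 2, 3]), (0, [4, 3, 4], [3]),
  (0, [4, 3, 2, 3, 4], [3, 2, 3]), (0, [4, 3, 4], [3]), (0, [4, 2, 4], [2]), (0, [4, 2, 4], [2]),
  (0, [3, 4, 2, 4, 3], [4, 3, 2, 3, 4]), (0, [4, 3, 4], [3]), (0, [3, 4, 2, 4, 3], [4, 3, 2, 3, 4]), (0, [4, 2, 4], [2]),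
  (0, [3, 4, 2, 4, 3], [4, 3, 2, 3, 4]), (0, [4, 3, 4], [3]), (0, [4, 3, 2, 3, 4], [3, 2, 3]), (0, [3, 4, 2, 4, 3], [4, 3, 2, 3, 4]),
  (0, [4, 3, 2, 3, 4], [3, 2, 3]), (0, [4, 2, 4], [2]), (0, [4, 2, 4], [2]), (0, [4, 3, 2, 3, 4], [3, 2, 3]),
  (0, [4, 3, 4], [3]), (0, [4, 3, 2, 3, 4], [3, 2, 3]), (0, [4, 2, 4], [2]), (0, [3], [4]),
  (0, [4, 2, 4], [2]), (0, [4, 3, 4], [3]), (0, [4, 2, 4], [3, 2, 3]), (0, [4, 2, 4], [3, 2, 3]),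
  (0, [4, 2, 4], [2]), (0, [4, 2, 4], [2]), (0, [3, 4, 3], [4, 3, 4]), (0, [3, 4, 3], [4, 3, 4]),
  (0, [3, 4, 3], [4, 3, 4]), (0, [4, 3, 4], [3]), (0, [4, 2, 4], [3, 2, 3]), (0, [4, 3, 4], [3]),
  (0, [2], [4]), (0, [3, 4, 3], [4, 3, 4]), (0, [3, 4, 3], [4, 3, 4]), (0, [3, 4, 3], [4, 3, 4]),
  (0, [4, 3, 4], [3]), (0, [3, 4, 2, 4, 3], [4, 3, 2, 3, 4]), (0, [3, 4, 2, 4, 3], [4, 3, 2, 3, 4]), (0, [4, 3, 4], [3]),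
  (0, [4, 3, 4], [3]), (0, [4, 2, 4], [3, 2, 3]), (0, [3, 4, 3], [4, 3, 4]), (0, [4, 2, 4], [2]),
  (0, [3, 4, 3], [4, 3, 4]), (0, [3, 4, 2, 4, 3], [4, 3, 2, 3, 4]), (0, [4, 2, 4], [3, 2, 3]), (0, [3, 4, 2, 4, 3], [4, 3, 2, 3, 4]),
  (0, [4, 3, 4], [3]), (0, [4, 2, 4], [3, 2, 3]), (0, [4, 2, 4], [2]), (0, [3, 2, 3], [4])]

/-- Some options of a node. -/
def tOpt14x3 : List (ℕ × List ℕ × List ℕ) := [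
  (0, [4, 2, 4], [2]), (0, [4, 2, 4], [2]), (0, [3, 4, 3], [4, 3, 4]), (0, [3, 4, 3], [4, 3, 4]),
  (0, [3, 4, 3], [4, 3, 4]), (0, [4, 2, 4], [2]), (0, [4, 2, 4], [2]), (0, [4, 2, 4], [2]),
  (0, [4, 2, 4], [2]), (0, [3, 4, 3], [4, 3, 4]), (0, [3, 4, 3], [4, 3, 4]), (0, [3, 4, 3], [4, 3, 4]),
  (0, [3, 4, 3], [4, 3, 4]), (0, [3, 4, 2, 4, 3], [4, 3, 2, 3, 4]), (0, [3, 4, 2, 4, 3], [4, 3, 2, 3, 4]), (0, [4, 3, 4], [3]),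
  (0, [3, 4, 3], [4, 3, 4]), (0, [3, 4, 3], [4, 3, 4]), (0, [3, 4, 3], [4, 3, 4]), (0, [3, 4, 3], [4, 3, 4]),
  (0, [3, 4, 3], [4, 3, 4]), (0, [4, 2, 4], [2]), (0, [4, 2, 4], [2]), (0, [4, 2, 4], [2]),
  (0, [3, 4, 3], [4, 3, 4]), (0, [3, 4, 3], [4, 3, 4]), (0, [4, 2, 4], [2]), (0, [3, 4, 3], [4, 3, 4]),
  (0, [3, 4, 3], [4, 3, 4]), (0, [3, 4, 3], [4, 3, 4]), (0, [3, 4, 3], [4, 3, 4]), (0, [4, 2, 4], [2]),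
  (0, [3, 4, 2, 4, 3], [4, 3, 2, 3, 4]), (0, [4, 2, 4], [3, 2, 3]), (0, [3, 4, 2, 4, 3], [4, 3, 2, 3, 4]), (0, [3, 4, 3], [4, 3, 4]),
  (0, [3, 4, 3], [4, 3, 4]), (0, [3, 4, 3], [4, 3, 4]), (0, [4, 2, 4], [2]), (0, [4, 2, 4], [2]),
  (0, [4, 2, 4], [2]), (0, [4, 2, 4], [2]), (0, [4, 2, 4], [2]), (0, [4, 2, 4], [2]),
  (0, [4, 2, 4], [2]), (0, [3, 4, 3], [4, 3, 4]), (0, [3, 4, 3], [4, 3, 4]), (0, [3, 4, 3], [4, 3, 4]),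
  (0, [3, 4, 3], [4, 3, 4]), (0, [3, 4, 3], [4, 3, 4]), (0, [4, 2, 4], [2]), (0, [3, 4, 3], [4, 3, 4]),
  (0, [3, 4, 3], [4, 3, 4]), (0, [4, 2, 4], [2]), (0, [4, 2, 4], [2]), (0, [3, 4, 3], [4, 3, 4]),
  (0, [3, 4, 3], [4, 3, 4]), (0, [3, 4, 3], [4, 3, 4]), (0, [4, 2, 4], [2]), (0, [3, 4, 3], [4, 3, 4]),
  (0, [4, 2, 4], [2]), (0, [3, 4, 3], [4, 3, 4]), (0, [4, 3, 4], [3]), (0, [3, 4, 3], [4, 3, 4]),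
  (0, [3, 4, 3], [4, 3, 4]), (0, [3, 4, 3], [4, 3, 4]), (0, [3, 4, 3], [4, 3, 4]), (0, [3, 4, 2, 4, 3], [4, 3, 2, 3, 4]),
  (0, [3, 4, 2, 4, 3], [4, 3, 2, 3, 4]), (0, [4, 3, 4], [3]), (0, [3, 4, 3], [4, 3, 4]), (0, [3, 4, 3], [4, 3, 4]),
  (0, [3, 4, 3], [4, 3, 4]), (0, [4, 3, 4], [3]), (0, [4, 3, 4], [3]), (0, [3, 4, 2, 4, 3], [4, 3, 2, 3, 4]),
  (0, [3, 4, 2, 4, 3], [4, 3, 2, 3, 4])]

/-- A node. -/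
def tNode14 : TNode := ⟨[0, 1, 159, 12], [1, 0, 220, 207], 276, tOpt14x0 ++ tOpt14x1 ++ tOpt14x2 ++ tOpt14x3, []⟩

/-- Some options of a node. -/
def tOpt15x0 : List (ℕ × List ℕ × List ℕ) := [
  (0, [1], [4]), (0, [0], [4]), (0, [4, 3, 4], [2, 3, 2]), (0, [4, 3, 2, 3, 4], [3, 2, 3]),
  (0, [4, 2, 4], [2]), (0, [4, 3, 4], [3]), (0, [4, 3, 2, 3, 4], [3, 2, 3]), (0, [4, 2, 4], [2]),
  (0, [4, 3, 4], [2, 3, 2]), (0, [4, 3, 2, 3, 4], [3, 2, 3]), (0, [4, 3, 2, 3, 4], [3, 2, 3]), (0, [4, 2, 4], [2]),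
  (0, [4, 2, 4], [2]), (0, [4, 2, 4], [2]), (0, [4, 3, 2, 3, 4], [3, 2, 3]), (0, [4, 3, 2, 3, 4], [3, 2, 3]),
  (0, [4, 2, 4], [2]), (0, [4, 2, 4], [2]), (0, [4, 2, 4], [2]), (0, [4, 3, 2, 3, 4], [3, 2, 3]),
  (0, [4, 2, 4], [2]), (0, [4, 2, 4], [2]), (0, [4, 2, 4], [2]), (0, [4, 2, 4], [2]),
  (0, [4, 3, 2, 3, 4], [3, 2, 3]), (0, [4, 2, 4], [2]), (0, [4, 2, 4], [2]), (0, [4, 2, 4], [2]),
  (0, [4, 2, 4], [2]), (0, [4, 2, 4], [2]), (0, [4, 2, 4], [2]), (0, [4, 2, 4], [2]),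
  (0, [4, 2, 4], [2]), (0, [4, 2, 4], [2]), (0, [4, 2, 4], [2]), (0, [4, 2, 4], [2]),
  (0, [4, 2, 4], [2]), (0, [4, 2, 4], [2]), (0, [4, 2, 4], [2]), (0, [4, 2, 4], [2]),
  (0, [4, 2, 4], [2]), (0, [4, 3, 2, 3, 4], [3, 2, 3]), (0, [4, 2, 4], [2]), (0, [4, 2, 4], [2]),
  (0, [4, 2, 4], [2]), (0, [4, 2, 4], [2]), (0, [4, 3, 2, 3, 4], [3, 2, 3]), (0, [4, 2, 4], [2]),
  (0, [4, 2, 4], [2]), (0, [4, 2, 4], [2]), (0, [4, 2, 4], [2]), (0, [4, 2, 4], [2]),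
  (0, [4, 2, 4], [2]), (0, [4, 2, 4], [2]), (0, [4, 2, 4], [2]), (0, [4, 2, 4], [2]),
  (0, [4, 3, 2, 3, 4], [3, 2, 3]), (0, [4, 2, 4], [2]), (0, [4, 2, 4], [2]), (0, [4, 2, 4], [2]),
  (0, [4, 2, 4], [2]), (0, [4, 3, 2, 3, 4], [3, 2, 3]), (0, [4, 2, 4], [2]), (0, [4, 2, 4], [2]),
  (0, [4, 2, 4], [2]), (0, [4, 2, 4], [2]), (0, [4, 2, 4], [2]), (0, [4, 2, 4], [2]),
  (0, [4, 2, 4], [2]), (0, [4, 2, 4], [2]), (0, [4, 2, 4], [2]), (0, [4, 3, 4], [3]),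
  (0, [4, 3, 4], [3]), (0, [4, 2, 4], [2]), (0, [4, 2, 4], [2]), (0, [4, 2, 4], [2]),
  (0, [4, 3, 4], [3]), (0, [4, 3, 4], [3]), (0, [4, 2, 4], [2]), (0, [4, 2, 4], [2])]

/-- Some options of a node. -/
def tOpt15x1 : List (ℕ × List ℕ × List ℕ) := [
  (0, [4, 2, 4], [2]), (0, [4, 2, 4], [2]), (0, [4, 2, 4], [2]), (0, [4, 2, 4], [2]),
  (0, [4, 2, 4], [2]), (0, [4, 2, 4], [2]), (0, [4, 2, 4], [2]), (0, [4, 3, 2, 3, 4], [3, 2, 3]),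
  (0, [4, 2, 4], [2]), (0, [4, 2, 4], [2]), (0, [4, 2, 4], [2]), (0, [4, 3, 2, 3, 4], [3, 2, 3]),
  (0, [4, 2, 4], [2]), (0, [4, 2, 4], [2]), (0, [4, 2, 4], [2]), (0, [4, 2, 4], [2]),
  (0, [4, 3, 2, 3, 4], [3, 2, 3]), (0, [4, 2, 4], [2]), (0, [4, 2, 4], [2]), (0, [4, 2, 4], [2]),
  (0, [4, 3, 2, 3, 4], [3, 2, 3]), (0, [4, 3, 2, 3, 4], [3, 2, 3]), (0, [4, 2, 4], [2]), (0, [4, 2, 4], [2]),
  (0, [4, 3, 2, 3, 4], [3, 2, 3]), (0, [4, 2, 4], [2]), (0, [4, 2, 4], [2]), (0, [4, 2, 4], [2]),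
  (0, [4, 3, 2, 3, 4], [3, 2, 3]), (0, [4, 3, 2, 3, 4], [3, 2, 3]), (0, [4, 2, 4], [2]), (0, [4, 3, 2, 3, 4], [3, 2, 3]),
  (0, [4, 2, 4], [2]), (0, [4, 2, 4], [2]), (0, [4, 3, 4], [3]), (0, [4, 3, 2, 3, 4], [3, 2, 3]),
  (0, [4, 2, 4], [2]), (0, [4, 3, 4], [3]), (0, [4, 3, 4], [3]), (0, [4, 3, 2, 3, 4], [3, 2, 3]),
  (0, [4, 3, 2, 3, 4], [3, 2, 3]), (0, [4, 3, 4], [3]), (0, [4, 3, 4], [3]), (0, [4, 3, 4], [3]),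
  (0, [4, 3, 4], [3]), (0, [4, 2, 4], [2]), (0, [4, 3, 4], [3]), (0, [4, 3, 2, 3, 4], [3, 2, 3]),
  (0, [4, 3, 2, 3, 4], [3, 2, 3]), (0, [4, 3, 4], [3]), (0, [4, 3, 2, 3, 4], [3, 2, 3]), (0, [4, 2, 4], [2]),
  (0, [4, 3, 2, 3, 4], [3, 2, 3]), (0, [4, 3, 2, 3, 4], [3, 2, 3]), (0, [4, 3, 2, 3, 4], [3, 2, 3]), (0, [4, 3, 4], [3]),
  (0, [4, 3, 2, 3, 4], [3, 2, 3]), (0, [4, 3, 4], [3]), (0, [4, 3, 2, 3, 4], [3, 2, 3]), (0, [4, 2, 4], [2]),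
  (0, [4, 3, 2, 3, 4], [3, 2, 3]), (0, [4, 3, 2, 3, 4], [3, 2, 3]), (0, [4, 3, 2, 3, 4], [3, 2, 3]), (0, [4, 3, 4], [3]),
  (0, [4, 3, 2, 3, 4], [3, 2, 3]), (0, [4, 3, 2, 3, 4], [3, 2, 3]), (0, [4, 3, 2, 3, 4], [3, 2, 3]), (0, [4, 3, 2, 3, 4], [3, 2, 3]),
  (0, [4, 3, 2, 3, 4], [3, 2, 3]), (0, [4, 3, 2, 3, 4], [3, 2, 3]), (0, [4, 3, 2, 3, 4], [3, 2, 3]), (0, [4, 3, 2, 3, 4], [3, 2, 3]),
  (0, [4, 3, 2, 3, 4], [3, 2, 3]), (0, [4, 3, 4], [3]), (0, [4, 3, 2, 3, 4], [3, 2, 3]), (0, [4, 3, 2, 3, 4], [3, 2, 3]),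
  (0, [4, 3, 2, 3, 4], [3, 2, 3]), (0, [4, 3, 2, 3, 4], [3, 2, 3]), (0, [4, 3, 4], [2, 3, 2]), (0, [4, 3, 4], [3])]

/-- Some options of a node. -/
def tOpt15x2 : List (ℕ × List ℕ × List ℕ) := [
  (0, [4, 3, 4], [2, 3, 2]), (0, [4, 3, 4], [3]), (0, [4, 3, 4], [3]), (0, [4, 3, 2, 3, 4], [3, 2, 3]),
  (0, [4, 3, 4], [3]), (0, [4, 3, 4], [3]), (0, [4, 3, 2, 3, 4], [3, 2, 3]), (0, [4, 3, 2, 3, 4], [3, 2, 3]),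
  (0, [4, 3, 2, 3, 4], [3, 2, 3]), (0, [4, 3, 2, 3, 4], [3, 2, 3]), (0, [4, 3, 2, 3, 4], [3, 2, 3]), (0, [4, 3, 2, 3, 4], [3, 2, 3]),
  (0, [4, 3, 2, 3, 4], [3, 2, 3]), (0, [4, 3, 4], [3]), (0, [4, 2, 4], [2]), (0, [4, 2, 4], [2]),
  (0, [4, 2, 4], [2]), (0, [4, 2, 4], [2]), (0, [4, 2, 4], [2]), (0, [4, 3, 4], [3]),
  (0, [4, 2, 4], [2]), (0, [4, 2, 4], [2]), (0, [4, 2, 4], [2]), (0, [4, 2, 4], [2]),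
  (0, [4, 3, 4], [3]), (0, [4, 3, 4], [2, 3, 2]), (0, [4, 2, 4], [2]), (0, [4, 2, 4], [2]),
  (0, [4, 2, 4], [2]), (0, [4, 2, 4], [2]), (0, [4, 3, 4], [3]), (0, [4, 3, 4], [2, 3, 2]),
  (0, [4, 2, 4], [2]), (0, [4, 2, 4], [2]), (0, [4, 2, 4], [2]), (0, [4, 3, 4], [2, 3, 2]),
  (0, [4, 2, 4], [2]), (0, [4, 2, 4], [2]), (0, [4, 2, 4], [2]), (0, [4, 2, 4], [2]),
  (0, [4, 2, 4], [2]), (0, [4, 3, 4], [2, 3, 2]), (0, [4, 3, 4], [3]), (0, [4, 2, 4], [2]),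
  (0, [4, 2, 4], [2]), (0, [4, 2, 4], [2]), (0, [4, 3, 4], [2, 3, 2]), (0, [4, 2, 4], [2]),
  (0, [4, 3, 4], [3]), (0, [4, 2, 4], [2]), (0, [4, 2, 4], [2]), (0, [4, 2, 4], [2]),
  (0, [4, 3, 4], [2, 3, 2]), (0, [4, 3, 2, 3, 4], [3, 2, 3]), (0, [3], [4]), (0, [4, 2, 4], [2]),
  (0, [4, 2, 4], [2]), (0, [4, 2, 4], [2]), (0, [4, 2, 4], [2]), (0, [4, 2, 4], [2]),
  (0, [2], [4]), (0, [4, 2, 4], [2]), (0, [4, 2, 4], [2]), (0, [4, 2, 4], [2]),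
  (0, [4, 2, 4], [2]), (0, [4, 2, 4], [2]), (0, [4, 2, 4], [2]), (0, [4, 2, 4], [2]),
  (0, [4, 2, 4], [2]), (0, [4, 2, 4], [2]), (0, [4, 2, 4], [2]), (0, [4, 3, 2, 3, 4], [3, 2, 3]),
  (0, [4, 2, 4], [2]), (0, [4, 2, 4], [2]), (0, [4, 2, 4], [2]), (0, [4, 2, 4], [2]),
  (0, [4, 2, 4], [2]), (0, [4, 2, 4], [2]), (0, [4, 3, 2, 3, 4], [3, 2, 3]), (0, [4, 3, 2, 3, 4], [3, 2, 3])]

/-- Some options of a node. -/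
def tOpt15x3 : List (ℕ × List ℕ × List ℕ) := [
  (0, [4, 3, 4], [3]), (0, [4, 3, 4], [2, 3, 2]), (0, [4, 2, 4], [2]), (0, [4, 2, 4], [2]),
  (0, [4, 2, 4], [2]), (0, [4, 3, 4], [3]), (0, [3, 2, 3], [4]), (0, [4, 3, 4], [3]),
  (0, [4, 3, 4], [3]), (0, [4, 2, 4], [2]), (0, [4, 2, 4], [2]), (0, [4, 2, 4], [2]),
  (0, [4, 2, 4], [2]), (0, [4, 2, 4], [2]), (0, [4, 2, 4], [2]), (0, [4, 2, 4], [2]),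
  (0, [4, 2, 4], [2]), (0, [4, 2, 4], [2]), (0, [4, 2, 4], [2]), (0, [4, 2, 4], [2]),
  (0, [4, 2, 4], [2]), (0, [4, 3, 4], [2, 3, 2]), (0, [4, 3, 4], [3]), (0, [4, 3, 2, 3, 4], [3, 2, 3]),
  (0, [4, 2, 4], [2]), (0, [4, 2, 4], [2]), (0, [4, 3, 2, 3, 4], [3, 2, 3]), (0, [4, 2, 4], [2]),
  (0, [4, 2, 4], [2]), (0, [4, 2, 4], [2]), (0, [4, 2, 4], [2]), (0, [4, 3, 4], [2, 3, 2]),
  (0, [4, 2, 4], [2]), (0, [4, 2, 4], [2]), (0, [4, 2, 4], [2]), (0, [4, 2, 4], [2]),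
  (0, [4, 2, 4], [2]), (0, [4, 2, 4], [2]), (0, [4, 3, 4], [3]), (0, [4, 3, 4], [2, 3, 2]),
  (0, [4, 3, 2, 3, 4], [3, 2, 3]), (0, [4, 3, 2, 3, 4], [3, 2, 3]), (0, [4, 3, 4], [3]), (0, [4, 3, 4], [2, 3, 2]),
  (0, [4, 3, 4], [3]), (0, [4, 2, 4], [2]), (0, [4, 2, 4], [2]), (0, [4, 2, 4], [2]),
  (0, [4, 2, 4], [2]), (0, [4, 2, 4], [2]), (0, [4, 3, 4], [3]), (0, [4, 2, 4], [2]),
  (0, [4, 2, 4], [2]), (0, [4, 3, 4], [2, 3, 2]), (0, [4, 3, 4], [3]), (0, [4, 2, 4], [2]),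
  (0, [4, 2, 4], [2]), (0, [4, 2, 4], [2]), (0, [4, 3, 4], [2, 3, 2]), (0, [4, 2, 4], [2]),
  (0, [4, 3, 4], [2, 3, 2]), (0, [4, 2, 4], [2]), (0, [4, 2, 4], [2]), (0, [4, 2, 4], [2]),
  (0, [4, 2, 4], [2]), (0, [4, 2, 4], [2]), (0, [4, 2, 4], [2]), (0, [4, 2, 4], [2]),
  (0, [4, 2, 4], [2]), (0, [4, 2, 4], [2]), (0, [4, 2, 4], [2]), (0, [4, 2, 4], [2]),
  (0, [4, 2, 4], [2]), (0, [4, 2, 4], [2]), (0, [4, 2, 4], [2]), (0, [4, 2, 4], [2]),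
  (0, [4, 2, 4], [2])]

/-- A node. -/
def tNode15 : TNode := ⟨[0, 1, 159, 12], [1, 0, 220, 214], 154, tOpt15x0 ++ tOpt15x1 ++ tOpt15x2 ++ tOpt15x3, []⟩

/-- Some options of a node. -/
def tOpt16x0 : List (ℕ × List ℕ × List ℕ) := [
  (0, [1], [3]), (0, [0], [3]), (0, [2], [3]), (0, [3, 2, 3], [2]),
  (0, [3, 2, 3], [2]), (0, [3, 2, 3], [2]), (0, [3, 2, 3], [2]), (0, [3, 2, 3], [2]),
  (0, [3, 2, 3], [2]), (0, [3, 2, 3], [2]), (0, [3, 2, 3], [2]), (0, [3, 2, 3], [2]),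
  (0, [3, 2, 3], [2]), (0, [3, 2, 3], [2]), (0, [3, 2, 3], [2]), (0, [3, 2, 3], [2]),
  (0, [3, 2, 3], [2]), (0, [3, 2, 3], [2]), (0, [3, 2, 3], [2]), (0, [3, 2, 3], [2]),
  (0, [3, 2, 3], [2]), (0, [3, 2, 3], [2]), (0, [3, 2, 3], [2]), (0, [3, 2, 3], [2]),
  (0, [3, 2, 3], [2]), (0, [3, 2, 3], [2]), (0, [3, 2, 3], [2]), (0, [3, 2, 3], [2]),
  (0, [3, 2, 3], [2]), (0, [3, 2, 3], [2]), (0, [3, 2, 3], [2]), (0, [3, 2, 3], [2]),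
  (0, [3, 2, 3], [2]), (0, [3, 2, 3], [2]), (0, [3, 2, 3], [2]), (0, [3, 2, 3], [2]),
  (0, [3, 2, 3], [2]), (0, [3, 2, 3], [2]), (0, [3, 2, 3], [2]), (0, [3, 2, 3], [2]),
  (0, [3, 2, 3], [2]), (0, [3, 2, 3], [2]), (0, [3, 2, 3], [2]), (0, [3, 2, 3], [2]),
  (0, [3, 2, 3], [2]), (0, [3, 2, 3], [2]), (0, [3, 2, 3], [2]), (0, [3, 2, 3], [2]),
  (0, [3, 2, 3], [2]), (0, [3, 2, 3], [2]), (0, [3, 2, 3], [2]), (0, [3, 2, 3], [2]),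
  (0, [3, 2, 3], [2]), (0, [3, 2, 3], [2]), (0, [3, 2, 3], [2]), (0, [3, 2, 3], [2]),
  (0, [3, 2, 3], [2]), (0, [3, 2, 3], [2]), (0, [3, 2, 3], [2]), (0, [3, 2, 3], [2]),
  (0, [3, 2, 3], [2]), (0, [3, 2, 3], [2]), (0, [3, 2, 3], [2]), (0, [3, 2, 3], [2]),
  (0, [3, 2, 3], [2]), (0, [3, 2, 3], [2]), (0, [3, 2, 3], [2]), (0, [3, 2, 3], [2]),
  (0, [3, 2, 3], [2]), (0, [3, 2, 3], [2]), (0, [3, 2, 3], [2]), (0, [3, 2, 3], [2]),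
  (0, [3, 2, 3], [2]), (0, [3, 2, 3], [2]), (0, [3, 2, 3], [2]), (0, [3, 2, 3], [2]),
  (0, [3, 2, 3], [2]), (0, [3, 2, 3], [2]), (0, [3, 2, 3], [2]), (0, [3, 2, 3], [2])]

/-- Some options of a node. -/
def tOpt16x1 : List (ℕ × List ℕ × List ℕ) := [
  (0, [3, 2, 3], [2]), (0, [3, 2, 3], [2]), (0, [3, 2, 3], [2]), (0, [3, 2, 3], [2]),
  (0, [3, 2, 3], [2]), (0, [3, 2, 3], [2]), (0, [3, 2, 3], [2]), (0, [3, 2, 3], [2]),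
  (0, [3, 2, 3], [2]), (0, [3, 2, 3], [2]), (0, [3, 2, 3], [2]), (0, [3, 2, 3], [2]),
  (0, [3, 2, 3], [2]), (0, [3, 2, 3], [2]), (0, [3, 2, 3], [2]), (0, [3, 2, 3], [2]),
  (0, [3, 2, 3], [2]), (0, [3, 2, 3], [2]), (0, [3, 2, 3], [2]), (0, [3, 2, 3], [2]),
  (0, [3, 2, 3], [2]), (0, [3, 2, 3], [2]), (0, [3, 2, 3], [2]), (0, [3, 2, 3], [2]),
  (0, [3, 2, 3], [2]), (0, [3, 2, 3], [2]), (0, [3, 2, 3], [2]), (0, [3, 2, 3], [2]),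
  (0, [3, 2, 3], [2]), (0, [3, 2, 3], [2]), (0, [3, 2, 3], [2]), (0, [3, 2, 3], [2]),
  (0, [3, 2, 3], [2]), (0, [3, 2, 3], [2]), (0, [3, 2, 3], [2]), (0, [3, 2, 3], [2]),
  (0, [3, 2, 3], [2]), (0, [3, 2, 3], [2]), (0, [3, 2, 3], [2]), (0, [3, 2, 3], [2]),
  (0, [3, 2, 3], [2]), (0, [3, 2, 3], [2]), (0, [3, 2, 3], [2]), (0, [3, 2, 3], [2]),
  (0, [3, 2, 3], [2]), (0, [3, 2, 3], [2]), (0, [3, 2, 3], [2]), (0, [3, 2, 3], [2]),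
  (0, [3, 2, 3], [2]), (0, [3, 2, 3], [2]), (0, [3, 2, 3], [2]), (0, [3, 2, 3], [2]),
  (0, [3, 2, 3], [2]), (0, [3, 2, 3], [2]), (0, [3, 2, 3], [2]), (0, [3, 2, 3], [2]),
  (0, [3, 2, 3], [2]), (0, [3, 2, 3], [2]), (0, [3, 2, 3], [2]), (0, [3, 2, 3], [2]),
  (0, [3, 2, 3], [2]), (0, [3, 2, 3], [2]), (0, [3, 2, 3], [2]), (0, [3, 2, 3], [2]),
  (0, [3, 2, 3], [2]), (0, [3, 2, 3], [2]), (0, [3, 2, 3], [2]), (0, [3, 2, 3], [2]),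
  (0, [3, 2, 3], [2]), (0, [3, 2, 3], [2]), (0, [3, 2, 3], [2]), (0, [3, 2, 3], [2]),
  (0, [3, 2, 3], [2]), (0, [3, 2, 3], [2]), (0, [3, 2, 3], [2]), (0, [3, 2, 3], [2]),
  (0, [3, 2, 3], [2]), (0, [3, 2, 3], [2]), (0, [3, 2, 3], [2]), (0, [3, 2, 3], [2])]

/-- Some options of a node. -/
def tOpt16x2 : List (ℕ × List ℕ × List ℕ) := [
  (0, [3, 2, 3], [2]), (0, [3, 2, 3], [2]), (0, [3, 2, 3], [2]), (0, [3, 2, 3], [2]),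
  (0, [3, 2, 3], [2]), (0, [3, 2, 3], [2]), (0, [3, 2, 3], [2]), (0, [3, 2, 3], [2]),
  (0, [3, 2, 3], [2]), (0, [3, 2, 3], [2]), (0, [3, 2, 3], [2]), (0, [3, 2, 3], [2]),
  (0, [3, 2, 3], [2]), (0, [3, 2, 3], [2]), (0, [3, 2, 3], [2]), (0, [3, 2, 3], [2]),
  (0, [3, 2, 3], [2]), (0, [3, 2, 3], [2]), (0, [3, 2, 3], [2]), (0, [3, 2, 3], [2]),
  (0, [3, 2, 3], [2]), (0, [3, 2, 3], [2]), (0, [3, 2, 3], [2]), (0, [3, 2, 3], [2]),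
  (0, [3, 2, 3], [2]), (0, [3, 2, 3], [2]), (0, [3, 2, 3], [2]), (0, [3, 2, 3], [2]),
  (0, [3, 2, 3], [2]), (0, [3, 2, 3], [2]), (0, [3, 2, 3], [2]), (0, [3, 2, 3], [2]),
  (0, [3, 2, 3], [2]), (0, [3, 2, 3], [2]), (0, [3, 2, 3], [2]), (0, [3, 2, 3], [2]),
  (0, [3, 2, 3], [2]), (0, [3, 2, 3], [2]), (0, [3, 2, 3], [2]), (0, [3, 2, 3], [2]),
  (0, [3, 2, 3], [2]), (0, [3, 2, 3], [2]), (0, [3, 2, 3], [2]), (0, [3, 2, 3], [2]),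
  (0, [3, 2, 3], [2]), (0, [3, 2, 3], [2]), (0, [3, 2, 3], [2]), (0, [3, 2, 3], [2]),
  (0, [3, 2, 3], [2]), (0, [3, 2, 3], [2]), (0, [3, 2, 3], [2]), (0, [3, 2, 3], [2]),
  (0, [3, 2, 3], [2]), (0, [3, 2, 3], [2]), (1, [], []), (1, [16, 18, 16], []),
  (1, [16, 19, 17, 16, 19, 16], []), (0, [3, 2, 3], [2]), (0, [3, 2, 3], [2]), (0, [3, 2, 3], [2]),
  (0, [3, 2, 3], [2]), (1, [21], []), (1, [21, 16, 18, 16], []), (1, [16, 19, 17, 19, 21, 16, 19], []),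
  (0, [3, 2, 3], [2]), (0, [3, 2, 3], [2]), (0, [3, 2, 3], [2]), (0, [3, 2, 3], [2]),
  (0, [3, 2, 3], [2]), (0, [3, 2, 3], [2]), (1, [20, 16, 19, 20, 17, 16, 19, 16, 22], []), (0, [3, 2, 3], [2]),
  (1, [18, 19, 16, 18, 17, 16, 22], []), (0, [3, 2, 3], [2]), (0, [3, 2, 3], [2]), (0, [3, 2, 3], [2]),
  (0, [3, 2, 3], [2]), (0, [3, 2, 3], [2]), (0, [3, 2, 3], [2]), (0, [3, 2, 3], [2])]

/-- Some options of a node. -/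
def tOpt16x3 : List (ℕ × List ℕ × List ℕ) := [
  (1, [16, 19, 17, 19, 16], []), (1, [16, 19, 17, 19, 20, 16], []), (1, [19, 16, 18, 16], []), (1, [16, 19, 16, 18, 17, 19, 16], []),
  (1, [19], []), (0, [3, 2, 3], [2]), (0, [3, 2, 3], [2]), (0, [3, 2, 3], [2]),
  (1, [16, 19, 17, 20, 19, 18, 16, 22], []), (1, [16, 19, 17, 19, 21, 16], []), (1, [16, 18, 16, 19, 18, 21, 22], []), (1, [21, 19], []),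
  (1, [19, 16, 18, 19, 17, 21, 19, 16, 22], []), (0, [3, 2, 3], [2]), (0, [3, 2, 3], [2]), (0, [3, 2, 3], [2]),
  (1, [16, 19, 20, 19, 18, 16], []), (1, [16, 19, 21, 19, 16], []), (1, [16, 19, 18, 19, 18, 16], []), (1, [16, 19, 18, 19, 16], []),
  (1, [16, 19, 17, 16, 19, 18, 16], []), (1, [21, 16, 19, 17, 19, 16], []), (1, [16, 19, 21, 17, 19, 18, 16, 22], []), (0, [3, 2, 3], [2]),
  (1, [16, 18, 16, 19, 18, 22], []), (1, [16, 18, 16, 19, 20], []), (0, [3, 2, 3], [2]), (1, [16, 19, 20, 19, 16], []),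
  (1, [16, 18, 16, 19], []), (1, [16, 18, 19, 17, 16, 19, 16], []), (1, [18, 19, 16, 18, 16, 22], []), (1, [16, 18, 19, 17, 19, 16], []),
  (0, [3, 2, 3], [2]), (0, [3, 2, 3], [2]), (0, [3, 2, 3], [2]), (1, [16, 19, 21, 19, 18, 16], []),
  (1, [16, 19, 17, 16, 19, 21, 16], []), (1, [16, 19, 18, 17, 16, 19, 16], []), (1, [16, 19, 17, 21, 17, 19, 16], []), (1, [16, 19, 21, 18, 17, 19, 16], []),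
  (0, [3, 2, 3], [2]), (0, [3, 2, 3], [2]), (1, [16, 18, 19, 17, 19, 18, 16], []), (1, [16, 19, 18, 17, 19, 16], []),
  (1, [16, 18, 19, 18, 17, 19, 16], []), (1, [21, 16, 18, 16, 19], []), (1, [16, 19, 17, 21, 19, 16], []), (1, [16, 19, 16, 18, 17, 19, 21, 16], []),
  (1, [19, 21], []), (1, [19, 16, 18, 21, 16], []), (1, [16, 18, 19, 18, 17, 21, 19, 17, 16, 22], []), (1, [16, 19, 20, 18, 19, 16], []),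
  (1, [16, 19, 18, 19, 17, 16], []), (1, [16, 19, 21, 17, 19, 16], []), (1, [21, 16, 19, 18, 21, 19, 16], []), (1, [19, 18], []),
  (1, [16, 18, 16, 19, 17], []), (1, [19, 20], []), (1, [16, 19, 18, 21, 19, 16], []), (1, [16, 19, 21, 18, 19, 16], []),
  (1, [21, 16, 19, 18, 17, 19, 16], []), (1, [21, 16, 19, 18, 19, 16], []), (0, [3, 2, 3], [2]), (1, [16, 18, 16, 19, 18, 21, 18, 22], []),
  (1, [21, 18, 19, 16, 18, 16, 22], []), (1, [19, 21, 18, 21], []), (1, [16, 19, 21, 19, 18, 16, 19], []), (0, [3, 2, 3], [2]),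
  (0, [3, 2, 3], [2]), (0, [3, 2, 3], [2]), (1, [21, 18, 19, 16, 18, 21, 16, 22], []), (1, [19, 21, 18], []),
  (1, [19, 16, 18, 21, 16, 18], []), (0, [3, 2, 3], [2]), (0, [3, 2, 3], [2]), (0, [3, 2, 3], [2]),
  (0, [3, 2, 3], [2])]

/-- A node. -/
def tNode16 : TNode := ⟨[0, 1, 159], [1, 0, 2], 43, tOpt16x0 ++ tOpt16x1 ++ tOpt16x2 ++ tOpt16x3, [17]⟩

/-- Some options of a node. -/
def tOpt17x0 : List (ℕ × List ℕ × List ℕ) := [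
  (0, [1], [4]), (0, [0], [4]), (0, [2], [4]), (0, [4, 2, 4], [2]),
  (0, [4, 2, 4], [2]), (0, [4, 2, 4], [2]), (0, [4, 2, 4], [2]), (0, [4, 2, 4], [2]),
  (0, [3, 2, 3], [4]), (0, [4, 2, 4], [2]), (0, [4, 2, 4], [2]), (0, [4, 2, 4], [2]),
  (0, [4, 2, 4], [2]), (0, [4, 2, 4], [2]), (0, [4, 2, 4], [2]), (0, [4, 2, 4], [2]),
  (0, [4, 2, 4], [2]), (0, [4, 2, 4], [2]), (0, [4, 2, 4], [2]), (0, [4, 2, 4], [2]),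
  (0, [4, 2, 4], [2]), (0, [4, 2, 4], [2]), (0, [4, 2, 4], [2]), (0, [4, 2, 4], [2]),
  (0, [4, 2, 4], [2]), (0, [4, 2, 4], [2]), (0, [4, 2, 4], [2]), (0, [4, 2, 4], [2]),
  (0, [4, 2, 4], [2]), (0, [4, 2, 4], [2]), (0, [4, 2, 4], [2]), (0, [4, 2, 4], [2]),
  (0, [4, 2, 4], [2]), (0, [4, 2, 4], [2]), (0, [4, 2, 4], [2]), (0, [4, 2, 4], [2]),
  (0, [4, 2, 4], [2]), (0, [4, 2, 4], [2]), (0, [4, 2, 4], [2]), (0, [4, 2, 4], [2]),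
  (0, [4, 2, 4], [2]), (0, [4, 2, 4], [2]), (0, [4, 2, 4], [2]), (0, [4, 2, 4], [2]),
  (0, [4, 2, 4], [2]), (0, [4, 2, 4], [2]), (0, [4, 2, 4], [2]), (0, [4, 2, 4], [2]),
  (0, [4, 2, 4], [2]), (0, [4, 2, 4], [2]), (0, [4, 2, 4], [2]), (0, [4, 2, 4], [2]),
  (0, [4, 2, 4], [2]), (0, [4, 2, 4], [2]), (0, [4, 2, 4], [2]), (0, [4, 2, 4], [2]),
  (0, [4, 2, 4], [2]), (0, [4, 2, 4], [2]), (0, [4, 2, 4], [2]), (0, [4, 2, 4], [2]),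
  (0, [4, 2, 4], [2]), (0, [4, 2, 4], [2]), (0, [4, 2, 4], [2]), (0, [4, 2, 4], [2]),
  (0, [4, 2, 4], [2]), (0, [4, 2, 4], [2]), (0, [4, 2, 4], [2]), (0, [4, 2, 4], [2]),
  (0, [4, 2, 4], [2]), (0, [4, 2, 4], [2]), (0, [4, 2, 4], [2]), (0, [4, 2, 4], [2]),
  (0, [4, 2, 4], [2]), (0, [4, 2, 4], [2]), (0, [4, 2, 4], [2]), (0, [4, 2, 4], [2]),
  (0, [4, 2, 4], [2]), (0, [4, 2, 4], [2]), (0, [4, 2, 4], [2]), (0, [4, 2, 4], [2])]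

/-- Some options of a node. -/
def tOpt17x1 : List (ℕ × List ℕ × List ℕ) := [
  (0, [4, 2, 4], [2]), (0, [4, 2, 4], [2]), (0, [4, 2, 4], [2]), (0, [4, 2, 4], [2]),
  (0, [4, 2, 4], [2]), (0, [4, 2, 4], [2]), (0, [4, 2, 4], [2]), (0, [4, 2, 4], [2]),
  (0, [4, 2, 4], [2]), (0, [4, 2, 4], [2]), (0, [4, 2, 4], [2]), (0, [4, 2, 4], [2]),
  (0, [4, 2, 4], [2]), (0, [4, 2, 4], [2]), (0, [4, 2, 4], [2]), (0, [4, 2, 4], [2]),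
  (0, [4, 2, 4], [2]), (0, [4, 2, 4], [2]), (0, [4, 2, 4], [2]), (0, [4, 2, 4], [2]),
  (0, [4, 2, 4], [2]), (0, [4, 2, 4], [2]), (0, [4, 2, 4], [2]), (0, [4, 2, 4], [2]),
  (0, [4, 2, 4], [2]), (0, [4, 2, 4], [2]), (0, [4, 2, 4], [2]), (0, [4, 2, 4], [2]),
  (0, [4, 2, 4], [2]), (0, [4, 2, 4], [2]), (0, [4, 2, 4], [2]), (0, [4, 2, 4], [2]),
  (0, [4, 2, 4], [2]), (0, [4, 2, 4], [2]), (0, [4, 2, 4], [2]), (0, [4, 2, 4], [2]),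
  (0, [4, 2, 4], [2]), (0, [4, 2, 4], [2]), (0, [4, 2, 4], [2]), (0, [4, 2, 4], [2]),
  (0, [4, 2, 4], [2]), (0, [4, 2, 4], [2]), (0, [4, 2, 4], [2]), (0, [4, 2, 4], [2]),
  (0, [4, 2, 4], [2]), (0, [4, 2, 4], [2]), (0, [4, 2, 4], [2]), (0, [4, 2, 4], [2]),
  (0, [4, 2, 4], [2]), (0, [4, 2, 4], [2]), (0, [4, 2, 4], [2]), (0, [4, 2, 4], [2]),
  (0, [4, 2, 4], [2]), (0, [4, 2, 4], [2]), (0, [4, 2, 4], [2]), (0, [4, 2, 4], [2]),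
  (0, [4, 2, 4], [2]), (0, [4, 2, 4], [2]), (0, [4, 2, 4], [2]), (0, [4, 2, 4], [2]),
  (0, [4, 2, 4], [2]), (0, [4, 2, 4], [2]), (0, [4, 2, 4], [2]), (0, [4, 2, 4], [2]),
  (0, [4, 2, 4], [2]), (0, [4, 2, 4], [2]), (0, [4, 2, 4], [2]), (0, [4, 2, 4], [2]),
  (0, [4, 2, 4], [2]), (0, [4, 2, 4], [2]), (0, [4, 2, 4], [2]), (0, [4, 2, 4], [2]),
  (0, [4, 2, 4], [2]), (0, [4, 2, 4], [2]), (0, [4, 2, 4], [2]), (0, [4, 2, 4], [2]),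
  (0, [4, 2, 4], [2]), (0, [4, 2, 4], [2]), (0, [4, 2, 4], [2]), (0, [4, 2, 4], [2])]

/-- Some options of a node. -/
def tOpt17x2 : List (ℕ × List ℕ × List ℕ) := [
  (0, [4, 2, 4], [2]), (0, [4, 2, 4], [2]), (0, [4, 2, 4], [2]), (0, [4, 2, 4], [2]),
  (0, [4, 2, 4], [2]), (0, [4, 2, 4], [2]), (0, [4, 2, 4], [2]), (0, [4, 2, 4], [2]),
  (0, [4, 2, 4], [2]), (0, [4, 2, 4], [2]), (0, [4, 2, 4], [2]), (0, [4, 2, 4], [2]),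
  (0, [4, 2, 4], [2]), (0, [4, 2, 4], [2]), (0, [4, 2, 4], [2]), (0, [4, 2, 4], [2]),
  (0, [4, 2, 4], [2]), (0, [4, 2, 4], [2]), (0, [4, 2, 4], [2]), (0, [4, 2, 4], [2]),
  (0, [4, 2, 4], [2]), (0, [4, 2, 4], [2]), (0, [4, 2, 4], [2]), (0, [4, 2, 4], [2]),
  (0, [4, 2, 4], [2]), (0, [4, 2, 4], [2]), (0, [4, 2, 4], [2]), (0, [4, 2, 4], [2]),
  (0, [4, 2, 4], [2]), (0, [4, 2, 4], [2]), (0, [4, 2, 4], [2]), (0, [4, 2, 4], [2]),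
  (0, [4, 2, 4], [2]), (0, [4, 2, 4], [2]), (0, [4, 2, 4], [2]), (0, [4, 2, 4], [2]),
  (0, [4, 2, 4], [2]), (0, [4, 2, 4], [2]), (0, [4, 2, 4], [2]), (0, [4, 2, 4], [2]),
  (0, [4, 2, 4], [2]), (0, [4, 2, 4], [2]), (0, [4, 2, 4], [2]), (0, [4, 2, 4], [2]),
  (0, [4, 2, 4], [2]), (0, [4, 2, 4], [2]), (0, [4, 2, 4], [2]), (0, [4, 2, 4], [2]),
  (0, [4, 2, 4], [2]), (0, [4, 2, 4], [2]), (0, [4, 2, 4], [2]), (0, [4, 2, 4], [2]),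
  (0, [4, 2, 4], [2]), (0, [4, 2, 4], [2]), (0, [3], [4]), (0, [4, 2, 4], [3, 2, 3]),
  (0, [3, 4, 3], [4, 3, 4]), (0, [4, 2, 4], [2]), (0, [4, 2, 4], [2]), (0, [4, 2, 4], [2]),
  (0, [4, 2, 4], [2]), (0, [4, 2, 4], [3, 2, 3]), (0, [4, 2, 4], [3, 2, 3]), (0, [3, 4, 3], [4, 3, 4]),
  (0, [4, 2, 4], [2]), (0, [4, 2, 4], [2]), (0, [4, 2, 4], [2]), (0, [4, 2, 4], [2]),
  (0, [4, 2, 4], [2]), (0, [4, 2, 4], [2]), (0, [3, 4, 3], [4, 3, 4]), (0, [4, 2, 4], [2]),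
  (0, [3, 4, 3], [4, 3, 4]), (0, [4, 2, 4], [2]), (0, [4, 2, 4], [2]), (0, [4, 2, 4], [2]),
  (0, [4, 2, 4], [2]), (0, [4, 2, 4], [2]), (0, [4, 2, 4], [2]), (0, [4, 2, 4], [2])]

/-- Some options of a node. -/
def tOpt17x3 : List (ℕ × List ℕ × List ℕ) := [
  (0, [4, 2, 4], [3, 2, 3]), (0, [4, 2, 4], [3, 2, 3]), (0, [3, 4, 3], [4, 3, 4]), (0, [3, 4, 3], [4, 3, 4]),
  (0, [3, 4, 3], [4, 3, 4]), (0, [4, 2, 4], [2]), (0, [4, 2, 4], [2]), (0, [4, 2, 4], [2]),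
  (0, [4, 2, 4], [3, 2, 3]), (0, [4, 2, 4], [3, 2, 3]), (0, [3, 4, 3], [4, 3, 4]), (0, [3, 4, 3], [4, 3, 4]),
  (0, [3, 4, 3], [4, 3, 4]), (0, [4, 2, 4], [2]), (0, [4, 2, 4], [2]), (0, [4, 2, 4], [2]),
  (0, [4, 2, 4], [3, 2, 3]), (0, [4, 2, 4], [3, 2, 3]), (0, [4, 2, 4], [3, 2, 3]), (0, [4, 2, 4], [3, 2, 3]),
  (0, [3, 4, 3], [4, 3, 4]), (0, [4, 2, 4], [3, 2, 3]), (0, [4, 2, 4], [3, 2, 3]), (0, [4, 2, 4], [2]),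
  (0, [3, 4, 3], [4, 3, 4]), (0, [3, 4, 3], [4, 3, 4]), (0, [4, 2, 4], [2]), (0, [4, 2, 4], [3, 2, 3]),
  (0, [3, 4, 3], [4, 3, 4]), (0, [3, 4, 3], [4, 3, 4]), (0, [3, 4, 3], [4, 3, 4]), (0, [4, 2, 4], [3, 2, 3]),
  (0, [4, 2, 4], [2]), (0, [4, 2, 4], [2]), (0, [4, 2, 4], [2]), (0, [4, 2, 4], [3, 2, 3]),
  (0, [3, 4, 3], [4, 3, 4]), (0, [3, 4, 3], [4, 3, 4]), (0, [4, 2, 4], [3, 2, 3]), (0, [4, 2, 4], [3, 2, 3]),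
  (0, [4, 2, 4], [2]), (0, [4, 2, 4], [2]), (0, [4, 2, 4], [3, 2, 3]), (0, [4, 2, 4], [3, 2, 3]),
  (0, [4, 2, 4], [3, 2, 3]), (0, [3, 4, 3], [4, 3, 4]), (0, [4, 2, 4], [3, 2, 3]), (0, [3, 4, 3], [4, 3, 4]),
  (0, [3, 4, 3], [4, 3, 4]), (0, [3, 4, 3], [4, 3, 4]), (0, [4, 2, 4], [3, 2, 3]), (0, [4, 2, 4], [3, 2, 3]),
  (0, [4, 2, 4], [3, 2, 3]), (0, [4, 2, 4], [3, 2, 3]), (0, [4, 2, 4], [3, 2, 3]), (0, [3, 4, 3], [4, 3, 4]),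
  (0, [3, 4, 3], [4, 3, 4]), (0, [3, 4, 3], [4, 3, 4]), (0, [4, 2, 4], [3, 2, 3]), (0, [4, 2, 4], [3, 2, 3]),
  (0, [4, 2, 4], [3, 2, 3]), (0, [4, 2, 4], [3, 2, 3]), (0, [4, 2, 4], [2]), (0, [3, 4, 3], [4, 3, 4]),
  (0, [3, 4, 3], [4, 3, 4]), (0, [3, 4, 3], [4, 3, 4]), (0, [3, 4, 3], [4, 3, 4]), (0, [4, 2, 4], [2]),
  (0, [4, 2, 4], [2]), (0, [4, 2, 4], [2]), (0, [3, 4, 3], [4, 3, 4]), (0, [3, 4, 3], [4, 3, 4]),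
  (0, [3, 4, 3], [4, 3, 4]), (0, [4, 2, 4], [2]), (0, [4, 2, 4], [2]), (0, [4, 2, 4], [2]),
  (0, [4, 2, 4], [2])]

/-- A node. -/
def tNode17 : TNode := ⟨[0, 1, 159, 43], [1, 0, 2, 214], 219, tOpt17x0 ++ tOpt17x1 ++ tOpt17x2 ++ tOpt17x3, []⟩

/-- Some options of a node. -/
def tOpt18x0 : List (ℕ × List ℕ × List ℕ) := [
  (0, [1], [3]), (0, [0], [3]), (0, [3, 2, 3], [2]), (0, [2], [3]),
  (0, [2, 3, 2], [3, 2, 3]), (0, [3, 2, 3], [2]), (0, [3, 2, 3], [2]), (0, [2, 3, 2], [3, 2, 3]),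
  (0, [3, 2, 3], [2]), (0, [3, 2, 3], [2]), (0, [3, 2, 3], [2]), (0, [2, 3, 2], [3, 2, 3]),
  (0, [2, 3, 2], [3, 2, 3]), (0, [2, 3, 2], [3, 2, 3]), (0, [3, 2, 3], [2]), (0, [3, 2, 3], [2]),
  (0, [2, 3, 2], [3, 2, 3]), (0, [2, 3, 2], [3, 2, 3]), (0, [2, 3, 2], [3, 2, 3]), (0, [3, 2, 3], [2]),
  (0, [2, 3, 2], [3, 2, 3]), (0, [2, 3, 2], [3, 2, 3]), (0, [2, 3, 2], [3, 2, 3]), (0, [2, 3, 2], [3, 2, 3]),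
  (0, [3, 2, 3], [2]), (0, [2, 3, 2], [3, 2, 3]), (0, [2, 3, 2], [3, 2, 3]), (0, [2, 3, 2], [3, 2, 3]),
  (0, [2, 3, 2], [3, 2, 3]), (1, [], []), (0, [2, 3, 2], [3, 2, 3]), (0, [2, 3, 2], [3, 2, 3]),
  (0, [2, 3, 2], [3, 2, 3]), (0, [2, 3, 2], [3, 2, 3]), (0, [2, 3, 2], [3, 2, 3]), (1, [20, 17, 20, 17], []),
  (0, [2, 3, 2], [3, 2, 3]), (0, [2, 3, 2], [3, 2, 3]), (0, [2, 3, 2], [3, 2, 3]), (0, [2, 3, 2], [3, 2, 3]),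
  (1, [20, 16, 19, 20, 19, 22], []), (2, [], []), (0, [2, 3, 2], [3, 2, 3]), (0, [2, 3, 2], [3, 2, 3]),
  (0, [2, 3, 2], [3, 2, 3]), (0, [2, 3, 2], [3, 2, 3]), (2, [19], []), (0, [2, 3, 2], [3, 2, 3]),
  (1, [21, 17, 19, 21, 19, 16, 22, 23], []), (0, [2, 3, 2], [3, 2, 3]), (0, [2, 3, 2], [3, 2, 3]), (0, [2, 3, 2], [3, 2, 3]),
  (0, [2, 3, 2], [3, 2, 3]), (0, [2, 3, 2], [3, 2, 3]), (2, [19, 20, 16, 19, 20, 22], []), (2, [16, 18, 19], []),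
  (2, [20, 16, 19, 20, 19, 22], []), (0, [2, 3, 2], [3, 2, 3]), (0, [2, 3, 2], [3, 2, 3]), (0, [2, 3, 2], [3, 2, 3]),
  (0, [2, 3, 2], [3, 2, 3]), (2, [20, 19, 20, 16], []), (0, [2, 3, 2], [3, 2, 3]), (2, [20, 16, 19, 20, 22], []),
  (2, [18, 16, 19, 18, 22], []), (0, [2, 3, 2], [3, 2, 3]), (0, [2, 3, 2], [3, 2, 3]), (0, [2, 3, 2], [3, 2, 3]),
  (0, [2, 3, 2], [3, 2, 3]), (0, [2, 3, 2], [3, 2, 3]), (1, [16, 18], []), (1, [17, 20, 17, 16, 19, 20, 22], []),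
  (1, [16, 18, 19], []), (0, [2, 3, 2], [3, 2, 3]), (0, [2, 3, 2], [3, 2, 3]), (0, [2, 3, 2], [3, 2, 3]),
  (1, [20, 16, 19, 20, 22], []), (1, [20, 16, 19, 17, 20, 18, 17], []), (1, [16, 19, 18, 19], []), (0, [2, 3, 2], [3, 2, 3])]

/-- Some options of a node. -/
def tOpt18x1 : List (ℕ × List ℕ × List ℕ) := [
  (0, [2, 3, 2], [3, 2, 3]), (1, [21, 17, 21, 20, 18], []), (0, [2, 3, 2], [3, 2, 3]), (0, [2, 3, 2], [3, 2, 3]),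
  (0, [2, 3, 2], [3, 2, 3]), (0, [2, 3, 2], [3, 2, 3]), (1, [17, 19, 16, 18, 16, 19, 17], []), (2, [19, 20, 16, 19, 20, 18, 16, 19], []),
  (0, [2, 3, 2], [3, 2, 3]), (1, [19, 20, 19, 18, 23], []), (0, [2, 3, 2], [3, 2, 3]), (2, [16, 19, 18, 19], []),
  (1, [21, 17, 19, 21, 16, 18, 16, 19, 22, 23], []), (0, [2, 3, 2], [3, 2, 3]), (0, [2, 3, 2], [3, 2, 3]), (1, [17, 19, 20, 19, 18, 17, 16, 22, 23], []),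
  (2, [19, 20, 19, 18, 23], []), (0, [2, 3, 2], [3, 2, 3]), (0, [2, 3, 2], [3, 2, 3]), (0, [2, 3, 2], [3, 2, 3]),
  (2, [16, 18, 19, 20, 16, 19, 20, 16, 22], []), (2, [17, 19, 16, 18, 19, 20, 18, 16, 19, 17, 16, 22], []), (0, [2, 3, 2], [3, 2, 3]), (1, [21, 17, 21, 17, 20, 18, 17, 16, 22], []),
  (2, [17, 19, 16, 18, 16, 19, 17], []), (0, [2, 3, 2], [3, 2, 3]), (2, [18, 16, 18, 19, 20, 18, 22, 23], []), (2, [21, 16, 19, 17, 21, 20, 18, 22], []),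
  (2, [21, 17, 21, 17, 20, 18, 17, 16, 22], []), (0, [3, 2, 3], [2]), (0, [2, 3, 2], [3, 2, 3]), (2, [20, 18, 19, 16, 23], []),
  (2, [20, 18, 19, 20, 16, 19, 20, 16, 22, 23], []), (2, [20, 19, 20, 18, 16, 19, 20, 16, 18, 23], []), (0, [3, 2, 3], [2]), (0, [3, 2, 3], [2]),
  (1, [20, 17, 19, 18, 16, 19, 16, 18, 19, 17, 23], []), (1, [20, 18, 19, 20, 16, 19, 20, 16, 22, 23], []), (1, [20, 19, 20, 18, 16, 19, 20, 16, 18, 23], []), (0, [3, 2, 3], [2]),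
  (0, [3, 2, 3], [2]), (0, [3, 2, 3], [2]), (1, [21, 17, 21, 18, 16, 19, 20, 22], []), (1, [16, 19, 20, 18, 22, 23], []),
  (0, [3, 2, 3], [2]), (1, [17, 19, 20, 19, 16, 18, 17, 22, 23], []), (0, [3, 2, 3], [2]), (0, [3, 2, 3], [2]),
  (0, [3, 2, 3], [2]), (0, [3, 2, 3], [2]), (0, [3, 2, 3], [2]), (1, [19, 20, 18, 16, 18, 16, 19, 18, 23], []),
  (2, [20, 16, 18, 22, 23], []), (0, [3, 2, 3], [2]), (0, [3, 2, 3], [2]), (0, [3, 2, 3], [2]),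
  (2, [20, 17, 19, 18, 16, 19, 16, 18, 19, 17, 23], []), (0, [3, 2, 3], [2]), (0, [3, 2, 3], [2]), (1, [19, 17, 19, 20, 19, 16, 18, 17, 16, 19, 23], []),
  (0, [3, 2, 3], [2]), (0, [3, 2, 3], [2]), (0, [3, 2, 3], [2]), (0, [3, 2, 3], [2]),
  (0, [3, 2, 3], [2]), (0, [3, 2, 3], [2]), (0, [3, 2, 3], [2]), (2, [20, 18, 16, 18, 16, 19, 18, 23], []),
  (0, [3, 2, 3], [2]), (0, [3, 2, 3], [2]), (2, [19, 20, 18, 16, 18, 16, 19, 18, 23], []), (0, [3, 2, 3], [2]),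
  (0, [3, 2, 3], [2]), (0, [3, 2, 3], [2]), (0, [3, 2, 3], [2]), (0, [3, 2, 3], [2]),
  (0, [3, 2, 3], [2]), (0, [3, 2, 3], [2]), (0, [3, 2, 3], [2]), (0, [3, 2, 3], [2])]

/-- Some options of a node. -/
def tOpt18x2 : List (ℕ × List ℕ × List ℕ) := [
  (0, [3, 2, 3], [2]), (0, [3, 2, 3], [2]), (0, [3, 2, 3], [2]), (0, [3, 2, 3], [2]),
  (0, [3, 2, 3], [2]), (0, [3, 2, 3], [2]), (0, [3, 2, 3], [2]), (0, [3, 2, 3], [2]),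
  (0, [3, 2, 3], [2]), (0, [3, 2, 3], [2]), (0, [3, 2, 3], [2]), (0, [3, 2, 3], [2]),
  (0, [3, 2, 3], [2]), (3, [], []), (4, [], []), (4, [20, 17, 20, 17], []),
  (3, [19, 20, 16, 19, 20, 22], []), (3, [21, 19, 17, 21, 16, 19, 22, 23], []), (3, [16, 19, 20, 17, 20, 17, 16, 23], []), (3, [20, 19, 16, 18, 19, 20, 18, 16, 19, 16], []),
  (3, [19, 20, 16, 18, 19, 20, 18, 23], []), (3, [19], []), (4, [21, 19, 17, 21, 19, 22], []), (3, [21, 16, 19, 17, 21, 16, 19, 16, 22], []),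
  (3, [19, 20, 19, 18, 23], []), (3, [20, 16, 19, 17, 20, 17, 19, 16, 22, 23], []), (3, [19, 20, 17, 20, 17], []), (4, [20, 16, 19, 17, 20, 17, 19, 16, 22, 23], []),
  (3, [16, 19, 16, 18, 19, 18, 16, 22, 23], []), (4, [19, 20, 18, 16, 18, 16, 19, 18, 23], []), (3, [19, 20, 18, 16, 18, 16, 19, 18, 23], []), (3, [21, 19, 17, 21, 19, 22], []),
  (4, [17, 20, 17], []), (3, [21, 17, 21, 18, 16, 19, 20, 16, 22], []), (3, [20, 19, 20, 18, 16, 19, 20, 22, 23], []), (3, [17, 19, 20, 16, 18, 16, 19, 17], []),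
  (3, [18, 16, 18, 19, 20, 18, 16, 22, 23], []), (3, [19, 21, 16, 19, 17, 21, 20, 18, 22], []), (3, [19, 21, 17, 21, 20, 18], []), (4, [19, 20, 19, 18, 23], []),
  (3, [20, 16, 18, 19, 18, 16, 19, 16, 22], []), (3, [21, 19, 17, 21, 20, 19, 18, 22, 23], []), (0, [3, 2, 3], [2]), (3, [20, 19, 18, 23], []),
  (4, [21, 17, 21, 20, 18], []), (3, [21, 17, 21, 16, 19, 20, 16, 18, 19, 18, 16, 22, 23], []), (0, [3, 2, 3], [2]), (5, [], []),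
  (0, [3, 2, 3], [2]), (0, [3, 2, 3], [2]), (5, [20, 16, 19, 20, 19, 16, 22], []), (5, [21, 17, 21, 20, 18], []),
  (0, [3, 2, 3], [2]), (0, [3, 2, 3], [2]), (6, [], []), (6, [19, 20, 18, 16, 18, 16, 19, 18, 23], []),
  (5, [16, 22], []), (6, [20, 19, 20, 18, 16, 19, 20, 22, 23], []), (5, [17, 19, 18, 19, 17], []), (6, [19, 20, 16, 19, 20, 22], []),
  (0, [3, 2, 3], [2]), (0, [3, 2, 3], [2]), (0, [3, 2, 3], [2]), (0, [3, 2, 3], [2]),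
  (7, [], []), (0, [3, 2, 3], [2]), (7, [20, 17, 20, 17], []), (6, [21, 19, 17, 21, 16, 19, 22, 23], []),
  (6, [20, 16, 19, 20, 16, 22], []), (5, [20, 17, 20, 17], []), (5, [20, 16, 19, 20, 19, 22], []), (0, [3, 2, 3], [2]),
  (5, [21, 17, 21, 20, 18, 16, 22], []), (6, [19, 21, 16, 19, 17, 21, 20, 18, 22], []), (5, [19, 20, 19, 18, 23], []), (6, [21, 19, 17, 21, 20, 16, 19, 22, 23], []),
  (0, [3, 2, 3], [2]), (5, [17, 19, 20, 19, 18, 17, 22, 23], []), (0, [3, 2, 3], [2]), (0, [3, 2, 3], [2])]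

/-- Some options of a node. -/
def tOpt18x3 : List (ℕ × List ℕ × List ℕ) := [
  (5, [16, 19], []), (5, [18, 16, 18, 19, 20, 18, 22, 23], []), (6, [19, 20, 17, 20, 17], []), (5, [21, 17, 19, 21, 19, 16, 22, 23], []),
  (6, [19], []), (0, [3, 2, 3], [2]), (0, [3, 2, 3], [2]), (0, [3, 2, 3], [2]),
  (5, [17, 20, 17, 16, 19, 20, 22], []), (0, [3, 2, 3], [2]), (7, [16, 22], []), (0, [3, 2, 3], [2]),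
  (7, [20, 17, 20, 17, 16, 22], []), (7, [21, 19, 17, 21, 19, 22], []), (0, [3, 2, 3], [2]), (7, [19], []),
  (6, [20, 16, 19, 20, 19, 16, 22], []), (0, [3, 2, 3], [2]), (6, [21, 19, 17, 21, 19, 22], []), (6, [17, 19, 18, 19, 17], []),
  (5, [20, 17, 20, 17, 16, 22], []), (7, [19, 20, 16, 19, 20, 22], []), (7, [20, 18, 19, 20, 16, 19, 20, 18, 23], []), (0, [3, 2, 3], [2]),
  (6, [20, 19, 18, 23], []), (6, [20, 19, 20], []), (0, [3, 2, 3], [2]), (6, [20, 17, 19, 18, 16, 18, 16, 19, 18, 17, 22, 23], []),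
  (6, [21, 17, 21, 16, 19, 20, 16, 18, 19, 18, 16, 22, 23], []), (5, [19, 20, 19, 18, 16, 22, 23], []), (6, [20, 19, 20, 18, 22], []), (5, [18, 19, 20, 16, 19, 16, 23], []),
  (6, [16, 19, 20, 16, 18, 22, 23], []), (5, [21, 17, 21, 17, 20, 18, 17, 22], []), (6, [20, 18, 16, 19, 20, 16], []), (0, [3, 2, 3], [2]),
  (0, [3, 2, 3], [2]), (5, [17, 19, 20, 19, 18, 17, 16, 22, 23], []), (7, [19, 21, 17, 16, 19, 21, 16], []), (7, [16, 19, 20, 18, 22, 23], []),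
  (0, [3, 2, 3], [2]), (0, [3, 2, 3], [2]), (5, [20, 16, 19, 20, 22], []), (5, [21, 17, 21, 18, 16, 19, 20, 22], []),
  (5, [19, 20, 18, 16, 19, 20, 16], []), (0, [3, 2, 3], [2]), (0, [3, 2, 3], [2]), (7, [21, 17, 19, 21, 19, 16, 22, 23], []),
  (0, [3, 2, 3], [2]), (7, [20, 16, 19, 20, 19, 22], []), (7, [17, 20, 17, 16, 19, 20, 22], []), (6, [17, 19, 16, 18, 16, 19, 17], []),
  (6, [19, 20, 18, 16, 19, 20, 16, 19, 16], []), (7, [20, 16, 19, 20, 22], []), (7, [20, 19, 20, 18, 16, 19, 20, 16, 18, 23], []), (6, [19, 17, 20, 17], []),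
  (5, [21, 17, 21, 17, 20, 18, 17, 16, 22], []), (6, [20, 18, 19, 20, 22], []), (5, [20, 18, 19, 20, 16, 19, 20, 16, 22, 23], []), (0, [3, 2, 3], [2]),
  (7, [18, 16, 19, 18, 22], []), (0, [3, 2, 3], [2]), (0, [3, 2, 3], [2]), (7, [16, 19, 20, 18, 19, 22, 23], []),
  (0, [3, 2, 3], [2]), (7, [19, 20, 18, 16, 19, 16, 18, 19, 23], []), (0, [3, 2, 3], [2]), (7, [17, 19, 16, 18, 16, 19, 17], []),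
  (0, [3, 2, 3], [2]), (7, [19, 20, 18, 16, 18, 16, 19, 18, 23], []), (7, [20, 17, 19, 18, 16, 19, 16, 18, 19, 17, 23], []), (0, [3, 2, 3], [2]),
  (7, [17, 19, 20, 19, 16, 18, 17, 22, 23], []), (0, [3, 2, 3], [2]), (7, [20, 18, 16, 18, 16, 19, 18, 23], []), (0, [3, 2, 3], [2]),
  (7, [16, 18, 19, 20, 16, 19, 20, 16, 22], [])]

/-- A node. -/
def tNode18 : TNode := ⟨[0, 1, 159], [1, 0, 3], 60, tOpt18x0 ++ tOpt18x1 ++ tOpt18x2 ++ tOpt18x3, [19, 20, 21, 22, 23, 24, 25]⟩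

/-- Some options of a node. -/
def tOpt19x0 : List (ℕ × List ℕ × List ℕ) := [
  (0, [1], [4]), (0, [0], [4]), (0, [4, 3, 4], [3]), (0, [2], [4]),
  (0, [4, 2, 4], [2]), (0, [4, 3, 4], [3]), (0, [4, 3, 4], [2, 3, 2]), (0, [4, 2, 4], [2]),
  (0, [4, 3, 4], [3]), (0, [4, 3, 2, 3, 4], [3, 2, 3]), (0, [4, 3, 2, 3, 4], [3, 2, 3]), (0, [4, 2, 4], [2]),
  (0, [4, 2, 4], [2]), (0, [4, 2, 4], [2]), (0, [4, 3, 2, 3, 4], [3, 2, 3]), (0, [4, 3, 2, 3, 4], [3, 2, 3]),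
  (0, [4, 2, 4], [2]), (0, [4, 2, 4], [2]), (0, [4, 2, 4], [2]), (0, [4, 3, 4], [2, 3, 2]),
  (0, [4, 2, 4], [2]), (0, [4, 2, 4], [2]), (0, [4, 2, 4], [2]), (0, [4, 2, 4], [2]),
  (0, [4, 3, 4], [2, 3, 2]), (0, [4, 2, 4], [2]), (0, [4, 2, 4], [2]), (0, [4, 2, 4], [2]),
  (0, [4, 2, 4], [2]), (0, [3], [4]), (0, [4, 2, 4], [2]), (0, [4, 2, 4], [2]),
  (0, [4, 2, 4], [2]), (0, [4, 2, 4], [2]), (0, [4, 2, 4], [2]), (0, [4, 2, 4], [2]),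
  (0, [4, 2, 4], [2]), (0, [4, 2, 4], [2]), (0, [4, 2, 4], [2]), (0, [4, 2, 4], [2]),
  (0, [4, 2, 4], [2]), (0, [4, 2, 4], [2]), (0, [4, 2, 4], [2]), (0, [4, 2, 4], [2]),
  (0, [4, 2, 4], [2]), (0, [4, 2, 4], [2]), (0, [4, 2, 4], [2]), (0, [4, 2, 4], [2]),
  (0, [4, 2, 4], [2]), (0, [4, 2, 4], [2]), (0, [4, 2, 4], [2]), (0, [4, 2, 4], [2]),
  (0, [4, 2, 4], [2]), (0, [4, 2, 4], [2]), (0, [4, 2, 4], [2]), (0, [4, 2, 4], [2]),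
  (0, [4, 2, 4], [2]), (0, [4, 2, 4], [2]), (0, [4, 2, 4], [2]), (0, [4, 2, 4], [2]),
  (0, [4, 2, 4], [2]), (0, [4, 2, 4], [2]), (0, [4, 2, 4], [2]), (0, [4, 2, 4], [2]),
  (0, [4, 2, 4], [2]), (0, [4, 2, 4], [2]), (0, [4, 2, 4], [2]), (0, [4, 2, 4], [2]),
  (0, [4, 2, 4], [2]), (0, [4, 2, 4], [2]), (0, [4, 2, 4], [2]), (0, [4, 2, 4], [2]),
  (0, [4, 2, 4], [2]), (0, [4, 2, 4], [2]), (0, [4, 2, 4], [2]), (0, [4, 2, 4], [2]),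
  (0, [4, 2, 4], [2]), (0, [4, 2, 4], [2]), (0, [4, 2, 4], [2]), (0, [4, 2, 4], [2])]

/-- Some options of a node. -/
def tOpt19x1 : List (ℕ × List ℕ × List ℕ) := [
  (0, [4, 2, 4], [2]), (0, [4, 2, 4], [2]), (0, [4, 2, 4], [2]), (0, [4, 2, 4], [2]),
  (0, [4, 2, 4], [2]), (0, [4, 2, 4], [2]), (0, [4, 2, 4], [2]), (0, [4, 2, 4], [2]),
  (0, [4, 2, 4], [2]), (0, [4, 2, 4], [2]), (0, [4, 2, 4], [2]), (0, [4, 2, 4], [2]),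
  (0, [4, 2, 4], [2]), (0, [4, 2, 4], [2]), (0, [4, 2, 4], [2]), (0, [4, 2, 4], [2]),
  (0, [4, 2, 4], [2]), (0, [4, 2, 4], [2]), (0, [4, 2, 4], [2]), (0, [4, 2, 4], [2]),
  (0, [4, 2, 4], [2]), (0, [4, 2, 4], [2]), (0, [4, 2, 4], [2]), (0, [4, 2, 4], [2]),
  (0, [4, 2, 4], [2]), (0, [4, 2, 4], [2]), (0, [4, 2, 4], [2]), (0, [4, 2, 4], [2]),
  (0, [4, 2, 4], [2]), (0, [4, 3, 2, 3, 4], [3, 2, 3]), (0, [4, 2, 4], [2]), (0, [4, 2, 4], [2]),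
  (0, [4, 2, 4], [2]), (0, [4, 2, 4], [2]), (0, [4, 3, 2, 3, 4], [3, 2, 3]), (0, [3, 2, 3], [4]),
  (0, [4, 2, 4], [2]), (0, [4, 2, 4], [2]), (0, [4, 2, 4], [2]), (0, [4, 3, 2, 3, 4], [3, 2, 3]),
  (0, [4, 3, 4], [2, 3, 2]), (0, [4, 3, 4], [2, 3, 2]), (0, [4, 2, 4], [2]), (0, [4, 2, 4], [2]),
  (0, [4, 3, 4], [2, 3, 2]), (0, [4, 2, 4], [2]), (0, [4, 3, 2, 3, 4], [3, 2, 3]), (0, [4, 3, 2, 3, 4], [3, 2, 3]),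
  (0, [4, 3, 4], [3]), (0, [4, 3, 2, 3, 4], [3, 2, 3]), (0, [4, 3, 2, 3, 4], [3, 2, 3]), (0, [4, 2, 4], [2]),
  (0, [4, 2, 4], [2]), (0, [4, 3, 2, 3, 4], [3, 2, 3]), (0, [4, 3, 2, 3, 4], [3, 2, 3]), (0, [4, 3, 2, 3, 4], [3, 2, 3]),
  (0, [4, 2, 4], [2]), (0, [4, 3, 2, 3, 4], [3, 2, 3]), (0, [4, 3, 4], [3]), (0, [4, 2, 4], [2]),
  (0, [4, 3, 2, 3, 4], [3, 2, 3]), (0, [4, 3, 2, 3, 4], [3, 2, 3]), (0, [4, 3, 2, 3, 4], [3, 2, 3]), (0, [4, 3, 2, 3, 4], [3, 2, 3]),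
  (0, [4, 3, 2, 3, 4], [3, 2, 3]), (0, [4, 3, 4], [3]), (0, [4, 3, 4], [3]), (0, [4, 2, 4], [2]),
  (0, [4, 3, 2, 3, 4], [3, 2, 3]), (0, [4, 3, 2, 3, 4], [3, 2, 3]), (0, [4, 2, 4], [2]), (0, [4, 3, 2, 3, 4], [3, 2, 3]),
  (0, [4, 3, 2, 3, 4], [3, 2, 3]), (0, [4, 3, 2, 3, 4], [3, 2, 3]), (0, [4, 3, 2, 3, 4], [3, 2, 3]), (0, [4, 3, 2, 3, 4], [3, 2, 3]),
  (0, [4, 3, 2, 3, 4], [3, 2, 3]), (0, [4, 3, 2, 3, 4], [3, 2, 3]), (0, [4, 3, 2, 3, 4], [3, 2, 3]), (0, [4, 3, 2, 3, 4], [3, 2, 3])]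

/-- Some options of a node. -/
def tOpt19x2 : List (ℕ × List ℕ × List ℕ) := [
  (0, [4, 3, 2, 3, 4], [3, 2, 3]), (0, [4, 3, 2, 3, 4], [3, 2, 3]), (0, [4, 3, 2, 3, 4], [3, 2, 3]), (0, [4, 3, 2, 3, 4], [3, 2, 3]),
  (0, [4, 3, 2, 3, 4], [3, 2, 3]), (0, [4, 3, 2, 3, 4], [3, 2, 3]), (0, [4, 3, 2, 3, 4], [3, 2, 3]), (0, [4, 3, 4], [3]),
  (0, [4, 3, 2, 3, 4], [3, 2, 3]), (0, [4, 3, 2, 3, 4], [3, 2, 3]), (0, [4, 3, 4], [3]), (0, [4, 3, 4], [3]),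
  (0, [4, 3, 4], [3]), (0, [4, 2, 4], [2]), (0, [4, 2, 4], [2]), (0, [4, 2, 4], [2]),
  (0, [4, 2, 4], [2]), (0, [4, 2, 4], [2]), (0, [4, 2, 4], [2]), (0, [4, 2, 4], [2]),
  (0, [4, 2, 4], [2]), (0, [4, 2, 4], [2]), (0, [4, 2, 4], [2]), (0, [4, 2, 4], [2]),
  (0, [4, 2, 4], [2]), (0, [4, 2, 4], [2]), (0, [4, 2, 4], [2]), (0, [4, 2, 4], [2]),
  (0, [4, 2, 4], [2]), (0, [4, 2, 4], [2]), (0, [4, 2, 4], [2]), (0, [4, 2, 4], [2]),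
  (0, [4, 2, 4], [2]), (0, [4, 2, 4], [2]), (0, [4, 2, 4], [2]), (0, [4, 2, 4], [2]),
  (0, [4, 2, 4], [2]), (0, [4, 2, 4], [2]), (0, [4, 2, 4], [2]), (0, [4, 2, 4], [2]),
  (0, [4, 2, 4], [2]), (0, [4, 2, 4], [2]), (0, [4, 3, 2, 3, 4], [3, 2, 3]), (0, [4, 2, 4], [2]),
  (0, [4, 2, 4], [2]), (0, [4, 2, 4], [2]), (0, [4, 3, 4], [3]), (0, [4, 2, 4], [2]),
  (0, [4, 3, 2, 3, 4], [3, 2, 3]), (0, [4, 3, 4], [3]), (0, [4, 2, 4], [2]), (0, [4, 2, 4], [2]),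
  (0, [4, 3, 4], [3]), (0, [4, 3, 4], [3]), (0, [4, 2, 4], [2]), (0, [4, 2, 4], [2]),
  (0, [4, 2, 4], [2]), (0, [4, 2, 4], [2]), (0, [4, 2, 4], [2]), (0, [4, 2, 4], [2]),
  (0, [4, 3, 2, 3, 4], [3, 2, 3]), (0, [3, 4, 2, 3, 2, 4, 3], [4, 2, 3, 2, 4]), (0, [3, 4, 2, 3, 2, 4, 3], [4, 2, 3, 2, 4]), (0, [3, 4, 2, 3, 2, 4, 3], [4, 2, 3, 2, 4]),
  (0, [4, 2, 4], [2]), (0, [4, 3, 4], [3]), (0, [4, 2, 4], [2]), (0, [4, 2, 4], [2]),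
  (0, [4, 2, 4], [2]), (0, [4, 2, 4], [2]), (0, [4, 2, 4], [2]), (0, [4, 3, 4], [3]),
  (0, [4, 2, 4], [2]), (0, [4, 2, 4], [2]), (0, [4, 2, 4], [2]), (0, [4, 2, 4], [2]),
  (0, [4, 3, 4], [3]), (0, [4, 2, 4], [2]), (0, [4, 3, 4], [3]), (0, [4, 3, 2, 3, 4], [3, 2, 3])]

/-- Some options of a node. -/
def tOpt19x3 : List (ℕ × List ℕ × List ℕ) := [
  (0, [4, 2, 4], [2]), (0, [4, 2, 4], [2]), (0, [4, 2, 4], [2]), (0, [4, 2, 4], [2]),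
  (0, [4, 2, 4], [2]), (0, [4, 3, 4], [3]), (0, [4, 3, 2, 3, 4], [3, 2, 3]), (0, [4, 3, 4], [3]),
  (0, [4, 2, 4], [2]), (0, [3, 4, 2, 3, 2, 4, 3], [4, 2, 3, 2, 4]), (0, [4, 2, 4], [2]), (0, [3, 4, 2, 3, 2, 4, 3], [4, 2, 3, 2, 4]),
  (0, [4, 2, 4], [2]), (0, [4, 2, 4], [2]), (0, [4, 3, 4], [3]), (0, [4, 2, 4], [2]),
  (0, [4, 2, 4], [2]), (0, [3, 4, 2, 3, 2, 4, 3], [4, 2, 3, 2, 4]), (0, [4, 2, 4], [2]), (0, [4, 2, 4], [2]),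
  (0, [4, 2, 4], [2]), (0, [4, 2, 4], [2]), (0, [4, 2, 4], [2]), (0, [4, 3, 2, 3, 4], [3, 2, 3]),
  (0, [4, 2, 4], [2]), (0, [4, 2, 4], [2]), (0, [4, 3, 4], [3]), (0, [4, 2, 4], [2]),
  (0, [4, 2, 4], [2]), (0, [4, 2, 4], [2]), (0, [4, 2, 4], [2]), (0, [4, 2, 4], [2]),
  (0, [4, 2, 4], [2]), (0, [4, 2, 4], [2]), (0, [4, 2, 4], [2]), (0, [3, 4, 2, 3, 2, 4, 3], [4, 2, 3, 2, 4]),
  (0, [3, 4, 2, 3, 2, 4, 3], [4, 2, 3, 2, 4]), (0, [4, 2, 4], [2]), (0, [4, 2, 4], [2]), (0, [4, 2, 4], [2]),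
  (0, [4, 3, 2, 3, 4], [3, 2, 3]), (0, [4, 3, 2, 3, 4], [3, 2, 3]), (0, [4, 2, 4], [2]), (0, [4, 2, 4], [2]),
  (0, [4, 2, 4], [2]), (0, [3, 4, 2, 3, 2, 4, 3], [4, 2, 3, 2, 4]), (0, [3, 4, 2, 3, 2, 4, 3], [4, 2, 3, 2, 4]), (0, [4, 2, 4], [2]),
  (0, [3, 4, 2, 3, 2, 4, 3], [4, 2, 3, 2, 4]), (0, [4, 2, 4], [2]), (0, [4, 2, 4], [2]), (0, [4, 2, 4], [2]),
  (0, [4, 2, 4], [2]), (0, [4, 2, 4], [2]), (0, [4, 2, 4], [2]), (0, [4, 2, 4], [2]),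
  (0, [4, 2, 4], [2]), (0, [4, 2, 4], [2]), (0, [4, 2, 4], [2]), (0, [3, 4, 2, 3, 2, 4, 3], [4, 2, 3, 2, 4]),
  (0, [4, 2, 4], [2]), (0, [3, 4, 2, 3, 2, 4, 3], [4, 2, 3, 2, 4]), (0, [4, 3, 4], [3]), (0, [4, 2, 4], [2]),
  (0, [3, 4, 2, 3, 2, 4, 3], [4, 2, 3, 2, 4]), (0, [4, 2, 4], [2]), (0, [3, 4, 2, 3, 2, 4, 3], [4, 2, 3, 2, 4]), (0, [4, 2, 4], [2]),
  (0, [4, 3, 4], [3]), (0, [4, 2, 4], [2]), (0, [4, 2, 4], [2]), (0, [3, 4, 2, 3, 2, 4, 3], [4, 2, 3, 2, 4]),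
  (0, [4, 2, 4], [2]), (0, [4, 3, 4], [3]), (0, [4, 2, 4], [2]), (0, [4, 3, 4], [3]),
  (0, [4, 2, 4], [2])]

/-- A node. -/
def tNode19 : TNode := ⟨[0, 1, 159, 60], [1, 0, 3, 29], 163, tOpt19x0 ++ tOpt19x1 ++ tOpt19x2 ++ tOpt19x3, []⟩

/-- Some options of a node. -/
def tOpt20x0 : List (ℕ × List ℕ × List ℕ) := [
  (0, [1], [4]), (0, [0], [4]), (0, [4, 3, 4], [3]), (0, [2], [4]),
  (0, [4, 2, 4], [2]), (0, [4, 3, 4], [3]), (0, [4, 3, 4], [2, 3, 2]), (0, [4, 2, 4], [2]),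
  (0, [4, 3, 4], [3]), (0, [4, 3, 4], [2, 3, 2]), (0, [4, 3, 2, 3, 4], [3, 2, 3]), (0, [4, 2, 4], [2]),
  (0, [4, 2, 4], [2]), (0, [4, 2, 4], [2]), (0, [4, 3, 4], [2, 3, 2]), (0, [4, 3, 2, 3, 4], [3, 2, 3]),
  (0, [4, 2, 4], [2]), (0, [4, 2, 4], [2]), (0, [4, 2, 4], [2]), (0, [4, 3, 2, 3, 4], [3, 2, 3]),
  (0, [4, 2, 4], [2]), (0, [4, 2, 4], [2]), (0, [4, 2, 4], [2]), (0, [4, 2, 4], [2]),
  (0, [4, 3, 2, 3, 4], [3, 2, 3]), (0, [4, 2, 4], [2]), (0, [4, 2, 4], [2]), (0, [4, 2, 4], [2]),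
  (0, [4, 2, 4], [2]), (0, [4, 2, 4], [2]), (0, [4, 2, 4], [2]), (0, [4, 2, 4], [2]),
  (0, [4, 2, 4], [2]), (0, [4, 2, 4], [2]), (0, [4, 2, 4], [2]), (0, [4, 2, 4], [2]),
  (0, [4, 2, 4], [2]), (0, [4, 2, 4], [2]), (0, [4, 2, 4], [2]), (0, [4, 2, 4], [2]),
  (0, [4, 2, 4], [2]), (0, [3], [4]), (0, [4, 2, 4], [2]), (0, [4, 2, 4], [2]),
  (0, [4, 2, 4], [2]), (0, [4, 2, 4], [2]), (0, [4, 2, 4], [2]), (0, [4, 2, 4], [2]),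
  (0, [4, 2, 4], [2]), (0, [4, 2, 4], [2]), (0, [4, 2, 4], [2]), (0, [4, 2, 4], [2]),
  (0, [4, 2, 4], [2]), (0, [4, 2, 4], [2]), (0, [4, 2, 4], [2]), (0, [4, 2, 4], [2]),
  (0, [4, 2, 4], [2]), (0, [4, 2, 4], [2]), (0, [4, 2, 4], [2]), (0, [4, 2, 4], [2]),
  (0, [4, 2, 4], [2]), (0, [4, 2, 4], [2]), (0, [4, 2, 4], [2]), (0, [4, 2, 4], [2]),
  (0, [4, 2, 4], [2]), (0, [4, 2, 4], [2]), (0, [4, 2, 4], [2]), (0, [4, 2, 4], [2]),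
  (0, [4, 2, 4], [2]), (0, [4, 2, 4], [2]), (0, [4, 2, 4], [2]), (0, [4, 2, 4], [2]),
  (0, [4, 2, 4], [2]), (0, [4, 2, 4], [2]), (0, [4, 2, 4], [2]), (0, [4, 2, 4], [2]),
  (0, [4, 2, 4], [2]), (0, [4, 2, 4], [2]), (0, [4, 2, 4], [2]), (0, [4, 2, 4], [2])]

/-- Some options of a node. -/
def tOpt20x1 : List (ℕ × List ℕ × List ℕ) := [
  (0, [4, 2, 4], [2]), (0, [4, 2, 4], [2]), (0, [4, 2, 4], [2]), (0, [4, 2, 4], [2]),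
  (0, [4, 2, 4], [2]), (0, [4, 2, 4], [2]), (0, [4, 2, 4], [2]), (0, [4, 2, 4], [2]),
  (0, [4, 2, 4], [2]), (0, [4, 2, 4], [2]), (0, [4, 2, 4], [2]), (0, [4, 2, 4], [2]),
  (0, [4, 2, 4], [2]), (0, [4, 2, 4], [2]), (0, [4, 2, 4], [2]), (0, [4, 2, 4], [2]),
  (0, [4, 2, 4], [2]), (0, [4, 2, 4], [2]), (0, [4, 2, 4], [2]), (0, [4, 2, 4], [2]),
  (0, [4, 2, 4], [2]), (0, [4, 2, 4], [2]), (0, [4, 2, 4], [2]), (0, [4, 2, 4], [2]),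
  (0, [4, 2, 4], [2]), (0, [4, 2, 4], [2]), (0, [4, 2, 4], [2]), (0, [4, 2, 4], [2]),
  (0, [4, 2, 4], [2]), (0, [4, 3, 4], [2, 3, 2]), (0, [4, 2, 4], [2]), (0, [4, 2, 4], [2]),
  (0, [4, 2, 4], [2]), (0, [4, 2, 4], [2]), (0, [4, 3, 4], [2, 3, 2]), (0, [4, 3, 4], [2, 3, 2]),
  (0, [4, 2, 4], [2]), (0, [4, 2, 4], [2]), (0, [4, 2, 4], [2]), (0, [4, 3, 2, 3, 4], [3, 2, 3]),
  (0, [4, 3, 2, 3, 4], [3, 2, 3]), (0, [4, 3, 2, 3, 4], [3, 2, 3]), (0, [4, 2, 4], [2]), (0, [4, 2, 4], [2]),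
  (0, [3, 2, 3], [4]), (0, [4, 2, 4], [2]), (0, [4, 3, 2, 3, 4], [3, 2, 3]), (0, [4, 3, 2, 3, 4], [3, 2, 3]),
  (0, [4, 3, 4], [3]), (0, [4, 3, 2, 3, 4], [3, 2, 3]), (0, [4, 3, 2, 3, 4], [3, 2, 3]), (0, [4, 2, 4], [2]),
  (0, [4, 2, 4], [2]), (0, [4, 3, 2, 3, 4], [3, 2, 3]), (0, [4, 3, 2, 3, 4], [3, 2, 3]), (0, [4, 3, 2, 3, 4], [3, 2, 3]),
  (0, [4, 2, 4], [2]), (0, [4, 3, 2, 3, 4], [3, 2, 3]), (0, [4, 3, 4], [3]), (0, [4, 2, 4], [2]),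
  (0, [4, 3, 2, 3, 4], [3, 2, 3]), (0, [4, 3, 2, 3, 4], [3, 2, 3]), (0, [4, 3, 2, 3, 4], [3, 2, 3]), (0, [4, 3, 2, 3, 4], [3, 2, 3]),
  (0, [4, 3, 2, 3, 4], [3, 2, 3]), (0, [4, 3, 4], [3]), (0, [4, 3, 4], [3]), (0, [4, 2, 4], [2]),
  (0, [4, 3, 2, 3, 4], [3, 2, 3]), (0, [4, 3, 2, 3, 4], [3, 2, 3]), (0, [4, 2, 4], [2]), (0, [4, 3, 2, 3, 4], [3, 2, 3]),
  (0, [4, 3, 2, 3, 4], [3, 2, 3]), (0, [4, 3, 2, 3, 4], [3, 2, 3]), (0, [4, 3, 2, 3, 4], [3, 2, 3]), (0, [4, 3, 2, 3, 4], [3, 2, 3]),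
  (0, [4, 3, 2, 3, 4], [3, 2, 3]), (0, [4, 3, 2, 3, 4], [3, 2, 3]), (0, [4, 3, 2, 3, 4], [3, 2, 3]), (0, [4, 3, 2, 3, 4], [3, 2, 3])]

/-- Some options of a node. -/
def tOpt20x2 : List (ℕ × List ℕ × List ℕ) := [
  (0, [4, 3, 2, 3, 4], [3, 2, 3]), (0, [4, 3, 2, 3, 4], [3, 2, 3]), (0, [4, 3, 2, 3, 4], [3, 2, 3]), (0, [4, 3, 2, 3, 4], [3, 2, 3]),
  (0, [4, 3, 2, 3, 4], [3, 2, 3]), (0, [4, 3, 2, 3, 4], [3, 2, 3]), (0, [4, 3, 2, 3, 4], [3, 2, 3]), (0, [4, 3, 4], [3]),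
  (0, [4, 3, 2, 3, 4], [3, 2, 3]), (0, [4, 3, 2, 3, 4], [3, 2, 3]), (0, [4, 3, 4], [3]), (0, [4, 3, 4], [3]),
  (0, [4, 3, 4], [3]), (0, [4, 2, 4], [2]), (0, [4, 2, 4], [2]), (0, [4, 2, 4], [2]),
  (0, [4, 2, 4], [2]), (0, [4, 2, 4], [2]), (0, [4, 2, 4], [2]), (0, [4, 2, 4], [2]),
  (0, [4, 2, 4], [2]), (0, [4, 2, 4], [2]), (0, [4, 2, 4], [2]), (0, [4, 2, 4], [2]),
  (0, [4, 2, 4], [2]), (0, [4, 2, 4], [2]), (0, [4, 2, 4], [2]), (0, [4, 2, 4], [2]),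
  (0, [4, 2, 4], [2]), (0, [4, 2, 4], [2]), (0, [4, 2, 4], [2]), (0, [4, 2, 4], [2]),
  (0, [4, 2, 4], [2]), (0, [4, 2, 4], [2]), (0, [4, 2, 4], [2]), (0, [4, 2, 4], [2]),
  (0, [4, 2, 4], [2]), (0, [4, 2, 4], [2]), (0, [4, 2, 4], [2]), (0, [4, 2, 4], [2]),
  (0, [4, 2, 4], [2]), (0, [4, 2, 4], [2]), (0, [4, 3, 4], [3]), (0, [4, 2, 4], [2]),
  (0, [4, 2, 4], [2]), (0, [4, 2, 4], [2]), (0, [4, 3, 2, 3, 4], [3, 2, 3]), (0, [4, 2, 4], [2]),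
  (0, [4, 3, 4], [3]), (0, [4, 3, 4], [3]), (0, [4, 2, 4], [2]), (0, [4, 2, 4], [2]),
  (0, [4, 3, 2, 3, 4], [3, 2, 3]), (0, [4, 3, 2, 3, 4], [3, 2, 3]), (0, [4, 2, 4], [2]), (0, [4, 2, 4], [2]),
  (0, [4, 2, 4], [2]), (0, [4, 2, 4], [2]), (0, [4, 2, 4], [2]), (0, [4, 2, 4], [2]),
  (0, [4, 3, 4], [3]), (0, [3, 4, 2, 3, 2, 4, 3], [4, 2, 3, 2, 4]), (0, [3, 4, 2, 3, 2, 4, 3], [4, 2, 3, 2, 4]), (0, [3, 4, 2, 3, 2, 4, 3], [4, 2, 3, 2, 4]),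
  (0, [4, 2, 4], [2]), (0, [4, 3, 4], [3]), (0, [4, 2, 4], [2]), (0, [4, 2, 4], [2]),
  (0, [4, 2, 4], [2]), (0, [4, 2, 4], [2]), (0, [4, 2, 4], [2]), (0, [4, 3, 2, 3, 4], [3, 2, 3]),
  (0, [4, 2, 4], [2]), (0, [4, 2, 4], [2]), (0, [4, 2, 4], [2]), (0, [4, 2, 4], [2]),
  (0, [4, 3, 4], [3]), (0, [4, 2, 4], [2]), (0, [4, 3, 2, 3, 4], [3, 2, 3]), (0, [4, 3, 4], [3])]

/-- Some options of a node. -/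
def tOpt20x3 : List (ℕ × List ℕ × List ℕ) := [
  (0, [4, 2, 4], [2]), (0, [4, 2, 4], [2]), (0, [4, 2, 4], [2]), (0, [4, 2, 4], [2]),
  (0, [4, 2, 4], [2]), (0, [4, 3, 2, 3, 4], [3, 2, 3]), (0, [4, 3, 4], [3]), (0, [4, 3, 2, 3, 4], [3, 2, 3]),
  (0, [4, 2, 4], [2]), (0, [3, 4, 2, 3, 2, 4, 3], [4, 2, 3, 2, 4]), (0, [4, 2, 4], [2]), (0, [3, 4, 2, 3, 2, 4, 3], [4, 2, 3, 2, 4]),
  (0, [4, 2, 4], [2]), (0, [4, 2, 4], [2]), (0, [4, 3, 4], [3]), (0, [4, 2, 4], [2]),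
  (0, [4, 2, 4], [2]), (0, [3, 4, 2, 3, 2, 4, 3], [4, 2, 3, 2, 4]), (0, [4, 2, 4], [2]), (0, [4, 2, 4], [2]),
  (0, [4, 2, 4], [2]), (0, [4, 2, 4], [2]), (0, [4, 2, 4], [2]), (0, [4, 3, 4], [3]),
  (0, [4, 2, 4], [2]), (0, [4, 2, 4], [2]), (0, [4, 3, 2, 3, 4], [3, 2, 3]), (0, [4, 2, 4], [2]),
  (0, [4, 2, 4], [2]), (0, [4, 2, 4], [2]), (0, [4, 2, 4], [2]), (0, [4, 2, 4], [2]),
  (0, [4, 2, 4], [2]), (0, [4, 2, 4], [2]), (0, [4, 2, 4], [2]), (0, [3, 4, 2, 3, 2, 4, 3], [4, 2, 3, 2, 4]),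
  (0, [3, 4, 2, 3, 2, 4, 3], [4, 2, 3, 2, 4]), (0, [4, 2, 4], [2]), (0, [4, 2, 4], [2]), (0, [4, 2, 4], [2]),
  (0, [4, 3, 4], [3]), (0, [4, 3, 4], [3]), (0, [4, 2, 4], [2]), (0, [4, 2, 4], [2]),
  (0, [4, 2, 4], [2]), (0, [3, 4, 2, 3, 2, 4, 3], [4, 2, 3, 2, 4]), (0, [3, 4, 2, 3, 2, 4, 3], [4, 2, 3, 2, 4]), (0, [4, 2, 4], [2]),
  (0, [3, 4, 2, 3, 2, 4, 3], [4, 2, 3, 2, 4]), (0, [4, 2, 4], [2]), (0, [4, 2, 4], [2]), (0, [4, 2, 4], [2]),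
  (0, [4, 2, 4], [2]), (0, [4, 2, 4], [2]), (0, [4, 2, 4], [2]), (0, [4, 2, 4], [2]),
  (0, [4, 2, 4], [2]), (0, [4, 2, 4], [2]), (0, [4, 2, 4], [2]), (0, [3, 4, 2, 3, 2, 4, 3], [4, 2, 3, 2, 4]),
  (0, [4, 2, 4], [2]), (0, [3, 4, 2, 3, 2, 4, 3], [4, 2, 3, 2, 4]), (0, [4, 3, 2, 3, 4], [3, 2, 3]), (0, [4, 2, 4], [2]),
  (0, [3, 4, 2, 3, 2, 4, 3], [4, 2, 3, 2, 4]), (0, [4, 2, 4], [2]), (0, [3, 4, 2, 3, 2, 4, 3], [4, 2, 3, 2, 4]), (0, [4, 2, 4], [2]),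
  (0, [4, 3, 2, 3, 4], [3, 2, 3]), (0, [4, 2, 4], [2]), (0, [4, 2, 4], [2]), (0, [3, 4, 2, 3, 2, 4, 3], [4, 2, 3, 2, 4]),
  (0, [4, 2, 4], [2]), (0, [4, 3, 2, 3, 4], [3, 2, 3]), (0, [4, 2, 4], [2]), (0, [4, 3, 2, 3, 4], [3, 2, 3]),
  (0, [4, 2, 4], [2])]

/-- A node. -/
def tNode20 : TNode := ⟨[0, 1, 159, 60], [1, 0, 3, 41], 166, tOpt20x0 ++ tOpt20x1 ++ tOpt20x2 ++ tOpt20x3, []⟩

/-- Some options of a node. -/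
def tOpt21x0 : List (ℕ × List ℕ × List ℕ) := [
  (0, [1], [4]), (0, [0], [4]), (0, [4, 3, 4], [3]), (0, [2], [4]),
  (0, [4, 2, 4], [2]), (0, [4, 3, 4], [3]), (0, [4, 3, 2, 3, 4], [3, 2, 3]), (0, [4, 2, 4], [2]),
  (0, [4, 3, 4], [3]), (0, [3, 2, 3], [4]), (0, [4, 3, 2, 3, 4], [3, 2, 3]), (0, [4, 2, 4], [2]),
  (0, [4, 2, 4], [2]), (0, [4, 2, 4], [2]), (0, [4, 3, 2, 3, 4], [3, 2, 3]), (0, [4, 3, 2, 3, 4], [3, 2, 3]),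
  (0, [4, 2, 4], [2]), (0, [4, 2, 4], [2]), (0, [4, 2, 4], [2]), (0, [4, 3, 2, 3, 4], [3, 2, 3]),
  (0, [4, 2, 4], [2]), (0, [4, 2, 4], [2]), (0, [4, 2, 4], [2]), (0, [4, 2, 4], [2]),
  (0, [4, 3, 2, 3, 4], [3, 2, 3]), (0, [4, 2, 4], [2]), (0, [4, 2, 4], [2]), (0, [4, 2, 4], [2]),
  (0, [4, 2, 4], [2]), (0, [4, 2, 4], [2]), (0, [4, 2, 4], [2]), (0, [4, 2, 4], [2]),
  (0, [4, 2, 4], [2]), (0, [4, 2, 4], [2]), (0, [4, 2, 4], [2]), (0, [4, 2, 4], [2]),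
  (0, [4, 2, 4], [2]), (0, [4, 2, 4], [2]), (0, [4, 2, 4], [2]), (0, [4, 2, 4], [2]),
  (0, [4, 2, 4], [2]), (0, [4, 2, 4], [2]), (0, [4, 2, 4], [2]), (0, [4, 2, 4], [2]),
  (0, [4, 2, 4], [2]), (0, [4, 2, 4], [2]), (0, [4, 2, 4], [2]), (0, [4, 2, 4], [2]),
  (0, [4, 2, 4], [2]), (0, [4, 2, 4], [2]), (0, [4, 2, 4], [2]), (0, [4, 2, 4], [2]),
  (0, [4, 2, 4], [2]), (0, [4, 2, 4], [2]), (0, [4, 2, 4], [2]), (0, [4, 2, 4], [2]),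
  (0, [4, 2, 4], [2]), (0, [4, 2, 4], [2]), (0, [4, 2, 4], [2]), (0, [4, 2, 4], [2]),
  (0, [4, 2, 4], [2]), (0, [4, 2, 4], [2]), (0, [4, 2, 4], [2]), (0, [4, 2, 4], [2]),
  (0, [4, 2, 4], [2]), (0, [4, 2, 4], [2]), (0, [4, 2, 4], [2]), (0, [4, 2, 4], [2]),
  (0, [4, 2, 4], [2]), (0, [4, 2, 4], [2]), (0, [4, 2, 4], [2]), (0, [4, 2, 4], [2]),
  (0, [4, 2, 4], [2]), (0, [4, 2, 4], [2]), (0, [4, 2, 4], [2]), (0, [4, 2, 4], [2]),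
  (0, [4, 2, 4], [2]), (0, [4, 2, 4], [2]), (0, [4, 2, 4], [2]), (0, [4, 2, 4], [2])]

/-- Some options of a node. -/
def tOpt21x1 : List (ℕ × List ℕ × List ℕ) := [
  (0, [4, 2, 4], [2]), (0, [4, 2, 4], [2]), (0, [4, 2, 4], [2]), (0, [4, 2, 4], [2]),
  (0, [4, 2, 4], [2]), (0, [4, 2, 4], [2]), (0, [4, 2, 4], [2]), (0, [4, 2, 4], [2]),
  (0, [4, 2, 4], [2]), (0, [4, 2, 4], [2]), (0, [4, 2, 4], [2]), (0, [4, 2, 4], [2]),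
  (0, [4, 2, 4], [2]), (0, [4, 2, 4], [2]), (0, [4, 2, 4], [2]), (0, [4, 2, 4], [2]),
  (0, [4, 2, 4], [2]), (0, [4, 2, 4], [2]), (0, [4, 2, 4], [2]), (0, [4, 2, 4], [2]),
  (0, [4, 2, 4], [2]), (0, [4, 2, 4], [2]), (0, [4, 2, 4], [2]), (0, [4, 2, 4], [2]),
  (0, [4, 2, 4], [2]), (0, [4, 2, 4], [2]), (0, [4, 2, 4], [2]), (0, [4, 2, 4], [2]),
  (0, [4, 2, 4], [2]), (0, [4, 3, 2, 3, 4], [3, 2, 3]), (0, [4, 2, 4], [2]), (0, [4, 2, 4], [2]),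
  (0, [4, 2, 4], [2]), (0, [4, 2, 4], [2]), (0, [4, 3, 4], [2, 3, 2]), (0, [4, 3, 2, 3, 4], [3, 2, 3]),
  (0, [4, 2, 4], [2]), (0, [4, 2, 4], [2]), (0, [4, 2, 4], [2]), (0, [4, 3, 2, 3, 4], [3, 2, 3]),
  (0, [4, 3, 2, 3, 4], [3, 2, 3]), (0, [4, 3, 2, 3, 4], [3, 2, 3]), (0, [4, 2, 4], [2]), (0, [4, 2, 4], [2]),
  (0, [4, 3, 4], [2, 3, 2]), (0, [4, 2, 4], [2]), (0, [4, 3, 4], [2, 3, 2]), (0, [4, 3, 2, 3, 4], [3, 2, 3]),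
  (0, [4, 3, 2, 3, 4], [3, 2, 3]), (0, [4, 3, 2, 3, 4], [3, 2, 3]), (0, [4, 3, 2, 3, 4], [3, 2, 3]), (0, [4, 2, 4], [2]),
  (0, [4, 2, 4], [2]), (0, [4, 3, 2, 3, 4], [3, 2, 3]), (0, [4, 3, 2, 3, 4], [3, 2, 3]), (0, [4, 3, 2, 3, 4], [3, 2, 3]),
  (0, [4, 2, 4], [2]), (0, [4, 3, 4], [2, 3, 2]), (0, [4, 3, 2, 3, 4], [3, 2, 3]), (0, [4, 2, 4], [2]),
  (0, [4, 3, 2, 3, 4], [3, 2, 3]), (0, [4, 3, 2, 3, 4], [3, 2, 3]), (0, [4, 3, 2, 3, 4], [3, 2, 3]), (0, [4, 3, 2, 3, 4], [3, 2, 3]),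
  (0, [4, 3, 2, 3, 4], [3, 2, 3]), (0, [4, 3, 4], [3]), (0, [4, 3, 4], [3]), (0, [4, 2, 4], [2]),
  (0, [4, 3, 4], [2, 3, 2]), (0, [4, 3, 2, 3, 4], [3, 2, 3]), (0, [4, 2, 4], [2]), (0, [4, 3, 2, 3, 4], [3, 2, 3]),
  (0, [4, 3, 2, 3, 4], [3, 2, 3]), (0, [4, 3, 2, 3, 4], [3, 2, 3]), (0, [4, 3, 4], [3]), (0, [4, 3, 2, 3, 4], [3, 2, 3]),
  (0, [4, 3, 4], [2, 3, 2]), (0, [4, 3, 4], [3]), (0, [4, 3, 2, 3, 4], [3, 2, 3]), (0, [4, 3, 2, 3, 4], [3, 2, 3])]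

/-- Some options of a node. -/
def tOpt21x2 : List (ℕ × List ℕ × List ℕ) := [
  (0, [4, 3, 2, 3, 4], [3, 2, 3]), (0, [4, 3, 4], [3]), (0, [4, 3, 4], [3]), (0, [4, 3, 2, 3, 4], [3, 2, 3]),
  (0, [4, 3, 4], [3]), (0, [4, 3, 4], [3]), (0, [4, 3, 2, 3, 4], [3, 2, 3]), (0, [4, 3, 2, 3, 4], [3, 2, 3]),
  (0, [4, 3, 4], [3]), (0, [4, 3, 4], [3]), (0, [4, 3, 2, 3, 4], [3, 2, 3]), (0, [4, 3, 4], [3]),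
  (0, [4, 3, 4], [3]), (0, [3], [4]), (0, [4, 2, 4], [2]), (0, [4, 2, 4], [2]),
  (0, [4, 2, 4], [2]), (0, [4, 2, 4], [2]), (0, [4, 2, 4], [2]), (0, [4, 2, 4], [2]),
  (0, [4, 2, 4], [2]), (0, [4, 2, 4], [2]), (0, [4, 2, 4], [2]), (0, [4, 2, 4], [2]),
  (0, [4, 2, 4], [2]), (0, [4, 2, 4], [2]), (0, [4, 2, 4], [2]), (0, [4, 2, 4], [2]),
  (0, [4, 2, 4], [2]), (0, [4, 2, 4], [2]), (0, [4, 2, 4], [2]), (0, [4, 2, 4], [2]),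
  (0, [4, 2, 4], [2]), (0, [4, 2, 4], [2]), (0, [4, 2, 4], [2]), (0, [4, 2, 4], [2]),
  (0, [4, 2, 4], [2]), (0, [4, 2, 4], [2]), (0, [4, 2, 4], [2]), (0, [4, 2, 4], [2]),
  (0, [4, 2, 4], [2]), (0, [4, 2, 4], [2]), (0, [4, 3, 4], [3]), (0, [4, 2, 4], [2]),
  (0, [4, 2, 4], [2]), (0, [4, 2, 4], [2]), (0, [4, 3, 2, 3, 4], [3, 2, 3]), (0, [4, 2, 4], [2]),
  (0, [4, 3, 4], [3]), (0, [3, 4, 2, 3, 2, 4, 3], [4, 2, 3, 2, 4]), (0, [4, 2, 4], [2]), (0, [4, 2, 4], [2]),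
  (0, [4, 3, 2, 3, 4], [3, 2, 3]), (0, [4, 3, 2, 3, 4], [3, 2, 3]), (0, [4, 2, 4], [2]), (0, [4, 2, 4], [2]),
  (0, [4, 2, 4], [2]), (0, [4, 2, 4], [2]), (0, [4, 2, 4], [2]), (0, [4, 2, 4], [2]),
  (0, [4, 3, 4], [3]), (0, [4, 3, 4], [3]), (0, [4, 3, 4], [3]), (0, [3, 4, 2, 3, 2, 4, 3], [4, 2, 3, 2, 4]),
  (0, [4, 2, 4], [2]), (0, [3, 4, 2, 3, 2, 4, 3], [4, 2, 3, 2, 4]), (0, [4, 2, 4], [2]), (0, [4, 2, 4], [2]),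
  (0, [4, 2, 4], [2]), (0, [4, 2, 4], [2]), (0, [4, 2, 4], [2]), (0, [4, 3, 2, 3, 4], [3, 2, 3]),
  (0, [4, 2, 4], [2]), (0, [4, 2, 4], [2]), (0, [4, 2, 4], [2]), (0, [4, 2, 4], [2]),
  (0, [3, 4, 2, 3, 2, 4, 3], [4, 2, 3, 2, 4]), (0, [4, 2, 4], [2]), (0, [4, 3, 2, 3, 4], [3, 2, 3]), (0, [4, 3, 2, 3, 4], [3, 2, 3])]

/-- Some options of a node. -/
def tOpt21x3 : List (ℕ × List ℕ × List ℕ) := [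
  (0, [4, 2, 4], [2]), (0, [4, 2, 4], [2]), (0, [4, 2, 4], [2]), (0, [4, 2, 4], [2]),
  (0, [4, 2, 4], [2]), (0, [4, 3, 2, 3, 4], [3, 2, 3]), (0, [4, 3, 4], [3]), (0, [4, 3, 2, 3, 4], [3, 2, 3]),
  (0, [4, 2, 4], [2]), (0, [4, 3, 2, 3, 4], [3, 2, 3]), (0, [4, 2, 4], [2]), (0, [3, 4, 2, 3, 2, 4, 3], [4, 2, 3, 2, 4]),
  (0, [4, 2, 4], [2]), (0, [4, 2, 4], [2]), (0, [3, 4, 2, 3, 2, 4, 3], [4, 2, 3, 2, 4]), (0, [4, 2, 4], [2]),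
  (0, [4, 2, 4], [2]), (0, [4, 3, 4], [3]), (0, [4, 2, 4], [2]), (0, [4, 2, 4], [2]),
  (0, [4, 2, 4], [2]), (0, [4, 2, 4], [2]), (0, [4, 2, 4], [2]), (0, [4, 3, 2, 3, 4], [3, 2, 3]),
  (0, [4, 2, 4], [2]), (0, [4, 2, 4], [2]), (0, [4, 3, 2, 3, 4], [3, 2, 3]), (0, [4, 2, 4], [2]),
  (0, [4, 2, 4], [2]), (0, [4, 2, 4], [2]), (0, [4, 2, 4], [2]), (0, [4, 2, 4], [2]),
  (0, [4, 2, 4], [2]), (0, [4, 2, 4], [2]), (0, [4, 2, 4], [2]), (0, [4, 3, 4], [3]),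
  (0, [3, 4, 2, 3, 2, 4, 3], [4, 2, 3, 2, 4]), (0, [4, 2, 4], [2]), (0, [4, 2, 4], [2]), (0, [4, 2, 4], [2]),
  (0, [4, 3, 2, 3, 4], [3, 2, 3]), (0, [4, 3, 2, 3, 4], [3, 2, 3]), (0, [4, 2, 4], [2]), (0, [4, 2, 4], [2]),
  (0, [4, 2, 4], [2]), (0, [3, 4, 2, 3, 2, 4, 3], [4, 2, 3, 2, 4]), (0, [4, 3, 2, 3, 4], [3, 2, 3]), (0, [4, 2, 4], [2]),
  (0, [3, 4, 2, 3, 2, 4, 3], [4, 2, 3, 2, 4]), (0, [4, 2, 4], [2]), (0, [4, 2, 4], [2]), (0, [4, 2, 4], [2]),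
  (0, [4, 2, 4], [2]), (0, [4, 2, 4], [2]), (0, [4, 2, 4], [2]), (0, [4, 2, 4], [2]),
  (0, [4, 2, 4], [2]), (0, [4, 2, 4], [2]), (0, [4, 2, 4], [2]), (0, [4, 3, 2, 3, 4], [3, 2, 3]),
  (0, [4, 2, 4], [2]), (0, [4, 3, 2, 3, 4], [3, 2, 3]), (0, [3, 4, 2, 3, 2, 4, 3], [4, 2, 3, 2, 4]), (0, [4, 2, 4], [2]),
  (0, [3, 4, 2, 3, 2, 4, 3], [4, 2, 3, 2, 4]), (0, [4, 2, 4], [2]), (0, [3, 4, 2, 3, 2, 4, 3], [4, 2, 3, 2, 4]), (0, [4, 2, 4], [2]),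
  (0, [3, 4, 2, 3, 2, 4, 3], [4, 2, 3, 2, 4]), (0, [4, 2, 4], [2]), (0, [4, 2, 4], [2]), (0, [3, 4, 2, 3, 2, 4, 3], [4, 2, 3, 2, 4]),
  (0, [4, 2, 4], [2]), (0, [3, 4, 2, 3, 2, 4, 3], [4, 2, 3, 2, 4]), (0, [4, 2, 4], [2]), (0, [3, 4, 2, 3, 2, 4, 3], [4, 2, 3, 2, 4]),
  (0, [4, 2, 4], [2])]

/-- A node. -/
def tNode21 : TNode := ⟨[0, 1, 159, 60], [1, 0, 3, 173], 142, tOpt21x0 ++ tOpt21x1 ++ tOpt21x2 ++ tOpt21x3, []⟩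

/-- Some options of a node. -/
def tOpt22x0 : List (ℕ × List ℕ × List ℕ) := [
  (0, [1], [4]), (0, [0], [4]), (0, [4, 3, 4], [3]), (0, [2], [4]),
  (0, [4, 2, 4], [2]), (0, [4, 3, 4], [3]), (0, [3, 4, 3], [4, 3, 4]), (0, [4, 2, 4], [2]),
  (0, [4, 3, 4], [3]), (0, [3, 4, 3], [4, 3, 4]), (0, [3, 4, 3], [4, 3, 4]), (0, [4, 2, 4], [2]),
  (0, [4, 2, 4], [2]), (0, [4, 2, 4], [2]), (0, [3, 4, 3], [4, 3, 4]), (0, [3, 4, 3], [4, 3, 4]),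
  (0, [4, 2, 4], [2]), (0, [4, 2, 4], [2]), (0, [4, 2, 4], [2]), (0, [3, 2, 3], [4]),
  (0, [4, 2, 4], [2]), (0, [4, 2, 4], [2]), (0, [4, 2, 4], [2]), (0, [4, 2, 4], [2]),
  (0, [3, 4, 3], [4, 3, 4]), (0, [4, 2, 4], [2]), (0, [4, 2, 4], [2]), (0, [4, 2, 4], [2]),
  (0, [4, 2, 4], [2]), (0, [4, 2, 4], [2]), (0, [4, 2, 4], [2]), (0, [4, 2, 4], [2]),
  (0, [4, 2, 4], [2]), (0, [4, 2, 4], [2]), (0, [4, 2, 4], [2]), (0, [4, 2, 4], [2]),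
  (0, [4, 2, 4], [2]), (0, [4, 2, 4], [2]), (0, [4, 2, 4], [2]), (0, [4, 2, 4], [2]),
  (0, [4, 2, 4], [2]), (0, [4, 2, 4], [2]), (0, [4, 2, 4], [2]), (0, [4, 2, 4], [2]),
  (0, [4, 2, 4], [2]), (0, [4, 2, 4], [2]), (0, [4, 2, 4], [2]), (0, [4, 2, 4], [2]),
  (0, [4, 2, 4], [2]), (0, [4, 2, 4], [2]), (0, [4, 2, 4], [2]), (0, [4, 2, 4], [2]),
  (0, [4, 2, 4], [2]), (0, [4, 2, 4], [2]), (0, [4, 2, 4], [2]), (0, [4, 2, 4], [2]),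
  (0, [4, 2, 4], [2]), (0, [4, 2, 4], [2]), (0, [4, 2, 4], [2]), (0, [4, 2, 4], [2]),
  (0, [4, 2, 4], [2]), (0, [4, 2, 4], [2]), (0, [4, 2, 4], [2]), (0, [4, 2, 4], [2]),
  (0, [4, 2, 4], [2]), (0, [4, 2, 4], [2]), (0, [4, 2, 4], [2]), (0, [4, 2, 4], [2]),
  (0, [4, 2, 4], [2]), (0, [4, 2, 4], [2]), (0, [4, 2, 4], [2]), (0, [4, 2, 4], [2]),
  (0, [4, 2, 4], [2]), (0, [4, 2, 4], [2]), (0, [4, 2, 4], [2]), (0, [4, 2, 4], [2]),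
  (0, [4, 2, 4], [2]), (0, [4, 2, 4], [2]), (0, [4, 2, 4], [2]), (0, [4, 2, 4], [2])]

/-- Some options of a node. -/
def tOpt22x1 : List (ℕ × List ℕ × List ℕ) := [
  (0, [4, 2, 4], [2]), (0, [4, 2, 4], [2]), (0, [4, 2, 4], [2]), (0, [4, 2, 4], [2]),
  (0, [4, 2, 4], [2]), (0, [4, 2, 4], [2]), (0, [4, 2, 4], [2]), (0, [4, 2, 4], [2]),
  (0, [4, 2, 4], [2]), (0, [4, 2, 4], [2]), (0, [4, 2, 4], [2]), (0, [4, 2, 4], [2]),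
  (0, [4, 2, 4], [2]), (0, [4, 2, 4], [2]), (0, [4, 2, 4], [2]), (0, [4, 2, 4], [2]),
  (0, [4, 2, 4], [2]), (0, [4, 2, 4], [2]), (0, [4, 2, 4], [2]), (0, [4, 2, 4], [2]),
  (0, [4, 2, 4], [2]), (0, [4, 2, 4], [2]), (0, [4, 2, 4], [2]), (0, [4, 2, 4], [2]),
  (0, [4, 2, 4], [2]), (0, [4, 2, 4], [2]), (0, [4, 2, 4], [2]), (0, [4, 2, 4], [2]),
  (0, [4, 2, 4], [2]), (0, [3, 4, 3], [4, 3, 4]), (0, [4, 2, 4], [2]), (0, [4, 2, 4], [2]),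
  (0, [4, 2, 4], [2]), (0, [4, 2, 4], [2]), (0, [3, 4, 3], [4, 3, 4]), (0, [4, 3, 4], [2, 3, 2]),
  (0, [4, 2, 4], [2]), (0, [4, 2, 4], [2]), (0, [4, 2, 4], [2]), (0, [3, 4, 3], [4, 3, 4]),
  (0, [4, 3, 4], [2, 3, 2]), (0, [3, 4, 3], [4, 3, 4]), (0, [4, 2, 4], [2]), (0, [4, 2, 4], [2]),
  (0, [3, 4, 3], [4, 3, 4]), (0, [4, 2, 4], [2]), (0, [3, 4, 3], [4, 3, 4]), (0, [4, 3, 4], [2, 3, 2]),
  (0, [4, 3, 4], [3]), (0, [3, 4, 3], [4, 3, 4]), (0, [3, 4, 3], [4, 3, 4]), (0, [4, 2, 4], [2]),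
  (0, [4, 2, 4], [2]), (0, [3, 4, 3], [4, 3, 4]), (0, [4, 3, 4], [2, 3, 2]), (0, [3, 4, 3], [4, 3, 4]),
  (0, [4, 2, 4], [2]), (0, [3, 4, 3], [4, 3, 4]), (0, [4, 3, 4], [3]), (0, [4, 2, 4], [2]),
  (0, [3, 4, 3], [4, 3, 4]), (0, [3, 4, 3], [4, 3, 4]), (0, [4, 3, 4], [3]), (0, [3, 4, 3], [4, 3, 4]),
  (0, [3, 4, 3], [4, 3, 4]), (0, [3, 4, 3], [4, 3, 4]), (0, [3, 4, 3], [4, 3, 4]), (0, [4, 2, 4], [2]),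
  (0, [3, 4, 3], [4, 3, 4]), (0, [4, 3, 4], [2, 3, 2]), (0, [4, 2, 4], [2]), (0, [3, 4, 3], [4, 3, 4]),
  (0, [4, 3, 4], [3]), (0, [3, 4, 3], [4, 3, 4]), (0, [3, 4, 3], [4, 3, 4]), (0, [3, 4, 3], [4, 3, 4]),
  (0, [4, 3, 4], [2, 3, 2]), (0, [3, 4, 3], [4, 3, 4]), (0, [3, 4, 3], [4, 3, 4]), (0, [3, 4, 3], [4, 3, 4])]

/-- Some options of a node. -/
def tOpt22x2 : List (ℕ × List ℕ × List ℕ) := [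
  (0, [3, 4, 3], [4, 3, 4]), (0, [4, 3, 4], [3]), (0, [4, 3, 4], [3]), (0, [4, 3, 4], [3]),
  (0, [4, 3, 4], [3]), (0, [4, 3, 4], [3]), (0, [4, 3, 4], [3]), (0, [4, 3, 4], [3]),
  (0, [3, 4, 3], [4, 3, 4]), (0, [3, 4, 3], [4, 3, 4]), (0, [4, 3, 4], [3]), (0, [3, 4, 3], [4, 3, 4]),
  (0, [3, 4, 3], [4, 3, 4]), (0, [4, 2, 4], [2]), (0, [3], [4]), (0, [4, 2, 4], [2]),
  (0, [4, 2, 4], [2]), (0, [4, 2, 4], [2]), (0, [4, 2, 4], [2]), (0, [4, 2, 4], [2]),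
  (0, [4, 2, 4], [2]), (0, [4, 2, 4], [2]), (0, [4, 2, 4], [2]), (0, [4, 2, 4], [2]),
  (0, [4, 2, 4], [2]), (0, [4, 2, 4], [2]), (0, [4, 2, 4], [2]), (0, [4, 2, 4], [2]),
  (0, [4, 2, 4], [2]), (0, [4, 2, 4], [2]), (0, [4, 2, 4], [2]), (0, [4, 2, 4], [2]),
  (0, [4, 2, 4], [2]), (0, [4, 2, 4], [2]), (0, [4, 2, 4], [2]), (0, [4, 2, 4], [2]),
  (0, [4, 2, 4], [2]), (0, [4, 2, 4], [2]), (0, [4, 2, 4], [2]), (0, [4, 2, 4], [2]),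
  (0, [4, 2, 4], [2]), (0, [4, 2, 4], [2]), (0, [3, 4, 3], [4, 3, 4]), (0, [4, 2, 4], [2]),
  (0, [4, 2, 4], [2]), (0, [4, 2, 4], [2]), (0, [4, 3, 4], [3]), (0, [4, 2, 4], [2]),
  (0, [3, 4, 3], [4, 3, 4]), (0, [4, 3, 4], [3]), (0, [4, 2, 4], [2]), (0, [4, 2, 4], [2]),
  (0, [4, 3, 4], [3]), (0, [3, 4, 3], [4, 3, 4]), (0, [4, 2, 4], [2]), (0, [4, 2, 4], [2]),
  (0, [4, 2, 4], [2]), (0, [4, 2, 4], [2]), (0, [4, 2, 4], [2]), (0, [4, 2, 4], [2]),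
  (0, [3, 4, 3], [4, 3, 4]), (0, [3, 4, 3], [4, 3, 4]), (0, [4, 3, 4], [3]), (0, [4, 3, 4], [3]),
  (0, [4, 2, 4], [2]), (0, [3, 4, 3], [4, 3, 4]), (0, [4, 2, 4], [2]), (0, [4, 2, 4], [2]),
  (0, [4, 2, 4], [2]), (0, [4, 2, 4], [2]), (0, [4, 2, 4], [2]), (0, [3, 4, 3], [4, 3, 4]),
  (0, [4, 2, 4], [2]), (0, [4, 2, 4], [2]), (0, [4, 2, 4], [2]), (0, [4, 2, 4], [2]),
  (0, [4, 3, 4], [3]), (0, [4, 2, 4], [2]), (0, [3, 4, 3], [4, 3, 4]), (0, [3, 4, 3], [4, 3, 4])]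

/-- Some options of a node. -/
def tOpt22x3 : List (ℕ × List ℕ × List ℕ) := [
  (0, [4, 2, 4], [2]), (0, [4, 2, 4], [2]), (0, [4, 2, 4], [2]), (0, [4, 2, 4], [2]),
  (0, [4, 2, 4], [2]), (0, [4, 3, 4], [3]), (0, [3, 4, 3], [4, 3, 4]), (0, [4, 3, 4], [3]),
  (0, [4, 2, 4], [2]), (0, [4, 3, 4], [3]), (0, [4, 2, 4], [2]), (0, [3, 4, 3], [4, 3, 4]),
  (0, [4, 2, 4], [2]), (0, [4, 2, 4], [2]), (0, [3, 4, 3], [4, 3, 4]), (0, [4, 2, 4], [2]),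
  (0, [4, 2, 4], [2]), (0, [3, 4, 3], [4, 3, 4]), (0, [4, 2, 4], [2]), (0, [4, 2, 4], [2]),
  (0, [4, 2, 4], [2]), (0, [4, 2, 4], [2]), (0, [4, 2, 4], [2]), (0, [3, 4, 3], [4, 3, 4]),
  (0, [4, 2, 4], [2]), (0, [4, 2, 4], [2]), (0, [3, 4, 3], [4, 3, 4]), (0, [4, 2, 4], [2]),
  (0, [4, 2, 4], [2]), (0, [4, 2, 4], [2]), (0, [4, 2, 4], [2]), (0, [4, 2, 4], [2]),
  (0, [4, 2, 4], [2]), (0, [4, 2, 4], [2]), (0, [4, 2, 4], [2]), (0, [4, 3, 4], [3]),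
  (0, [4, 3, 4], [3]), (0, [4, 2, 4], [2]), (0, [4, 2, 4], [2]), (0, [4, 2, 4], [2]),
  (0, [3, 4, 3], [4, 3, 4]), (0, [3, 4, 3], [4, 3, 4]), (0, [4, 2, 4], [2]), (0, [4, 2, 4], [2]),
  (0, [4, 2, 4], [2]), (0, [4, 3, 4], [3]), (0, [4, 3, 4], [3]), (0, [4, 2, 4], [2]),
  (0, [3, 4, 3], [4, 3, 4]), (0, [4, 2, 4], [2]), (0, [4, 2, 4], [2]), (0, [4, 2, 4], [2]),
  (0, [4, 2, 4], [2]), (0, [4, 2, 4], [2]), (0, [4, 2, 4], [2]), (0, [4, 2, 4], [2]),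
  (0, [4, 2, 4], [2]), (0, [4, 2, 4], [2]), (0, [4, 2, 4], [2]), (0, [3, 4, 3], [4, 3, 4]),
  (0, [4, 2, 4], [2]), (0, [3, 4, 3], [4, 3, 4]), (0, [4, 3, 4], [3]), (0, [4, 2, 4], [2]),
  (0, [3, 4, 3], [4, 3, 4]), (0, [4, 2, 4], [2]), (0, [4, 3, 4], [3]), (0, [4, 2, 4], [2]),
  (0, [3, 4, 3], [4, 3, 4]), (0, [4, 2, 4], [2]), (0, [4, 2, 4], [2]), (0, [3, 4, 3], [4, 3, 4]),
  (0, [4, 2, 4], [2]), (0, [4, 3, 4], [3]), (0, [4, 2, 4], [2]), (0, [3, 4, 3], [4, 3, 4]),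
  (0, [4, 2, 4], [2])]

/-- A node. -/
def tNode22 : TNode := ⟨[0, 1, 159, 60], [1, 0, 3, 174], 143, tOpt22x0 ++ tOpt22x1 ++ tOpt22x2 ++ tOpt22x3, []⟩

/-- Some options of a node. -/
def tOpt23x0 : List (ℕ × List ℕ × List ℕ) := [
  (0, [1], [4]), (0, [0], [4]), (0, [4, 2, 4], [2]), (0, [2], [4]),
  (0, [2, 4, 2], [4, 2, 4]), (0, [4, 2, 4], [2]), (0, [4, 2, 4], [2]), (0, [2, 4, 2], [4, 2, 4]),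
  (0, [4, 2, 4], [2]), (0, [4, 2, 4], [2]), (0, [4, 2, 4], [2]), (0, [2, 4, 2], [4, 2, 4]),
  (0, [2, 4, 2], [4, 2, 4]), (0, [2, 4, 2], [4, 2, 4]), (0, [4, 2, 4], [2]), (0, [4, 2, 4], [2]),
  (0, [2, 4, 2], [4, 2, 4]), (0, [2, 4, 2], [4, 2, 4]), (0, [2, 4, 2], [4, 2, 4]), (0, [4, 2, 4], [2]),
  (0, [2, 4, 2], [4, 2, 4]), (0, [2, 4, 2], [4, 2, 4]), (0, [2, 4, 2], [4, 2, 4]), (0, [2, 4, 2], [4, 2, 4]),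
  (0, [4, 2, 4], [2]), (0, [2, 4, 2], [4, 2, 4]), (0, [2, 4, 2], [4, 2, 4]), (0, [2, 4, 2], [4, 2, 4]),
  (0, [4, 3, 4], [3]), (0, [4, 3, 4], [3]), (0, [4, 3, 4], [3]), (0, [2, 4, 2], [4, 2, 4]),
  (0, [4, 3, 4], [3]), (0, [2, 4, 2], [4, 2, 4]), (0, [2, 4, 2], [4, 2, 4]), (0, [4, 3, 4], [3]),
  (0, [2, 4, 2], [4, 2, 4]), (0, [4, 3, 4], [3]), (0, [2, 4, 2], [4, 2, 4]), (0, [4, 3, 4], [3]),
  (0, [4, 3, 2, 3, 4], [3, 2, 3]), (0, [4, 3, 4], [3]), (0, [2, 4, 2], [4, 2, 4]), (0, [4, 3, 4], [3]),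
  (0, [4, 3, 4], [3]), (0, [4, 3, 4], [3]), (0, [4, 3, 4], [3]), (0, [2, 4, 2], [4, 2, 4]),
  (0, [4, 3, 2, 3, 4], [3, 2, 3]), (0, [4, 3, 4], [3]), (0, [2, 4, 2], [4, 2, 4]), (0, [2, 4, 2], [4, 2, 4]),
  (0, [2, 4, 2], [4, 2, 4]), (0, [2, 4, 2], [4, 2, 4]), (0, [4, 3, 2, 3, 4], [3, 2, 3]), (0, [4, 3, 2, 3, 4], [3, 2, 3]),
  (0, [4, 3, 2, 3, 4], [3, 2, 3]), (0, [2, 4, 2], [4, 2, 4]), (0, [2, 4, 2], [4, 2, 4]), (0, [2, 4, 2], [4, 2, 4]),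
  (0, [2, 4, 2], [4, 2, 4]), (0, [4, 3, 2, 3, 4], [3, 2, 3]), (0, [4, 3, 4], [3]), (0, [4, 3, 2, 3, 4], [3, 2, 3]),
  (0, [4, 3, 2, 3, 4], [3, 2, 3]), (0, [4, 3, 4], [3]), (0, [2, 4, 2], [4, 2, 4]), (0, [4, 3, 4], [3]),
  (0, [4, 3, 4], [3]), (0, [4, 3, 4], [3]), (0, [4, 3, 2, 3, 4], [3, 2, 3]), (0, [4, 3, 2, 3, 4], [3, 2, 3]),
  (0, [4, 3, 2, 3, 4], [3, 2, 3]), (0, [4, 3, 4], [3]), (0, [4, 3, 4], [3]), (0, [2, 4, 2], [4, 2, 4]),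
  (0, [4, 3, 2, 3, 4], [3, 2, 3]), (0, [4, 3, 2, 3, 4], [3, 2, 3]), (0, [4, 3, 2, 3, 4], [3, 2, 3]), (0, [2, 4, 2], [4, 2, 4])]

/-- Some options of a node. -/
def tOpt23x1 : List (ℕ × List ℕ × List ℕ) := [
  (0, [2, 4, 2], [4, 2, 4]), (0, [4, 3, 4], [3]), (0, [2, 4, 2], [4, 2, 4]), (0, [2, 4, 2], [4, 2, 4]),
  (0, [2, 4, 2], [4, 2, 4]), (0, [2, 4, 2], [4, 2, 4]), (0, [4, 3, 4], [3]), (0, [4, 3, 2, 3, 4], [3, 2, 3]),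
  (0, [2, 4, 2], [4, 2, 4]), (0, [4, 3, 4], [3]), (0, [2, 4, 2], [4, 2, 4]), (0, [4, 3, 2, 3, 4], [3, 2, 3]),
  (0, [4, 3, 4], [3]), (0, [2, 4, 2], [4, 2, 4]), (0, [2, 4, 2], [4, 2, 4]), (0, [4, 3, 2, 3, 4], [3, 2, 3]),
  (0, [4, 3, 2, 3, 4], [3, 2, 3]), (0, [2, 4, 2], [4, 2, 4]), (0, [2, 4, 2], [4, 2, 4]), (0, [2, 4, 2], [4, 2, 4]),
  (0, [4, 3, 2, 3, 4], [3, 2, 3]), (0, [4, 3, 2, 3, 4], [3, 2, 3]), (0, [2, 4, 2], [4, 2, 4]), (0, [4, 3, 2, 3, 4], [3, 2, 3]),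
  (0, [4, 3, 2, 3, 4], [3, 2, 3]), (0, [2, 4, 2], [4, 2, 4]), (0, [4, 3, 2, 3, 4], [3, 2, 3]), (0, [4, 3, 2, 3, 4], [3, 2, 3]),
  (0, [4, 3, 2, 3, 4], [3, 2, 3]), (0, [4, 2, 4], [2]), (0, [2, 4, 2], [4, 2, 4]), (0, [4, 3, 2, 3, 4], [3, 2, 3]),
  (0, [4, 3, 2, 3, 4], [3, 2, 3]), (0, [4, 3, 2, 3, 4], [3, 2, 3]), (0, [4, 2, 4], [2]), (0, [4, 2, 4], [2]),
  (0, [4, 3, 2, 3, 4], [3, 2, 3]), (0, [4, 3, 2, 3, 4], [3, 2, 3]), (0, [4, 3, 2, 3, 4], [3, 2, 3]), (0, [4, 2, 4], [2]),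
  (0, [3, 2, 3], [4]), (0, [4, 2, 4], [2]), (0, [4, 3, 2, 3, 4], [3, 2, 3]), (0, [4, 3, 2, 3, 4], [3, 2, 3]),
  (0, [4, 2, 4], [2]), (0, [4, 3, 2, 3, 4], [3, 2, 3]), (0, [4, 2, 4], [2]), (0, [4, 2, 4], [2]),
  (0, [4, 2, 4], [2]), (0, [4, 2, 4], [2]), (0, [4, 2, 4], [2]), (0, [4, 3, 4], [3]),
  (0, [4, 3, 2, 3, 4], [3, 2, 3]), (0, [4, 2, 4], [2]), (0, [4, 2, 4], [2]), (0, [4, 2, 4], [2]),
  (0, [4, 3, 2, 3, 4], [3, 2, 3]), (0, [4, 2, 4], [2]), (0, [4, 2, 4], [2]), (0, [4, 3, 4], [3]),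
  (0, [4, 2, 4], [2]), (0, [4, 2, 4], [2]), (0, [4, 2, 4], [2]), (0, [4, 2, 4], [2]),
  (0, [4, 2, 4], [2]), (0, [4, 2, 4], [2]), (0, [4, 2, 4], [2]), (0, [4, 3, 4], [3]),
  (0, [4, 2, 4], [2]), (0, [4, 2, 4], [2]), (0, [4, 3, 4], [3]), (0, [4, 2, 4], [2]),
  (0, [4, 2, 4], [2]), (0, [4, 2, 4], [2]), (0, [4, 2, 4], [2]), (0, [4, 2, 4], [2]),
  (0, [4, 2, 4], [2]), (0, [4, 2, 4], [2]), (0, [4, 2, 4], [2]), (0, [4, 2, 4], [2])]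

/-- Some options of a node. -/
def tOpt23x2 : List (ℕ × List ℕ × List ℕ) := [
  (0, [4, 2, 4], [2]), (0, [4, 2, 4], [2]), (0, [4, 2, 4], [2]), (0, [4, 2, 4], [2]),
  (0, [4, 2, 4], [2]), (0, [4, 2, 4], [2]), (0, [4, 2, 4], [2]), (0, [4, 2, 4], [2]),
  (0, [4, 2, 4], [2]), (0, [4, 2, 4], [2]), (0, [4, 2, 4], [2]), (0, [4, 2, 4], [2]),
  (0, [4, 2, 4], [2]), (0, [4, 3, 2, 3, 4], [3, 2, 3]), (0, [4, 3, 4], [3]), (0, [4, 3, 2, 3, 4], [3, 2, 3]),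
  (0, [4, 3, 2, 3, 4], [3, 2, 3]), (0, [4, 3, 4], [3]), (0, [4, 3, 4], [3]), (0, [4, 3, 2, 3, 4], [3, 2, 3]),
  (0, [4, 3, 2, 3, 4], [3, 2, 3]), (0, [4, 3, 2, 3, 4], [3, 2, 3]), (0, [4, 3, 2, 3, 4], [3, 2, 3]), (0, [4, 3, 2, 3, 4], [3, 2, 3]),
  (0, [4, 3, 2, 3, 4], [3, 2, 3]), (0, [4, 3, 2, 3, 4], [3, 2, 3]), (0, [4, 3, 2, 3, 4], [3, 2, 3]), (0, [4, 3, 4], [3]),
  (0, [4, 3, 2, 3, 4], [3, 2, 3]), (0, [4, 3, 4], [3]), (0, [4, 3, 2, 3, 4], [3, 2, 3]), (0, [4, 3, 2, 3, 4], [3, 2, 3]),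
  (0, [4, 3, 2, 3, 4], [3, 2, 3]), (0, [4, 3, 4], [3]), (0, [4, 3, 2, 3, 4], [3, 2, 3]), (0, [4, 3, 2, 3, 4], [3, 2, 3]),
  (0, [4, 3, 2, 3, 4], [3, 2, 3]), (0, [4, 3, 4], [3]), (0, [4, 3, 2, 3, 4], [3, 2, 3]), (0, [4, 3, 2, 3, 4], [3, 2, 3]),
  (0, [4, 3, 2, 3, 4], [3, 2, 3]), (0, [4, 3, 2, 3, 4], [3, 2, 3]), (0, [4, 2, 4], [2]), (0, [4, 3, 2, 3, 4], [3, 2, 3]),
  (0, [4, 3, 4], [3]), (0, [4, 3, 2, 3, 4], [3, 2, 3]), (0, [4, 2, 4], [2]), (0, [3], [4]),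
  (0, [4, 2, 4], [2]), (0, [4, 2, 4], [2]), (0, [4, 2, 4], [3, 2, 3]), (0, [4, 2, 4], [3, 2, 3]),
  (0, [4, 2, 4], [2]), (0, [4, 2, 4], [2]), (0, [3, 4, 3], [4, 3, 4]), (0, [3, 4, 3], [4, 3, 4]),
  (0, [3, 4, 3], [4, 3, 4]), (0, [4, 3, 4], [3]), (0, [4, 2, 4], [3, 2, 3]), (0, [4, 3, 4], [3]),
  (0, [4, 2, 4], [2]), (0, [4, 2, 4], [2]), (0, [4, 2, 4], [2]), (0, [4, 2, 4], [2]),
  (0, [4, 3, 4], [3]), (0, [4, 2, 4], [2]), (0, [4, 3, 2, 3, 4], [3, 2, 3]), (0, [4, 3, 4], [3]),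
  (0, [4, 3, 4], [3]), (0, [4, 2, 4], [3, 2, 3]), (0, [3, 4, 3], [4, 3, 4]), (0, [4, 2, 4], [2]),
  (0, [3, 4, 3], [4, 3, 4]), (0, [4, 3, 2, 3, 4], [3, 2, 3]), (0, [4, 2, 4], [3, 2, 3]), (0, [4, 3, 2, 3, 4], [3, 2, 3]),
  (0, [4, 2, 4], [2]), (0, [4, 2, 4], [3, 2, 3]), (0, [4, 2, 4], [2]), (0, [4, 2, 4], [2])]

/-- Some options of a node. -/
def tOpt23x3 : List (ℕ × List ℕ × List ℕ) := [
  (0, [3, 4, 3], [4, 3, 4]), (0, [3, 4, 3], [4, 3, 4]), (0, [3, 4, 3], [4, 3, 4]), (0, [3, 4, 3], [4, 3, 4]),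
  (0, [3, 4, 3], [4, 3, 4]), (0, [4, 2, 4], [2]), (0, [4, 2, 4], [2]), (0, [4, 2, 4], [2]),
  (0, [3, 4, 3], [4, 3, 4]), (0, [4, 2, 4], [2]), (0, [3, 4, 3], [4, 3, 4]), (0, [4, 2, 4], [2]),
  (0, [3, 4, 3], [4, 3, 4]), (0, [4, 3, 2, 3, 4], [3, 2, 3]), (0, [4, 2, 4], [2]), (0, [4, 3, 4], [3]),
  (0, [3, 4, 3], [4, 3, 4]), (0, [4, 2, 4], [2]), (0, [3, 4, 3], [4, 3, 4]), (0, [3, 4, 3], [4, 3, 4]),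
  (0, [3, 4, 3], [4, 3, 4]), (0, [3, 4, 3], [4, 3, 4]), (0, [3, 4, 3], [4, 3, 4]), (0, [4, 2, 4], [2]),
  (0, [3, 4, 3], [4, 3, 4]), (0, [3, 4, 3], [4, 3, 4]), (0, [4, 2, 4], [2]), (0, [3, 4, 3], [4, 3, 4]),
  (0, [3, 4, 3], [4, 3, 4]), (0, [3, 4, 3], [4, 3, 4]), (0, [3, 4, 3], [4, 3, 4]), (0, [3, 4, 3], [4, 3, 4]),
  (0, [4, 3, 2, 3, 4], [3, 2, 3]), (0, [4, 2, 4], [3, 2, 3]), (0, [4, 3, 2, 3, 4], [3, 2, 3]), (0, [4, 2, 4], [2]),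
  (0, [4, 2, 4], [2]), (0, [3, 4, 3], [4, 3, 4]), (0, [3, 4, 3], [4, 3, 4]), (0, [3, 4, 3], [4, 3, 4]),
  (0, [4, 2, 4], [2]), (0, [4, 2, 4], [2]), (0, [3, 4, 3], [4, 3, 4]), (0, [3, 4, 3], [4, 3, 4]),
  (0, [3, 4, 3], [4, 3, 4]), (0, [4, 2, 4], [2]), (0, [4, 2, 4], [2]), (0, [3, 4, 3], [4, 3, 4]),
  (0, [4, 2, 4], [2]), (0, [3, 4, 3], [4, 3, 4]), (0, [3, 4, 3], [4, 3, 4]), (0, [3, 4, 3], [4, 3, 4]),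
  (0, [3, 4, 3], [4, 3, 4]), (0, [3, 4, 3], [4, 3, 4]), (0, [3, 4, 3], [4, 3, 4]), (0, [3, 4, 3], [4, 3, 4]),
  (0, [3, 4, 3], [4, 3, 4]), (0, [3, 4, 3], [4, 3, 4]), (0, [3, 4, 3], [4, 3, 4]), (0, [4, 2, 4], [2]),
  (0, [3, 4, 3], [4, 3, 4]), (0, [4, 2, 4], [2]), (0, [4, 2, 4], [2]), (0, [3, 4, 3], [4, 3, 4]),
  (0, [4, 2, 4], [2]), (0, [3, 4, 3], [4, 3, 4]), (0, [4, 2, 4], [2]), (0, [4, 3, 2, 3, 4], [3, 2, 3]),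
  (0, [4, 2, 4], [2]), (0, [4, 3, 4], [3]), (0, [3, 4, 3], [4, 3, 4]), (0, [4, 2, 4], [2]),
  (0, [3, 4, 3], [4, 3, 4]), (0, [4, 2, 4], [2]), (0, [4, 3, 4], [3]), (0, [4, 2, 4], [2]),
  (0, [4, 3, 2, 3, 4], [3, 2, 3])]

/-- A node. -/
def tNode23 : TNode := ⟨[0, 1, 159, 60], [1, 0, 3, 207], 294, tOpt23x0 ++ tOpt23x1 ++ tOpt23x2 ++ tOpt23x3, []⟩

/-- Some options of a node. -/
def tOpt24x0 : List (ℕ × List ℕ × List ℕ) := [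
  (0, [1], [4]), (0, [0], [4]), (0, [4, 2, 4], [2]), (0, [2], [4]),
  (0, [2, 4, 2], [4, 2, 4]), (0, [4, 2, 4], [2]), (0, [4, 2, 4], [2]), (0, [2, 4, 2], [4, 2, 4]),
  (0, [4, 2, 4], [2]), (0, [4, 2, 4], [2]), (0, [4, 2, 4], [2]), (0, [2, 4, 2], [4, 2, 4]),
  (0, [2, 4, 2], [4, 2, 4]), (0, [2, 4, 2], [4, 2, 4]), (0, [4, 2, 4], [2]), (0, [4, 2, 4], [2]),
  (0, [2, 4, 2], [4, 2, 4]), (0, [2, 4, 2], [4, 2, 4]), (0, [4, 3, 4], [3]), (0, [4, 2, 4], [2]),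
  (0, [2, 4, 2], [4, 2, 4]), (0, [2, 4, 2], [4, 2, 4]), (0, [2, 4, 2], [4, 2, 4]), (0, [4, 3, 4], [3]),
  (0, [4, 2, 4], [2]), (0, [2, 4, 2], [4, 2, 4]), (0, [4, 3, 4], [3]), (0, [2, 4, 2], [4, 2, 4]),
  (0, [4, 3, 4], [3]), (0, [4, 3, 2, 3, 4], [3, 2, 3]), (0, [2, 4, 2], [4, 2, 4]), (0, [4, 3, 4], [3]),
  (0, [2, 4, 2], [4, 2, 4]), (0, [4, 3, 4], [3]), (0, [2, 4, 2], [4, 2, 4]), (0, [4, 3, 2, 3, 4], [3, 2, 3]),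
  (0, [4, 3, 4], [3]), (0, [2, 4, 2], [4, 2, 4]), (0, [2, 4, 2], [4, 2, 4]), (0, [4, 3, 4], [3]),
  (0, [4, 3, 2, 3, 4], [3, 2, 3]), (0, [4, 3, 2, 3, 4], [3, 2, 3]), (0, [2, 4, 2], [4, 2, 4]), (0, [4, 3, 4], [3]),
  (0, [2, 4, 2], [4, 2, 4]), (0, [2, 4, 2], [4, 2, 4]), (0, [4, 3, 2, 3, 4], [3, 2, 3]), (0, [2, 4, 2], [4, 2, 4]),
  (0, [4, 3, 2, 3, 4], [3, 2, 3]), (0, [2, 4, 2], [4, 2, 4]), (0, [2, 4, 2], [4, 2, 4]), (0, [4, 3, 4], [3]),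
  (0, [2, 4, 2], [4, 2, 4]), (0, [4, 3, 4], [3]), (0, [4, 3, 4], [3]), (0, [4, 3, 2, 3, 4], [3, 2, 3]),
  (0, [4, 3, 2, 3, 4], [3, 2, 3]), (0, [2, 4, 2], [4, 2, 4]), (0, [2, 4, 2], [4, 2, 4]), (0, [2, 4, 2], [4, 2, 4]),
  (0, [2, 4, 2], [4, 2, 4]), (0, [4, 3, 2, 3, 4], [3, 2, 3]), (0, [2, 4, 2], [4, 2, 4]), (0, [4, 3, 4], [3]),
  (0, [4, 3, 2, 3, 4], [3, 2, 3]), (0, [2, 4, 2], [4, 2, 4]), (0, [2, 4, 2], [4, 2, 4]), (0, [4, 3, 4], [3]),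
  (0, [2, 4, 2], [4, 2, 4]), (0, [2, 4, 2], [4, 2, 4]), (0, [4, 3, 2, 3, 4], [3, 2, 3]), (0, [4, 3, 4], [3]),
  (0, [4, 3, 4], [3]), (0, [2, 4, 2], [4, 2, 4]), (0, [2, 4, 2], [4, 2, 4]), (0, [2, 4, 2], [4, 2, 4]),
  (0, [4, 3, 4], [3]), (0, [4, 3, 4], [3]), (0, [4, 3, 2, 3, 4], [3, 2, 3]), (0, [2, 4, 2], [4, 2, 4])]

/-- Some options of a node. -/
def tOpt24x1 : List (ℕ × List ℕ × List ℕ) := [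
  (0, [2, 4, 2], [4, 2, 4]), (0, [4, 3, 2, 3, 4], [3, 2, 3]), (0, [2, 4, 2], [4, 2, 4]), (0, [2, 4, 2], [4, 2, 4]),
  (0, [2, 4, 2], [4, 2, 4]), (0, [2, 4, 2], [4, 2, 4]), (0, [4, 3, 2, 3, 4], [3, 2, 3]), (0, [4, 3, 2, 3, 4], [3, 2, 3]),
  (0, [2, 4, 2], [4, 2, 4]), (0, [4, 3, 2, 3, 4], [3, 2, 3]), (0, [2, 4, 2], [4, 2, 4]), (0, [4, 3, 2, 3, 4], [3, 2, 3]),
  (0, [4, 3, 2, 3, 4], [3, 2, 3]), (0, [2, 4, 2], [4, 2, 4]), (0, [2, 4, 2], [4, 2, 4]), (0, [4, 3, 2, 3, 4], [3, 2, 3]),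
  (0, [4, 3, 2, 3, 4], [3, 2, 3]), (0, [4, 3, 4], [3]), (0, [2, 4, 2], [4, 2, 4]), (0, [4, 3, 4], [3]),
  (0, [4, 3, 2, 3, 4], [3, 2, 3]), (0, [4, 3, 2, 3, 4], [3, 2, 3]), (0, [2, 4, 2], [4, 2, 4]), (0, [4, 3, 2, 3, 4], [3, 2, 3]),
  (0, [4, 3, 2, 3, 4], [3, 2, 3]), (0, [4, 3, 4], [3]), (0, [4, 3, 2, 3, 4], [3, 2, 3]), (0, [4, 3, 4], [3]),
  (0, [4, 3, 2, 3, 4], [3, 2, 3]), (0, [4, 2, 4], [2]), (0, [4, 3, 4], [3]), (0, [4, 3, 2, 3, 4], [3, 2, 3]),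
  (0, [4, 3, 2, 3, 4], [3, 2, 3]), (0, [4, 3, 4], [3]), (0, [4, 2, 4], [2]), (0, [4, 2, 4], [2]),
  (0, [4, 3, 2, 3, 4], [3, 2, 3]), (0, [4, 3, 4], [3]), (0, [4, 3, 4], [3]), (0, [4, 2, 4], [2]),
  (0, [4, 2, 4], [2]), (0, [4, 2, 4], [2]), (0, [4, 3, 4], [3]), (0, [4, 3, 4], [3]),
  (0, [4, 2, 4], [2]), (0, [4, 3, 2, 3, 4], [3, 2, 3]), (0, [4, 2, 4], [2]), (0, [4, 2, 4], [2]),
  (0, [4, 2, 4], [2]), (0, [4, 2, 4], [2]), (0, [4, 2, 4], [2]), (0, [4, 3, 2, 3, 4], [3, 2, 3]),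
  (0, [4, 3, 2, 3, 4], [3, 2, 3]), (0, [4, 2, 4], [2]), (0, [4, 2, 4], [2]), (0, [4, 2, 4], [2]),
  (0, [4, 3, 2, 3, 4], [3, 2, 3]), (0, [4, 2, 4], [2]), (0, [4, 2, 4], [2]), (0, [4, 3, 2, 3, 4], [3, 2, 3]),
  (0, [4, 2, 4], [2]), (0, [4, 2, 4], [2]), (0, [4, 2, 4], [2]), (0, [4, 2, 4], [2]),
  (0, [4, 2, 4], [2]), (0, [4, 2, 4], [2]), (0, [4, 2, 4], [2]), (0, [4, 3, 2, 3, 4], [3, 2, 3]),
  (0, [3, 2, 3], [4]), (0, [4, 2, 4], [2]), (0, [4, 3, 2, 3, 4], [3, 2, 3]), (0, [4, 2, 4], [2]),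
  (0, [4, 2, 4], [2]), (0, [4, 2, 4], [2]), (0, [4, 2, 4], [2]), (0, [4, 2, 4], [2]),
  (0, [4, 2, 4], [2]), (0, [4, 2, 4], [2]), (0, [4, 2, 4], [2]), (0, [4, 2, 4], [2])]

/-- Some options of a node. -/
def tOpt24x2 : List (ℕ × List ℕ × List ℕ) := [
  (0, [4, 2, 4], [2]), (0, [4, 2, 4], [2]), (0, [4, 2, 4], [2]), (0, [4, 2, 4], [2]),
  (0, [4, 2, 4], [2]), (0, [4, 2, 4], [2]), (0, [4, 2, 4], [2]), (0, [4, 2, 4], [2]),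
  (0, [4, 2, 4], [2]), (0, [4, 2, 4], [2]), (0, [4, 2, 4], [2]), (0, [4, 2, 4], [2]),
  (0, [4, 2, 4], [2]), (0, [4, 3, 4], [3]), (0, [4, 3, 2, 3, 4], [3, 2, 3]), (0, [4, 3, 2, 3, 4], [3, 2, 3]),
  (0, [4, 3, 2, 3, 4], [3, 2, 3]), (0, [4, 3, 2, 3, 4], [3, 2, 3]), (0, [4, 3, 2, 3, 4], [3, 2, 3]), (0, [4, 3, 4], [3]),
  (0, [4, 3, 2, 3, 4], [3, 2, 3]), (0, [4, 3, 2, 3, 4], [3, 2, 3]), (0, [4, 3, 4], [3]), (0, [4, 3, 2, 3, 4], [3, 2, 3]),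
  (0, [4, 3, 4], [3]), (0, [4, 3, 2, 3, 4], [3, 2, 3]), (0, [4, 3, 2, 3, 4], [3, 2, 3]), (0, [4, 3, 4], [3]),
  (0, [4, 3, 2, 3, 4], [3, 2, 3]), (0, [4, 3, 4], [3]), (0, [4, 3, 4], [3]), (0, [4, 3, 2, 3, 4], [3, 2, 3]),
  (0, [4, 3, 4], [3]), (0, [4, 3, 2, 3, 4], [3, 2, 3]), (0, [4, 3, 2, 3, 4], [3, 2, 3]), (0, [4, 3, 2, 3, 4], [3, 2, 3]),
  (0, [4, 3, 2, 3, 4], [3, 2, 3]), (0, [4, 3, 2, 3, 4], [3, 2, 3]), (0, [4, 3, 2, 3, 4], [3, 2, 3]), (0, [4, 3, 2, 3, 4], [3, 2, 3]),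
  (0, [4, 3, 2, 3, 4], [3, 2, 3]), (0, [4, 3, 2, 3, 4], [3, 2, 3]), (0, [4, 2, 4], [2]), (0, [4, 3, 2, 3, 4], [3, 2, 3]),
  (0, [4, 3, 2, 3, 4], [3, 2, 3]), (0, [4, 3, 2, 3, 4], [3, 2, 3]), (0, [4, 2, 4], [2]), (0, [3, 4, 3], [4, 3, 4]),
  (0, [4, 2, 4], [2]), (0, [4, 2, 4], [2]), (0, [3, 4, 3], [4, 3, 4]), (0, [3, 4, 3], [4, 3, 4]),
  (0, [4, 2, 4], [2]), (0, [4, 2, 4], [2]), (0, [3], [4]), (0, [4, 2, 4], [3, 2, 3]),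
  (0, [3, 4, 3], [4, 3, 4]), (0, [3, 4, 3], [4, 3, 4]), (0, [3, 4, 3], [4, 3, 4]), (0, [3, 4, 3], [4, 3, 4]),
  (0, [4, 2, 4], [2]), (0, [4, 2, 4], [2]), (0, [4, 2, 4], [2]), (0, [4, 2, 4], [2]),
  (0, [3, 4, 3], [4, 3, 4]), (0, [4, 2, 4], [2]), (0, [3, 4, 3], [4, 3, 4]), (0, [3, 4, 3], [4, 3, 4]),
  (0, [3, 4, 3], [4, 3, 4]), (0, [3, 4, 3], [4, 3, 4]), (0, [3, 4, 3], [4, 3, 4]), (0, [4, 2, 4], [2]),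
  (0, [3, 4, 3], [4, 3, 4]), (0, [3, 4, 3], [4, 3, 4]), (0, [3, 4, 3], [4, 3, 4]), (0, [3, 4, 3], [4, 3, 4]),
  (0, [4, 2, 4], [2]), (0, [3, 4, 3], [4, 3, 4]), (0, [4, 2, 4], [2]), (0, [4, 2, 4], [2])]

/-- Some options of a node. -/
def tOpt24x3 : List (ℕ × List ℕ × List ℕ) := [
  (0, [4, 3, 4], [3]), (0, [4, 3, 2, 3, 4], [3, 2, 3]), (0, [3, 4, 3], [4, 3, 4]), (0, [3, 4, 3], [4, 3, 4]),
  (0, [3, 4, 3], [4, 3, 4]), (0, [4, 2, 4], [2]), (0, [4, 2, 4], [2]), (0, [4, 2, 4], [2]),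
  (0, [4, 3, 4], [3]), (0, [4, 2, 4], [2]), (0, [3, 4, 3], [4, 3, 4]), (0, [4, 2, 4], [2]),
  (0, [3, 4, 3], [4, 3, 4]), (0, [3, 4, 3], [4, 3, 4]), (0, [4, 2, 4], [2]), (0, [3, 4, 3], [4, 3, 4]),
  (0, [4, 2, 4], [3, 2, 3]), (0, [4, 2, 4], [2]), (0, [4, 2, 4], [3, 2, 3]), (0, [4, 2, 4], [3, 2, 3]),
  (0, [3, 4, 3], [4, 3, 4]), (0, [4, 3, 2, 3, 4], [3, 2, 3]), (0, [4, 3, 4], [3]), (0, [4, 2, 4], [2]),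
  (0, [3, 4, 3], [4, 3, 4]), (0, [3, 4, 3], [4, 3, 4]), (0, [4, 2, 4], [2]), (0, [4, 2, 4], [3, 2, 3]),
  (0, [3, 4, 3], [4, 3, 4]), (0, [3, 4, 3], [4, 3, 4]), (0, [3, 4, 3], [4, 3, 4]), (0, [4, 3, 2, 3, 4], [3, 2, 3]),
  (0, [3, 4, 3], [4, 3, 4]), (0, [3, 4, 3], [4, 3, 4]), (0, [3, 4, 3], [4, 3, 4]), (0, [4, 2, 4], [2]),
  (0, [4, 2, 4], [2]), (0, [3, 4, 3], [4, 3, 4]), (0, [4, 3, 4], [3]), (0, [4, 3, 2, 3, 4], [3, 2, 3]),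
  (0, [4, 2, 4], [2]), (0, [4, 2, 4], [2]), (0, [4, 3, 4], [3]), (0, [4, 3, 2, 3, 4], [3, 2, 3]),
  (0, [4, 3, 4], [3]), (0, [4, 2, 4], [2]), (0, [4, 2, 4], [2]), (0, [3, 4, 3], [4, 3, 4]),
  (0, [4, 2, 4], [2]), (0, [3, 4, 3], [4, 3, 4]), (0, [4, 3, 4], [3]), (0, [4, 2, 4], [3, 2, 3]),
  (0, [4, 2, 4], [3, 2, 3]), (0, [4, 3, 2, 3, 4], [3, 2, 3]), (0, [4, 3, 4], [3]), (0, [3, 4, 3], [4, 3, 4]),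
  (0, [3, 4, 3], [4, 3, 4]), (0, [3, 4, 3], [4, 3, 4]), (0, [4, 3, 2, 3, 4], [3, 2, 3]), (0, [4, 2, 4], [2]),
  (0, [4, 3, 2, 3, 4], [3, 2, 3]), (0, [4, 2, 4], [2]), (0, [4, 2, 4], [2]), (0, [3, 4, 3], [4, 3, 4]),
  (0, [4, 2, 4], [2]), (0, [3, 4, 3], [4, 3, 4]), (0, [4, 2, 4], [2]), (0, [3, 4, 3], [4, 3, 4]),
  (0, [4, 2, 4], [2]), (0, [3, 4, 3], [4, 3, 4]), (0, [3, 4, 3], [4, 3, 4]), (0, [4, 2, 4], [2]),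
  (0, [3, 4, 3], [4, 3, 4]), (0, [4, 2, 4], [2]), (0, [3, 4, 3], [4, 3, 4]), (0, [4, 2, 4], [2]),
  (0, [3, 4, 3], [4, 3, 4])]

/-- A node. -/
def tNode24 : TNode := ⟨[0, 1, 159, 60], [1, 0, 3, 214], 191, tOpt24x0 ++ tOpt24x1 ++ tOpt24x2 ++ tOpt24x3, []⟩

end CfsgLib.CoTwoRec
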