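import Cfsg.Agent.Lib.CoTwoRec.RelTree

/-!
# The forcing tree (generated)
-/

set_option autoImplicit false
set_option maxRecDepth 100000

namespace CfsgLib.CoTwoRec

/-- Some options of a node. -/
def tOpt25x0 : List (ℕ × List ℕ × List ℕ) := [
  (0, [1], [4]), (0, [0], [4]), (0, [4, 2, 4], [2]), (0, [2], [4]),
  (0, [2, 4, 2], [4, 2, 4]), (0, [4, 2, 4], [2]), (0, [3, 2, 3], [4]), (0, [2, 4, 2], [4, 2, 4]),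
  (0, [4, 2, 4], [2]), (0, [4, 2, 4], [2]), (0, [4, 2, 4], [2]), (0, [2, 4, 2], [4, 2, 4]),
  (0, [2, 4, 2], [4, 2, 4]), (0, [2, 4, 2], [4, 2, 4]), (0, [4, 2, 4], [2]), (0, [4, 2, 4], [2]),
  (0, [2, 4, 2], [4, 2, 4]), (0, [2, 4, 2], [4, 2, 4]), (0, [2, 4, 2], [4, 2, 4]), (0, [4, 2, 4], [2]),
  (0, [2, 4, 2], [4, 2, 4]), (0, [2, 4, 2], [4, 2, 4]), (0, [2, 4, 2], [4, 2, 4]), (0, [2, 4, 2], [4, 2, 4]),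
  (0, [4, 2, 4], [2]), (0, [2, 4, 2], [4, 2, 4]), (0, [2, 4, 2], [4, 2, 4]), (0, [2, 4, 2], [4, 2, 4]),
  (0, [4, 3, 4], [3]), (0, [4, 3, 4], [3]), (0, [4, 3, 4], [3]), (0, [2, 4, 2], [4, 2, 4]),
  (0, [4, 3, 4], [3]), (0, [2, 4, 2], [4, 2, 4]), (0, [2, 4, 2], [4, 2, 4]), (0, [4, 3, 4], [3]),
  (0, [2, 4, 2], [4, 2, 4]), (0, [4, 3, 4], [3]), (0, [2, 4, 2], [4, 2, 4]), (0, [2, 4, 2], [4, 2, 4]),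
  (0, [4, 3, 2, 3, 4], [3, 2, 3]), (0, [4, 3, 4], [3]), (0, [2, 4, 2], [4, 2, 4]), (0, [4, 3, 4], [3]),
  (0, [4, 3, 4], [3]), (0, [2, 4, 2], [4, 2, 4]), (0, [4, 3, 4], [3]), (0, [2, 4, 2], [4, 2, 4]),
  (0, [4, 3, 2, 3, 4], [3, 2, 3]), (0, [4, 3, 4], [3]), (0, [2, 4, 2], [4, 2, 4]), (0, [2, 4, 2], [4, 2, 4]),
  (0, [2, 4, 2], [4, 2, 4]), (0, [2, 4, 2], [4, 2, 4]), (0, [4, 3, 2, 3, 4], [3, 2, 3]), (0, [4, 3, 2, 3, 4], [3, 2, 3]),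
  (0, [4, 3, 2, 3, 4], [3, 2, 3]), (0, [2, 4, 2], [4, 2, 4]), (0, [2, 4, 2], [4, 2, 4]), (0, [2, 4, 2], [4, 2, 4]),
  (0, [2, 4, 2], [4, 2, 4]), (0, [4, 3, 2, 3, 4], [3, 2, 3]), (0, [4, 3, 4], [3]), (0, [4, 3, 2, 3, 4], [3, 2, 3]),
  (0, [4, 3, 2, 3, 4], [3, 2, 3]), (0, [2, 4, 2], [4, 2, 4]), (0, [4, 3, 4], [3]), (0, [2, 4, 2], [4, 2, 4]),
  (0, [2, 4, 2], [4, 2, 4]), (0, [2, 4, 2], [4, 2, 4]), (0, [4, 3, 2, 3, 4], [3, 2, 3]), (0, [4, 3, 2, 3, 4], [3, 2, 3]),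
  (0, [4, 3, 2, 3, 4], [3, 2, 3]), (0, [2, 4, 2], [4, 2, 4]), (0, [2, 4, 2], [4, 2, 4]), (0, [2, 4, 2], [4, 2, 4]),
  (0, [4, 3, 2, 3, 4], [3, 2, 3]), (0, [4, 3, 2, 3, 4], [3, 2, 3]), (0, [4, 3, 2, 3, 4], [3, 2, 3]), (0, [2, 4, 2], [4, 2, 4])]

/-- Some options of a node. -/
def tOpt25x1 : List (ℕ × List ℕ × List ℕ) := [
  (0, [2, 4, 2], [4, 2, 4]), (0, [4, 3, 4], [3]), (0, [2, 4, 2], [4, 2, 4]), (0, [4, 3, 4], [3]),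
  (0, [2, 4, 2], [4, 2, 4]), (0, [2, 4, 2], [4, 2, 4]), (0, [4, 3, 4], [3]), (0, [4, 3, 2, 3, 4], [3, 2, 3]),
  (0, [4, 3, 4], [3]), (0, [4, 3, 4], [3]), (0, [4, 3, 4], [3]), (0, [4, 3, 2, 3, 4], [3, 2, 3]),
  (0, [4, 3, 4], [3]), (0, [4, 3, 4], [3]), (0, [2, 4, 2], [4, 2, 4]), (0, [4, 3, 2, 3, 4], [3, 2, 3]),
  (0, [4, 3, 4], [3]), (0, [2, 4, 2], [4, 2, 4]), (0, [4, 3, 4], [3]), (0, [4, 3, 4], [3]),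
  (0, [4, 3, 2, 3, 4], [3, 2, 3]), (0, [4, 3, 4], [3]), (0, [2, 4, 2], [4, 2, 4]), (0, [4, 3, 2, 3, 4], [3, 2, 3]),
  (0, [4, 3, 2, 3, 4], [3, 2, 3]), (0, [4, 3, 4], [3]), (0, [4, 3, 2, 3, 4], [3, 2, 3]), (0, [4, 3, 2, 3, 4], [3, 2, 3]),
  (0, [4, 3, 2, 3, 4], [3, 2, 3]), (0, [4, 2, 4], [2]), (0, [2, 4, 2], [4, 2, 4]), (0, [4, 3, 2, 3, 4], [3, 2, 3]),
  (0, [4, 3, 2, 3, 4], [3, 2, 3]), (0, [4, 3, 2, 3, 4], [3, 2, 3]), (0, [4, 2, 4], [2]), (0, [4, 2, 4], [2]),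
  (0, [4, 3, 2, 3, 4], [3, 2, 3]), (0, [4, 3, 2, 3, 4], [3, 2, 3]), (0, [4, 3, 2, 3, 4], [3, 2, 3]), (0, [4, 2, 4], [2]),
  (0, [4, 2, 4], [2]), (0, [4, 2, 4], [2]), (0, [4, 3, 2, 3, 4], [3, 2, 3]), (0, [4, 3, 2, 3, 4], [3, 2, 3]),
  (0, [4, 2, 4], [2]), (0, [4, 3, 2, 3, 4], [3, 2, 3]), (0, [4, 2, 4], [2]), (0, [4, 2, 4], [2]),
  (0, [4, 2, 4], [2]), (0, [4, 2, 4], [2]), (0, [4, 2, 4], [2]), (0, [4, 3, 4], [3]),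
  (0, [4, 3, 2, 3, 4], [3, 2, 3]), (0, [4, 2, 4], [2]), (0, [4, 2, 4], [2]), (0, [4, 2, 4], [2]),
  (0, [4, 3, 2, 3, 4], [3, 2, 3]), (0, [4, 2, 4], [2]), (0, [4, 2, 4], [2]), (0, [4, 3, 4], [3]),
  (0, [4, 2, 4], [2]), (0, [4, 2, 4], [2]), (0, [4, 2, 4], [2]), (0, [4, 2, 4], [2]),
  (0, [4, 2, 4], [2]), (0, [4, 2, 4], [2]), (0, [4, 2, 4], [2]), (0, [4, 3, 2, 3, 4], [3, 2, 3]),
  (0, [4, 2, 4], [2]), (0, [4, 2, 4], [2]), (0, [4, 3, 2, 3, 4], [3, 2, 3]), (0, [4, 2, 4], [2]),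
  (0, [4, 2, 4], [2]), (0, [4, 2, 4], [2]), (0, [4, 2, 4], [2]), (0, [4, 2, 4], [2]),
  (0, [4, 2, 4], [2]), (0, [4, 2, 4], [2]), (0, [4, 2, 4], [2]), (0, [4, 2, 4], [2])]

/-- Some options of a node. -/
def tOpt25x2 : List (ℕ × List ℕ × List ℕ) := [
  (0, [4, 2, 4], [2]), (0, [4, 2, 4], [2]), (0, [4, 2, 4], [2]), (0, [4, 2, 4], [2]),
  (0, [4, 2, 4], [2]), (0, [4, 2, 4], [2]), (0, [4, 2, 4], [2]), (0, [4, 2, 4], [2]),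
  (0, [4, 2, 4], [2]), (0, [4, 2, 4], [2]), (0, [4, 2, 4], [2]), (0, [4, 2, 4], [2]),
  (0, [4, 2, 4], [2]), (0, [4, 3, 2, 3, 4], [3, 2, 3]), (0, [4, 3, 4], [3]), (0, [4, 3, 2, 3, 4], [3, 2, 3]),
  (0, [4, 3, 2, 3, 4], [3, 2, 3]), (0, [4, 3, 4], [3]), (0, [4, 3, 4], [3]), (0, [4, 3, 2, 3, 4], [3, 2, 3]),
  (0, [4, 3, 2, 3, 4], [3, 2, 3]), (0, [4, 3, 2, 3, 4], [3, 2, 3]), (0, [4, 3, 2, 3, 4], [3, 2, 3]), (0, [4, 3, 2, 3, 4], [3, 2, 3]),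
  (0, [4, 3, 2, 3, 4], [3, 2, 3]), (0, [4, 3, 2, 3, 4], [3, 2, 3]), (0, [4, 3, 2, 3, 4], [3, 2, 3]), (0, [4, 3, 4], [3]),
  (0, [4, 3, 2, 3, 4], [3, 2, 3]), (0, [4, 3, 2, 3, 4], [3, 2, 3]), (0, [4, 3, 2, 3, 4], [3, 2, 3]), (0, [4, 3, 2, 3, 4], [3, 2, 3]),
  (0, [4, 3, 4], [3]), (0, [4, 3, 4], [3]), (0, [4, 3, 2, 3, 4], [3, 2, 3]), (0, [4, 3, 2, 3, 4], [3, 2, 3]),
  (0, [4, 3, 2, 3, 4], [3, 2, 3]), (0, [4, 3, 4], [3]), (0, [4, 3, 2, 3, 4], [3, 2, 3]), (0, [4, 3, 4], [3]),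
  (0, [4, 3, 2, 3, 4], [3, 2, 3]), (0, [4, 3, 2, 3, 4], [3, 2, 3]), (0, [4, 2, 4], [2]), (0, [4, 3, 2, 3, 4], [3, 2, 3]),
  (0, [4, 3, 2, 3, 4], [3, 2, 3]), (0, [4, 3, 2, 3, 4], [3, 2, 3]), (0, [4, 2, 4], [2]), (0, [4, 3, 4], [3]),
  (0, [4, 2, 4], [2]), (0, [4, 2, 4], [2]), (0, [4, 3, 4], [3]), (0, [4, 3, 2, 3, 4], [3, 2, 3]),
  (0, [4, 2, 4], [2]), (0, [4, 2, 4], [2]), (0, [3, 4, 3], [4, 3, 4]), (0, [3, 4, 3], [4, 3, 4]),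
  (0, [3, 4, 3], [4, 3, 4]), (0, [4, 3, 4], [3]), (0, [4, 3, 2, 3, 4], [3, 2, 3]), (0, [4, 3, 2, 3, 4], [3, 2, 3]),
  (0, [4, 2, 4], [2]), (0, [4, 2, 4], [2]), (0, [4, 2, 4], [2]), (0, [4, 2, 4], [2]),
  (0, [3], [4]), (0, [4, 2, 4], [2]), (0, [4, 2, 4], [3, 2, 3]), (0, [4, 3, 4], [3]),
  (0, [4, 3, 2, 3, 4], [3, 2, 3]), (0, [4, 3, 2, 3, 4], [3, 2, 3]), (0, [3, 4, 3], [4, 3, 4]), (0, [4, 2, 4], [2]),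
  (0, [3, 4, 3], [4, 3, 4]), (0, [4, 3, 4], [3]), (0, [4, 3, 4], [3]), (0, [4, 3, 2, 3, 4], [3, 2, 3]),
  (0, [4, 2, 4], [2]), (0, [4, 3, 2, 3, 4], [3, 2, 3]), (0, [4, 2, 4], [2]), (0, [4, 2, 4], [2])]

/-- Some options of a node. -/
def tOpt25x3 : List (ℕ × List ℕ × List ℕ) := [
  (0, [3, 4, 3], [4, 3, 4]), (0, [3, 4, 3], [4, 3, 4]), (0, [3, 4, 3], [4, 3, 4]), (0, [3, 4, 3], [4, 3, 4]),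
  (0, [3, 4, 3], [4, 3, 4]), (0, [4, 2, 4], [2]), (0, [4, 2, 4], [2]), (0, [4, 2, 4], [2]),
  (0, [3, 4, 3], [4, 3, 4]), (0, [4, 2, 4], [2]), (0, [3, 4, 3], [4, 3, 4]), (0, [4, 2, 4], [2]),
  (0, [3, 4, 3], [4, 3, 4]), (0, [4, 2, 4], [3, 2, 3]), (0, [4, 2, 4], [2]), (0, [4, 2, 4], [3, 2, 3]),
  (0, [3, 4, 3], [4, 3, 4]), (0, [4, 2, 4], [2]), (0, [3, 4, 3], [4, 3, 4]), (0, [3, 4, 3], [4, 3, 4]),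
  (0, [3, 4, 3], [4, 3, 4]), (0, [3, 4, 3], [4, 3, 4]), (0, [3, 4, 3], [4, 3, 4]), (0, [4, 2, 4], [2]),
  (0, [3, 4, 3], [4, 3, 4]), (0, [3, 4, 3], [4, 3, 4]), (0, [4, 2, 4], [2]), (0, [3, 4, 3], [4, 3, 4]),
  (0, [3, 4, 3], [4, 3, 4]), (0, [3, 4, 3], [4, 3, 4]), (0, [3, 4, 3], [4, 3, 4]), (0, [3, 4, 3], [4, 3, 4]),
  (0, [4, 3, 2, 3, 4], [3, 2, 3]), (0, [4, 3, 4], [3]), (0, [4, 3, 4], [3]), (0, [4, 2, 4], [2]),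
  (0, [4, 2, 4], [2]), (0, [3, 4, 3], [4, 3, 4]), (0, [3, 4, 3], [4, 3, 4]), (0, [3, 4, 3], [4, 3, 4]),
  (0, [4, 2, 4], [2]), (0, [4, 2, 4], [2]), (0, [3, 4, 3], [4, 3, 4]), (0, [3, 4, 3], [4, 3, 4]),
  (0, [3, 4, 3], [4, 3, 4]), (0, [4, 2, 4], [2]), (0, [4, 2, 4], [2]), (0, [3, 4, 3], [4, 3, 4]),
  (0, [4, 2, 4], [2]), (0, [3, 4, 3], [4, 3, 4]), (0, [3, 4, 3], [4, 3, 4]), (0, [3, 4, 3], [4, 3, 4]),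
  (0, [3, 4, 3], [4, 3, 4]), (0, [3, 4, 3], [4, 3, 4]), (0, [3, 4, 3], [4, 3, 4]), (0, [3, 4, 3], [4, 3, 4]),
  (0, [3, 4, 3], [4, 3, 4]), (0, [3, 4, 3], [4, 3, 4]), (0, [3, 4, 3], [4, 3, 4]), (0, [4, 2, 4], [2]),
  (0, [3, 4, 3], [4, 3, 4]), (0, [4, 2, 4], [2]), (0, [4, 2, 4], [2]), (0, [3, 4, 3], [4, 3, 4]),
  (0, [4, 2, 4], [2]), (0, [3, 4, 3], [4, 3, 4]), (0, [4, 2, 4], [2]), (0, [4, 2, 4], [3, 2, 3]),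
  (0, [4, 2, 4], [2]), (0, [4, 2, 4], [3, 2, 3]), (0, [3, 4, 3], [4, 3, 4]), (0, [4, 2, 4], [2]),
  (0, [3, 4, 3], [4, 3, 4]), (0, [4, 2, 4], [2]), (0, [4, 2, 4], [3, 2, 3]), (0, [4, 2, 4], [2]),
  (0, [4, 2, 4], [3, 2, 3])]

/-- A node. -/
def tNode25 : TNode := ⟨[0, 1, 159, 60], [1, 0, 3, 224], 262, tOpt25x0 ++ tOpt25x1 ++ tOpt25x2 ++ tOpt25x3, []⟩

/-- Some options of a node. -/
def tOpt26x0 : List (ℕ × List ℕ × List ℕ) := [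
  (0, [1], [3]), (0, [0], [3]), (0, [3, 2, 3], [2]), (1, [], []),
  (0, [3, 2, 3], [2]), (0, [3, 2, 3], [2]), (1, [17, 19, 17], []), (0, [3, 2, 3], [2]),
  (0, [3, 2, 3], [2]), (1, [21, 17, 21, 17], []), (1, [19, 18, 19, 17, 16, 19, 17, 16, 19, 16, 23], []), (0, [3, 2, 3], [2]),
  (0, [3, 2, 3], [2]), (0, [3, 2, 3], [2]), (1, [17, 19, 18, 16, 19, 21, 17, 21, 19, 16, 22], []), (1, [19, 20, 19, 17, 16, 19, 17, 20, 19, 16, 23], []),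
  (0, [3, 2, 3], [2]), (0, [3, 2, 3], [2]), (0, [3, 2, 3], [2]), (1, [17, 19, 20, 16, 19, 17, 20, 19, 17, 16, 22], []),
  (0, [3, 2, 3], [2]), (0, [3, 2, 3], [2]), (0, [3, 2, 3], [2]), (0, [3, 2, 3], [2]),
  (1, [16, 19, 20, 17, 20, 19, 16], []), (0, [3, 2, 3], [2]), (0, [3, 2, 3], [2]), (0, [3, 2, 3], [2]),
  (0, [3, 2, 3], [2]), (0, [2], [3]), (0, [3, 2, 3], [2]), (0, [3, 2, 3], [2]),
  (0, [3, 2, 3], [2]), (0, [3, 2, 3], [2]), (0, [3, 2, 3], [2]), (0, [3, 2, 3], [2]),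
  (0, [3, 2, 3], [2]), (0, [3, 2, 3], [2]), (0, [3, 2, 3], [2]), (1, [21], []),
  (0, [3, 2, 3], [2]), (0, [3, 2, 3], [2]), (0, [3, 2, 3], [2]), (0, [3, 2, 3], [2]),
  (0, [3, 2, 3], [2]), (1, [17, 19, 17, 21], []), (0, [3, 2, 3], [2]), (0, [3, 2, 3], [2]),
  (0, [3, 2, 3], [2]), (0, [3, 2, 3], [2]), (0, [3, 2, 3], [2]), (1, [17, 21, 17], []),
  (1, [17, 19, 18, 17, 21, 18], []), (1, [21, 16, 18, 19, 18, 17, 16, 19, 17, 16, 23], []), (0, [3, 2, 3], [2]), (0, [3, 2, 3], [2]),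
  (0, [3, 2, 3], [2]), (0, [3, 2, 3], [2]), (1, [17, 19, 21, 17], []), (1, [17, 21, 16, 19, 20, 17, 20, 19, 17, 16], []),
  (1, [18, 21, 18], []), (0, [3, 2, 3], [2]), (0, [3, 2, 3], [2]), (0, [3, 2, 3], [2]),
  (0, [3, 2, 3], [2]), (1, [17, 19, 18, 21, 18, 17], []), (1, [16, 18, 19, 21, 18, 19, 17, 16, 22], []), (1, [17, 21, 19, 16, 18, 19, 18, 17, 19, 16, 23], []),
  (1, [21, 16, 19, 18, 16, 18, 19, 16], []), (1, [19, 21, 16, 18, 16, 19, 16, 18, 16], []), (0, [3, 2, 3], [2]), (0, [3, 2, 3], [2]),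
  (0, [3, 2, 3], [2]), (1, [21, 16, 19, 20, 17, 20, 19, 16], []), (1, [18, 17, 21, 18, 17], []), (1, [16, 18, 21, 18, 16], []),
  (0, [3, 2, 3], [2]), (0, [3, 2, 3], [2]), (0, [3, 2, 3], [2]), (1, [16, 18, 21, 20, 19, 17, 20, 19, 18, 16, 22], [])]

/-- Some options of a node. -/
def tOpt26x1 : List (ℕ × List ℕ × List ℕ) := [
  (1, [17, 19, 21, 17, 16, 19, 18, 16, 18, 19, 16], []), (0, [3, 2, 3], [2]), (1, [16, 18, 21, 18, 17, 16, 19, 17], []), (1, [17, 19, 16, 18, 19, 17, 21, 19, 18, 17, 16, 22], []),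
  (1, [16, 19, 17, 21, 19, 17, 16, 19, 18], []), (1, [17, 19, 16, 18, 17, 21, 18, 16], []), (0, [3, 2, 3], [2]), (0, [3, 2, 3], [2]),
  (1, [16, 18, 17, 21, 18, 17, 16], []), (0, [3, 2, 3], [2]), (1, [17, 19, 16, 18, 17, 21, 18, 16, 18, 17], []), (0, [3, 2, 3], [2]),
  (0, [3, 2, 3], [2]), (1, [16, 18, 17, 21, 18, 16, 18, 17, 19, 18], []), (1, [18, 16, 18, 17, 21, 18, 17, 16, 19, 18, 23], []), (2, [], []),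
  (0, [3, 2, 3], [2]), (1, [17, 19, 16, 18, 17, 21, 18, 17, 16, 19, 17], []), (1, [16, 18, 17, 16, 19, 21, 16, 18, 17, 16], []), (1, [16, 18, 21, 18, 16, 18, 17], []),
  (0, [3, 2, 3], [2]), (0, [3, 2, 3], [2]), (1, [17, 16, 19, 16, 18, 21, 19, 18, 16, 18, 17, 22], []), (2, [21, 17, 21, 17], []),
  (0, [3, 2, 3], [2]), (1, [16, 18, 17, 21, 18, 16, 19, 17], []), (3, [], []), (3, [18, 17], []),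
  (3, [21, 17, 21, 19, 17], []), (1, [21, 18, 21, 19, 18], []), (1, [16, 18, 17, 21, 18, 16, 18], []), (3, [17, 19, 17], []),
  (3, [21, 17, 21, 17], []), (3, [20, 21, 16, 18, 21, 20, 16], []), (1, [21, 18, 21, 18], []), (1, [21, 18, 17, 21, 18, 19, 17], []),
  (2, [18, 17], []), (2, [21, 17, 21, 19, 17], []), (2, [17, 19, 18, 16, 19, 21, 17, 21, 19, 16, 22], []), (1, [20, 16, 19, 21, 18, 21, 20, 19, 16, 22], []),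
  (1, [20, 17, 21, 18, 16, 19, 21, 17, 20, 19, 16], []), (1, [16, 18, 21, 19, 18, 16, 18, 19, 21, 18, 16], []), (2, [17, 19, 17], []), (2, [16, 19, 18, 16, 18, 19, 16], []),
  (1, [21, 18, 17, 21, 18, 17], []), (2, [21, 17, 21, 18], []), (1, [20, 21, 16, 18, 21, 20, 16], []), (1, [20, 21, 17, 16, 19, 18, 21, 20, 19, 17, 16], []),
  (0, [3, 2, 3], [2]), (1, [21, 18, 21, 19, 18, 16, 19, 20, 17, 20, 19, 16], []), (1, [21, 18, 16, 19, 17, 21, 17, 19, 16, 18, 22, 23], []), (0, [3, 2, 3], [2]),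
  (3, [16, 19, 18, 16, 18, 19, 16], []), (1, [16, 19, 18, 19, 21, 18, 16, 19, 21, 18, 23], []), (1, [17, 20, 21, 19, 16, 18, 21, 20, 17, 16], []), (1, [16, 18, 21, 18, 16, 18, 19, 21, 18, 22], []),
  (3, [17, 19, 18, 16, 19, 21, 17, 21, 19, 16, 22], []), (1, [20, 21, 16, 18, 17, 21, 20, 17, 16], []), (0, [3, 2, 3], [2]), (0, [3, 2, 3], [2]),
  (1, [16, 18, 21, 19, 18, 16, 19, 21, 16, 18, 22, 23], []), (1, [20, 21, 16, 18, 17, 21, 20, 16, 19, 17], []), (2, [21], []), (1, [16, 18, 17, 21, 19, 16, 18, 17, 21, 19, 16, 22, 23], []),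
  (1, [18, 17, 21, 17, 19, 16, 18, 21, 19, 18, 19, 16, 23], []), (0, [3, 2, 3], [2]), (0, [3, 2, 3], [2]), (0, [3, 2, 3], [2]),
  (1, [21, 18, 16, 18, 21, 18, 16, 18], []), (1, [20, 21, 16, 18, 21, 20, 17, 16, 19, 17], []), (0, [3, 2, 3], [2]), (1, [18, 21, 18, 17, 19, 16, 18, 21, 18, 17, 16, 22], []),
  (2, [16, 18, 21, 18, 16], []), (3, [21], []), (3, [21, 17, 19, 17], []), (1, [16, 19, 17, 21, 18, 16, 19, 17, 21, 18, 16, 23], []),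
  (1, [20, 21, 18, 16, 18, 21, 17, 20, 16], []), (3, [17, 19, 16, 18, 17, 21, 18, 16], []), (3, [16, 18, 17, 21, 18, 17, 16], []), (3, [17, 21, 17], [])]

/-- Some options of a node. -/
def tOpt26x2 : List (ℕ × List ℕ × List ℕ) := [
  (3, [16, 18, 21, 18, 16], []), (2, [16, 18, 21, 19, 18, 16, 19, 16, 18, 22], []), (2, [17, 19, 17, 21], []), (2, [18, 17, 21], []),
  (2, [18, 19, 18, 16, 18, 17, 21, 18, 17, 16], []), (2, [17, 19, 16, 18, 17, 21, 18, 16], []), (2, [21, 18, 21, 18, 16, 18, 21, 18, 16], []), (0, [3, 2, 3], [2]),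
  (3, [16, 18, 21, 18, 17, 16, 19, 17], []), (3, [16, 18, 21, 19, 18, 16, 19, 16, 18, 22], []), (0, [3, 2, 3], [2]), (0, [3, 2, 3], [2]),
  (0, [3, 2, 3], [2]), (0, [3, 2, 3], [2]), (0, [3, 2, 3], [2]), (0, [3, 2, 3], [2]),
  (0, [3, 2, 3], [2]), (0, [3, 2, 3], [2]), (0, [3, 2, 3], [2]), (0, [3, 2, 3], [2]),
  (0, [3, 2, 3], [2]), (0, [3, 2, 3], [2]), (0, [3, 2, 3], [2]), (0, [3, 2, 3], [2]),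
  (4, [], []), (0, [3, 2, 3], [2]), (0, [3, 2, 3], [2]), (0, [3, 2, 3], [2]),
  (0, [3, 2, 3], [2]), (0, [3, 2, 3], [2]), (4, [17, 19, 17, 16, 19, 18, 16, 18, 19, 16], []), (0, [3, 2, 3], [2]),
  (0, [3, 2, 3], [2]), (0, [3, 2, 3], [2]), (0, [3, 2, 3], [2]), (4, [16, 19, 20, 17, 20, 19, 16], []),
  (0, [3, 2, 3], [2]), (0, [3, 2, 3], [2]), (4, [17, 19, 17], []), (0, [3, 2, 3], [2]),
  (4, [17, 20, 21, 19, 16, 18, 21, 20, 17, 16], []), (4, [21, 19, 17, 21, 17, 19, 22], []), (4, [16, 18, 21, 18, 16], []), (4, [17, 19, 21, 17, 21], []),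
  (0, [3, 2, 3], [2]), (4, [16, 19, 18, 16, 18, 19, 16], []), (0, [3, 2, 3], [2]), (0, [3, 2, 3], [2]),
  (4, [17, 19, 16, 18, 17, 21, 18, 17, 16, 19, 17], []), (0, [3, 2, 3], [2]), (0, [3, 2, 3], [2]), (0, [3, 2, 3], [2]),
  (0, [3, 2, 3], [2]), (0, [3, 2, 3], [2]), (5, [], []), (5, [18, 17], []),
  (5, [17, 19, 17], []), (0, [3, 2, 3], [2]), (0, [3, 2, 3], [2]), (0, [3, 2, 3], [2]),
  (4, [16, 18, 21, 20, 19, 17, 20, 19, 18, 16, 22], []), (5, [20, 21, 16, 18, 21, 20, 16], []), (5, [18, 16, 18, 17, 21, 18, 16], []), (5, [21, 18, 21, 19, 18], []),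
  (0, [3, 2, 3], [2]), (0, [3, 2, 3], [2]), (0, [3, 2, 3], [2]), (0, [3, 2, 3], [2]),
  (0, [3, 2, 3], [2]), (0, [3, 2, 3], [2]), (5, [21, 17, 21, 20, 17, 19, 20, 17], []), (0, [3, 2, 3], [2]),
  (5, [18, 16, 19, 21, 17, 21, 16, 19, 17, 16, 22], []), (0, [3, 2, 3], [2]), (0, [3, 2, 3], [2]), (0, [3, 2, 3], [2]),
  (0, [3, 2, 3], [2]), (0, [3, 2, 3], [2]), (0, [3, 2, 3], [2]), (4, [17, 19, 17, 21], [])]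

/-- Some options of a node. -/
def tOpt26x3 : List (ℕ × List ℕ × List ℕ) := [
  (5, [18, 19, 17, 16, 19, 18, 16, 18, 19, 16], []), (5, [20, 18, 16, 19, 17, 20, 19, 17, 16, 22], []), (5, [17, 19, 20, 17, 20, 17], []), (5, [20, 16, 18, 19, 20, 18, 16, 19, 17, 16, 22], []),
  (5, [18, 16, 19, 16, 18, 19, 21, 18, 16, 18, 17, 22], []), (0, [3, 2, 3], [2]), (4, [21, 19, 18, 17, 19, 18, 17, 22], []), (0, [3, 2, 3], [2]),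
  (5, [16, 19, 20, 17, 20, 19, 16], []), (5, [20, 16, 19, 21, 18, 21, 20, 17, 19, 16], []), (5, [17, 19, 21, 17], []), (5, [17, 19, 16, 18, 19, 17, 21, 19, 18, 17, 16, 22], []),
  (5, [16, 18, 21, 16, 18, 21, 19, 16, 18, 17, 16, 23], []), (0, [3, 2, 3], [2]), (0, [3, 2, 3], [2]), (0, [3, 2, 3], [2]),
  (5, [20, 16, 19, 20, 19, 16, 22], []), (5, [21, 16, 18, 17, 19, 21, 19, 18, 17, 16, 22], []), (5, [17, 16, 19, 18, 19, 18, 16], []), (5, [18, 16, 19, 18, 19, 18, 16], []),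
  (5, [16, 18, 19, 18, 16, 19, 17, 16, 22], []), (5, [17, 21, 16, 19, 17, 19, 17, 16], []), (5, [19, 18, 17, 19, 21, 16, 18, 19, 21, 18, 19, 17, 16, 23], []), (4, [17, 19, 16, 18, 17, 21, 18, 16], []),
  (5, [17, 19, 21, 17, 21], []), (5, [17, 16, 19, 16, 18, 19, 18, 16], []), (0, [3, 2, 3], [2]), (5, [20, 18, 16, 19, 20, 19, 17, 16, 22], []),
  (5, [16, 19, 18, 16, 18, 19, 21, 16], []), (5, [17, 19, 21, 16, 18, 21, 18, 16, 18], []), (5, [17, 19, 18, 16, 18, 21, 18, 16], []), (5, [16, 19, 18, 16, 18, 19, 17, 16, 19, 17], []),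
  (0, [3, 2, 3], [2]), (0, [3, 2, 3], [2]), (0, [3, 2, 3], [2]), (5, [18, 21, 16, 18, 17, 19, 21, 19, 18, 16, 22], []),
  (5, [17, 19, 17, 21], []), (5, [18, 16, 19, 16, 18, 19, 21, 18, 16, 22], []), (5, [21, 16, 19, 18, 17, 21, 19, 18, 17, 16], []), (5, [21, 19, 18, 16, 18, 21, 18, 17, 16, 19, 23], []),
  (4, [17, 19, 21, 17], []), (4, [16, 19, 18, 16, 18, 19, 21, 16], []), (5, [20, 17, 16, 19, 20, 17, 19, 16], []), (5, [16, 19, 20, 17, 20, 19, 16, 18, 17], []),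
  (5, [16, 19, 18, 17, 19, 18, 17, 16, 22], []), (5, [16, 19, 18, 19, 21, 18, 16, 19, 21, 18, 23], []), (5, [20, 21, 16, 19, 18, 21, 20, 17, 19, 16, 22], []), (5, [17, 16, 19, 17, 21, 16, 19, 17, 16, 22], []),
  (5, [17, 19, 21, 16, 19, 18, 19, 18, 16], []), (5, [17, 19, 16, 18, 17, 21, 18, 16], []), (5, [20, 16, 19, 21, 18, 21, 20, 19, 16, 22], []), (5, [21, 16, 19, 17, 21, 19, 16, 22], []),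
  (5, [18, 17, 16, 19, 18, 19, 18, 17, 16], []), (5, [16, 19, 21, 17, 19, 16, 22], []), (5, [21, 16, 18, 19, 21, 18, 19, 16, 18, 21, 22, 23], []), (5, [17, 19, 18], []),
  (5, [18, 19, 17], []), (5, [16, 19, 18, 16, 18, 19, 16], []), (5, [17, 19, 17, 16, 19, 18, 16, 18, 19, 16], []), (5, [19, 21, 16, 18, 16, 19, 16, 18, 16], []),
  (5, [21, 18, 19, 16, 18, 21, 18, 16, 19, 17, 22], []), (5, [21, 18, 21, 16, 19, 18, 19, 18, 16, 22], []), (0, [3, 2, 3], [2]), (5, [21, 17, 19, 18, 16, 19, 17, 21, 19, 16], []),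
  (5, [17, 19, 16, 18, 17, 21, 18, 16, 18, 17], []), (5, [21, 18, 21, 19, 17], []), (5, [19, 18, 16, 19, 16, 18, 19, 21, 18, 16, 19, 22], []), (0, [3, 2, 3], [2]),
  (0, [3, 2, 3], [2]), (0, [3, 2, 3], [2]), (5, [20, 21, 18, 21, 18, 19, 20, 17], []), (5, [17, 19, 21, 18], []),
  (5, [18, 16, 18, 16, 19, 21, 18, 21, 16, 18, 16], []), (0, [3, 2, 3], [2]), (0, [3, 2, 3], [2]), (0, [3, 2, 3], [2]),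
  (0, [3, 2, 3], [2])]

/-- A node. -/
def tNode26 : TNode := ⟨[0, 1, 159], [1, 0, 29], 79, tOpt26x0 ++ tOpt26x1 ++ tOpt26x2 ++ tOpt26x3, [27, 33, 34, 35, 36]⟩

/-- Some options of a node. -/
def tOpt27x0 : List (ℕ × List ℕ × List ℕ) := [
  (0, [1], [4]), (0, [0], [4]), (0, [4, 3, 4], [3]), (0, [3], [4]),
  (0, [3, 4, 3], [4, 3, 4]), (0, [4, 3, 4], [3]), (0, [4, 2, 4], [2]), (0, [3, 4, 3], [4, 3, 4]),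
  (0, [4, 3, 4], [3]), (0, [4, 2, 4], [2]), (0, [4, 2, 4], [2]), (0, [3, 4, 3], [4, 3, 4]),
  (0, [3, 4, 3], [4, 3, 4]), (0, [3, 4, 3], [4, 3, 4]), (0, [4, 2, 4], [2]), (0, [4, 2, 4], [2]),
  (0, [3, 4, 3], [4, 3, 4]), (0, [3, 4, 3], [4, 3, 4]), (0, [3, 4, 3], [4, 3, 4]), (0, [4, 2, 4], [2]),
  (0, [3, 4, 3], [4, 3, 4]), (0, [3, 4, 3], [4, 3, 4]), (0, [3, 4, 3], [4, 3, 4]), (0, [3, 4, 3], [4, 3, 4]),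
  (0, [4, 2, 4], [2]), (0, [3, 4, 3], [4, 3, 4]), (0, [3, 4, 3], [4, 3, 4]), (0, [3, 4, 3], [4, 3, 4]),
  (0, [3, 4, 3], [4, 3, 4]), (0, [2], [4]), (0, [3, 4, 3], [4, 3, 4]), (0, [3, 4, 3], [4, 3, 4]),
  (0, [3, 4, 3], [4, 3, 4]), (0, [3, 4, 3], [4, 3, 4]), (0, [3, 4, 3], [4, 3, 4]), (0, [4, 3, 4], [2, 3, 2]),
  (0, [3, 4, 3], [4, 3, 4]), (0, [3, 4, 3], [4, 3, 4]), (0, [3, 4, 3], [4, 3, 4]), (0, [4, 2, 4], [2]),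
  (0, [0, 3, 4, 3, 1], [2, 3, 4, 3, 2]), (0, [4, 3, 2, 3, 4], [3, 2, 3]), (0, [3, 4, 3], [4, 3, 4]), (0, [3, 4, 3], [4, 3, 4]),
  (0, [3, 4, 3], [4, 3, 4]), (0, [4, 2, 4], [2]), (0, [4, 3, 2, 3, 4], [3, 2, 3]), (0, [3, 4, 3], [4, 3, 4]),
  (0, [0, 3, 4, 3, 2, 1], [2, 3, 4, 3]), (0, [3, 4, 3], [4, 3, 4]), (0, [3, 4, 3], [4, 3, 4]), (0, [4, 2, 4], [2]),
  (0, [4, 2, 4], [2]), (0, [4, 2, 4], [2]), (1, [], []), (2, [], []),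
  (1, [18, 19, 18], []), (0, [3, 4, 3], [4, 3, 4]), (0, [4, 2, 4], [2]), (0, [4, 2, 4], [2]),
  (0, [4, 2, 4], [2]), (2, [16, 19, 20, 18, 16, 18, 19, 20, 16], []), (0, [3, 4, 3], [4, 3, 4]), (2, [18, 16, 19, 18, 19, 18, 16, 23], []),
  (1, [18, 16, 19, 18, 19, 18, 16, 23], []), (0, [4, 2, 4], [2]), (0, [4, 2, 4], [2]), (0, [4, 2, 4], [2]),
  (0, [4, 2, 4], [2]), (0, [4, 2, 4], [2]), (0, [2, 3, 4, 0, 3, 2], [3, 1, 4, 3]), (0, [4, 0, 3, 2, 3, 4, 1], [0, 3, 0, 2, 3]),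
  (0, [1, 2, 3, 4, 0], [3, 4, 3, 2, 3]), (0, [4, 2, 4], [2]), (0, [4, 2, 4], [2]), (0, [4, 2, 4], [2]),
  (0, [2, 3, 4, 3, 2, 3], [3, 0, 1, 4, 1, 1]), (0, [4, 3, 2, 3, 0], [3, 2, 3, 1, 4]), (0, [3, 3, 0, 2, 3, 4], [3, 4, 1, 3, 2, 3]), (0, [4, 2, 4], [2])]

/-- Some options of a node. -/
def tOpt27x1 : List (ℕ × List ℕ × List ℕ) := [
  (0, [4, 2, 4], [2]), (0, [3, 2, 3], [4]), (0, [4, 2, 4], [2]), (0, [4, 2, 4], [2]),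
  (0, [4, 2, 4], [2]), (0, [4, 2, 4], [2]), (0, [4, 3, 4], [2, 3, 2]), (1, [16, 19, 20, 18, 16, 18, 19, 20, 16], []),
  (0, [4, 2, 4], [2]), (0, [4, 3, 4], [2, 3, 2]), (0, [4, 2, 4], [2]), (2, [18, 19, 18], []),
  (0, [4, 3, 4], [2, 3, 2]), (0, [4, 2, 4], [2]), (0, [4, 2, 4], [2]), (0, [4, 2, 4], [2]),
  (0, [4, 3, 2, 3, 4], [3, 2, 3]), (0, [4, 2, 4], [2]), (0, [4, 2, 4], [2]), (0, [4, 2, 4], [2]),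
  (0, [4, 3, 2, 3, 4], [3, 2, 3]), (0, [4, 3, 2, 3, 4], [3, 2, 3]), (0, [4, 2, 4], [2]), (0, [4, 2, 4], [2]),
  (0, [4, 3, 2, 3, 4], [3, 2, 3]), (0, [4, 2, 4], [2]), (0, [4, 2, 4], [2]), (0, [4, 2, 4], [2]),
  (0, [4, 2, 4], [2]), (0, [4, 2, 4], [2]), (0, [4, 2, 4], [2]), (0, [4, 2, 4], [2]),
  (0, [4, 2, 4], [2]), (0, [4, 2, 4], [2]), (0, [4, 2, 4], [2]), (0, [4, 2, 4], [2]),
  (0, [4, 2, 4], [2]), (0, [4, 2, 4], [2]), (0, [4, 2, 4], [2]), (0, [4, 2, 4], [2]),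
  (0, [4, 2, 4], [2]), (0, [4, 2, 4], [2]), (0, [4, 2, 4], [2]), (0, [4, 2, 4], [2]),
  (0, [4, 2, 4], [2]), (0, [4, 2, 4], [2]), (0, [4, 2, 4], [2]), (0, [4, 2, 4], [2]),
  (0, [4, 3, 4], [3]), (0, [4, 2, 4], [2]), (0, [4, 2, 4], [2]), (0, [4, 3, 4], [2, 3, 2]),
  (0, [4, 2, 4], [2]), (0, [4, 2, 4], [2]), (0, [4, 2, 4], [2]), (0, [4, 2, 4], [2]),
  (0, [4, 2, 4], [2]), (0, [4, 2, 4], [2]), (0, [4, 3, 4], [3]), (0, [4, 3, 4], [2, 3, 2]),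
  (0, [4, 2, 4], [2]), (0, [4, 2, 4], [2]), (0, [4, 2, 4], [2]), (0, [4, 2, 4], [2]),
  (0, [4, 2, 4], [2]), (0, [4, 3, 4], [3]), (0, [4, 3, 4], [3]), (0, [4, 3, 2, 3, 4], [3, 2, 3]),
  (0, [4, 2, 4], [2]), (0, [4, 2, 4], [2]), (0, [4, 3, 2, 3, 4], [3, 2, 3]), (0, [4, 2, 4], [2]),
  (0, [4, 2, 4], [2]), (0, [4, 2, 4], [2]), (0, [4, 2, 4], [2]), (0, [4, 2, 4], [2]),
  (0, [4, 2, 4], [2]), (0, [4, 2, 4], [2]), (0, [4, 2, 4], [2]), (0, [4, 2, 4], [2])]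

/-- Some options of a node. -/
def tOpt27x2 : List (ℕ × List ℕ × List ℕ) := [
  (0, [4, 2, 4], [2]), (0, [4, 2, 4], [2]), (0, [4, 2, 4], [2]), (0, [4, 2, 4], [2]),
  (0, [4, 2, 4], [2]), (0, [4, 2, 4], [2]), (0, [4, 2, 4], [2]), (0, [4, 3, 4], [3]),
  (0, [4, 2, 4], [2]), (0, [4, 2, 4], [2]), (0, [4, 3, 4], [3]), (0, [4, 3, 4], [3]),
  (0, [4, 3, 4], [3]), (3, [], []), (0, [4, 3, 2, 3, 4], [3, 2, 3]), (0, [4, 3, 2, 3, 4], [3, 2, 3]),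
  (0, [4, 3, 2, 3, 4], [3, 2, 3]), (0, [4, 3, 2, 3, 4], [3, 2, 3]), (0, [4, 3, 2, 3, 4], [3, 2, 3]), (4, [], []),
  (0, [4, 3, 2, 3, 4], [3, 2, 3]), (4, [16, 19, 20, 18, 16, 18, 19, 20, 16], []), (0, [4, 3, 2, 3, 4], [3, 2, 3]), (4, [18, 19, 18], []),
  (0, [4, 2, 4], [2]), (3, [18, 16, 19, 18, 19, 18, 16, 23], []), (3, [18, 19, 18], []), (0, [4, 3, 2, 3, 4], [3, 2, 3]),
  (3, [16, 19, 20, 18, 16, 18, 19, 20, 16], []), (0, [4, 3, 2, 3, 4], [3, 2, 3]), (0, [4, 2, 4], [2]), (4, [18, 16, 19, 18, 19, 18, 16, 23], []),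
  (0, [4, 3, 2, 3, 4], [3, 2, 3]), (0, [4, 3, 2, 3, 4], [3, 2, 3]), (0, [4, 3, 2, 3, 4], [3, 2, 3]), (0, [4, 2, 4], [2]),
  (0, [4, 3, 2, 3, 4], [3, 2, 3]), (0, [4, 3, 2, 3, 4], [3, 2, 3]), (0, [4, 2, 4], [2]), (0, [4, 3, 2, 3, 4], [3, 2, 3]),
  (0, [4, 2, 4], [2]), (0, [4, 2, 4], [2]), (0, [4, 2, 4], [2]), (0, [4, 2, 4], [2]),
  (0, [4, 3, 2, 3, 4], [3, 2, 3]), (0, [4, 2, 4], [2]), (0, [4, 3, 4], [3]), (0, [4, 3, 2, 3, 4], [3, 2, 3]),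
  (0, [4, 2, 4], [2]), (0, [4, 3, 4], [3]), (0, [4, 3, 2, 3, 4], [3, 2, 3]), (0, [4, 3, 2, 3, 4], [3, 2, 3]),
  (0, [4, 3, 4], [3]), (0, [4, 3, 4], [3]), (0, [4, 2, 4], [2]), (0, [4, 2, 4], [2]),
  (0, [4, 2, 4], [2]), (0, [4, 3, 2, 3, 4], [3, 2, 3]), (0, [4, 3, 2, 3, 4], [3, 2, 3]), (0, [4, 3, 2, 3, 4], [3, 2, 3]),
  (0, [4, 2, 4], [2]), (0, [4, 2, 4], [2]), (0, [4, 2, 4], [2]), (0, [4, 2, 4], [2]),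
  (0, [4, 3, 2, 3, 4], [3, 2, 3]), (0, [4, 3, 4], [3]), (0, [4, 3, 2, 3, 4], [3, 2, 3]), (0, [4, 3, 2, 3, 4], [3, 2, 3]),
  (0, [4, 3, 2, 3, 4], [3, 2, 3]), (0, [4, 3, 2, 3, 4], [3, 2, 3]), (0, [4, 2, 4], [2]), (0, [4, 3, 4], [3]),
  (0, [4, 2, 4], [2]), (0, [4, 3, 2, 3, 4], [3, 2, 3]), (0, [4, 3, 2, 3, 4], [3, 2, 3]), (0, [4, 3, 2, 3, 4], [3, 2, 3]),
  (0, [4, 3, 4], [3]), (0, [4, 3, 2, 3, 4], [3, 2, 3]), (0, [4, 3, 4], [3]), (0, [4, 2, 4], [2])]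

/-- Some options of a node. -/
def tOpt27x3 : List (ℕ × List ℕ × List ℕ) := [
  (0, [4, 2, 4], [2]), (0, [4, 2, 4], [2]), (0, [4, 2, 4], [2]), (0, [4, 2, 4], [2]),
  (0, [4, 2, 4], [2]), (0, [4, 3, 4], [3]), (0, [4, 2, 4], [2]), (0, [4, 3, 4], [3]),
  (0, [4, 2, 4], [2]), (0, [4, 2, 4], [2]), (0, [4, 2, 4], [2]), (0, [4, 2, 4], [2]),
  (0, [4, 2, 4], [2]), (0, [4, 3, 2, 3, 4], [3, 2, 3]), (0, [4, 3, 4], [3]), (0, [4, 3, 2, 3, 4], [3, 2, 3]),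
  (0, [4, 2, 4], [2]), (0, [4, 2, 4], [2]), (0, [4, 2, 4], [2]), (0, [4, 2, 4], [2]),
  (0, [4, 2, 4], [2]), (0, [4, 2, 4], [2]), (0, [4, 2, 4], [2]), (0, [4, 2, 4], [2]),
  (0, [4, 2, 4], [2]), (0, [4, 2, 4], [2]), (0, [4, 3, 4], [3]), (0, [4, 2, 4], [2]),
  (0, [4, 2, 4], [2]), (0, [4, 2, 4], [2]), (0, [4, 2, 4], [2]), (0, [4, 2, 4], [2]),
  (0, [4, 3, 2, 3, 4], [3, 2, 3]), (0, [4, 3, 2, 3, 4], [3, 2, 3]), (0, [4, 3, 2, 3, 4], [3, 2, 3]), (0, [4, 2, 4], [2]),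
  (0, [4, 2, 4], [2]), (0, [4, 2, 4], [2]), (0, [4, 2, 4], [2]), (0, [4, 2, 4], [2]),
  (0, [4, 2, 4], [2]), (0, [4, 2, 4], [2]), (0, [4, 2, 4], [2]), (0, [4, 2, 4], [2]),
  (0, [4, 2, 4], [2]), (0, [4, 2, 4], [2]), (0, [4, 2, 4], [2]), (0, [4, 2, 4], [2]),
  (0, [4, 2, 4], [2]), (0, [4, 2, 4], [2]), (0, [4, 2, 4], [2]), (0, [4, 2, 4], [2]),
  (0, [4, 2, 4], [2]), (0, [4, 2, 4], [2]), (0, [4, 2, 4], [2]), (0, [4, 2, 4], [2]),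
  (0, [4, 2, 4], [2]), (0, [4, 2, 4], [2]), (0, [4, 2, 4], [2]), (0, [4, 2, 4], [2]),
  (0, [4, 2, 4], [2]), (0, [4, 2, 4], [2]), (0, [4, 3, 4], [3]), (0, [4, 2, 4], [2]),
  (0, [4, 2, 4], [2]), (0, [4, 2, 4], [2]), (0, [4, 2, 4], [2]), (0, [4, 3, 2, 3, 4], [3, 2, 3]),
  (0, [4, 3, 4], [3]), (0, [4, 3, 2, 3, 4], [3, 2, 3]), (0, [4, 2, 4], [2]), (0, [4, 2, 4], [2]),
  (0, [4, 2, 4], [2]), (0, [4, 3, 4], [3]), (0, [4, 3, 2, 3, 4], [3, 2, 3]), (0, [4, 3, 4], [3]),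
  (0, [4, 3, 2, 3, 4], [3, 2, 3])]

/-- A node. -/
def tNode27 : TNode := ⟨[0, 1, 159, 79], [1, 0, 29, 3], 138, tOpt27x0 ++ tOpt27x1 ++ tOpt27x2 ++ tOpt27x3, [28, 29, 31, 32]⟩

/-- Some options of a node. -/
def tOpt28x0 : List (ℕ × List ℕ × List ℕ) := [
  (0, [1], [5]), (0, [0], [5]), (0, [5, 3, 5], [2, 3, 2]), (0, [3], [5]),
  (0, [5, 3, 5], [2, 3, 2]), (0, [5, 3, 5], [2, 3, 2]), (0, [5, 2, 5], [2]), (0, [5, 3, 5], [2, 3, 2]),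
  (0, [5, 3, 5], [2, 3, 2]), (0, [5, 2, 5], [2]), (0, [5, 2, 5], [2]), (0, [5, 3, 5], [2, 3, 2]),
  (0, [5, 3, 5], [2, 3, 2]), (0, [5, 3, 5], [2, 3, 2]), (0, [5, 2, 5], [2]), (0, [5, 2, 5], [2]),
  (0, [5, 3, 5], [2, 3, 2]), (0, [5, 3, 5], [2, 3, 2]), (0, [5, 3, 5], [2, 3, 2]), (0, [5, 2, 5], [2]),
  (0, [5, 3, 5], [2, 3, 2]), (0, [5, 3, 5], [2, 3, 2]), (0, [5, 3, 5], [2, 3, 2]), (0, [5, 3, 5], [2, 3, 2]),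
  (0, [5, 2, 5], [2]), (0, [5, 3, 5], [2, 3, 2]), (0, [5, 3, 5], [2, 3, 2]), (0, [5, 3, 5], [2, 3, 2]),
  (0, [5, 3, 5], [2, 3, 2]), (0, [2], [5]), (0, [5, 3, 5], [2, 3, 2]), (0, [5, 3, 5], [2, 3, 2]),
  (0, [5, 3, 5], [2, 3, 2]), (0, [5, 3, 5], [2, 3, 2]), (0, [5, 3, 5], [2, 3, 2]), (0, [1, 5, 3, 4, 3], [0, 3, 4, 3, 2]),
  (0, [5, 3, 5], [2, 3, 2]), (0, [5, 3, 5], [2, 3, 2]), (0, [5, 3, 5], [2, 3, 2]), (0, [5, 2, 5], [2]),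
  (0, [5, 3, 5], [2, 3, 2]), (0, [5, 3, 5], [2, 3, 2]), (0, [5, 3, 5], [2, 3, 2]), (0, [5, 3, 5], [2, 3, 2]),
  (0, [5, 3, 5], [2, 3, 2]), (0, [5, 2, 5], [2]), (0, [5, 3, 5], [2, 3, 2]), (0, [5, 3, 5], [2, 3, 2]),
  (0, [5, 3, 5], [2, 3, 2]), (0, [5, 3, 5], [2, 3, 2]), (0, [5, 3, 5], [2, 3, 2]), (0, [5, 2, 5], [2]),
  (0, [5, 2, 5], [2]), (0, [5, 2, 5], [2]), (0, [4], [5]), (0, [5, 3, 5], [2, 3, 2]),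
  (0, [5, 3, 5], [2, 3, 2]), (0, [5, 3, 5], [2, 3, 2]), (0, [5, 2, 5], [2]), (0, [5, 2, 5], [2]),
  (0, [5, 2, 5], [2]), (0, [5, 3, 5], [2, 3, 2]), (0, [5, 3, 5], [2, 3, 2]), (0, [5, 3, 5], [2, 3, 2]),
  (0, [5, 3, 5], [2, 3, 2]), (0, [5, 2, 5], [2]), (0, [5, 2, 5], [2]), (0, [5, 2, 5], [2]),
  (0, [5, 2, 5], [2]), (0, [5, 2, 5], [2]), (0, [5, 3, 5], [2, 3, 2]), (0, [5, 3, 5], [2, 3, 2]),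
  (0, [5, 3, 5], [2, 3, 2]), (0, [5, 2, 5], [2]), (0, [5, 2, 5], [2]), (0, [5, 2, 5], [2]),
  (0, [5, 3, 5], [2, 3, 2]), (0, [5, 3, 5], [2, 3, 2]), (0, [5, 3, 5], [2, 3, 2]), (0, [5, 2, 5], [2])]

/-- Some options of a node. -/
def tOpt28x1 : List (ℕ × List ℕ × List ℕ) := [
  (0, [5, 2, 5], [2]), (0, [3, 2, 3], [5]), (0, [5, 2, 5], [2]), (0, [5, 2, 5], [2]),
  (0, [5, 2, 5], [2]), (0, [5, 2, 5], [2]), (0, [1, 5], [2, 0]), (0, [5, 3, 5], [2, 3, 2]),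
  (0, [5, 2, 5], [2]), (0, [5, 4, 5], [4]), (0, [5, 2, 5], [2]), (0, [5, 3, 5], [2, 3, 2]),
  (0, [4, 3, 2, 3, 4], [3, 5, 3]), (0, [5, 2, 5], [2]), (0, [5, 2, 5], [2]), (0, [5, 2, 5], [2]),
  (0, [5, 3, 5], [2, 3, 2]), (0, [5, 2, 5], [2]), (0, [5, 2, 5], [2]), (0, [5, 2, 5], [2]),
  (0, [5, 3, 5], [2, 3, 2]), (0, [5, 3, 5], [2, 3, 2]), (0, [5, 2, 5], [2]), (0, [5, 2, 5], [2]),
  (0, [5, 3, 5], [2, 3, 2]), (0, [5, 2, 5], [2]), (0, [5, 2, 5], [2]), (0, [5, 2, 5], [2]),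
  (0, [5, 2, 5], [2]), (0, [5, 2, 5], [2]), (0, [5, 2, 5], [2]), (0, [5, 2, 5], [2]),
  (0, [5, 2, 5], [2]), (0, [5, 2, 5], [2]), (0, [5, 2, 5], [2]), (0, [5, 2, 5], [2]),
  (0, [5, 2, 5], [2]), (0, [5, 2, 5], [2]), (0, [5, 2, 5], [2]), (0, [5, 2, 5], [2]),
  (0, [5, 2, 5], [2]), (0, [5, 2, 5], [2]), (0, [5, 2, 5], [2]), (0, [5, 2, 5], [2]),
  (0, [5, 2, 5], [2]), (0, [5, 2, 5], [2]), (0, [5, 2, 5], [2]), (0, [5, 2, 5], [2]),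
  (0, [5, 3, 5], [2, 3, 2]), (0, [5, 2, 5], [2]), (0, [5, 2, 5], [2]), (0, [5, 4, 5], [4]),
  (0, [5, 2, 5], [2]), (0, [5, 2, 5], [2]), (0, [5, 2, 5], [2]), (0, [5, 2, 5], [2]),
  (0, [5, 2, 5], [2]), (0, [5, 2, 5], [2]), (0, [5, 3, 5], [2, 3, 2]), (0, [5, 4, 5], [4]),
  (0, [5, 2, 5], [2]), (0, [5, 2, 5], [2]), (0, [5, 2, 5], [2]), (0, [5, 2, 5], [2]),
  (0, [5, 2, 5], [2]), (0, [5, 3, 5], [2, 3, 2]), (0, [5, 3, 5], [2, 3, 2]), (0, [5, 3, 5], [2, 3, 2]),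
  (0, [5, 2, 5], [2]), (0, [5, 2, 5], [2]), (0, [5, 3, 5], [2, 3, 2]), (0, [5, 2, 5], [2]),
  (0, [5, 2, 5], [2]), (0, [5, 2, 5], [2]), (0, [5, 2, 5], [2]), (0, [5, 2, 5], [2]),
  (0, [5, 2, 5], [2]), (0, [5, 2, 5], [2]), (0, [5, 2, 5], [2]), (0, [5, 2, 5], [2])]

/-- Some options of a node. -/
def tOpt28x2 : List (ℕ × List ℕ × List ℕ) := [
  (0, [5, 2, 5], [2]), (0, [5, 2, 5], [2]), (0, [5, 2, 5], [2]), (0, [5, 2, 5], [2]),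
  (0, [5, 2, 5], [2]), (0, [5, 2, 5], [2]), (0, [5, 2, 5], [2]), (0, [5, 3, 5], [2, 3, 2]),
  (0, [5, 2, 5], [2]), (0, [5, 2, 5], [2]), (0, [5, 3, 5], [2, 3, 2]), (0, [5, 3, 5], [2, 3, 2]),
  (0, [5, 3, 5], [2, 3, 2]), (0, [5, 3, 5], [2, 3, 2]), (0, [5, 3, 5], [2, 3, 2]), (0, [5, 3, 5], [2, 3, 2]),
  (0, [5, 3, 5], [2, 3, 2]), (0, [5, 3, 5], [2, 3, 2]), (0, [5, 3, 5], [2, 3, 2]), (0, [5, 3, 5], [2, 3, 2]),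
  (0, [5, 3, 5], [2, 3, 2]), (0, [5, 3, 5], [2, 3, 2]), (0, [5, 3, 5], [2, 3, 2]), (0, [5, 3, 5], [2, 3, 2]),
  (0, [5, 2, 5], [2]), (0, [5, 3, 5], [2, 3, 2]), (0, [5, 3, 5], [2, 3, 2]), (0, [5, 3, 5], [2, 3, 2]),
  (0, [5, 3, 5], [2, 3, 2]), (0, [5, 3, 5], [2, 3, 2]), (0, [5, 2, 5], [2]), (0, [5, 3, 5], [2, 3, 2]),
  (0, [5, 3, 5], [2, 3, 2]), (0, [5, 3, 5], [2, 3, 2]), (0, [5, 3, 5], [2, 3, 2]), (0, [5, 2, 5], [2]),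
  (0, [5, 3, 5], [2, 3, 2]), (0, [5, 3, 5], [2, 3, 2]), (0, [5, 2, 5], [2]), (0, [5, 3, 5], [2, 3, 2]),
  (0, [5, 2, 5], [2]), (0, [5, 2, 5], [2]), (0, [5, 2, 5], [2]), (0, [5, 2, 5], [2]),
  (0, [5, 3, 5], [2, 3, 2]), (0, [5, 2, 5], [2]), (0, [5, 3, 5], [2, 3, 2]), (0, [5, 3, 5], [2, 3, 2]),
  (0, [5, 2, 5], [2]), (0, [5, 3, 5], [2, 3, 2]), (0, [5, 3, 5], [2, 3, 2]), (0, [5, 3, 5], [2, 3, 2]),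
  (0, [5, 3, 5], [2, 3, 2]), (0, [5, 3, 5], [2, 3, 2]), (0, [5, 2, 5], [2]), (0, [5, 2, 5], [2]),
  (0, [5, 2, 5], [2]), (0, [5, 3, 5], [2, 3, 2]), (0, [5, 3, 5], [2, 3, 2]), (0, [5, 3, 5], [2, 3, 2]),
  (0, [5, 2, 5], [2]), (0, [5, 2, 5], [2]), (0, [5, 2, 5], [2]), (0, [5, 2, 5], [2]),
  (0, [5, 3, 5], [2, 3, 2]), (0, [5, 3, 5], [2, 3, 2]), (0, [5, 3, 5], [2, 3, 2]), (0, [5, 3, 5], [2, 3, 2]),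
  (0, [5, 3, 5], [2, 3, 2]), (0, [5, 3, 5], [2, 3, 2]), (0, [5, 2, 5], [2]), (0, [5, 3, 5], [2, 3, 2]),
  (0, [5, 2, 5], [2]), (0, [5, 3, 5], [2, 3, 2]), (0, [5, 3, 5], [2, 3, 2]), (0, [5, 3, 5], [2, 3, 2]),
  (0, [5, 3, 5], [2, 3, 2]), (0, [5, 3, 5], [2, 3, 2]), (0, [5, 3, 5], [2, 3, 2]), (0, [5, 2, 5], [2])]

/-- Some options of a node. -/
def tOpt28x3 : List (ℕ × List ℕ × List ℕ) := [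
  (0, [5, 2, 5], [2]), (0, [5, 2, 5], [2]), (0, [5, 2, 5], [2]), (0, [5, 2, 5], [2]),
  (0, [5, 2, 5], [2]), (0, [5, 3, 5], [2, 3, 2]), (0, [5, 2, 5], [2]), (0, [5, 3, 5], [2, 3, 2]),
  (0, [5, 2, 5], [2]), (0, [5, 2, 5], [2]), (0, [5, 2, 5], [2]), (0, [5, 2, 5], [2]),
  (0, [5, 2, 5], [2]), (0, [5, 3, 5], [2, 3, 2]), (0, [5, 3, 5], [2, 3, 2]), (0, [5, 3, 5], [2, 3, 2]),
  (0, [5, 2, 5], [2]), (0, [5, 2, 5], [2]), (0, [5, 2, 5], [2]), (0, [5, 2, 5], [2]),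
  (0, [5, 2, 5], [2]), (0, [5, 2, 5], [2]), (0, [5, 2, 5], [2]), (0, [5, 2, 5], [2]),
  (0, [5, 2, 5], [2]), (0, [5, 2, 5], [2]), (0, [5, 3, 5], [2, 3, 2]), (0, [5, 2, 5], [2]),
  (0, [5, 2, 5], [2]), (0, [5, 2, 5], [2]), (0, [5, 2, 5], [2]), (0, [5, 2, 5], [2]),
  (0, [5, 3, 5], [2, 3, 2]), (0, [5, 3, 5], [2, 3, 2]), (0, [5, 3, 5], [2, 3, 2]), (0, [5, 2, 5], [2]),
  (0, [5, 2, 5], [2]), (0, [5, 2, 5], [2]), (0, [5, 2, 5], [2]), (0, [5, 2, 5], [2]),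
  (0, [5, 2, 5], [2]), (0, [5, 2, 5], [2]), (0, [5, 2, 5], [2]), (0, [5, 2, 5], [2]),
  (0, [5, 2, 5], [2]), (0, [5, 2, 5], [2]), (0, [5, 2, 5], [2]), (0, [5, 2, 5], [2]),
  (0, [5, 2, 5], [2]), (0, [5, 2, 5], [2]), (0, [5, 2, 5], [2]), (0, [5, 2, 5], [2]),
  (0, [5, 2, 5], [2]), (0, [5, 2, 5], [2]), (0, [5, 2, 5], [2]), (0, [5, 2, 5], [2]),
  (0, [5, 2, 5], [2]), (0, [5, 2, 5], [2]), (0, [5, 2, 5], [2]), (0, [5, 2, 5], [2]),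
  (0, [5, 2, 5], [2]), (0, [5, 2, 5], [2]), (0, [5, 3, 5], [2, 3, 2]), (0, [5, 2, 5], [2]),
  (0, [5, 2, 5], [2]), (0, [5, 2, 5], [2]), (0, [5, 2, 5], [2]), (0, [5, 3, 5], [2, 3, 2]),
  (0, [5, 3, 5], [2, 3, 2]), (0, [5, 3, 5], [2, 3, 2]), (0, [5, 2, 5], [2]), (0, [5, 2, 5], [2]),
  (0, [5, 2, 5], [2]), (0, [5, 3, 5], [2, 3, 2]), (0, [5, 3, 5], [2, 3, 2]), (0, [5, 3, 5], [2, 3, 2]),
  (0, [5, 3, 5], [2, 3, 2])]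

/-- A node. -/
def tNode28 : TNode := ⟨[0, 1, 159, 79, 138], [1, 0, 29, 3, 54], 158, tOpt28x0 ++ tOpt28x1 ++ tOpt28x2 ++ tOpt28x3, []⟩

/-- Some options of a node. -/
def tOpt29x0 : List (ℕ × List ℕ × List ℕ) := [
  (0, [1], [5]), (0, [0], [5]), (0, [5, 2, 5], [2]), (0, [3], [5]),
  (0, [5, 2, 5], [2]), (0, [5, 2, 5], [2]), (0, [5, 2, 5], [3, 2, 3]), (0, [5, 2, 5], [2]),
  (0, [5, 2, 5], [2]), (0, [5, 4, 5], [3, 4, 3]), (0, [4, 3, 2, 3, 4], [5, 2, 5]), (0, [5, 2, 5], [2]),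
  (0, [5, 2, 5], [2]), (0, [5, 2, 5], [2]), (0, [4, 3, 2, 3, 4], [5, 2, 5]), (0, [5, 4, 5], [3, 4, 3]),
  (0, [5, 2, 5], [2]), (0, [5, 2, 5], [2]), (0, [5, 2, 5], [2]), (0, [5, 2, 5], [3, 2, 3]),
  (0, [5, 2, 5], [2]), (0, [5, 2, 5], [2]), (0, [5, 2, 5], [2]), (0, [5, 2, 5], [2]),
  (0, [5, 2, 5], [3, 2, 3]), (0, [5, 2, 5], [2]), (0, [5, 2, 5], [2]), (0, [5, 2, 5], [2]),
  (0, [5, 2, 5], [2]), (0, [2], [5]), (0, [5, 2, 5], [2]), (0, [5, 2, 5], [2]),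
  (0, [5, 2, 5], [2]), (0, [5, 2, 5], [2]), (0, [5, 2, 5], [2]), (0, [5, 2, 5], [2]),
  (0, [5, 2, 5], [2]), (0, [5, 2, 5], [2]), (0, [5, 2, 5], [2]), (0, [5, 3, 5], [3]),
  (0, [5, 2, 5], [2]), (0, [5, 2, 5], [2]), (0, [5, 2, 5], [2]), (0, [5, 2, 5], [2]),
  (0, [5, 2, 5], [2]), (0, [5, 3, 5], [3]), (0, [5, 2, 5], [2]), (0, [5, 2, 5], [2]),
  (0, [5, 2, 5], [2]), (0, [5, 2, 5], [2]), (0, [5, 2, 5], [2]), (0, [5, 3, 5], [3]),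
  (0, [5, 3, 5], [3]), (0, [5, 3, 5], [3]), (0, [5, 2, 5], [2]), (0, [4], [5]),
  (0, [5, 2, 5], [2]), (0, [5, 2, 5], [2]), (0, [5, 3, 5], [3]), (0, [5, 3, 5], [3]),
  (0, [5, 3, 5], [3]), (0, [5, 2, 5], [2]), (0, [5, 2, 5], [2]), (0, [5, 2, 5], [2]),
  (0, [5, 2, 5], [2]), (0, [5, 3, 5], [3]), (0, [5, 3, 5], [3]), (0, [5, 3, 5], [3]),
  (0, [5, 3, 5], [3]), (0, [5, 3, 5], [3]), (0, [5, 2, 5], [2]), (0, [5, 2, 5], [2]),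
  (0, [5, 2, 5], [2]), (0, [5, 3, 5], [3]), (0, [5, 3, 5], [3]), (0, [5, 3, 5], [3]),
  (0, [5, 2, 5], [2]), (0, [5, 2, 5], [2]), (0, [5, 2, 5], [2]), (0, [5, 3, 5], [3])]

/-- Some options of a node. -/
def tOpt29x1 : List (ℕ × List ℕ × List ℕ) := [
  (0, [5, 3, 5], [3]), (0, [3, 2, 3], [5]), (0, [5, 3, 5], [3]), (0, [5, 3, 5], [3]),
  (0, [5, 3, 5], [3]), (0, [5, 3, 5], [3]), (0, [5, 2, 5], [2]), (0, [5, 2, 5], [2]),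
  (0, [5, 3, 5], [3]), (0, [5, 2, 5], [2]), (0, [5, 3, 5], [3]), (0, [5, 2, 5], [2]),
  (0, [5, 2, 5], [2]), (0, [5, 3, 5], [3]), (0, [5, 3, 5], [3]), (0, [5, 3, 5], [3]),
  (0, [5, 2, 5], [2]), (0, [5, 3, 5], [3]), (0, [5, 3, 5], [3]), (0, [5, 3, 5], [3]),
  (0, [5, 2, 5], [2]), (0, [5, 2, 5], [2]), (0, [5, 3, 5], [3]), (0, [5, 3, 5], [3]),
  (0, [5, 2, 5], [2]), (0, [5, 3, 5], [3]), (0, [5, 3, 5], [3]), (0, [5, 3, 5], [3]),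
  (0, [5, 3, 5], [3]), (0, [5, 4, 5], [3, 4, 3]), (0, [5, 3, 5], [3]), (0, [5, 3, 5], [3]),
  (0, [5, 3, 5], [3]), (0, [5, 3, 5], [3]), (0, [5, 4, 5], [3, 4, 3]), (0, [5, 2, 5], [3, 2, 3]),
  (0, [5, 3, 5], [3]), (0, [5, 3, 5], [3]), (0, [5, 3, 5], [3]), (0, [5, 4, 5], [3, 4, 3]),
  (0, [5, 2, 5], [3, 2, 3]), (0, [5, 2, 5], [3, 2, 3]), (0, [5, 3, 5], [3]), (0, [5, 3, 5], [3]),
  (0, [5, 2, 5], [3, 2, 3]), (0, [5, 3, 5], [3]), (0, [5, 4, 5], [3, 4, 3]), (0, [5, 4, 5], [3, 4, 3]),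
  (0, [5, 2, 5], [2]), (0, [5, 4, 5], [3, 4, 3]), (0, [5, 4, 5], [3, 4, 3]), (0, [5, 2, 5], [2]),
  (0, [5, 3, 5], [3]), (0, [4, 3, 2, 3, 4], [5, 2, 5]), (0, [5, 4, 5], [3, 4, 3]), (0, [5, 4, 5], [3, 4, 3]),
  (0, [5, 3, 5], [3]), (0, [5, 4, 5], [3, 4, 3]), (0, [5, 2, 5], [2]), (0, [5, 2, 5], [2]),
  (1, [], []), (0, [5, 4, 5], [3, 4, 3]), (0, [5, 4, 5], [3, 4, 3]), (0, [5, 4, 5], [3, 4, 3]),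
  (0, [5, 4, 5], [3, 4, 3]), (0, [5, 2, 5], [2]), (0, [5, 2, 5], [2]), (0, [5, 2, 5], [2]),
  (0, [5, 4, 5], [3, 4, 3]), (0, [5, 4, 5], [3, 4, 3]), (0, [5, 2, 5], [2]), (0, [5, 4, 5], [3, 4, 3]),
  (0, [5, 4, 5], [3, 4, 3]), (0, [5, 4, 5], [3, 4, 3]), (0, [5, 4, 5], [3, 4, 3]), (0, [4, 3, 4], [5]),
  (0, [4, 3, 2, 3, 4], [5, 2, 5]), (0, [5, 4, 5], [3, 4, 3]), (0, [5, 4, 5], [3, 4, 3]), (0, [5, 4, 5], [3, 4, 3])]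

/-- Some options of a node. -/
def tOpt29x2 : List (ℕ × List ℕ × List ℕ) := [
  (0, [5, 4, 5], [3, 4, 3]), (0, [5, 4, 5], [3, 4, 3]), (0, [5, 4, 5], [3, 4, 3]), (0, [5, 4, 5], [3, 4, 3]),
  (0, [5, 4, 5], [3, 4, 3]), (0, [5, 4, 5], [3, 4, 3]), (0, [5, 4, 5], [3, 4, 3]), (0, [5, 2, 5], [2]),
  (0, [5, 4, 5], [3, 4, 3]), (0, [5, 4, 5], [3, 4, 3]), (0, [5, 2, 5], [2]), (0, [5, 2, 5], [2]),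
  (0, [5, 2, 5], [2]), (0, [5, 2, 5], [2]), (0, [5, 2, 5], [2]), (0, [5, 2, 5], [2]),
  (0, [5, 2, 5], [2]), (0, [5, 2, 5], [2]), (0, [5, 2, 5], [2]), (0, [5, 2, 5], [2]),
  (0, [5, 2, 5], [2]), (0, [5, 2, 5], [2]), (0, [5, 2, 5], [2]), (0, [5, 2, 5], [2]),
  (0, [5, 3, 5], [3]), (0, [5, 2, 5], [2]), (0, [5, 2, 5], [2]), (0, [5, 2, 5], [2]),
  (0, [5, 2, 5], [2]), (0, [5, 2, 5], [2]), (0, [5, 3, 5], [3]), (0, [5, 2, 5], [2]),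
  (0, [5, 2, 5], [2]), (0, [5, 2, 5], [2]), (0, [5, 2, 5], [2]), (0, [5, 3, 5], [3]),
  (0, [5, 2, 5], [2]), (0, [5, 2, 5], [2]), (0, [5, 3, 5], [3]), (0, [5, 2, 5], [2]),
  (0, [5, 3, 5], [3]), (0, [5, 3, 5], [3]), (0, [5, 4, 5], [3, 4, 3]), (0, [5, 3, 5], [3]),
  (0, [5, 2, 5], [2]), (0, [5, 3, 5], [3]), (0, [5, 2, 5], [2]), (0, [5, 2, 5], [2]),
  (0, [5, 4, 5], [3, 4, 3]), (0, [5, 2, 5], [2]), (0, [5, 2, 5], [2]), (0, [5, 2, 5], [2]),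
  (0, [5, 2, 5], [2]), (0, [5, 2, 5], [2]), (0, [5, 3, 5], [3]), (0, [5, 3, 5], [3]),
  (0, [5, 3, 5], [3]), (0, [5, 2, 5], [2]), (0, [5, 2, 5], [2]), (0, [5, 2, 5], [2]),
  (0, [5, 4, 5], [3, 4, 3]), (0, [5, 4, 5], [3, 4, 3]), (0, [5, 4, 5], [3, 4, 3]), (0, [5, 4, 5], [3, 4, 3]),
  (0, [5, 2, 5], [2]), (0, [5, 2, 5], [2]), (0, [5, 2, 5], [2]), (0, [5, 2, 5], [2]),
  (0, [5, 2, 5], [2]), (0, [5, 2, 5], [2]), (0, [5, 3, 5], [3]), (0, [5, 2, 5], [2]),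
  (0, [5, 3, 5], [3]), (0, [5, 2, 5], [2]), (0, [5, 2, 5], [2]), (0, [5, 2, 5], [2]),
  (0, [5, 2, 5], [2]), (0, [5, 2, 5], [2]), (0, [5, 2, 5], [2]), (0, [5, 4, 5], [3, 4, 3])]

/-- Some options of a node. -/
def tOpt29x3 : List (ℕ × List ℕ × List ℕ) := [
  (0, [5, 3, 5], [3]), (0, [5, 3, 5], [3]), (0, [5, 3, 5], [3]), (0, [5, 3, 5], [3]),
  (0, [5, 3, 5], [3]), (0, [5, 2, 5], [2]), (0, [5, 4, 5], [3, 4, 3]), (0, [5, 2, 5], [2]),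
  (0, [5, 3, 5], [3]), (0, [5, 4, 5], [3, 4, 3]), (0, [5, 3, 5], [3]), (0, [5, 4, 5], [3, 4, 3]),
  (0, [5, 3, 5], [3]), (0, [5, 2, 5], [2]), (0, [5, 2, 5], [2]), (0, [5, 2, 5], [2]),
  (0, [5, 3, 5], [3]), (0, [5, 4, 5], [3, 4, 3]), (0, [5, 3, 5], [3]), (0, [5, 3, 5], [3]),
  (0, [5, 3, 5], [3]), (0, [5, 3, 5], [3]), (0, [5, 3, 5], [3]), (0, [5, 4, 5], [3, 4, 3]),
  (0, [5, 3, 5], [3]), (0, [5, 3, 5], [3]), (0, [5, 2, 5], [2]), (0, [5, 3, 5], [3]),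
  (0, [5, 3, 5], [3]), (0, [5, 3, 5], [3]), (0, [5, 3, 5], [3]), (0, [5, 3, 5], [3]),
  (0, [5, 2, 5], [2]), (0, [5, 2, 5], [2]), (0, [5, 2, 5], [2]), (0, [5, 4, 5], [3, 4, 3]),
  (0, [5, 4, 5], [3, 4, 3]), (0, [5, 3, 5], [3]), (0, [5, 3, 5], [3]), (0, [5, 3, 5], [3]),
  (0, [5, 4, 5], [3, 4, 3]), (0, [5, 4, 5], [3, 4, 3]), (0, [5, 3, 5], [3]), (0, [5, 3, 5], [3]),
  (0, [5, 3, 5], [3]), (0, [5, 4, 5], [3, 4, 3]), (0, [5, 4, 5], [3, 4, 3]), (0, [5, 3, 5], [3]),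
  (0, [5, 4, 5], [3, 4, 3]), (0, [5, 3, 5], [3]), (0, [5, 3, 5], [3]), (0, [5, 3, 5], [3]),
  (0, [5, 3, 5], [3]), (0, [5, 3, 5], [3]), (0, [5, 3, 5], [3]), (0, [5, 3, 5], [3]),
  (0, [5, 3, 5], [3]), (0, [5, 3, 5], [3]), (0, [5, 3, 5], [3]), (0, [5, 4, 5], [3, 4, 3]),
  (0, [5, 3, 5], [3]), (0, [5, 4, 5], [3, 4, 3]), (0, [5, 2, 5], [2]), (0, [5, 3, 5], [3]),
  (0, [5, 4, 5], [3, 4, 3]), (0, [5, 3, 5], [3]), (0, [5, 4, 5], [3, 4, 3]), (0, [5, 2, 5], [2]),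
  (0, [5, 2, 5], [2]), (0, [5, 2, 5], [2]), (0, [5, 3, 5], [3]), (0, [5, 4, 5], [3, 4, 3]),
  (0, [5, 3, 5], [3]), (0, [5, 2, 5], [2]), (0, [5, 2, 5], [2]), (0, [5, 2, 5], [2]),
  (0, [5, 2, 5], [2])]

/-- A node. -/
def tNode29 : TNode := ⟨[0, 1, 159, 79, 138], [1, 0, 29, 3, 55], 102, tOpt29x0 ++ tOpt29x1 ++ tOpt29x2 ++ tOpt29x3, [30]⟩

/-- Some options of a node. -/
def tOpt30x0 : List (ℕ × List ℕ × List ℕ) := [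
  (0, [1], [6]), (0, [0], [6]), (0, [6, 3, 6], [2, 3, 2]), (0, [3], [6]),
  (0, [6, 3, 6], [2, 3, 2]), (0, [6, 3, 6], [2, 3, 2]), (0, [6, 2, 6], [2]), (0, [6, 3, 6], [2, 3, 2]),
  (0, [6, 3, 6], [2, 3, 2]), (0, [6, 2, 6], [2]), (0, [6, 2, 6], [2]), (0, [6, 3, 6], [2, 3, 2]),
  (0, [6, 3, 6], [2, 3, 2]), (0, [6, 3, 6], [2, 3, 2]), (0, [6, 2, 6], [2]), (0, [6, 2, 6], [2]),
  (0, [6, 3, 6], [2, 3, 2]), (0, [6, 3, 6], [2, 3, 2]), (0, [6, 3, 6], [2, 3, 2]), (0, [6, 2, 6], [2]),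
  (0, [6, 3, 6], [2, 3, 2]), (0, [6, 3, 6], [2, 3, 2]), (0, [6, 3, 6], [2, 3, 2]), (0, [6, 3, 6], [2, 3, 2]),
  (0, [6, 2, 6], [2]), (0, [6, 3, 6], [2, 3, 2]), (0, [6, 3, 6], [2, 3, 2]), (0, [6, 3, 6], [2, 3, 2]),
  (0, [6, 3, 6], [2, 3, 2]), (0, [2], [6]), (0, [6, 3, 6], [2, 3, 2]), (0, [6, 3, 6], [2, 3, 2]),
  (0, [6, 3, 6], [2, 3, 2]), (0, [6, 3, 6], [2, 3, 2]), (0, [6, 3, 6], [2, 3, 2]), (0, [6, 4, 6], [4]),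
  (0, [6, 3, 6], [2, 3, 2]), (0, [6, 3, 6], [2, 3, 2]), (0, [6, 3, 6], [2, 3, 2]), (0, [6, 2, 6], [2]),
  (0, [6, 3, 6], [2, 3, 2]), (0, [6, 3, 6], [2, 3, 2]), (0, [6, 3, 6], [2, 3, 2]), (0, [6, 3, 6], [2, 3, 2]),
  (0, [6, 3, 6], [2, 3, 2]), (0, [6, 2, 6], [2]), (0, [6, 3, 6], [2, 3, 2]), (0, [6, 3, 6], [2, 3, 2]),
  (0, [6, 3, 6], [2, 3, 2]), (0, [6, 3, 6], [2, 3, 2]), (0, [6, 3, 6], [2, 3, 2]), (0, [6, 2, 6], [2]),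
  (0, [6, 2, 6], [2]), (0, [6, 2, 6], [2]), (0, [6, 3, 6], [2, 3, 2]), (0, [4], [6]),
  (0, [6, 3, 6], [2, 3, 2]), (0, [6, 3, 6], [2, 3, 2]), (0, [6, 2, 6], [2]), (0, [6, 2, 6], [2]),
  (0, [6, 2, 6], [2]), (0, [6, 3, 6], [2, 3, 2]), (0, [6, 3, 6], [2, 3, 2]), (0, [6, 3, 6], [2, 3, 2]),
  (0, [6, 3, 6], [2, 3, 2]), (0, [6, 2, 6], [2]), (0, [6, 2, 6], [2]), (0, [6, 2, 6], [2]),
  (0, [6, 2, 6], [2]), (0, [6, 2, 6], [2]), (0, [6, 3, 6], [2, 3, 2]), (0, [6, 3, 6], [2, 3, 2]),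
  (0, [6, 3, 6], [2, 3, 2]), (0, [6, 2, 6], [2]), (0, [6, 2, 6], [2]), (0, [6, 2, 6], [2]),
  (0, [6, 3, 6], [2, 3, 2]), (0, [6, 3, 6], [2, 3, 2]), (0, [6, 3, 6], [2, 3, 2]), (0, [6, 2, 6], [2])]

/-- Some options of a node. -/
def tOpt30x1 : List (ℕ × List ℕ × List ℕ) := [
  (0, [6, 2, 6], [2]), (0, [3, 2, 3], [6]), (0, [6, 2, 6], [2]), (0, [6, 2, 6], [2]),
  (0, [6, 2, 6], [2]), (0, [6, 2, 6], [2]), (0, [6, 4, 6], [4]), (0, [6, 3, 6], [2, 3, 2]),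
  (0, [6, 2, 6], [2]), (0, [5, 0, 6], [2, 5, 1]), (0, [6, 2, 6], [2]), (0, [6, 3, 6], [2, 3, 2]),
  (0, [6, 4, 6], [4]), (0, [6, 2, 6], [2]), (0, [6, 2, 6], [2]), (0, [6, 2, 6], [2]),
  (0, [6, 3, 6], [2, 3, 2]), (0, [6, 2, 6], [2]), (0, [6, 2, 6], [2]), (0, [6, 2, 6], [2]),
  (0, [6, 3, 6], [2, 3, 2]), (0, [6, 3, 6], [2, 3, 2]), (0, [6, 2, 6], [2]), (0, [6, 2, 6], [2]),
  (0, [6, 3, 6], [2, 3, 2]), (0, [6, 2, 6], [2]), (0, [6, 2, 6], [2]), (0, [6, 2, 6], [2]),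
  (0, [6, 2, 6], [2]), (0, [6, 2, 6], [2]), (0, [6, 2, 6], [2]), (0, [6, 2, 6], [2]),
  (0, [6, 2, 6], [2]), (0, [6, 2, 6], [2]), (0, [6, 2, 6], [2]), (0, [6, 2, 6], [2]),
  (0, [6, 2, 6], [2]), (0, [6, 2, 6], [2]), (0, [6, 2, 6], [2]), (0, [6, 2, 6], [2]),
  (0, [6, 2, 6], [2]), (0, [6, 2, 6], [2]), (0, [6, 2, 6], [2]), (0, [6, 2, 6], [2]),
  (0, [6, 2, 6], [2]), (0, [6, 2, 6], [2]), (0, [6, 2, 6], [2]), (0, [6, 2, 6], [2]),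
  (0, [6, 3, 6], [2, 3, 2]), (0, [6, 2, 6], [2]), (0, [6, 2, 6], [2]), (0, [2, 1, 0], [3, 6, 3]),
  (0, [6, 2, 6], [2]), (0, [6, 2, 6], [2]), (0, [6, 2, 6], [2]), (0, [6, 2, 6], [2]),
  (0, [6, 2, 6], [2]), (0, [6, 2, 6], [2]), (0, [6, 3, 6], [2, 3, 2]), (0, [5, 2, 5], [6]),
  (0, [5], [6]), (0, [6, 2, 6], [2]), (0, [6, 2, 6], [2]), (0, [6, 2, 6], [2]),
  (0, [6, 2, 6], [2]), (0, [6, 3, 6], [2, 3, 2]), (0, [6, 3, 6], [2, 3, 2]), (0, [6, 3, 6], [2, 3, 2]),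
  (0, [6, 2, 6], [2]), (0, [6, 2, 6], [2]), (0, [6, 3, 6], [2, 3, 2]), (0, [6, 2, 6], [2]),
  (0, [6, 2, 6], [2]), (0, [6, 2, 6], [2]), (0, [6, 2, 6], [2]), (0, [6, 2, 6], [2]),
  (0, [6, 2, 6], [2]), (0, [6, 2, 6], [2]), (0, [6, 2, 6], [2]), (0, [6, 2, 6], [2])]

/-- Some options of a node. -/
def tOpt30x2 : List (ℕ × List ℕ × List ℕ) := [
  (0, [6, 2, 6], [2]), (0, [6, 2, 6], [2]), (0, [6, 2, 6], [2]), (0, [6, 2, 6], [2]),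
  (0, [6, 2, 6], [2]), (0, [6, 2, 6], [2]), (0, [6, 2, 6], [2]), (0, [6, 3, 6], [2, 3, 2]),
  (0, [6, 2, 6], [2]), (0, [6, 2, 6], [2]), (0, [6, 3, 6], [2, 3, 2]), (0, [6, 3, 6], [2, 3, 2]),
  (0, [6, 3, 6], [2, 3, 2]), (0, [6, 3, 6], [2, 3, 2]), (0, [6, 3, 6], [2, 3, 2]), (0, [6, 3, 6], [2, 3, 2]),
  (0, [6, 3, 6], [2, 3, 2]), (0, [6, 3, 6], [2, 3, 2]), (0, [6, 3, 6], [2, 3, 2]), (0, [6, 3, 6], [2, 3, 2]),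
  (0, [6, 3, 6], [2, 3, 2]), (0, [6, 3, 6], [2, 3, 2]), (0, [6, 3, 6], [2, 3, 2]), (0, [6, 3, 6], [2, 3, 2]),
  (0, [6, 2, 6], [2]), (0, [6, 3, 6], [2, 3, 2]), (0, [6, 3, 6], [2, 3, 2]), (0, [6, 3, 6], [2, 3, 2]),
  (0, [6, 3, 6], [2, 3, 2]), (0, [6, 3, 6], [2, 3, 2]), (0, [6, 2, 6], [2]), (0, [6, 3, 6], [2, 3, 2]),
  (0, [6, 3, 6], [2, 3, 2]), (0, [6, 3, 6], [2, 3, 2]), (0, [6, 3, 6], [2, 3, 2]), (0, [6, 2, 6], [2]),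
  (0, [6, 3, 6], [2, 3, 2]), (0, [6, 3, 6], [2, 3, 2]), (0, [6, 2, 6], [2]), (0, [6, 3, 6], [2, 3, 2]),
  (0, [6, 2, 6], [2]), (0, [6, 2, 6], [2]), (0, [6, 2, 6], [2]), (0, [6, 2, 6], [2]),
  (0, [6, 3, 6], [2, 3, 2]), (0, [6, 2, 6], [2]), (0, [6, 3, 6], [2, 3, 2]), (0, [6, 3, 6], [2, 3, 2]),
  (0, [6, 2, 6], [2]), (0, [6, 3, 6], [2, 3, 2]), (0, [6, 3, 6], [2, 3, 2]), (0, [6, 3, 6], [2, 3, 2]),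
  (0, [6, 3, 6], [2, 3, 2]), (0, [6, 3, 6], [2, 3, 2]), (0, [6, 2, 6], [2]), (0, [6, 2, 6], [2]),
  (0, [6, 2, 6], [2]), (0, [6, 3, 6], [2, 3, 2]), (0, [6, 3, 6], [2, 3, 2]), (0, [6, 3, 6], [2, 3, 2]),
  (0, [6, 2, 6], [2]), (0, [6, 2, 6], [2]), (0, [6, 2, 6], [2]), (0, [6, 2, 6], [2]),
  (0, [6, 3, 6], [2, 3, 2]), (0, [6, 3, 6], [2, 3, 2]), (0, [6, 3, 6], [2, 3, 2]), (0, [6, 3, 6], [2, 3, 2]),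
  (0, [6, 3, 6], [2, 3, 2]), (0, [6, 3, 6], [2, 3, 2]), (0, [6, 2, 6], [2]), (0, [6, 3, 6], [2, 3, 2]),
  (0, [6, 2, 6], [2]), (0, [6, 3, 6], [2, 3, 2]), (0, [6, 3, 6], [2, 3, 2]), (0, [6, 3, 6], [2, 3, 2]),
  (0, [6, 3, 6], [2, 3, 2]), (0, [6, 3, 6], [2, 3, 2]), (0, [6, 3, 6], [2, 3, 2]), (0, [6, 2, 6], [2])]

/-- Some options of a node. -/
def tOpt30x3 : List (ℕ × List ℕ × List ℕ) := [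
  (0, [6, 2, 6], [2]), (0, [6, 2, 6], [2]), (0, [6, 2, 6], [2]), (0, [6, 2, 6], [2]),
  (0, [6, 2, 6], [2]), (0, [6, 3, 6], [2, 3, 2]), (0, [6, 2, 6], [2]), (0, [6, 3, 6], [2, 3, 2]),
  (0, [6, 2, 6], [2]), (0, [6, 2, 6], [2]), (0, [6, 2, 6], [2]), (0, [6, 2, 6], [2]),
  (0, [6, 2, 6], [2]), (0, [6, 3, 6], [2, 3, 2]), (0, [6, 3, 6], [2, 3, 2]), (0, [6, 3, 6], [2, 3, 2]),
  (0, [6, 2, 6], [2]), (0, [6, 2, 6], [2]), (0, [6, 2, 6], [2]), (0, [6, 2, 6], [2]),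
  (0, [6, 2, 6], [2]), (0, [6, 2, 6], [2]), (0, [6, 2, 6], [2]), (0, [6, 2, 6], [2]),
  (0, [6, 2, 6], [2]), (0, [6, 2, 6], [2]), (0, [6, 3, 6], [2, 3, 2]), (0, [6, 2, 6], [2]),
  (0, [6, 2, 6], [2]), (0, [6, 2, 6], [2]), (0, [6, 2, 6], [2]), (0, [6, 2, 6], [2]),
  (0, [6, 3, 6], [2, 3, 2]), (0, [6, 3, 6], [2, 3, 2]), (0, [6, 3, 6], [2, 3, 2]), (0, [6, 2, 6], [2]),
  (0, [6, 2, 6], [2]), (0, [6, 2, 6], [2]), (0, [6, 2, 6], [2]), (0, [6, 2, 6], [2]),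
  (0, [6, 2, 6], [2]), (0, [6, 2, 6], [2]), (0, [6, 2, 6], [2]), (0, [6, 2, 6], [2]),
  (0, [6, 2, 6], [2]), (0, [6, 2, 6], [2]), (0, [6, 2, 6], [2]), (0, [6, 2, 6], [2]),
  (0, [6, 2, 6], [2]), (0, [6, 2, 6], [2]), (0, [6, 2, 6], [2]), (0, [6, 2, 6], [2]),
  (0, [6, 2, 6], [2]), (0, [6, 2, 6], [2]), (0, [6, 2, 6], [2]), (0, [6, 2, 6], [2]),
  (0, [6, 2, 6], [2]), (0, [6, 2, 6], [2]), (0, [6, 2, 6], [2]), (0, [6, 2, 6], [2]),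
  (0, [6, 2, 6], [2]), (0, [6, 2, 6], [2]), (0, [6, 3, 6], [2, 3, 2]), (0, [6, 2, 6], [2]),
  (0, [6, 2, 6], [2]), (0, [6, 2, 6], [2]), (0, [6, 2, 6], [2]), (0, [6, 3, 6], [2, 3, 2]),
  (0, [6, 3, 6], [2, 3, 2]), (0, [6, 3, 6], [2, 3, 2]), (0, [6, 2, 6], [2]), (0, [6, 2, 6], [2]),
  (0, [6, 2, 6], [2]), (0, [6, 3, 6], [2, 3, 2]), (0, [6, 3, 6], [2, 3, 2]), (0, [6, 3, 6], [2, 3, 2]),
  (0, [6, 3, 6], [2, 3, 2])]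

/-- A node. -/
def tNode30 : TNode := ⟨[0, 1, 159, 79, 138, 102], [1, 0, 29, 3, 55, 140], 54, tOpt30x0 ++ tOpt30x1 ++ tOpt30x2 ++ tOpt30x3, []⟩

/-- Some options of a node. -/
def tOpt31x0 : List (ℕ × List ℕ × List ℕ) := [
  (0, [1], [5]), (0, [0], [5]), (0, [5, 2, 5], [2]), (0, [3], [5]),
  (0, [5, 2, 5], [2]), (0, [5, 2, 5], [2]), (0, [5, 2, 5], [3, 2, 3]), (0, [5, 2, 5], [2]),
  (0, [5, 2, 5], [2]), (0, [4, 3, 4], [5]), (0, [5, 3, 5], [3]), (0, [5, 2, 5], [2]),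
  (0, [5, 2, 5], [2]), (0, [5, 2, 5], [2]), (0, [5, 3, 5], [3]), (0, [5, 3, 5], [3]),
  (0, [5, 2, 5], [2]), (0, [5, 2, 5], [2]), (0, [5, 2, 5], [2]), (0, [5, 2, 5], [3, 2, 3]),
  (0, [5, 2, 5], [2]), (0, [5, 2, 5], [2]), (0, [5, 2, 5], [2]), (0, [5, 2, 5], [2]),
  (0, [5, 2, 5], [3, 2, 3]), (0, [5, 2, 5], [2]), (0, [5, 2, 5], [2]), (0, [5, 2, 5], [2]),
  (0, [5, 2, 5], [2]), (0, [2], [5]), (0, [5, 2, 5], [2]), (0, [5, 2, 5], [2]),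
  (0, [5, 2, 5], [2]), (0, [5, 2, 5], [2]), (0, [5, 2, 5], [2]), (0, [5, 2, 5], [2]),
  (0, [5, 2, 5], [2]), (0, [5, 2, 5], [2]), (0, [5, 2, 5], [2]), (0, [5, 4, 5], [4]),
  (0, [5, 2, 5], [2]), (0, [5, 2, 5], [2]), (0, [5, 2, 5], [2]), (0, [5, 2, 5], [2]),
  (0, [5, 2, 5], [2]), (0, [5, 4, 5], [4]), (0, [5, 2, 5], [2]), (0, [5, 2, 5], [2]),
  (0, [5, 2, 5], [2]), (0, [5, 2, 5], [2]), (0, [5, 2, 5], [2]), (0, [5, 4, 5], [4]),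
  (0, [5, 4, 5], [4]), (0, [5, 4, 5], [4]), (0, [5, 2, 5], [2]), (0, [5, 2, 5], [2]),
  (0, [5, 2, 5], [2]), (0, [5, 2, 5], [2]), (0, [5, 4, 5], [4]), (0, [5, 4, 5], [4]),
  (0, [5, 4, 5], [4]), (0, [5, 2, 5], [2]), (0, [5, 2, 5], [2]), (0, [5, 2, 5], [2]),
  (0, [5, 2, 5], [2]), (0, [5, 4, 5], [4]), (0, [5, 4, 5], [4]), (0, [5, 4, 5], [4]),
  (0, [5, 4, 5], [4]), (0, [5, 4, 5], [4]), (0, [5, 2, 5], [2]), (0, [5, 2, 5], [2]),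
  (0, [5, 2, 5], [2]), (0, [5, 4, 5], [4]), (0, [5, 4, 5], [4]), (0, [5, 4, 5], [4]),
  (0, [5, 2, 5], [2]), (0, [5, 2, 5], [2]), (0, [5, 2, 5], [2]), (0, [5, 4, 5], [4])]

/-- Some options of a node. -/
def tOpt31x1 : List (ℕ × List ℕ × List ℕ) := [
  (0, [5, 4, 5], [4]), (0, [3, 2, 3], [5]), (0, [5, 4, 5], [4]), (0, [5, 4, 5], [4]),
  (0, [5, 4, 5], [4]), (0, [5, 4, 5], [4]), (0, [5, 2, 5], [2]), (0, [5, 2, 5], [2]),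
  (0, [5, 4, 5], [4]), (0, [5, 2, 5], [2]), (0, [5, 4, 5], [4]), (0, [5, 2, 5], [2]),
  (0, [5, 2, 5], [2]), (0, [5, 4, 5], [4]), (0, [5, 4, 5], [4]), (0, [5, 4, 5], [4]),
  (0, [5, 2, 5], [2]), (0, [5, 4, 5], [4]), (0, [5, 4, 5], [4]), (0, [5, 4, 5], [4]),
  (0, [5, 2, 5], [2]), (0, [5, 2, 5], [2]), (0, [5, 4, 5], [4]), (0, [5, 4, 5], [4]),
  (0, [5, 2, 5], [2]), (0, [5, 4, 5], [4]), (0, [5, 4, 5], [4]), (0, [5, 4, 5], [4]),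
  (0, [5, 3, 2, 3, 5], [3, 2, 3]), (0, [5, 3, 5], [3]), (0, [5, 4, 5], [4]), (0, [5, 3, 2, 3, 5], [3, 2, 3]),
  (0, [5, 4, 5], [4]), (0, [5, 4, 5], [4]), (0, [5, 3, 5], [3]), (0, [5, 2, 5], [3, 2, 3]),
  (0, [5, 4, 5], [4]), (0, [5, 3, 2, 3, 5], [3, 2, 3]), (0, [5, 3, 2, 3, 5], [3, 2, 3]), (0, [5, 3, 5], [3]),
  (0, [5, 2, 5], [3, 2, 3]), (0, [5, 2, 5], [3, 2, 3]), (0, [5, 3, 2, 3, 5], [3, 2, 3]), (0, [5, 3, 2, 3, 5], [3, 2, 3]),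
  (0, [5, 2, 5], [3, 2, 3]), (0, [5, 4, 5], [4]), (0, [5, 3, 5], [3]), (0, [5, 3, 5], [3]),
  (0, [5, 2, 5], [2]), (0, [5, 3, 5], [3]), (0, [5, 3, 5], [3]), (0, [5, 2, 5], [2]),
  (0, [5, 3, 2, 3, 5], [3, 2, 3]), (0, [5, 3, 5], [3]), (0, [5, 3, 5], [3]), (0, [5, 3, 5], [3]),
  (0, [5, 3, 2, 3, 5], [3, 2, 3]), (0, [5, 3, 5], [3]), (0, [5, 2, 5], [2]), (0, [5, 2, 5], [2]),
  (0, [5, 3, 5], [3]), (0, [5, 3, 5], [3]), (0, [5, 3, 5], [3]), (0, [5, 3, 5], [3]),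
  (0, [5, 3, 5], [3]), (0, [5, 2, 5], [2]), (0, [5, 2, 5], [2]), (0, [5, 2, 5], [2]),
  (0, [5, 3, 5], [3]), (0, [5, 3, 5], [3]), (0, [5, 2, 5], [2]), (0, [5, 3, 5], [3]),
  (0, [5, 3, 5], [3]), (0, [5, 3, 5], [3]), (0, [5, 3, 5], [3]), (0, [5, 3, 5], [3]),
  (0, [5, 3, 5], [3]), (0, [5, 3, 5], [3]), (0, [5, 3, 5], [3]), (0, [5, 3, 5], [3])]

/-- Some options of a node. -/
def tOpt31x2 : List (ℕ × List ℕ × List ℕ) := [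
  (0, [5, 3, 5], [3]), (0, [5, 3, 5], [3]), (0, [5, 3, 5], [3]), (0, [5, 3, 5], [3]),
  (0, [5, 3, 5], [3]), (0, [5, 3, 5], [3]), (0, [5, 3, 5], [3]), (0, [5, 2, 5], [2]),
  (0, [5, 3, 5], [3]), (0, [5, 3, 5], [3]), (0, [5, 2, 5], [2]), (0, [5, 2, 5], [2]),
  (0, [5, 2, 5], [2]), (0, [4], [5]), (0, [5, 2, 5], [2]), (0, [5, 2, 5], [2]),
  (0, [5, 2, 5], [2]), (0, [5, 2, 5], [2]), (0, [5, 2, 5], [2]), (0, [5, 2, 5], [2]),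
  (0, [5, 2, 5], [2]), (0, [5, 2, 5], [2]), (0, [5, 2, 5], [2]), (0, [5, 2, 5], [2]),
  (0, [5, 3, 5], [4, 3, 4]), (0, [5, 2, 5], [2]), (0, [5, 2, 5], [2]), (0, [5, 2, 5], [2]),
  (0, [5, 2, 5], [2]), (0, [5, 2, 5], [2]), (0, [5, 3, 5], [4, 3, 4]), (0, [5, 2, 5], [2]),
  (0, [5, 2, 5], [2]), (0, [5, 2, 5], [2]), (0, [5, 2, 5], [2]), (0, [5, 3, 5], [4, 3, 4]),
  (0, [5, 2, 5], [2]), (0, [5, 2, 5], [2]), (0, [5, 4, 5], [4]), (0, [5, 2, 5], [2]),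
  (0, [5, 4, 5], [4]), (0, [5, 3, 5], [4, 3, 4]), (0, [5, 3, 5], [3]), (0, [5, 4, 5], [4]),
  (0, [5, 2, 5], [2]), (0, [5, 4, 5], [4]), (0, [5, 2, 5], [2]), (0, [5, 2, 5], [2]),
  (0, [5, 3, 5], [3]), (0, [5, 2, 5], [2]), (0, [5, 2, 5], [2]), (0, [5, 2, 5], [2]),
  (0, [5, 2, 5], [2]), (0, [5, 2, 5], [2]), (0, [2, 5, 3, 2, 3, 5, 2], [5, 4, 3, 2, 3, 4, 5]), (0, [2, 5, 3, 2, 3, 5, 2], [5, 4, 3, 2, 3, 4, 5]),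
  (0, [5, 4, 5], [4]), (0, [5, 2, 5], [2]), (0, [5, 2, 5], [2]), (0, [5, 2, 5], [2]),
  (0, [5, 3, 5], [3]), (0, [5, 3, 5], [3]), (0, [5, 3, 5], [3]), (0, [5, 3, 5], [3]),
  (0, [5, 2, 5], [2]), (0, [5, 2, 5], [2]), (0, [5, 2, 5], [2]), (0, [5, 2, 5], [2]),
  (0, [5, 2, 5], [2]), (0, [5, 2, 5], [2]), (0, [5, 4, 5], [4]), (0, [5, 2, 5], [2]),
  (0, [5, 4, 5], [4]), (0, [5, 2, 5], [2]), (0, [5, 2, 5], [2]), (0, [5, 2, 5], [2]),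
  (0, [5, 2, 5], [2]), (0, [5, 2, 5], [2]), (0, [5, 2, 5], [2]), (0, [5, 3, 5], [3])]

/-- Some options of a node. -/
def tOpt31x3 : List (ℕ × List ℕ × List ℕ) := [
  (0, [5, 4, 5], [4]), (0, [5, 2, 3, 2, 5], [2, 3, 2]), (0, [5, 4, 5], [4]), (0, [5, 4, 5], [4]),
  (0, [5, 4, 5], [4]), (0, [5, 2, 5], [2]), (0, [5, 3, 5], [3]), (0, [5, 2, 5], [2]),
  (0, [5, 2, 3, 2, 5], [2, 3, 2]), (0, [5, 3, 5], [3]), (0, [5, 4, 5], [4]), (0, [5, 3, 5], [3]),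
  (0, [5, 4, 5], [4]), (0, [5, 2, 5], [2]), (0, [5, 2, 5], [2]), (0, [5, 2, 5], [2]),
  (0, [2, 5, 3, 2, 3, 5, 2], [5, 4, 3, 2, 3, 4, 5]), (0, [5, 3, 5], [3]), (0, [5, 4, 5], [4]), (0, [5, 4, 5], [4]),
  (0, [5, 4, 5], [4]), (0, [5, 4, 5], [4]), (0, [5, 4, 5], [4]), (0, [5, 3, 5], [3]),
  (0, [5, 4, 5], [4]), (0, [5, 4, 5], [4]), (0, [5, 2, 5], [2]), (0, [2, 5, 3, 2, 3, 5, 2], [5, 4, 3, 2, 3, 4, 5]),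
  (0, [5, 4, 5], [4]), (0, [5, 4, 5], [4]), (0, [5, 4, 5], [4]), (0, [5, 4, 5], [4]),
  (0, [5, 2, 5], [2]), (0, [5, 2, 5], [2]), (0, [5, 2, 5], [2]), (0, [5, 3, 5], [3]),
  (0, [5, 3, 5], [3]), (0, [5, 4, 5], [4]), (0, [5, 3, 4, 3, 5], [3, 4, 3]), (0, [5, 3, 4, 3, 5], [3, 4, 3]),
  (0, [5, 3, 5], [3]), (0, [5, 3, 5], [3]), (0, [5, 4, 5], [4]), (0, [5, 2, 3, 2, 5], [2, 3, 2]),
  (0, [5, 2, 3, 2, 5], [2, 3, 2]), (0, [5, 3, 5], [3]), (0, [5, 3, 5], [3]), (0, [5, 4, 5], [4]),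
  (0, [5, 3, 5], [3]), (0, [5, 4, 5], [4]), (0, [5, 3, 4, 3, 5], [3, 4, 3]), (0, [5, 4, 5], [4]),
  (0, [5, 4, 5], [4]), (0, [5, 4, 5], [4]), (0, [5, 4, 5], [4]), (0, [5, 4, 5], [4]),
  (0, [5, 4, 5], [4]), (0, [5, 4, 5], [4]), (0, [5, 4, 5], [4]), (0, [5, 3, 5], [3]),
  (0, [5, 3, 4, 3, 5], [3, 4, 3]), (0, [5, 3, 5], [3]), (0, [5, 2, 5], [2]), (0, [5, 4, 5], [4]),
  (0, [5, 3, 5], [3]), (0, [5, 4, 5], [4]), (0, [5, 3, 5], [3]), (0, [5, 2, 5], [2]),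
  (0, [5, 2, 5], [2]), (0, [5, 2, 5], [2]), (0, [5, 4, 5], [4]), (0, [5, 3, 5], [3]),
  (0, [5, 4, 5], [4]), (0, [5, 2, 5], [2]), (0, [5, 2, 5], [2]), (0, [5, 2, 5], [2]),
  (0, [5, 2, 5], [2])]

/-- A node. -/
def tNode31 : TNode := ⟨[0, 1, 159, 79, 138], [1, 0, 29, 3, 173], 210, tOpt31x0 ++ tOpt31x1 ++ tOpt31x2 ++ tOpt31x3, []⟩

/-- Some options of a node. -/
def tOpt32x0 : List (ℕ × List ℕ × List ℕ) := [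
  (0, [1], [5]), (0, [0], [5]), (0, [5, 2, 5], [2]), (0, [3], [5]),
  (0, [5, 2, 5], [2]), (0, [5, 2, 5], [2]), (0, [5, 2, 5], [3, 2, 3]), (0, [5, 2, 5], [2]),
  (0, [5, 2, 5], [2]), (0, [4, 3, 4], [5]), (0, [5, 3, 5], [3]), (0, [5, 2, 5], [2]),
  (0, [5, 2, 5], [2]), (0, [5, 2, 5], [2]), (0, [5, 3, 5], [3]), (0, [5, 3, 5], [3]),
  (0, [5, 2, 5], [2]), (0, [5, 2, 5], [2]), (0, [5, 2, 5], [2]), (0, [5, 2, 5], [3, 2, 3]),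
  (0, [5, 2, 5], [2]), (0, [5, 2, 5], [2]), (0, [5, 2, 5], [2]), (0, [5, 2, 5], [2]),
  (0, [5, 2, 5], [3, 2, 3]), (0, [5, 2, 5], [2]), (0, [5, 2, 5], [2]), (0, [5, 2, 5], [2]),
  (0, [5, 2, 5], [2]), (0, [2], [5]), (0, [5, 2, 5], [2]), (0, [5, 2, 5], [2]),
  (0, [5, 2, 5], [2]), (0, [5, 2, 5], [2]), (0, [5, 2, 5], [2]), (0, [5, 2, 5], [2]),
  (0, [5, 2, 5], [2]), (0, [5, 2, 5], [2]), (0, [5, 2, 5], [2]), (0, [5, 4, 5], [4]),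
  (0, [5, 2, 5], [2]), (0, [5, 2, 5], [2]), (0, [5, 2, 5], [2]), (0, [5, 2, 5], [2]),
  (0, [5, 2, 5], [2]), (0, [5, 4, 5], [4]), (0, [5, 2, 5], [2]), (0, [5, 2, 5], [2]),
  (0, [5, 2, 5], [2]), (0, [5, 2, 5], [2]), (0, [5, 2, 5], [2]), (0, [5, 4, 5], [4]),
  (0, [5, 4, 5], [4]), (0, [5, 4, 5], [4]), (0, [5, 2, 5], [2]), (0, [5, 2, 5], [2]),
  (0, [5, 2, 5], [2]), (0, [5, 2, 5], [2]), (0, [5, 4, 5], [4]), (0, [5, 4, 5], [4]),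
  (0, [5, 4, 5], [4]), (0, [5, 2, 5], [2]), (0, [5, 2, 5], [2]), (0, [5, 2, 5], [2]),
  (0, [5, 2, 5], [2]), (0, [5, 4, 5], [4]), (0, [5, 4, 5], [4]), (0, [5, 4, 5], [4]),
  (0, [5, 4, 5], [4]), (0, [5, 4, 5], [4]), (0, [5, 2, 5], [2]), (0, [5, 2, 5], [2]),
  (0, [5, 2, 5], [2]), (0, [5, 4, 5], [4]), (0, [5, 4, 5], [4]), (0, [5, 4, 5], [4]),
  (0, [5, 2, 5], [2]), (0, [5, 2, 5], [2]), (0, [5, 2, 5], [2]), (0, [5, 4, 5], [4])]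

/-- Some options of a node. -/
def tOpt32x1 : List (ℕ × List ℕ × List ℕ) := [
  (0, [5, 4, 5], [4]), (0, [3, 2, 3], [5]), (0, [5, 4, 5], [4]), (0, [5, 4, 5], [4]),
  (0, [5, 4, 5], [4]), (0, [5, 4, 5], [4]), (0, [5, 2, 5], [2]), (0, [5, 2, 5], [2]),
  (0, [5, 4, 5], [4]), (0, [5, 2, 5], [2]), (0, [5, 4, 5], [4]), (0, [5, 2, 5], [2]),
  (0, [5, 2, 5], [2]), (0, [5, 4, 5], [4]), (0, [5, 4, 5], [4]), (0, [5, 4, 5], [4]),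
  (0, [5, 2, 5], [2]), (0, [5, 4, 5], [4]), (0, [5, 4, 5], [4]), (0, [5, 4, 5], [4]),
  (0, [5, 2, 5], [2]), (0, [5, 2, 5], [2]), (0, [5, 4, 5], [4]), (0, [5, 4, 5], [4]),
  (0, [5, 2, 5], [2]), (0, [5, 4, 5], [4]), (0, [5, 4, 5], [4]), (0, [5, 4, 5], [4]),
  (0, [5, 3, 2, 3, 5], [3, 2, 3]), (0, [5, 3, 5], [3]), (0, [5, 4, 5], [4]), (0, [5, 3, 2, 3, 5], [3, 2, 3]),
  (0, [5, 4, 5], [4]), (0, [5, 4, 5], [4]), (0, [5, 3, 5], [3]), (0, [5, 2, 5], [3, 2, 3]),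
  (0, [5, 4, 5], [4]), (0, [5, 3, 2, 3, 5], [3, 2, 3]), (0, [5, 3, 2, 3, 5], [3, 2, 3]), (0, [5, 3, 5], [3]),
  (0, [5, 2, 5], [3, 2, 3]), (0, [5, 2, 5], [3, 2, 3]), (0, [5, 3, 2, 3, 5], [3, 2, 3]), (0, [5, 3, 2, 3, 5], [3, 2, 3]),
  (0, [5, 2, 5], [3, 2, 3]), (0, [5, 4, 5], [4]), (0, [5, 3, 5], [3]), (0, [5, 3, 5], [3]),
  (0, [5, 2, 5], [2]), (0, [5, 3, 5], [3]), (0, [5, 3, 5], [3]), (0, [5, 2, 5], [2]),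
  (0, [5, 3, 2, 3, 5], [3, 2, 3]), (0, [5, 3, 5], [3]), (0, [5, 3, 5], [3]), (0, [5, 3, 5], [3]),
  (0, [5, 3, 2, 3, 5], [3, 2, 3]), (0, [5, 3, 5], [3]), (0, [5, 2, 5], [2]), (0, [5, 2, 5], [2]),
  (0, [5, 3, 5], [3]), (0, [5, 3, 5], [3]), (0, [5, 3, 5], [3]), (0, [5, 3, 5], [3]),
  (0, [5, 3, 5], [3]), (0, [5, 2, 5], [2]), (0, [5, 2, 5], [2]), (0, [5, 2, 5], [2]),
  (0, [5, 3, 5], [3]), (0, [5, 3, 5], [3]), (0, [5, 2, 5], [2]), (0, [5, 3, 5], [3]),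
  (0, [5, 3, 5], [3]), (0, [5, 3, 5], [3]), (0, [5, 3, 5], [3]), (0, [5, 3, 5], [3]),
  (0, [5, 3, 5], [3]), (0, [5, 3, 5], [3]), (0, [5, 3, 5], [3]), (0, [5, 3, 5], [3])]

/-- Some options of a node. -/
def tOpt32x2 : List (ℕ × List ℕ × List ℕ) := [
  (0, [5, 3, 5], [3]), (0, [5, 3, 5], [3]), (0, [5, 3, 5], [3]), (0, [5, 3, 5], [3]),
  (0, [5, 3, 5], [3]), (0, [5, 3, 5], [3]), (0, [5, 3, 5], [3]), (0, [5, 2, 5], [2]),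
  (0, [5, 3, 5], [3]), (0, [5, 3, 5], [3]), (0, [5, 2, 5], [2]), (0, [5, 2, 5], [2]),
  (0, [5, 2, 5], [2]), (0, [5, 2, 5], [2]), (0, [5, 2, 5], [2]), (0, [5, 2, 5], [2]),
  (0, [5, 2, 5], [2]), (0, [5, 2, 5], [2]), (0, [5, 2, 5], [2]), (0, [4], [5]),
  (0, [5, 2, 5], [2]), (0, [5, 2, 5], [2]), (0, [5, 2, 5], [2]), (0, [5, 2, 5], [2]),
  (0, [5, 3, 5], [4, 3, 4]), (0, [5, 2, 5], [2]), (0, [5, 2, 5], [2]), (0, [5, 2, 5], [2]),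
  (0, [5, 2, 5], [2]), (0, [5, 2, 5], [2]), (0, [5, 3, 5], [4, 3, 4]), (0, [5, 2, 5], [2]),
  (0, [5, 2, 5], [2]), (0, [5, 2, 5], [2]), (0, [5, 2, 5], [2]), (0, [5, 3, 5], [4, 3, 4]),
  (0, [5, 2, 5], [2]), (0, [5, 2, 5], [2]), (0, [5, 4, 5], [4]), (0, [5, 2, 5], [2]),
  (0, [5, 4, 5], [4]), (0, [5, 3, 5], [4, 3, 4]), (0, [5, 3, 5], [3]), (0, [5, 4, 5], [4]),
  (0, [5, 2, 5], [2]), (0, [5, 4, 5], [4]), (0, [5, 2, 5], [2]), (0, [5, 2, 5], [2]),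
  (0, [5, 3, 5], [3]), (0, [5, 2, 5], [2]), (0, [5, 2, 5], [2]), (0, [5, 2, 5], [2]),
  (0, [5, 2, 5], [2]), (0, [5, 2, 5], [2]), (0, [2, 5, 3, 2, 3, 5, 2], [5, 4, 3, 2, 3, 4, 5]), (0, [2, 5, 3, 2, 3, 5, 2], [5, 4, 3, 2, 3, 4, 5]),
  (0, [5, 4, 5], [4]), (0, [5, 2, 5], [2]), (0, [5, 2, 5], [2]), (0, [5, 2, 5], [2]),
  (0, [5, 3, 5], [3]), (0, [5, 3, 5], [3]), (0, [5, 3, 5], [3]), (0, [5, 3, 5], [3]),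
  (0, [5, 2, 5], [2]), (0, [5, 2, 5], [2]), (0, [5, 2, 5], [2]), (0, [5, 2, 5], [2]),
  (0, [5, 2, 5], [2]), (0, [5, 2, 5], [2]), (0, [5, 4, 5], [4]), (0, [5, 2, 5], [2]),
  (0, [5, 4, 5], [4]), (0, [5, 2, 5], [2]), (0, [5, 2, 5], [2]), (0, [5, 2, 5], [2]),
  (0, [5, 2, 5], [2]), (0, [5, 2, 5], [2]), (0, [5, 2, 5], [2]), (0, [5, 3, 5], [3])]

/-- Some options of a node. -/
def tOpt32x3 : List (ℕ × List ℕ × List ℕ) := [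
  (0, [5, 4, 5], [4]), (0, [5, 2, 3, 2, 5], [2, 3, 2]), (0, [5, 4, 5], [4]), (0, [5, 4, 5], [4]),
  (0, [5, 4, 5], [4]), (0, [5, 2, 5], [2]), (0, [5, 3, 5], [3]), (0, [5, 2, 5], [2]),
  (0, [5, 2, 3, 2, 5], [2, 3, 2]), (0, [5, 3, 5], [3]), (0, [5, 4, 5], [4]), (0, [5, 3, 5], [3]),
  (0, [5, 4, 5], [4]), (0, [5, 2, 5], [2]), (0, [5, 2, 5], [2]), (0, [5, 2, 5], [2]),
  (0, [2, 5, 3, 2, 3, 5, 2], [5, 4, 3, 2, 3, 4, 5]), (0, [5, 3, 5], [3]), (0, [5, 4, 5], [4]), (0, [5, 4, 5], [4]),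
  (0, [5, 4, 5], [4]), (0, [5, 4, 5], [4]), (0, [5, 4, 5], [4]), (0, [5, 3, 5], [3]),
  (0, [5, 4, 5], [4]), (0, [5, 4, 5], [4]), (0, [5, 2, 5], [2]), (0, [2, 5, 3, 2, 3, 5, 2], [5, 4, 3, 2, 3, 4, 5]),
  (0, [5, 4, 5], [4]), (0, [5, 4, 5], [4]), (0, [5, 4, 5], [4]), (0, [5, 4, 5], [4]),
  (0, [5, 2, 5], [2]), (0, [5, 2, 5], [2]), (0, [5, 2, 5], [2]), (0, [5, 3, 5], [3]),
  (0, [5, 3, 5], [3]), (0, [5, 4, 5], [4]), (0, [5, 3, 4, 3, 5], [3, 4, 3]), (0, [5, 3, 4, 3, 5], [3, 4, 3]),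
  (0, [5, 3, 5], [3]), (0, [5, 3, 5], [3]), (0, [5, 4, 5], [4]), (0, [5, 2, 3, 2, 5], [2, 3, 2]),
  (0, [5, 2, 3, 2, 5], [2, 3, 2]), (0, [5, 3, 5], [3]), (0, [5, 3, 5], [3]), (0, [5, 4, 5], [4]),
  (0, [5, 3, 5], [3]), (0, [5, 4, 5], [4]), (0, [5, 3, 4, 3, 5], [3, 4, 3]), (0, [5, 4, 5], [4]),
  (0, [5, 4, 5], [4]), (0, [5, 4, 5], [4]), (0, [5, 4, 5], [4]), (0, [5, 4, 5], [4]),
  (0, [5, 4, 5], [4]), (0, [5, 4, 5], [4]), (0, [5, 4, 5], [4]), (0, [5, 3, 5], [3]),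
  (0, [5, 3, 4, 3, 5], [3, 4, 3]), (0, [5, 3, 5], [3]), (0, [5, 2, 5], [2]), (0, [5, 4, 5], [4]),
  (0, [5, 3, 5], [3]), (0, [5, 4, 5], [4]), (0, [5, 3, 5], [3]), (0, [5, 2, 5], [2]),
  (0, [5, 2, 5], [2]), (0, [5, 2, 5], [2]), (0, [5, 4, 5], [4]), (0, [5, 3, 5], [3]),
  (0, [5, 4, 5], [4]), (0, [5, 2, 5], [2]), (0, [5, 2, 5], [2]), (0, [5, 2, 5], [2]),
  (0, [5, 2, 5], [2])]

/-- A node. -/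
def tNode32 : TNode := ⟨[0, 1, 159, 79, 138], [1, 0, 29, 3, 179], 273, tOpt32x0 ++ tOpt32x1 ++ tOpt32x2 ++ tOpt32x3, []⟩

/-- Some options of a node. -/
def tOpt33x0 : List (ℕ × List ℕ × List ℕ) := [
  (0, [1], [4]), (0, [0], [4]), (0, [4, 2, 4], [2]), (0, [3, 4, 3], [4, 3, 4]),
  (0, [4, 2, 4], [2]), (0, [4, 2, 4], [2]), (0, [3, 4, 3], [4, 3, 4]), (0, [4, 2, 4], [2]),
  (0, [4, 2, 4], [2]), (0, [3, 4, 3], [4, 3, 4]), (0, [3, 4, 3], [4, 3, 4]), (0, [4, 2, 4], [2]),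
  (0, [4, 2, 4], [2]), (0, [4, 2, 4], [2]), (0, [3, 4, 3], [4, 3, 4]), (0, [3, 4, 3], [4, 3, 4]),
  (0, [4, 2, 4], [2]), (0, [4, 2, 4], [2]), (0, [4, 2, 4], [2]), (0, [3, 4, 3], [4, 3, 4]),
  (0, [4, 2, 4], [2]), (0, [4, 2, 4], [2]), (0, [4, 2, 4], [2]), (0, [4, 2, 4], [2]),
  (0, [3, 4, 3], [4, 3, 4]), (0, [4, 2, 4], [2]), (0, [4, 2, 4], [2]), (0, [4, 2, 4], [2]),
  (0, [4, 2, 4], [2]), (0, [2], [4]), (0, [4, 2, 4], [2]), (0, [4, 2, 4], [2]),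
  (0, [4, 2, 4], [2]), (0, [4, 2, 4], [2]), (0, [4, 2, 4], [2]), (0, [4, 2, 4], [2]),
  (0, [4, 2, 4], [2]), (0, [4, 2, 4], [2]), (0, [4, 2, 4], [2]), (0, [4, 3, 4], [3]),
  (0, [4, 2, 4], [2]), (0, [4, 2, 4], [2]), (0, [4, 2, 4], [2]), (0, [4, 2, 4], [2]),
  (0, [4, 2, 4], [2]), (0, [4, 3, 4], [3]), (0, [4, 2, 4], [2]), (0, [4, 2, 4], [2]),
  (0, [4, 2, 4], [2]), (0, [4, 2, 4], [2]), (0, [4, 2, 4], [2]), (0, [4, 3, 4], [3]),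
  (0, [4, 3, 4], [3]), (0, [4, 3, 4], [3]), (0, [4, 2, 4], [2]), (0, [4, 2, 4], [2]),
  (0, [4, 2, 4], [2]), (0, [4, 2, 4], [2]), (0, [4, 3, 4], [3]), (0, [4, 3, 4], [3]),
  (0, [4, 3, 4], [3]), (0, [4, 2, 4], [2]), (0, [4, 2, 4], [2]), (0, [4, 2, 4], [2]),
  (0, [4, 2, 4], [2]), (0, [4, 3, 4], [3]), (0, [4, 3, 4], [3]), (0, [4, 3, 4], [3]),
  (0, [4, 3, 4], [3]), (0, [4, 3, 4], [3]), (0, [4, 2, 4], [2]), (0, [4, 2, 4], [2]),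
  (0, [4, 2, 4], [2]), (0, [4, 3, 4], [3]), (0, [4, 3, 4], [3]), (0, [4, 3, 4], [3]),
  (0, [4, 2, 4], [2]), (0, [4, 2, 4], [2]), (0, [4, 2, 4], [2]), (0, [4, 3, 4], [3])]

/-- Some options of a node. -/
def tOpt33x1 : List (ℕ × List ℕ × List ℕ) := [
  (0, [4, 3, 4], [3]), (0, [4, 2, 4], [2]), (0, [4, 3, 4], [3]), (0, [4, 3, 4], [3]),
  (0, [4, 3, 4], [3]), (0, [4, 3, 4], [3]), (0, [3, 2, 3], [4]), (0, [4, 2, 4], [2]),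
  (0, [4, 3, 4], [3]), (0, [4, 2, 4], [2]), (0, [4, 3, 4], [3]), (0, [4, 2, 4], [2]),
  (0, [4, 2, 4], [2]), (0, [4, 3, 4], [3]), (0, [4, 3, 4], [3]), (0, [3], [4]),
  (0, [4, 2, 4], [2]), (0, [4, 3, 4], [3]), (0, [4, 3, 4], [3]), (0, [4, 3, 4], [3]),
  (0, [4, 2, 4], [2]), (0, [4, 2, 4], [2]), (0, [4, 3, 4], [3]), (0, [4, 2, 4], [3, 2, 3]),
  (0, [4, 2, 4], [2]), (0, [4, 3, 4], [3]), (0, [4, 3, 4], [3]), (0, [4, 3, 4], [3]),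
  (0, [4, 3, 4], [3]), (0, [3, 4, 3], [4, 3, 4]), (0, [4, 3, 4], [3]), (0, [4, 3, 4], [3]),
  (0, [4, 3, 4], [3]), (0, [4, 3, 4], [3]), (0, [3, 4, 3], [4, 3, 4]), (0, [3, 4, 3], [4, 3, 4]),
  (0, [4, 2, 4], [3, 2, 3]), (0, [4, 2, 4], [3, 2, 3]), (0, [4, 2, 4], [3, 2, 3]), (0, [3, 4, 3], [4, 3, 4]),
  (0, [3, 4, 3], [4, 3, 4]), (0, [3, 4, 3], [4, 3, 4]), (0, [4, 2, 4], [3, 2, 3]), (0, [4, 2, 4], [3, 2, 3]),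
  (0, [3, 4, 3], [4, 3, 4]), (0, [4, 2, 4], [3, 2, 3]), (0, [3, 4, 3], [4, 3, 4]), (0, [3, 4, 3], [4, 3, 4]),
  (0, [4, 2, 4], [2]), (0, [3, 4, 3], [4, 3, 4]), (0, [3, 4, 3], [4, 3, 4]), (0, [4, 2, 4], [2]),
  (0, [4, 3, 4], [3]), (0, [3, 4, 3], [4, 3, 4]), (0, [3, 4, 3], [4, 3, 4]), (0, [3, 4, 3], [4, 3, 4]),
  (0, [4, 3, 4], [3]), (0, [3, 4, 3], [4, 3, 4]), (0, [4, 2, 4], [2]), (0, [4, 2, 4], [2]),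
  (0, [3, 4, 3], [4, 3, 4]), (0, [3, 4, 3], [4, 3, 4]), (0, [4, 2, 4], [3, 2, 3]), (0, [3, 4, 3], [4, 3, 4]),
  (0, [3, 4, 3], [4, 3, 4]), (0, [4, 2, 4], [2]), (0, [4, 2, 4], [2]), (0, [4, 2, 4], [2]),
  (0, [3, 4, 3], [4, 3, 4]), (0, [3, 4, 3], [4, 3, 4]), (0, [4, 2, 4], [2]), (0, [3, 4, 3], [4, 3, 4]),
  (0, [4, 2, 4], [3, 2, 3]), (0, [3, 4, 3], [4, 3, 4]), (0, [4, 3, 4], [3]), (0, [3, 4, 3], [4, 3, 4]),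
  (0, [3, 4, 3], [4, 3, 4]), (0, [4, 3, 4], [3]), (0, [3, 4, 3], [4, 3, 4]), (0, [3, 4, 3], [4, 3, 4])]

/-- Some options of a node. -/
def tOpt33x2 : List (ℕ × List ℕ × List ℕ) := [
  (0, [3, 4, 3], [4, 3, 4]), (0, [4, 2, 4], [3, 2, 3]), (0, [4, 2, 4], [3, 2, 3]), (0, [4, 2, 4], [3, 2, 3]),
  (0, [4, 2, 4], [3, 2, 3]), (0, [4, 2, 4], [3, 2, 3]), (0, [4, 2, 4], [3, 2, 3]), (0, [4, 2, 4], [2]),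
  (0, [4, 3, 4], [3]), (0, [4, 3, 4], [3]), (0, [4, 2, 4], [2]), (0, [4, 2, 4], [2]),
  (0, [4, 2, 4], [2]), (0, [4, 2, 4], [2]), (0, [4, 2, 4], [2]), (0, [4, 2, 4], [2]),
  (0, [4, 2, 4], [2]), (0, [4, 2, 4], [2]), (0, [4, 2, 4], [2]), (0, [4, 2, 4], [2]),
  (0, [4, 2, 4], [2]), (0, [4, 2, 4], [2]), (0, [4, 2, 4], [2]), (0, [4, 2, 4], [2]),
  (0, [4, 3, 4], [3]), (0, [4, 2, 4], [2]), (0, [4, 2, 4], [2]), (0, [4, 2, 4], [2]),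
  (0, [4, 2, 4], [2]), (0, [4, 2, 4], [2]), (0, [4, 3, 4], [3]), (0, [4, 2, 4], [2]),
  (0, [4, 2, 4], [2]), (0, [4, 2, 4], [2]), (0, [4, 2, 4], [2]), (0, [4, 3, 4], [3]),
  (0, [4, 2, 4], [2]), (0, [4, 2, 4], [2]), (0, [4, 3, 4], [3]), (0, [4, 2, 4], [2]),
  (0, [4, 3, 4], [3]), (0, [4, 3, 4], [3]), (0, [3, 4, 3], [4, 3, 4]), (0, [4, 3, 4], [3]),
  (0, [4, 2, 4], [2]), (0, [4, 3, 4], [3]), (0, [4, 2, 4], [2]), (0, [4, 2, 4], [2]),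
  (0, [3, 4, 3], [4, 3, 4]), (0, [4, 2, 4], [2]), (0, [4, 2, 4], [2]), (0, [4, 2, 4], [2]),
  (0, [4, 2, 4], [2]), (0, [4, 2, 4], [2]), (0, [3, 4, 3], [4, 3, 4]), (0, [3, 4, 3], [4, 3, 4]),
  (0, [4, 3, 4], [3]), (0, [4, 2, 4], [2]), (0, [4, 2, 4], [2]), (0, [4, 2, 4], [2]),
  (0, [3, 4, 3], [4, 3, 4]), (0, [3, 4, 3], [4, 3, 4]), (0, [3, 4, 3], [4, 3, 4]), (0, [4, 3, 4], [3]),
  (0, [4, 2, 4], [2]), (0, [4, 2, 4], [2]), (0, [4, 2, 4], [2]), (0, [4, 2, 4], [2]),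
  (0, [4, 2, 4], [2]), (0, [4, 2, 4], [2]), (0, [4, 3, 4], [3]), (0, [4, 2, 4], [2]),
  (0, [4, 3, 4], [3]), (0, [4, 2, 4], [2]), (0, [4, 2, 4], [2]), (0, [4, 2, 4], [2]),
  (0, [4, 2, 4], [2]), (0, [4, 2, 4], [2]), (0, [4, 2, 4], [2]), (0, [4, 3, 4], [3])]

/-- Some options of a node. -/
def tOpt33x3 : List (ℕ × List ℕ × List ℕ) := [
  (0, [3, 4, 3], [4, 3, 4]), (0, [3, 4, 3], [4, 3, 4]), (0, [4, 3, 4], [3]), (0, [4, 3, 4], [3]),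
  (0, [4, 3, 4], [3]), (0, [4, 2, 4], [2]), (0, [3, 4, 3], [4, 3, 4]), (0, [4, 2, 4], [2]),
  (0, [3, 4, 3], [4, 3, 4]), (0, [3, 4, 3], [4, 3, 4]), (0, [4, 3, 4], [3]), (0, [4, 3, 4], [3]),
  (0, [4, 3, 4], [3]), (0, [4, 2, 4], [2]), (0, [4, 2, 4], [2]), (0, [4, 2, 4], [2]),
  (0, [3, 4, 3], [4, 3, 4]), (0, [3, 4, 3], [4, 3, 4]), (0, [3, 4, 3], [4, 3, 4]), (0, [3, 4, 3], [4, 3, 4]),
  (0, [4, 3, 4], [3]), (0, [3, 4, 3], [4, 3, 4]), (0, [3, 4, 3], [4, 3, 4]), (0, [4, 3, 4], [3]),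
  (0, [4, 3, 4], [3]), (0, [4, 3, 4], [3]), (0, [4, 2, 4], [2]), (0, [3, 4, 3], [4, 3, 4]),
  (0, [4, 3, 4], [3]), (0, [4, 3, 4], [3]), (0, [4, 3, 4], [3]), (0, [3, 4, 3], [4, 3, 4]),
  (0, [4, 2, 4], [2]), (0, [4, 2, 4], [2]), (0, [4, 2, 4], [2]), (0, [3, 4, 3], [4, 3, 4]),
  (0, [4, 3, 4], [3]), (0, [4, 3, 4], [3]), (0, [3, 4, 3], [4, 3, 4]), (0, [3, 4, 3], [4, 3, 4]),
  (0, [4, 3, 4], [3]), (0, [4, 3, 4], [3]), (0, [3, 4, 3], [4, 3, 4]), (0, [3, 4, 3], [4, 3, 4]),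
  (0, [3, 4, 3], [4, 3, 4]), (0, [4, 3, 4], [3]), (0, [3, 4, 3], [4, 3, 4]), (0, [4, 3, 4], [3]),
  (0, [4, 3, 4], [3]), (0, [4, 3, 4], [3]), (0, [3, 4, 3], [4, 3, 4]), (0, [3, 4, 3], [4, 3, 4]),
  (0, [3, 4, 3], [4, 3, 4]), (0, [3, 4, 3], [4, 3, 4]), (0, [3, 4, 3], [4, 3, 4]), (0, [4, 3, 4], [3]),
  (0, [4, 3, 4], [3]), (0, [4, 3, 4], [3]), (0, [3, 4, 3], [4, 3, 4]), (0, [3, 4, 3], [4, 3, 4]),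
  (0, [3, 4, 3], [4, 3, 4]), (0, [3, 4, 3], [4, 3, 4]), (0, [4, 2, 4], [2]), (0, [4, 3, 4], [3]),
  (0, [4, 3, 4], [3]), (0, [4, 3, 4], [3]), (0, [4, 3, 4], [3]), (0, [4, 2, 4], [2]),
  (0, [4, 2, 4], [2]), (0, [4, 2, 4], [2]), (0, [4, 3, 4], [3]), (0, [4, 3, 4], [3]),
  (0, [4, 3, 4], [3]), (0, [4, 2, 4], [2]), (0, [4, 2, 4], [2]), (0, [4, 2, 4], [2]),
  (0, [4, 2, 4], [2])]

/-- A node. -/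
def tNode33 : TNode := ⟨[0, 1, 159, 79], [1, 0, 29, 95], 11, tOpt33x0 ++ tOpt33x1 ++ tOpt33x2 ++ tOpt33x3, []⟩

/-- Some options of a node. -/
def tOpt34x0 : List (ℕ × List ℕ × List ℕ) := [
  (0, [1], [4]), (0, [0], [4]), (0, [4, 2, 4], [2]), (0, [4, 3, 2, 3, 4], [3, 2, 3]),
  (0, [4, 2, 4], [2]), (0, [4, 2, 4], [2]), (0, [4, 3, 2, 3, 4], [3, 2, 3]), (0, [4, 2, 4], [2]),
  (0, [4, 2, 4], [2]), (0, [4, 3, 2, 3, 4], [3, 2, 3]), (0, [4, 3, 2, 3, 4], [3, 2, 3]), (0, [4, 2, 4], [2]),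
  (0, [4, 2, 4], [2]), (0, [4, 2, 4], [2]), (0, [4, 3, 2, 3, 4], [3, 2, 3]), (0, [4, 3, 2, 3, 4], [3, 2, 3]),
  (0, [4, 2, 4], [2]), (0, [4, 2, 4], [2]), (0, [4, 2, 4], [2]), (0, [4, 3, 2, 3, 4], [3, 2, 3]),
  (0, [4, 2, 4], [2]), (0, [4, 2, 4], [2]), (0, [4, 2, 4], [2]), (0, [4, 2, 4], [2]),
  (0, [4, 3, 2, 3, 4], [3, 2, 3]), (0, [4, 2, 4], [2]), (0, [4, 2, 4], [2]), (0, [4, 2, 4], [2]),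
  (0, [4, 2, 4], [2]), (0, [2], [4]), (0, [4, 2, 4], [2]), (0, [4, 2, 4], [2]),
  (0, [4, 2, 4], [2]), (0, [4, 2, 4], [2]), (0, [4, 2, 4], [2]), (0, [4, 2, 4], [2]),
  (0, [4, 2, 4], [2]), (0, [4, 2, 4], [2]), (0, [4, 2, 4], [2]), (0, [4, 3, 4], [3]),
  (0, [4, 2, 4], [2]), (0, [4, 2, 4], [2]), (0, [4, 2, 4], [2]), (0, [4, 2, 4], [2]),
  (0, [4, 2, 4], [2]), (0, [4, 3, 4], [3]), (0, [4, 2, 4], [2]), (0, [4, 2, 4], [2]),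
  (0, [4, 2, 4], [2]), (0, [4, 2, 4], [2]), (0, [4, 2, 4], [2]), (0, [4, 3, 4], [3]),
  (0, [4, 3, 4], [3]), (0, [4, 3, 4], [3]), (0, [4, 2, 4], [2]), (0, [4, 2, 4], [2]),
  (0, [4, 2, 4], [2]), (0, [4, 2, 4], [2]), (0, [4, 3, 4], [3]), (0, [4, 3, 4], [3]),
  (0, [4, 3, 4], [3]), (0, [4, 2, 4], [2]), (0, [4, 2, 4], [2]), (0, [4, 2, 4], [2]),
  (0, [4, 2, 4], [2]), (0, [4, 3, 4], [3]), (0, [4, 3, 4], [3]), (0, [4, 3, 4], [3]),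
  (0, [4, 3, 4], [3]), (0, [4, 3, 4], [3]), (0, [4, 2, 4], [2]), (0, [4, 2, 4], [2]),
  (0, [4, 2, 4], [2]), (0, [4, 3, 4], [3]), (0, [4, 3, 4], [3]), (0, [4, 3, 4], [3]),
  (0, [4, 2, 4], [2]), (0, [4, 2, 4], [2]), (0, [4, 2, 4], [2]), (0, [4, 3, 4], [3])]

/-- Some options of a node. -/
def tOpt34x1 : List (ℕ × List ℕ × List ℕ) := [
  (0, [4, 3, 4], [3]), (0, [4, 2, 4], [2]), (0, [4, 3, 4], [3]), (0, [4, 3, 4], [3]),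
  (0, [4, 3, 4], [3]), (0, [4, 3, 4], [3]), (0, [4, 2, 4], [2]), (0, [4, 2, 4], [2]),
  (0, [4, 3, 4], [3]), (0, [4, 2, 4], [2]), (0, [4, 3, 4], [3]), (0, [4, 2, 4], [2]),
  (0, [3, 2, 3], [4]), (0, [4, 3, 4], [3]), (0, [4, 3, 4], [3]), (0, [4, 3, 4], [3]),
  (0, [4, 2, 4], [2]), (0, [4, 3, 4], [3]), (0, [4, 3, 4], [3]), (0, [4, 3, 4], [3]),
  (0, [4, 2, 4], [2]), (0, [4, 2, 4], [2]), (0, [4, 3, 4], [3]), (0, [4, 3, 4], [3]),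
  (0, [4, 2, 4], [2]), (0, [4, 3, 4], [3]), (0, [3], [4]), (0, [4, 2, 4], [3, 2, 3]),
  (0, [4, 2, 4], [3, 2, 3]), (0, [4, 3, 2, 3, 4], [3, 2, 3]), (0, [4, 3, 4], [3]), (0, [4, 2, 4], [3, 2, 3]),
  (0, [4, 2, 4], [3, 2, 3]), (0, [4, 2, 4], [3, 2, 3]), (0, [4, 3, 2, 3, 4], [3, 2, 3]), (0, [4, 3, 2, 3, 4], [3, 2, 3]),
  (0, [4, 3, 4], [3]), (0, [4, 3, 4], [3]), (0, [4, 3, 4], [3]), (0, [4, 3, 2, 3, 4], [3, 2, 3]),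
  (0, [4, 3, 2, 3, 4], [3, 2, 3]), (0, [4, 3, 2, 3, 4], [3, 2, 3]), (0, [4, 3, 4], [3]), (0, [4, 3, 4], [3]),
  (0, [4, 3, 2, 3, 4], [3, 2, 3]), (0, [4, 3, 4], [3]), (0, [4, 3, 2, 3, 4], [3, 2, 3]), (0, [4, 3, 2, 3, 4], [3, 2, 3]),
  (0, [4, 2, 4], [2]), (0, [4, 3, 2, 3, 4], [3, 2, 3]), (0, [4, 3, 2, 3, 4], [3, 2, 3]), (0, [4, 2, 4], [2]),
  (0, [4, 2, 4], [3, 2, 3]), (0, [4, 3, 2, 3, 4], [3, 2, 3]), (0, [4, 3, 2, 3, 4], [3, 2, 3]), (0, [4, 3, 2, 3, 4], [3, 2, 3]),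
  (0, [4, 2, 4], [3, 2, 3]), (0, [4, 3, 2, 3, 4], [3, 2, 3]), (0, [4, 2, 4], [2]), (0, [4, 2, 4], [2]),
  (0, [4, 3, 2, 3, 4], [3, 2, 3]), (0, [4, 3, 2, 3, 4], [3, 2, 3]), (0, [4, 3, 2, 3, 4], [3, 2, 3]), (0, [4, 3, 2, 3, 4], [3, 2, 3]),
  (0, [4, 3, 2, 3, 4], [3, 2, 3]), (0, [4, 2, 4], [2]), (0, [4, 2, 4], [2]), (0, [4, 2, 4], [2]),
  (0, [4, 3, 2, 3, 4], [3, 2, 3]), (0, [4, 3, 2, 3, 4], [3, 2, 3]), (0, [4, 2, 4], [2]), (0, [4, 3, 2, 3, 4], [3, 2, 3]),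
  (0, [4, 3, 2, 3, 4], [3, 2, 3]), (0, [4, 2, 4], [3, 2, 3]), (0, [4, 2, 4], [3, 2, 3]), (0, [4, 3, 2, 3, 4], [3, 2, 3]),
  (0, [4, 3, 2, 3, 4], [3, 2, 3]), (0, [4, 2, 4], [3, 2, 3]), (0, [4, 2, 4], [3, 2, 3]), (0, [4, 2, 4], [3, 2, 3])]

/-- Some options of a node. -/
def tOpt34x2 : List (ℕ × List ℕ × List ℕ) := [
  (0, [4, 2, 4], [3, 2, 3]), (0, [4, 3, 4], [3]), (0, [4, 3, 4], [3]), (0, [4, 3, 2, 3, 4], [3, 2, 3]),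
  (0, [4, 3, 4], [3]), (0, [4, 3, 4], [3]), (0, [4, 3, 2, 3, 4], [3, 2, 3]), (0, [4, 2, 4], [2]),
  (0, [4, 2, 4], [3, 2, 3]), (0, [4, 2, 4], [3, 2, 3]), (0, [4, 2, 4], [2]), (0, [4, 2, 4], [2]),
  (0, [4, 2, 4], [2]), (0, [4, 2, 4], [2]), (0, [4, 2, 4], [2]), (0, [4, 2, 4], [2]),
  (0, [4, 2, 4], [2]), (0, [4, 2, 4], [2]), (0, [4, 2, 4], [2]), (0, [4, 2, 4], [2]),
  (0, [4, 2, 4], [2]), (0, [4, 2, 4], [2]), (0, [4, 2, 4], [2]), (0, [4, 2, 4], [2]),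
  (0, [4, 3, 4], [3]), (0, [4, 2, 4], [2]), (0, [4, 2, 4], [2]), (0, [4, 2, 4], [2]),
  (0, [4, 2, 4], [2]), (0, [4, 2, 4], [2]), (0, [4, 3, 4], [3]), (0, [4, 2, 4], [2]),
  (0, [4, 2, 4], [2]), (0, [4, 2, 4], [2]), (0, [4, 2, 4], [2]), (0, [4, 3, 4], [3]),
  (0, [4, 2, 4], [2]), (0, [4, 2, 4], [2]), (0, [4, 3, 4], [3]), (0, [4, 2, 4], [2]),
  (0, [4, 3, 4], [3]), (0, [4, 3, 4], [3]), (0, [4, 3, 2, 3, 4], [3, 2, 3]), (0, [4, 3, 4], [3]),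
  (0, [4, 2, 4], [2]), (0, [4, 3, 4], [3]), (0, [4, 2, 4], [2]), (0, [4, 2, 4], [2]),
  (0, [4, 3, 2, 3, 4], [3, 2, 3]), (0, [4, 2, 4], [2]), (0, [4, 2, 4], [2]), (0, [4, 2, 4], [2]),
  (0, [4, 2, 4], [2]), (0, [4, 2, 4], [2]), (0, [4, 3, 2, 3, 4], [3, 2, 3]), (0, [4, 3, 4], [3]),
  (0, [4, 3, 2, 3, 4], [3, 2, 3]), (0, [4, 2, 4], [2]), (0, [4, 2, 4], [2]), (0, [4, 2, 4], [2]),
  (0, [4, 3, 2, 3, 4], [3, 2, 3]), (0, [4, 3, 4], [3]), (0, [4, 3, 2, 3, 4], [3, 2, 3]), (0, [4, 3, 2, 3, 4], [3, 2, 3]),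
  (0, [4, 2, 4], [2]), (0, [4, 2, 4], [2]), (0, [4, 2, 4], [2]), (0, [4, 2, 4], [2]),
  (0, [4, 2, 4], [2]), (0, [4, 2, 4], [2]), (0, [4, 3, 2, 3, 4], [3, 2, 3]), (0, [4, 2, 4], [2]),
  (0, [4, 3, 2, 3, 4], [3, 2, 3]), (0, [4, 2, 4], [2]), (0, [4, 2, 4], [2]), (0, [4, 2, 4], [2]),
  (0, [4, 2, 4], [2]), (0, [4, 2, 4], [2]), (0, [4, 2, 4], [2]), (0, [4, 3, 4], [3])]

/-- Some options of a node. -/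
def tOpt34x3 : List (ℕ × List ℕ × List ℕ) := [
  (0, [4, 3, 2, 3, 4], [3, 2, 3]), (0, [4, 3, 4], [3]), (0, [4, 3, 2, 3, 4], [3, 2, 3]), (0, [4, 3, 2, 3, 4], [3, 2, 3]),
  (0, [4, 3, 2, 3, 4], [3, 2, 3]), (0, [4, 2, 4], [2]), (0, [4, 3, 2, 3, 4], [3, 2, 3]), (0, [4, 2, 4], [2]),
  (0, [4, 3, 2, 3, 4], [3, 2, 3]), (0, [4, 3, 4], [3]), (0, [4, 3, 2, 3, 4], [3, 2, 3]), (0, [4, 3, 2, 3, 4], [3, 2, 3]),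
  (0, [4, 3, 2, 3, 4], [3, 2, 3]), (0, [4, 2, 4], [2]), (0, [4, 2, 4], [2]), (0, [4, 2, 4], [2]),
  (0, [4, 3, 2, 3, 4], [3, 2, 3]), (0, [4, 3, 4], [3]), (0, [4, 3, 2, 3, 4], [3, 2, 3]), (0, [4, 3, 4], [3]),
  (0, [4, 3, 2, 3, 4], [3, 2, 3]), (0, [4, 3, 4], [3]), (0, [4, 3, 2, 3, 4], [3, 2, 3]), (0, [4, 3, 4], [3]),
  (0, [4, 3, 2, 3, 4], [3, 2, 3]), (0, [4, 3, 2, 3, 4], [3, 2, 3]), (0, [4, 2, 4], [2]), (0, [4, 3, 4], [3]),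
  (0, [4, 3, 2, 3, 4], [3, 2, 3]), (0, [4, 3, 2, 3, 4], [3, 2, 3]), (0, [4, 3, 2, 3, 4], [3, 2, 3]), (0, [4, 3, 4], [3]),
  (0, [4, 2, 4], [2]), (0, [4, 2, 4], [2]), (0, [4, 2, 4], [2]), (0, [4, 3, 2, 3, 4], [3, 2, 3]),
  (0, [4, 3, 2, 3, 4], [3, 2, 3]), (0, [4, 3, 2, 3, 4], [3, 2, 3]), (0, [4, 3, 4], [3]), (0, [4, 3, 2, 3, 4], [3, 2, 3]),
  (0, [4, 3, 4], [3]), (0, [4, 3, 4], [3]), (0, [4, 3, 2, 3, 4], [3, 2, 3]), (0, [4, 3, 4], [3]),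
  (0, [4, 3, 2, 3, 4], [3, 2, 3]), (0, [4, 3, 2, 3, 4], [3, 2, 3]), (0, [4, 3, 4], [3]), (0, [4, 3, 2, 3, 4], [3, 2, 3]),
  (0, [4, 3, 2, 3, 4], [3, 2, 3]), (0, [4, 3, 2, 3, 4], [3, 2, 3]), (0, [4, 3, 4], [3]), (0, [4, 3, 2, 3, 4], [3, 2, 3]),
  (0, [4, 3, 4], [3]), (0, [4, 3, 4], [3]), (0, [4, 3, 2, 3, 4], [3, 2, 3]), (0, [4, 3, 2, 3, 4], [3, 2, 3]),
  (0, [4, 3, 2, 3, 4], [3, 2, 3]), (0, [4, 3, 2, 3, 4], [3, 2, 3]), (0, [4, 3, 4], [3]), (0, [4, 3, 2, 3, 4], [3, 2, 3]),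
  (0, [4, 3, 2, 3, 4], [3, 2, 3]), (0, [4, 3, 2, 3, 4], [3, 2, 3]), (0, [4, 2, 4], [2]), (0, [4, 3, 2, 3, 4], [3, 2, 3]),
  (0, [4, 3, 2, 3, 4], [3, 2, 3]), (0, [4, 3, 2, 3, 4], [3, 2, 3]), (0, [4, 3, 2, 3, 4], [3, 2, 3]), (0, [4, 2, 4], [2]),
  (0, [4, 2, 4], [2]), (0, [4, 2, 4], [2]), (0, [4, 3, 2, 3, 4], [3, 2, 3]), (0, [4, 3, 2, 3, 4], [3, 2, 3]),
  (0, [4, 3, 2, 3, 4], [3, 2, 3]), (0, [4, 2, 4], [2]), (0, [4, 2, 4], [2]), (0, [4, 2, 4], [2]),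
  (0, [4, 2, 4], [2])]

/-- A node. -/
def tNode34 : TNode := ⟨[0, 1, 159, 79], [1, 0, 29, 106], 91, tOpt34x0 ++ tOpt34x1 ++ tOpt34x2 ++ tOpt34x3, []⟩

/-- Some options of a node. -/
def tOpt35x0 : List (ℕ × List ℕ × List ℕ) := [
  (0, [1], [4]), (0, [0], [4]), (0, [4, 2, 4], [2]), (0, [3, 4, 3], [4, 3, 4]),
  (0, [4, 2, 4], [2]), (0, [4, 2, 4], [2]), (0, [3, 4, 3], [4, 3, 4]), (0, [4, 2, 4], [2]),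
  (0, [4, 2, 4], [2]), (0, [3, 4, 3], [4, 3, 4]), (0, [3, 4, 3], [4, 3, 4]), (0, [4, 2, 4], [2]),
  (0, [4, 2, 4], [2]), (0, [4, 2, 4], [2]), (0, [3, 4, 3], [4, 3, 4]), (0, [3, 4, 3], [4, 3, 4]),
  (0, [4, 2, 4], [2]), (0, [4, 2, 4], [2]), (0, [4, 2, 4], [2]), (0, [3, 4, 3], [4, 3, 4]),
  (0, [4, 2, 4], [2]), (0, [4, 2, 4], [2]), (0, [4, 2, 4], [2]), (0, [4, 2, 4], [2]),
  (0, [3, 4, 3], [4, 3, 4]), (0, [4, 2, 4], [2]), (0, [4, 2, 4], [2]), (0, [4, 2, 4], [2]),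
  (0, [4, 2, 4], [2]), (0, [2], [4]), (0, [4, 2, 4], [2]), (0, [4, 2, 4], [2]),
  (0, [4, 2, 4], [2]), (0, [4, 2, 4], [2]), (0, [4, 2, 4], [2]), (0, [3, 2, 3], [4]),
  (0, [4, 2, 4], [2]), (0, [4, 2, 4], [2]), (0, [4, 2, 4], [2]), (0, [4, 3, 4], [3]),
  (0, [4, 2, 4], [2]), (0, [4, 2, 4], [2]), (0, [4, 2, 4], [2]), (0, [4, 2, 4], [2]),
  (0, [4, 2, 4], [2]), (0, [4, 3, 4], [3]), (0, [4, 2, 4], [2]), (0, [4, 2, 4], [2]),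
  (0, [4, 2, 4], [2]), (0, [4, 2, 4], [2]), (0, [4, 2, 4], [2]), (0, [4, 3, 4], [3]),
  (0, [4, 3, 4], [3]), (0, [4, 3, 4], [3]), (0, [4, 2, 4], [2]), (0, [4, 2, 4], [2]),
  (0, [4, 2, 4], [2]), (0, [4, 2, 4], [2]), (0, [4, 3, 4], [3]), (0, [4, 3, 4], [3]),
  (0, [4, 3, 4], [3]), (0, [4, 2, 4], [2]), (0, [4, 2, 4], [2]), (0, [4, 2, 4], [2]),
  (0, [4, 2, 4], [2]), (0, [4, 3, 4], [3]), (0, [4, 3, 4], [3]), (0, [4, 3, 4], [3]),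
  (0, [4, 3, 4], [3]), (0, [4, 3, 4], [3]), (0, [4, 2, 4], [2]), (0, [4, 2, 4], [2]),
  (0, [4, 2, 4], [2]), (0, [4, 3, 4], [3]), (0, [4, 3, 4], [3]), (0, [4, 3, 4], [3]),
  (0, [4, 2, 4], [2]), (0, [4, 2, 4], [2]), (0, [4, 2, 4], [2]), (0, [4, 3, 4], [3])]

/-- Some options of a node. -/
def tOpt35x1 : List (ℕ × List ℕ × List ℕ) := [
  (0, [4, 3, 4], [3]), (0, [4, 2, 4], [2]), (0, [4, 3, 4], [3]), (0, [4, 3, 4], [3]),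
  (0, [4, 3, 4], [3]), (0, [4, 3, 4], [3]), (0, [4, 2, 4], [2]), (0, [4, 2, 4], [2]),
  (0, [4, 3, 4], [3]), (0, [4, 2, 4], [2]), (0, [4, 3, 4], [3]), (0, [4, 2, 4], [2]),
  (0, [4, 2, 4], [2]), (0, [4, 3, 4], [3]), (0, [4, 3, 4], [3]), (0, [4, 3, 4], [3]),
  (0, [4, 2, 4], [2]), (0, [4, 3, 4], [3]), (0, [4, 3, 4], [3]), (0, [4, 3, 4], [3]),
  (0, [4, 2, 4], [2]), (0, [4, 2, 4], [2]), (0, [4, 3, 4], [3]), (0, [4, 3, 4], [3]),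
  (0, [4, 2, 4], [2]), (0, [4, 3, 4], [3]), (0, [4, 3, 4], [3]), (0, [4, 3, 4], [3]),
  (0, [4, 3, 4], [3]), (0, [3, 4, 3], [4, 3, 4]), (0, [4, 3, 4], [3]), (0, [4, 3, 4], [3]),
  (0, [4, 3, 4], [3]), (0, [4, 3, 4], [3]), (0, [3, 4, 3], [4, 3, 4]), (0, [3, 4, 3], [4, 3, 4]),
  (0, [4, 3, 4], [3]), (0, [4, 3, 4], [3]), (0, [4, 3, 4], [3]), (0, [3, 4, 3], [4, 3, 4]),
  (0, [3, 4, 3], [4, 3, 4]), (0, [3, 4, 3], [4, 3, 4]), (0, [4, 3, 4], [3]), (0, [4, 3, 4], [3]),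
  (0, [3, 4, 3], [4, 3, 4]), (0, [4, 3, 4], [3]), (0, [3, 4, 3], [4, 3, 4]), (0, [3, 4, 3], [4, 3, 4]),
  (0, [4, 2, 4], [2]), (0, [3, 4, 3], [4, 3, 4]), (0, [3, 4, 3], [4, 3, 4]), (0, [4, 2, 4], [2]),
  (0, [4, 3, 4], [3]), (0, [3, 4, 3], [4, 3, 4]), (0, [3, 4, 3], [4, 3, 4]), (0, [3, 4, 3], [4, 3, 4]),
  (0, [4, 3, 4], [3]), (0, [3, 4, 3], [4, 3, 4]), (0, [4, 2, 4], [2]), (0, [4, 2, 4], [2]),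
  (0, [3, 4, 3], [4, 3, 4]), (0, [3, 4, 3], [4, 3, 4]), (0, [3, 4, 3], [4, 3, 4]), (0, [3, 4, 3], [4, 3, 4]),
  (0, [3, 4, 3], [4, 3, 4]), (0, [4, 2, 4], [2]), (0, [4, 2, 4], [2]), (0, [4, 2, 4], [2]),
  (0, [3, 4, 3], [4, 3, 4]), (0, [3, 4, 3], [4, 3, 4]), (0, [4, 2, 4], [2]), (0, [3, 4, 3], [4, 3, 4]),
  (0, [3, 4, 3], [4, 3, 4]), (0, [3, 4, 3], [4, 3, 4]), (0, [4, 3, 4], [3]), (0, [3, 4, 3], [4, 3, 4]),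
  (0, [3, 4, 3], [4, 3, 4]), (0, [4, 3, 4], [3]), (0, [3, 4, 3], [4, 3, 4]), (0, [3, 4, 3], [4, 3, 4])]

/-- Some options of a node. -/
def tOpt35x2 : List (ℕ × List ℕ × List ℕ) := [
  (0, [3, 4, 3], [4, 3, 4]), (0, [4, 3, 4], [3]), (0, [4, 3, 4], [3]), (0, [3, 4, 3], [4, 3, 4]),
  (0, [4, 3, 4], [3]), (0, [4, 3, 4], [3]), (0, [3, 4, 3], [4, 3, 4]), (0, [4, 2, 4], [2]),
  (0, [4, 3, 4], [3]), (0, [4, 3, 4], [3]), (0, [4, 2, 4], [2]), (0, [4, 2, 4], [2]),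
  (0, [4, 2, 4], [2]), (0, [4, 2, 4], [2]), (0, [4, 2, 4], [2]), (0, [4, 2, 4], [2]),
  (0, [4, 2, 4], [2]), (0, [4, 2, 4], [2]), (0, [4, 2, 4], [2]), (0, [4, 2, 4], [2]),
  (0, [4, 2, 4], [2]), (0, [4, 2, 4], [2]), (0, [4, 2, 4], [2]), (0, [4, 2, 4], [2]),
  (0, [3], [4]), (0, [4, 2, 4], [2]), (0, [4, 2, 4], [2]), (0, [4, 2, 4], [2]),
  (0, [4, 2, 4], [2]), (0, [4, 2, 4], [2]), (0, [4, 2, 4], [3, 2, 3]), (0, [4, 2, 4], [2]),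
  (0, [4, 2, 4], [2]), (0, [4, 2, 4], [2]), (0, [4, 2, 4], [2]), (0, [4, 2, 4], [3, 2, 3]),
  (0, [4, 2, 4], [2]), (0, [4, 2, 4], [2]), (0, [4, 2, 4], [3, 2, 3]), (0, [4, 2, 4], [2]),
  (0, [4, 2, 4], [3, 2, 3]), (0, [4, 2, 4], [3, 2, 3]), (0, [4, 2, 4], [3, 2, 3]), (0, [4, 2, 4], [3, 2, 3]),
  (0, [4, 2, 4], [2]), (0, [4, 2, 4], [3, 2, 3]), (0, [4, 2, 4], [2]), (0, [4, 2, 4], [2]),
  (0, [4, 2, 4], [3, 2, 3]), (0, [4, 2, 4], [2]), (0, [4, 2, 4], [2]), (0, [4, 2, 4], [2]),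
  (0, [4, 2, 4], [2]), (0, [4, 2, 4], [2]), (0, [4, 3, 4], [3]), (0, [4, 3, 4], [3]),
  (0, [3, 4, 3], [4, 3, 4]), (0, [4, 2, 4], [2]), (0, [4, 2, 4], [2]), (0, [4, 2, 4], [2]),
  (0, [4, 2, 4], [3, 2, 3]), (0, [4, 3, 4], [3]), (0, [4, 3, 4], [3]), (0, [3, 4, 3], [4, 3, 4]),
  (0, [4, 2, 4], [2]), (0, [4, 2, 4], [2]), (0, [4, 2, 4], [2]), (0, [4, 2, 4], [2]),
  (0, [4, 2, 4], [2]), (0, [4, 2, 4], [2]), (0, [3, 4, 3], [4, 3, 4]), (0, [4, 2, 4], [2]),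
  (0, [3, 4, 3], [4, 3, 4]), (0, [4, 2, 4], [2]), (0, [4, 2, 4], [2]), (0, [4, 2, 4], [2]),
  (0, [4, 2, 4], [2]), (0, [4, 2, 4], [2]), (0, [4, 2, 4], [2]), (0, [4, 2, 4], [3, 2, 3])]

/-- Some options of a node. -/
def tOpt35x3 : List (ℕ × List ℕ × List ℕ) := [
  (0, [4, 3, 4], [3]), (0, [3, 4, 3], [4, 3, 4]), (0, [3, 4, 3], [4, 3, 4]), (0, [3, 4, 3], [4, 3, 4]),
  (0, [3, 4, 3], [4, 3, 4]), (0, [4, 2, 4], [2]), (0, [4, 2, 4], [3, 2, 3]), (0, [4, 2, 4], [2]),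
  (0, [3, 4, 3], [4, 3, 4]), (0, [3, 4, 3], [4, 3, 4]), (0, [3, 4, 3], [4, 3, 4]), (0, [3, 4, 3], [4, 3, 4]),
  (0, [3, 4, 3], [4, 3, 4]), (0, [4, 2, 4], [2]), (0, [4, 2, 4], [2]), (0, [4, 2, 4], [2]),
  (0, [4, 3, 4], [3]), (0, [4, 3, 4], [3]), (0, [3, 4, 3], [4, 3, 4]), (0, [3, 4, 3], [4, 3, 4]),
  (0, [3, 4, 3], [4, 3, 4]), (0, [4, 3, 4], [3]), (0, [4, 3, 4], [3]), (0, [4, 2, 4], [3, 2, 3]),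
  (0, [3, 4, 3], [4, 3, 4]), (0, [3, 4, 3], [4, 3, 4]), (0, [4, 2, 4], [2]), (0, [4, 3, 4], [3]),
  (0, [3, 4, 3], [4, 3, 4]), (0, [3, 4, 3], [4, 3, 4]), (0, [3, 4, 3], [4, 3, 4]), (0, [4, 3, 4], [3]),
  (0, [4, 2, 4], [2]), (0, [4, 2, 4], [2]), (0, [4, 2, 4], [2]), (0, [4, 3, 4], [3]),
  (0, [3, 4, 3], [4, 3, 4]), (0, [3, 4, 3], [4, 3, 4]), (0, [3, 4, 3], [4, 3, 4]), (0, [3, 4, 3], [4, 3, 4]),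
  (0, [4, 2, 4], [3, 2, 3]), (0, [4, 2, 4], [3, 2, 3]), (0, [4, 3, 4], [3]), (0, [3, 4, 3], [4, 3, 4]),
  (0, [3, 4, 3], [4, 3, 4]), (0, [3, 4, 3], [4, 3, 4]), (0, [3, 4, 3], [4, 3, 4]), (0, [3, 4, 3], [4, 3, 4]),
  (0, [3, 4, 3], [4, 3, 4]), (0, [3, 4, 3], [4, 3, 4]), (0, [3, 4, 3], [4, 3, 4]), (0, [3, 4, 3], [4, 3, 4]),
  (0, [3, 4, 3], [4, 3, 4]), (0, [4, 3, 4], [3]), (0, [4, 3, 4], [3]), (0, [3, 4, 3], [4, 3, 4]),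
  (0, [3, 4, 3], [4, 3, 4]), (0, [3, 4, 3], [4, 3, 4]), (0, [4, 3, 4], [3]), (0, [3, 4, 3], [4, 3, 4]),
  (0, [3, 4, 3], [4, 3, 4]), (0, [3, 4, 3], [4, 3, 4]), (0, [4, 2, 4], [2]), (0, [3, 4, 3], [4, 3, 4]),
  (0, [3, 4, 3], [4, 3, 4]), (0, [3, 4, 3], [4, 3, 4]), (0, [3, 4, 3], [4, 3, 4]), (0, [4, 2, 4], [2]),
  (0, [4, 2, 4], [2]), (0, [4, 2, 4], [2]), (0, [3, 4, 3], [4, 3, 4]), (0, [3, 4, 3], [4, 3, 4]),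
  (0, [3, 4, 3], [4, 3, 4]), (0, [4, 2, 4], [2]), (0, [4, 2, 4], [2]), (0, [4, 2, 4], [2]),
  (0, [4, 2, 4], [2])]

/-- A node. -/
def tNode35 : TNode := ⟨[0, 1, 159, 79], [1, 0, 29, 184], 62, tOpt35x0 ++ tOpt35x1 ++ tOpt35x2 ++ tOpt35x3, []⟩

/-- Some options of a node. -/
def tOpt36x0 : List (ℕ × List ℕ × List ℕ) := [
  (0, [1], [4]), (0, [0], [4]), (0, [4, 2, 4], [2]), (0, [3, 4, 2, 3, 2, 4, 3], [4, 2, 3, 2, 4]),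
  (0, [4, 2, 4], [2]), (0, [4, 2, 4], [2]), (0, [4, 2, 3, 2, 4], [2, 3, 2]), (0, [4, 2, 4], [2]),
  (0, [4, 2, 4], [2]), (0, [3, 4, 2, 3, 2, 4, 3], [4, 2, 3, 2, 4]), (0, [3, 4, 2, 3, 2, 4, 3], [4, 2, 3, 2, 4]), (0, [4, 2, 4], [2]),
  (0, [4, 2, 4], [2]), (0, [4, 2, 4], [2]), (0, [4, 2, 3, 2, 4], [2, 3, 2]), (0, [4, 2, 3, 2, 4], [2, 3, 2]),
  (0, [4, 2, 4], [2]), (0, [4, 2, 4], [2]), (0, [4, 2, 4], [2]), (0, [3, 4, 2, 3, 2, 4, 3], [4, 2, 3, 2, 4]),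
  (0, [4, 2, 4], [2]), (0, [4, 2, 4], [2]), (0, [4, 2, 4], [2]), (0, [4, 2, 4], [2]),
  (0, [4, 2, 3, 2, 4], [2, 3, 2]), (0, [4, 2, 4], [2]), (0, [4, 2, 4], [2]), (0, [4, 2, 4], [2]),
  (0, [4, 2, 4], [2]), (0, [2], [4]), (0, [4, 2, 4], [2]), (0, [4, 2, 4], [2]),
  (0, [4, 2, 4], [2]), (0, [4, 2, 4], [2]), (0, [4, 2, 4], [2]), (0, [4, 2, 4], [2]),
  (0, [4, 2, 4], [2]), (0, [4, 2, 4], [2]), (0, [4, 2, 4], [2]), (0, [4, 3, 4], [3]),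
  (0, [4, 2, 4], [2]), (0, [4, 2, 4], [2]), (0, [4, 2, 4], [2]), (0, [4, 2, 4], [2]),
  (0, [4, 2, 4], [2]), (0, [3, 4, 2, 3, 2, 4, 3], [4, 2, 3, 2, 4]), (0, [4, 2, 4], [2]), (0, [4, 2, 4], [2]),
  (0, [4, 2, 4], [2]), (0, [4, 2, 4], [2]), (0, [4, 2, 4], [2]), (0, [4, 3, 4], [3]),
  (0, [4, 2, 3, 2, 4], [2, 3, 2]), (0, [4, 3, 4], [3]), (0, [4, 2, 4], [2]), (0, [4, 2, 4], [2]),
  (0, [4, 2, 4], [2]), (0, [4, 2, 4], [2]), (0, [3, 4, 2, 3, 2, 4, 3], [4, 2, 3, 2, 4]), (0, [3, 4, 2, 3, 2, 4, 3], [4, 2, 3, 2, 4]),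
  (0, [3, 4, 2, 3, 2, 4, 3], [4, 2, 3, 2, 4]), (0, [4, 2, 4], [2]), (0, [4, 2, 4], [2]), (0, [4, 2, 4], [2]),
  (0, [4, 2, 4], [2]), (0, [4, 2, 3, 2, 4], [2, 3, 2]), (0, [4, 2, 3, 2, 4], [2, 3, 2]), (0, [4, 3, 4], [3]),
  (0, [3, 4, 2, 3, 2, 4, 3], [4, 2, 3, 2, 4]), (0, [4, 2, 3, 2, 4], [2, 3, 2]), (0, [4, 2, 4], [2]), (0, [4, 2, 4], [2]),
  (0, [4, 2, 4], [2]), (0, [3, 4, 2, 3, 2, 4, 3], [4, 2, 3, 2, 4]), (0, [3, 4, 2, 3, 2, 4, 3], [4, 2, 3, 2, 4]), (0, [3, 4, 2, 3, 2, 4, 3], [4, 2, 3, 2, 4]),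
  (0, [4, 2, 4], [2]), (0, [4, 2, 4], [2]), (0, [3, 2, 3], [4]), (0, [4, 2, 3, 2, 4], [2, 3, 2])]

/-- Some options of a node. -/
def tOpt36x1 : List (ℕ × List ℕ × List ℕ) := [
  (0, [3, 4, 2, 3, 2, 4, 3], [4, 2, 3, 2, 4]), (0, [4, 2, 4], [2]), (0, [3, 4, 2, 3, 2, 4, 3], [4, 2, 3, 2, 4]), (0, [3, 4, 2, 3, 2, 4, 3], [4, 2, 3, 2, 4]),
  (0, [4, 2, 3, 2, 4], [2, 3, 2]), (0, [4, 2, 3, 2, 4], [2, 3, 2]), (0, [4, 2, 4], [2]), (0, [4, 2, 4], [2]),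
  (0, [3, 4, 2, 3, 2, 4, 3], [4, 2, 3, 2, 4]), (0, [4, 2, 4], [2]), (0, [3, 4, 2, 3, 2, 4, 3], [4, 2, 3, 2, 4]), (0, [4, 2, 4], [2]),
  (0, [4, 2, 4], [2]), (0, [3, 4, 2, 3, 2, 4, 3], [4, 2, 3, 2, 4]), (0, [3, 4, 2, 3, 2, 4, 3], [4, 2, 3, 2, 4]), (0, [4, 3, 2, 3, 4], [3, 2, 3]),
  (0, [4, 2, 4], [2]), (0, [4, 3, 4], [3]), (0, [4, 2, 3, 2, 4], [2, 3, 2]), (0, [4, 3, 4], [3]),
  (0, [4, 2, 4], [2]), (0, [4, 2, 4], [2]), (0, [3, 4, 2, 3, 2, 4, 3], [4, 2, 3, 2, 4]), (0, [4, 3, 2, 3, 4], [3, 2, 3]),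
  (0, [4, 2, 4], [2]), (0, [4, 3, 4], [3]), (0, [3, 4, 2, 4, 3], [4, 3, 2, 3, 4]), (0, [4, 3, 4], [3]),
  (0, [4, 3, 2, 3, 4], [3, 2, 3]), (0, [3, 4, 2, 3, 2, 4, 3], [4, 2, 3, 2, 4]), (0, [4, 3, 4], [3]), (0, [4, 3, 2, 3, 4], [3, 2, 3]),
  (0, [3, 4, 2, 4, 3], [4, 3, 2, 3, 4]), (0, [4, 3, 4], [3]), (0, [4, 3, 4], [3]), (0, [3, 4, 2, 3, 2, 4, 3], [4, 2, 3, 2, 4]),
  (0, [4, 3, 2, 3, 4], [3, 2, 3]), (0, [4, 3, 4], [3]), (0, [4, 3, 4], [3]), (0, [3, 4, 2, 3, 2, 4, 3], [4, 2, 3, 2, 4]),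
  (0, [3, 4, 2, 3, 2, 4, 3], [4, 2, 3, 2, 4]), (0, [4, 3, 4], [3]), (0, [4, 3, 4], [3]), (0, [4, 3, 4], [3]),
  (0, [4, 3, 4], [3]), (0, [4, 3, 2, 3, 4], [3, 2, 3]), (0, [4, 3, 4], [3]), (0, [3, 4, 2, 3, 2, 4, 3], [4, 2, 3, 2, 4]),
  (0, [4, 2, 4], [2]), (0, [4, 3, 4], [3]), (0, [3, 4, 2, 3, 2, 4, 3], [4, 2, 3, 2, 4]), (0, [4, 2, 4], [2]),
  (0, [4, 3, 2, 3, 4], [3, 2, 3]), (0, [4, 2, 3, 2, 4], [2, 3, 2]), (0, [3, 4, 2, 3, 2, 4, 3], [4, 2, 3, 2, 4]), (0, [4, 3, 4], [3]),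
  (0, [4, 3, 2, 3, 4], [3, 2, 3]), (0, [4, 3, 4], [3]), (0, [4, 2, 4], [2]), (0, [4, 2, 4], [2]),
  (0, [4, 2, 3, 2, 4], [2, 3, 2]), (0, [4, 2, 3, 2, 4], [2, 3, 2]), (0, [4, 3, 2, 3, 4], [3, 2, 3]), (0, [4, 3, 4], [3]),
  (0, [3, 4, 2, 3, 2, 4, 3], [4, 2, 3, 2, 4]), (0, [4, 2, 4], [2]), (0, [4, 2, 4], [2]), (0, [4, 2, 4], [2]),
  (0, [3, 4, 2, 3, 2, 4, 3], [4, 2, 3, 2, 4]), (0, [3, 4, 2, 3, 2, 4, 3], [4, 2, 3, 2, 4]), (0, [4, 2, 4], [2]), (0, [4, 2, 3, 2, 4], [2, 3, 2]),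
  (0, [4, 3, 2, 3, 4], [3, 2, 3]), (0, [4, 3, 4], [3]), (0, [4, 3, 2, 3, 4], [3, 2, 3]), (0, [3, 4, 2, 3, 2, 4, 3], [4, 2, 3, 2, 4]),
  (0, [3, 4, 2, 3, 2, 4, 3], [4, 2, 3, 2, 4]), (0, [4, 3, 2, 3, 4], [3, 2, 3]), (0, [3, 4, 2, 4, 3], [4, 3, 2, 3, 4]), (0, [4, 3, 4], [3])]

/-- Some options of a node. -/
def tOpt36x2 : List (ℕ × List ℕ × List ℕ) := [
  (0, [3, 4, 2, 4, 3], [4, 3, 2, 3, 4]), (0, [4, 3, 4], [3]), (0, [4, 3, 4], [3]), (0, [4, 3, 2, 3, 4], [3, 2, 3]),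
  (0, [4, 3, 4], [3]), (0, [4, 3, 4], [3]), (0, [4, 3, 2, 3, 4], [3, 2, 3]), (0, [4, 2, 4], [2]),
  (0, [4, 3, 2, 3, 4], [3, 2, 3]), (0, [4, 3, 2, 3, 4], [3, 2, 3]), (0, [4, 2, 4], [2]), (0, [4, 2, 4], [2]),
  (0, [4, 2, 4], [2]), (0, [4, 2, 4], [2]), (0, [4, 2, 4], [2]), (0, [4, 2, 4], [2]),
  (0, [4, 2, 4], [2]), (0, [4, 2, 4], [2]), (0, [4, 2, 4], [2]), (0, [4, 2, 4], [2]),
  (0, [4, 2, 4], [2]), (0, [4, 2, 4], [2]), (0, [4, 2, 4], [2]), (0, [4, 2, 4], [2]),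
  (0, [4, 3, 4], [3]), (0, [4, 2, 4], [2]), (0, [4, 2, 4], [2]), (0, [4, 2, 4], [2]),
  (0, [4, 2, 4], [2]), (0, [4, 2, 4], [2]), (0, [4, 3, 4], [3]), (0, [4, 2, 4], [2]),
  (0, [4, 2, 4], [2]), (0, [4, 2, 4], [2]), (0, [4, 2, 4], [2]), (0, [3, 4, 2, 4, 3], [4, 3, 2, 3, 4]),
  (0, [4, 2, 4], [2]), (0, [4, 2, 4], [2]), (0, [4, 3, 2, 3, 4], [3, 2, 3]), (0, [4, 2, 4], [2]),
  (0, [4, 3, 2, 3, 4], [3, 2, 3]), (0, [3, 4, 2, 4, 3], [4, 3, 2, 3, 4]), (0, [4, 3, 4], [3]), (0, [4, 3, 2, 3, 4], [3, 2, 3]),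
  (0, [4, 2, 4], [2]), (0, [4, 3, 2, 3, 4], [3, 2, 3]), (0, [4, 2, 4], [2]), (0, [4, 2, 4], [2]),
  (0, [4, 3, 4], [3]), (0, [4, 2, 4], [2]), (0, [4, 2, 4], [2]), (0, [4, 2, 4], [2]),
  (0, [4, 2, 4], [2]), (0, [4, 2, 4], [2]), (0, [3], [4]), (0, [4, 3, 4], [3]),
  (0, [3, 4, 3], [4, 3, 4]), (0, [4, 2, 4], [2]), (0, [4, 2, 4], [2]), (0, [4, 2, 4], [2]),
  (0, [3, 4, 2, 4, 3], [4, 3, 2, 3, 4]), (0, [4, 2, 4], [3, 2, 3]), (0, [4, 3, 4], [3]), (0, [3, 4, 3], [4, 3, 4]),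
  (0, [4, 2, 4], [2]), (0, [4, 2, 4], [2]), (0, [4, 2, 4], [2]), (0, [4, 2, 4], [2]),
  (0, [4, 2, 4], [2]), (0, [4, 2, 4], [2]), (0, [3, 4, 3], [4, 3, 4]), (0, [4, 2, 4], [2]),
  (0, [3, 4, 3], [4, 3, 4]), (0, [4, 2, 4], [2]), (0, [4, 2, 4], [2]), (0, [4, 2, 4], [2]),
  (0, [4, 2, 4], [2]), (0, [4, 2, 4], [2]), (0, [4, 2, 4], [2]), (0, [4, 3, 2, 3, 4], [3, 2, 3])]

/-- Some options of a node. -/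
def tOpt36x3 : List (ℕ × List ℕ × List ℕ) := [
  (0, [4, 3, 4], [3]), (0, [3, 4, 2, 4, 3], [4, 3, 2, 3, 4]), (0, [3, 4, 3], [4, 3, 4]), (0, [3, 4, 3], [4, 3, 4]),
  (0, [3, 4, 3], [4, 3, 4]), (0, [4, 2, 4], [2]), (0, [3, 4, 2, 4, 3], [4, 3, 2, 3, 4]), (0, [4, 2, 4], [2]),
  (0, [4, 2, 4], [3, 2, 3]), (0, [3, 4, 2, 4, 3], [4, 3, 2, 3, 4]), (0, [3, 4, 3], [4, 3, 4]), (0, [3, 4, 3], [4, 3, 4]),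
  (0, [3, 4, 3], [4, 3, 4]), (0, [4, 2, 4], [2]), (0, [4, 2, 4], [2]), (0, [4, 2, 4], [2]),
  (0, [4, 2, 4], [3, 2, 3]), (0, [4, 2, 4], [3, 2, 3]), (0, [4, 3, 4], [3]), (0, [4, 3, 4], [3]),
  (0, [3, 4, 3], [4, 3, 4]), (0, [3, 4, 2, 4, 3], [4, 3, 2, 3, 4]), (0, [4, 3, 4], [3]), (0, [4, 3, 2, 3, 4], [3, 2, 3]),
  (0, [3, 4, 3], [4, 3, 4]), (0, [3, 4, 3], [4, 3, 4]), (0, [4, 2, 4], [2]), (0, [4, 3, 4], [3]),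
  (0, [3, 4, 3], [4, 3, 4]), (0, [3, 4, 3], [4, 3, 4]), (0, [3, 4, 3], [4, 3, 4]), (0, [3, 4, 2, 4, 3], [4, 3, 2, 3, 4]),
  (0, [4, 2, 4], [2]), (0, [4, 2, 4], [2]), (0, [4, 2, 4], [2]), (0, [4, 3, 4], [3]),
  (0, [3, 4, 3], [4, 3, 4]), (0, [3, 4, 3], [4, 3, 4]), (0, [4, 2, 4], [3, 2, 3]), (0, [3, 4, 2, 4, 3], [4, 3, 2, 3, 4]),
  (0, [4, 3, 2, 3, 4], [3, 2, 3]), (0, [4, 3, 2, 3, 4], [3, 2, 3]), (0, [4, 3, 4], [3]), (0, [3, 4, 2, 4, 3], [4, 3, 2, 3, 4]),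
  (0, [4, 2, 4], [3, 2, 3]), (0, [3, 4, 3], [4, 3, 4]), (0, [3, 4, 2, 4, 3], [4, 3, 2, 3, 4]), (0, [3, 4, 3], [4, 3, 4]),
  (0, [3, 4, 3], [4, 3, 4]), (0, [3, 4, 3], [4, 3, 4]), (0, [4, 2, 4], [3, 2, 3]), (0, [4, 3, 4], [3]),
  (0, [4, 3, 4], [3]), (0, [3, 4, 2, 4, 3], [4, 3, 2, 3, 4]), (0, [4, 3, 4], [3]), (0, [3, 4, 3], [4, 3, 4]),
  (0, [3, 4, 3], [4, 3, 4]), (0, [3, 4, 3], [4, 3, 4]), (0, [3, 4, 2, 4, 3], [4, 3, 2, 3, 4]), (0, [3, 4, 2, 4, 3], [4, 3, 2, 3, 4]),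
  (0, [3, 4, 2, 4, 3], [4, 3, 2, 3, 4]), (0, [3, 4, 2, 4, 3], [4, 3, 2, 3, 4]), (0, [4, 2, 4], [2]), (0, [3, 4, 3], [4, 3, 4]),
  (0, [3, 4, 3], [4, 3, 4]), (0, [3, 4, 3], [4, 3, 4]), (0, [3, 4, 3], [4, 3, 4]), (0, [4, 2, 4], [2]),
  (0, [4, 2, 4], [2]), (0, [4, 2, 4], [2]), (0, [3, 4, 3], [4, 3, 4]), (0, [3, 4, 3], [4, 3, 4]),
  (0, [3, 4, 3], [4, 3, 4]), (0, [4, 2, 4], [2]), (0, [4, 2, 4], [2]), (0, [4, 2, 4], [2]),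
  (0, [4, 2, 4], [2])]

/-- A node. -/
def tNode36 : TNode := ⟨[0, 1, 159, 79], [1, 0, 29, 214], 276, tOpt36x0 ++ tOpt36x1 ++ tOpt36x2 ++ tOpt36x3, []⟩

/-- Some options of a node. -/
def tOpt37x0 : List (ℕ × List ℕ × List ℕ) := [
  (0, [1], [3]), (0, [0], [3]), (0, [3, 2, 3], [2]), (1, [], []),
  (0, [3, 2, 3], [2]), (0, [3, 2, 3], [2]), (1, [20, 17, 20, 19, 17, 19], []), (0, [3, 2, 3], [2]),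
  (0, [3, 2, 3], [2]), (1, [20, 17, 20], []), (1, [19, 17, 20, 16, 19, 17, 16, 19, 20, 16], []), (0, [3, 2, 3], [2]),
  (0, [3, 2, 3], [2]), (0, [3, 2, 3], [2]), (1, [19, 17, 19], []), (1, [16, 19, 18, 17, 19, 18, 17, 16, 22], []),
  (0, [3, 2, 3], [2]), (0, [3, 2, 3], [2]), (0, [3, 2, 3], [2]), (1, [19, 17, 19, 16, 18, 19, 18, 17, 19, 17, 16], []),
  (0, [3, 2, 3], [2]), (0, [3, 2, 3], [2]), (0, [3, 2, 3], [2]), (0, [3, 2, 3], [2]),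
  (1, [20, 16, 19, 17, 20, 19, 16, 22], []), (0, [3, 2, 3], [2]), (0, [3, 2, 3], [2]), (0, [3, 2, 3], [2]),
  (0, [3, 2, 3], [2]), (0, [3, 2, 3], [2]), (0, [3, 2, 3], [2]), (0, [3, 2, 3], [2]),
  (0, [3, 2, 3], [2]), (0, [3, 2, 3], [2]), (0, [3, 2, 3], [2]), (0, [3, 2, 3], [2]),
  (0, [3, 2, 3], [2]), (0, [3, 2, 3], [2]), (0, [3, 2, 3], [2]), (1, [19, 21, 19], []),
  (0, [3, 2, 3], [2]), (0, [2], [3]), (0, [3, 2, 3], [2]), (0, [3, 2, 3], [2]),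
  (0, [3, 2, 3], [2]), (1, [19, 18, 21, 18, 19, 18], []), (0, [3, 2, 3], [2]), (0, [3, 2, 3], [2]),
  (0, [3, 2, 3], [2]), (0, [3, 2, 3], [2]), (0, [3, 2, 3], [2]), (1, [21, 20, 17, 19, 20, 19], []),
  (1, [19, 18, 21, 18, 19], []), (1, [17, 16, 19, 17, 16, 19, 21, 16], []), (0, [3, 2, 3], [2]), (0, [3, 2, 3], [2]),
  (0, [3, 2, 3], [2]), (0, [3, 2, 3], [2]), (1, [19, 17, 21, 19], []), (1, [17, 21, 20, 16, 19, 17, 20, 19, 17, 16, 23], []),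
  (1, [19, 21, 19, 18], []), (0, [3, 2, 3], [2]), (0, [3, 2, 3], [2]), (0, [3, 2, 3], [2]),
  (0, [3, 2, 3], [2]), (1, [18, 21, 20, 19, 17, 20, 19, 18, 22], []), (1, [19, 16, 18, 21, 18, 16, 19, 18], []), (1, [17, 21, 19, 17, 16, 19, 18, 19, 18, 16, 22, 23], []),
  (1, [19, 18, 21, 16, 19, 18, 16, 18, 16, 19, 16, 22], []), (1, [18, 21, 18, 16, 18, 19, 18, 17, 19, 17, 16, 23], []), (0, [3, 2, 3], [2]), (0, [3, 2, 3], [2]),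
  (0, [3, 2, 3], [2]), (1, [16, 19, 17, 21, 17, 19, 16, 22, 23], []), (1, [17, 19, 18, 19, 21, 18, 22], []), (1, [16, 18, 19, 21, 19, 18, 16], []),
  (0, [3, 2, 3], [2]), (0, [3, 2, 3], [2]), (0, [3, 2, 3], [2]), (1, [16, 18, 21, 20, 19, 17, 20, 19, 18, 16], [])]

/-- Some options of a node. -/
def tOpt37x1 : List (ℕ × List ℕ × List ℕ) := [
  (1, [19, 18, 21, 18, 19, 20, 16, 19, 17, 20, 19, 16, 22], []), (0, [3, 2, 3], [2]), (1, [19, 16, 18, 21, 18, 16, 19], []), (1, [19, 21, 18, 21, 18, 16, 18, 21, 18, 16, 19], []),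
  (1, [19, 18, 16, 19, 17, 19, 21, 16, 18], []), (1, [16, 19, 16, 18, 21, 16, 18, 16, 19, 16, 18, 23], []), (0, [3, 2, 3], [2]), (0, [3, 2, 3], [2]),
  (1, [16, 18, 21, 20, 17, 19, 20, 19, 18, 16], []), (0, [3, 2, 3], [2]), (1, [16, 19, 16, 18, 21, 18, 16, 19, 16, 22, 23], []), (0, [3, 2, 3], [2]),
  (0, [3, 2, 3], [2]), (1, [20, 17, 20, 19, 16, 18, 21, 18, 16, 19], []), (1, [20, 19, 17, 16, 19, 20, 16, 18, 21, 18, 19, 16, 22, 23], []), (2, [], []),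
  (0, [3, 2, 3], [2]), (1, [21, 18, 21, 19, 18, 16, 18, 19, 21, 18, 19, 16], []), (1, [18, 19, 17, 19, 18, 16, 18, 21, 18, 16], []), (1, [16, 18, 19, 21, 19, 18, 16, 18], []),
  (0, [3, 2, 3], [2]), (0, [3, 2, 3], [2]), (1, [20, 17, 20, 16, 19, 16, 18, 21, 18, 16, 19, 16, 22, 23], []), (2, [20, 17, 20], []),
  (0, [3, 2, 3], [2]), (1, [19, 16, 18, 17, 21, 18, 16, 19], []), (3, [], []), (3, [18], []),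
  (3, [16, 18, 19, 18, 16, 19, 16], []), (1, [19, 21, 18, 21, 18, 19], []), (1, [16, 18, 17, 19, 21, 18, 16, 19, 16], []), (3, [16, 19, 21, 17, 21, 16, 19, 16], []),
  (3, [20, 17, 20], []), (3, [19, 21, 18, 21, 18, 19], []), (1, [16, 19, 18, 16, 18, 21, 19, 16, 18, 21, 22], []), (1, [20, 21, 17, 19, 18, 21, 20, 19, 17, 22], []),
  (2, [18], []), (2, [16, 19, 21, 17, 21, 16, 19, 16], []), (2, [19, 18, 21, 18, 16, 19, 17, 19, 21, 16], []), (1, [18, 16, 19, 21, 18, 21, 18, 19, 16, 22, 23], []),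
  (1, [20, 21, 18, 21, 17, 16, 19, 17, 20, 19, 16, 22], []), (1, [16, 19, 18, 21, 18, 16, 18, 21, 18, 16, 19, 16, 23], []), (2, [16, 18, 19, 18, 16, 19, 16], []), (2, [16, 19, 18, 16, 18, 21, 19, 16, 18, 21, 22], []),
  (1, [21, 18, 19, 21, 18, 19, 17, 22], []), (2, [19, 21, 18, 21, 18, 19], []), (1, [20, 21, 16, 18, 21, 20, 16, 23], []), (1, [16, 19, 21, 18, 17, 21, 19, 18, 17, 16, 22, 23], []),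
  (0, [3, 2, 3], [2]), (1, [19, 18, 21, 18, 16, 19, 17, 21, 17, 16, 19, 16, 22, 23], []), (1, [18, 19, 21, 18, 17, 16, 19, 21, 17, 19, 16, 23], []), (0, [3, 2, 3], [2]),
  (3, [16, 19, 18, 16, 18, 21, 19, 16, 18, 21, 22], []), (1, [19, 21, 16, 18, 21, 18, 16, 19], []), (1, [17, 21, 19, 16, 18, 21, 19, 18, 19, 17, 16, 23], []), (1, [19, 18, 21, 18, 16, 18, 21, 18, 16, 19], []),
  (3, [19, 18, 21, 18, 16, 19, 17, 19, 21, 16], []), (1, [21, 16, 18, 17, 21, 18, 17, 16, 23], []), (0, [3, 2, 3], [2]), (0, [3, 2, 3], [2]),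
  (1, [19, 21, 16, 19, 18, 21, 18, 16, 19, 16, 22, 23], []), (1, [21, 17, 19, 16, 18, 21, 18, 16, 19, 17, 22, 23], []), (2, [19, 21, 19], []), (1, [20, 21, 18, 19, 16, 18, 21, 17, 20, 16, 19], []),
  (1, [19, 17, 19, 21, 16, 18, 21, 18, 16, 22], []), (0, [3, 2, 3], [2]), (0, [3, 2, 3], [2]), (0, [3, 2, 3], [2]),
  (1, [16, 18, 21, 18, 16, 18, 21, 23], []), (1, [21, 18, 16, 19, 16, 18, 21, 19, 18, 16, 18, 23], []), (0, [3, 2, 3], [2]), (1, [18, 19, 21, 18, 17, 19, 16, 18, 21, 18, 17, 16, 22, 23], []),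
  (2, [16, 18, 19, 21, 19, 18, 16], []), (3, [19, 21, 19], []), (3, [21, 17, 16, 19, 17, 16, 19, 16], []), (1, [19, 21, 16, 18, 21, 18, 17, 16, 19], []),
  (1, [20, 21, 18, 16, 18, 21, 17, 20, 16, 23], []), (3, [17, 16, 19, 17, 16, 19, 21, 16], []), (3, [16, 18, 21, 20, 17, 19, 20, 19, 18, 16], []), (3, [21, 20, 17, 19, 20, 19], [])]

/-- Some options of a node. -/
def tOpt37x2 : List (ℕ × List ℕ × List ℕ) := [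
  (3, [16, 18, 19, 21, 19, 18, 16], []), (2, [16, 18, 19, 21, 18, 16, 19, 16], []), (2, [17, 16, 19, 17, 16, 19, 21, 16], []), (2, [16, 19, 16, 18, 21, 18, 16, 19, 16, 22, 23], []),
  (2, [16, 19, 16, 18, 21, 19, 18, 17, 16], []), (2, [18, 16, 18, 19, 21, 16, 19, 18, 16, 22], []), (2, [19, 16, 18, 21, 18, 16, 19], []), (0, [3, 2, 3], [2]),
  (3, [16, 19, 18, 19, 21, 18, 16, 19], []), (3, [16, 18, 19, 21, 18, 16, 19, 16], []), (0, [3, 2, 3], [2]), (0, [3, 2, 3], [2]),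
  (0, [3, 2, 3], [2]), (0, [3, 2, 3], [2]), (0, [3, 2, 3], [2]), (0, [3, 2, 3], [2]),
  (0, [3, 2, 3], [2]), (0, [3, 2, 3], [2]), (0, [3, 2, 3], [2]), (0, [3, 2, 3], [2]),
  (0, [3, 2, 3], [2]), (0, [3, 2, 3], [2]), (0, [3, 2, 3], [2]), (0, [3, 2, 3], [2]),
  (0, [3, 2, 3], [2]), (0, [3, 2, 3], [2]), (0, [3, 2, 3], [2]), (0, [3, 2, 3], [2]),
  (0, [3, 2, 3], [2]), (4, [], []), (0, [3, 2, 3], [2]), (0, [3, 2, 3], [2]),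
  (4, [19, 21, 18, 21, 18, 19], []), (5, [], []), (5, [16, 18, 19, 18, 16, 19, 16], []), (0, [3, 2, 3], [2]),
  (5, [19, 21, 18, 21, 18, 19], []), (5, [19, 21, 18, 21, 18, 19, 18], []), (0, [3, 2, 3], [2]), (4, [18], []),
  (0, [3, 2, 3], [2]), (0, [3, 2, 3], [2]), (0, [3, 2, 3], [2]), (0, [3, 2, 3], [2]),
  (4, [20, 16, 19, 17, 20, 19, 16, 22], []), (0, [3, 2, 3], [2]), (4, [19, 21, 19], []), (0, [3, 2, 3], [2]),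
  (0, [3, 2, 3], [2]), (0, [3, 2, 3], [2]), (0, [3, 2, 3], [2]), (6, [], []),
  (4, [19, 18, 21, 18, 19], []), (5, [19, 21, 19], []), (7, [], []), (7, [18], []),
  (7, [16, 18, 19, 18, 16, 19, 20, 17, 20, 16], []), (0, [3, 2, 3], [2]), (0, [3, 2, 3], [2]), (0, [3, 2, 3], [2]),
  (0, [3, 2, 3], [2]), (7, [20, 21, 16, 18, 21, 20, 16, 23], []), (7, [18, 16, 18, 21, 18, 16], []), (7, [16, 18, 21, 16, 18, 21, 19, 16, 18, 16, 23], []),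
  (0, [3, 2, 3], [2]), (0, [3, 2, 3], [2]), (0, [3, 2, 3], [2]), (0, [3, 2, 3], [2]),
  (0, [3, 2, 3], [2]), (0, [3, 2, 3], [2]), (7, [21, 17, 16, 19, 21, 17, 16, 19, 16, 22, 23], []), (5, [19, 16, 18, 21, 18, 16, 19], []),
  (7, [21, 17, 21, 19, 18, 16, 19, 17, 19, 16, 23], []), (6, [20, 17, 20], []), (6, [16, 18, 19, 18, 16, 19, 16], []), (6, [19, 21, 17, 19], []),
  (0, [3, 2, 3], [2]), (6, [19, 21, 19], []), (5, [16, 18, 19, 21, 19, 18, 16], []), (0, [3, 2, 3], [2])]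

/-- Some options of a node. -/
def tOpt37x3 : List (ℕ × List ℕ × List ℕ) := [
  (7, [19, 17, 19], []), (7, [20, 19, 17, 20, 19, 18, 22], []), (7, [16, 18, 19, 18, 16, 19, 16], []), (7, [20, 16, 18, 19, 20, 18, 16, 19, 17, 16], []),
  (7, [16, 18, 17, 19, 21, 16, 19, 18, 16, 18, 22], []), (4, [16, 18, 19, 21, 19, 18, 16], []), (0, [3, 2, 3], [2]), (4, [19, 21, 17, 19], []),
  (7, [16, 18, 21, 20, 19, 17, 20, 19, 18, 16], []), (7, [21, 18, 19, 21, 18, 19, 17, 22], []), (7, [16, 19, 18, 16, 18, 21, 19, 16, 18, 21, 22], []), (7, [21, 18, 21, 17, 16, 19, 18, 16, 18, 19, 16, 22], []),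
  (7, [17, 20, 19, 20, 16, 19, 17, 21, 19, 17, 16], []), (0, [3, 2, 3], [2]), (0, [3, 2, 3], [2]), (0, [3, 2, 3], [2]),
  (7, [16, 18, 19, 21, 19, 18, 16], []), (7, [19, 21, 19], []), (7, [18, 19, 17, 19, 18, 16, 18, 21, 18, 16], []), (7, [16, 18, 17, 19, 21, 16, 18, 16, 19, 16, 22], []),
  (7, [19, 21, 16, 19, 17, 21, 19, 17, 16, 22], []), (7, [19, 21, 17, 19], []), (7, [19, 21, 17, 19, 18], []), (0, [3, 2, 3], [2]),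
  (7, [16, 18, 19, 21, 18, 16, 19, 16], []), (7, [21, 17, 21, 16, 19, 16, 18, 19, 18, 16], []), (5, [19, 21, 18, 21, 18, 16, 18, 21, 18, 16, 19], []), (7, [16, 18, 19, 21, 19, 18, 16, 18], []),
  (7, [16, 18, 19, 21, 18, 16, 19, 16, 18], []), (7, [18, 21, 17, 16, 19, 17, 16, 19, 16], []), (7, [16, 18, 16, 19, 16, 18, 16, 22], []), (7, [19, 17, 19, 18], []),
  (6, [19, 17, 19], []), (6, [18], []), (6, [19, 21, 18, 21, 18, 19], []), (7, [19, 21, 19, 18], []),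
  (7, [17, 16, 19, 17, 16, 19, 21, 16], []), (7, [18, 21, 16, 19, 17, 21, 16, 19, 17, 16, 23], []), (7, [19, 21, 18, 21, 18, 19], []), (7, [19, 21, 18, 21, 18, 19, 18], []),
  (0, [3, 2, 3], [2]), (0, [3, 2, 3], [2]), (7, [16, 18, 16, 19, 21, 17, 19, 16, 18, 16, 22], []), (7, [20, 18, 16, 19, 17, 20, 19, 16, 22], []),
  (7, [20, 16, 19, 17, 20, 19, 16, 22], []), (7, [16, 18, 21, 16, 18, 21, 19, 18, 16, 18, 16, 23], []), (7, [19, 17, 21, 19], []), (7, [16, 19, 17, 21, 16, 19, 17, 16, 22], []),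
  (7, [17, 19, 21, 16, 19, 18, 19, 18, 16], []), (7, [19, 18, 21, 18, 16, 19, 17, 19, 21, 16], []), (7, [16, 19, 16, 18, 21, 18, 16, 19, 16, 22, 23], []), (7, [19, 21, 17, 21, 19], []),
  (7, [19, 21, 17, 21, 19, 18], []), (7, [21, 17, 19, 18, 21, 19, 18, 22], []), (7, [21, 19, 17, 19, 18, 22], []), (7, [16, 18, 19, 21, 16, 19, 18, 16, 22], []),
  (7, [16, 18, 16, 19, 20, 17, 20, 16, 18, 16, 22], []), (7, [16, 19, 18, 16, 18, 19, 16, 22], []), (7, [18, 19, 17, 19], []), (7, [19, 17, 21, 19, 18], []),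
  (7, [21, 19, 18, 21, 18, 19, 18, 22], []), (7, [21, 18, 19, 21, 18, 19, 18, 17, 22], []), (6, [16, 18, 21, 18, 16], []), (7, [21, 17, 19, 18, 16, 19, 17, 19, 21, 16, 22], []),
  (7, [21, 16, 19, 17, 19, 16, 18, 17, 21, 19], []), (7, [19, 21, 18, 21, 16, 19, 18, 19, 18, 16], []), (7, [17, 16, 19, 17, 16, 19, 21, 16, 18], []), (6, [16, 19, 16, 18, 21, 18, 16, 19, 16, 22, 23], []),
  (6, [16, 18, 21, 19, 18, 16, 19, 16], []), (6, [18, 16, 18, 16, 19, 21, 16, 18, 16, 22], []), (7, [21, 17, 19, 18, 21, 16, 19, 18, 19, 18, 16, 22], []), (7, [19, 21, 18, 16, 19, 18, 19, 18, 16], []),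
  (7, [19, 21, 18, 16, 19, 17, 19, 21, 16], []), (6, [16, 18, 19, 21, 19, 18, 16], []), (6, [16, 18, 16, 19, 21, 17, 19, 16, 18, 16, 22], []), (6, [16, 18, 19, 21, 18, 16, 19, 16], []),
  (6, [19, 21, 18, 21, 18, 19, 16, 18, 21, 18, 16], [])]

/-- A node. -/
def tNode37 : TNode := ⟨[0, 1, 159], [1, 0, 41], 29, tOpt37x0 ++ tOpt37x1 ++ tOpt37x2 ++ tOpt37x3, [38, 39, 50, 54, 55, 56, 57]⟩

/-- Some options of a node. -/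
def tOpt38x0 : List (ℕ × List ℕ × List ℕ) := [
  (0, [1], [4]), (0, [0], [4]), (0, [4, 2, 4], [2]), (0, [3], [4]),
  (0, [4, 2, 4], [2]), (0, [4, 2, 4], [2]), (0, [4, 2, 4], [3, 2, 3]), (0, [4, 2, 4], [2]),
  (0, [4, 2, 4], [2]), (0, [4, 2, 4], [3, 2, 3]), (0, [4, 3, 4], [3]), (0, [4, 2, 4], [2]),
  (0, [4, 2, 4], [2]), (0, [4, 2, 4], [2]), (0, [4, 2, 4], [3, 2, 3]), (0, [4, 3, 4], [3]),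
  (0, [4, 2, 4], [2]), (0, [4, 2, 4], [2]), (0, [4, 2, 4], [2]), (0, [4, 3, 4], [3]),
  (0, [4, 2, 4], [2]), (0, [4, 2, 4], [2]), (0, [4, 2, 4], [2]), (0, [4, 2, 4], [2]),
  (0, [4, 3, 4], [3]), (0, [4, 2, 4], [2]), (0, [4, 2, 4], [2]), (0, [4, 2, 4], [2]),
  (0, [4, 2, 4], [2]), (0, [4, 2, 4], [2]), (0, [4, 2, 4], [2]), (0, [4, 2, 4], [2]),
  (0, [4, 2, 4], [2]), (0, [4, 2, 4], [2]), (0, [4, 2, 4], [2]), (0, [4, 2, 4], [2]),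
  (0, [4, 2, 4], [2]), (0, [4, 2, 4], [2]), (0, [4, 2, 4], [2]), (0, [3, 4, 3], [4, 3, 4]),
  (0, [4, 2, 4], [2]), (0, [2], [4]), (0, [4, 2, 4], [2]), (0, [4, 2, 4], [2]),
  (0, [4, 2, 4], [2]), (0, [3, 4, 3], [4, 3, 4]), (0, [4, 2, 4], [2]), (0, [4, 2, 4], [2]),
  (0, [4, 2, 4], [2]), (0, [4, 2, 4], [2]), (0, [4, 2, 4], [2]), (0, [3, 4, 3], [4, 3, 4]),
  (0, [3, 4, 3], [4, 3, 4]), (0, [3, 4, 3], [4, 3, 4]), (0, [4, 2, 4], [2]), (0, [4, 2, 4], [2]),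
  (0, [4, 2, 4], [2]), (0, [4, 2, 4], [2]), (0, [3, 4, 3], [4, 3, 4]), (0, [3, 4, 3], [4, 3, 4]),
  (0, [3, 4, 3], [4, 3, 4]), (0, [4, 2, 4], [2]), (0, [4, 2, 4], [2]), (0, [4, 2, 4], [2]),
  (0, [4, 2, 4], [2]), (0, [3, 4, 3], [4, 3, 4]), (0, [3, 4, 3], [4, 3, 4]), (0, [3, 4, 3], [4, 3, 4]),
  (0, [3, 4, 3], [4, 3, 4]), (0, [3, 4, 3], [4, 3, 4]), (0, [4, 2, 4], [2]), (0, [4, 2, 4], [2]),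
  (0, [4, 2, 4], [2]), (0, [3, 4, 3], [4, 3, 4]), (0, [3, 4, 3], [4, 3, 4]), (0, [3, 4, 3], [4, 3, 4]),
  (0, [4, 2, 4], [2]), (0, [4, 2, 4], [2]), (0, [4, 2, 4], [2]), (0, [3, 4, 3], [4, 3, 4])]

/-- Some options of a node. -/
def tOpt38x1 : List (ℕ × List ℕ × List ℕ) := [
  (0, [3, 4, 3], [4, 3, 4]), (0, [4, 2, 4], [2]), (0, [3, 4, 3], [4, 3, 4]), (0, [3, 4, 3], [4, 3, 4]),
  (0, [3, 4, 3], [4, 3, 4]), (0, [3, 4, 3], [4, 3, 4]), (0, [4, 2, 4], [2]), (0, [4, 2, 4], [2]),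
  (0, [3, 4, 3], [4, 3, 4]), (0, [4, 2, 4], [2]), (0, [3, 4, 3], [4, 3, 4]), (0, [4, 2, 4], [2]),
  (0, [4, 2, 4], [2]), (0, [3, 4, 3], [4, 3, 4]), (0, [3, 4, 3], [4, 3, 4]), (0, [4, 3, 2, 3, 4], [3, 2, 3]),
  (0, [4, 2, 4], [2]), (0, [3, 4, 3], [4, 3, 4]), (0, [3, 4, 3], [4, 3, 4]), (0, [3, 4, 3], [4, 3, 4]),
  (0, [4, 2, 4], [2]), (0, [3, 2, 3], [4]), (0, [3, 4, 3], [4, 3, 4]), (0, [4, 3, 2, 3, 4], [3, 2, 3]),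
  (0, [4, 2, 4], [2]), (0, [3, 4, 3], [4, 3, 4]), (0, [4, 3, 2, 3, 4], [3, 2, 3]), (0, [4, 3, 2, 3, 4], [3, 2, 3]),
  (0, [4, 3, 2, 3, 4], [3, 2, 3]), (0, [4, 2, 4], [3, 2, 3]), (0, [3, 4, 3], [4, 3, 4]), (0, [4, 3, 2, 3, 4], [3, 2, 3]),
  (0, [4, 3, 2, 3, 4], [3, 2, 3]), (0, [4, 3, 2, 3, 4], [3, 2, 3]), (0, [4, 2, 4], [3, 2, 3]), (0, [4, 2, 4], [3, 2, 3]),
  (0, [4, 3, 2, 3, 4], [3, 2, 3]), (0, [4, 3, 2, 3, 4], [3, 2, 3]), (0, [4, 3, 2, 3, 4], [3, 2, 3]), (0, [4, 3, 4], [3]),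
  (0, [4, 3, 4], [3]), (0, [4, 3, 4], [3]), (0, [4, 3, 2, 3, 4], [3, 2, 3]), (0, [4, 3, 2, 3, 4], [3, 2, 3]),
  (0, [4, 2, 4], [3, 2, 3]), (0, [4, 3, 2, 3, 4], [3, 2, 3]), (0, [4, 3, 4], [3]), (0, [4, 3, 4], [3]),
  (0, [4, 2, 4], [2]), (0, [4, 3, 4], [3]), (0, [4, 3, 4], [3]), (0, [4, 2, 4], [2]),
  (0, [4, 3, 2, 3, 4], [3, 2, 3]), (0, [4, 3, 4], [3]), (0, [4, 3, 4], [3]), (0, [4, 3, 4], [3]),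
  (0, [4, 3, 2, 3, 4], [3, 2, 3]), (0, [4, 3, 4], [3]), (0, [4, 2, 4], [2]), (0, [4, 2, 4], [2]),
  (0, [4, 3, 4], [3]), (0, [4, 3, 4], [3]), (0, [4, 3, 4], [3]), (0, [4, 3, 4], [3]),
  (0, [4, 3, 4], [3]), (0, [4, 2, 4], [2]), (0, [4, 2, 4], [2]), (0, [4, 2, 4], [2]),
  (0, [4, 3, 4], [3]), (0, [4, 3, 4], [3]), (0, [4, 2, 4], [2]), (0, [4, 3, 4], [3]),
  (0, [4, 3, 4], [3]), (0, [4, 3, 4], [3]), (0, [4, 3, 4], [3]), (0, [4, 3, 4], [3]),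
  (0, [4, 3, 4], [3]), (0, [4, 3, 4], [3]), (0, [4, 3, 4], [3]), (0, [4, 3, 4], [3])]

/-- Some options of a node. -/
def tOpt38x2 : List (ℕ × List ℕ × List ℕ) := [
  (0, [4, 3, 4], [3]), (0, [4, 3, 4], [3]), (0, [4, 3, 4], [3]), (0, [4, 3, 4], [3]),
  (0, [4, 3, 4], [3]), (0, [4, 3, 4], [3]), (0, [4, 3, 4], [3]), (0, [4, 2, 4], [2]),
  (0, [4, 3, 4], [3]), (0, [4, 3, 4], [3]), (0, [4, 2, 4], [2]), (0, [4, 2, 4], [2]),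
  (0, [4, 2, 4], [2]), (0, [4, 2, 4], [2]), (0, [4, 2, 4], [2]), (0, [4, 2, 4], [2]),
  (0, [4, 2, 4], [2]), (0, [4, 2, 4], [2]), (0, [4, 2, 4], [2]), (0, [4, 2, 4], [2]),
  (0, [4, 2, 4], [2]), (0, [4, 2, 4], [2]), (0, [4, 2, 4], [2]), (0, [4, 2, 4], [2]),
  (0, [4, 2, 4], [2]), (0, [4, 2, 4], [2]), (0, [4, 2, 4], [2]), (0, [4, 2, 4], [2]),
  (0, [4, 2, 4], [2]), (0, [4, 3, 2, 3, 4], [3, 2, 3]), (0, [4, 2, 4], [2]), (0, [4, 2, 4], [2]),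
  (0, [4, 3, 2, 3, 4], [3, 2, 3]), (0, [4, 3, 2, 3, 4], [3, 2, 3]), (0, [4, 3, 2, 3, 4], [3, 2, 3]), (0, [4, 2, 4], [2]),
  (0, [4, 3, 2, 3, 4], [3, 2, 3]), (0, [4, 3, 2, 3, 4], [3, 2, 3]), (0, [4, 2, 4], [2]), (0, [4, 3, 2, 3, 4], [3, 2, 3]),
  (0, [4, 2, 4], [2]), (0, [4, 2, 4], [2]), (0, [4, 2, 4], [2]), (0, [4, 2, 4], [2]),
  (0, [4, 3, 2, 3, 4], [3, 2, 3]), (0, [4, 2, 4], [2]), (0, [4, 3, 4], [3]), (0, [4, 2, 4], [2]),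
  (0, [4, 2, 4], [2]), (0, [4, 2, 4], [2]), (0, [4, 2, 4], [2]), (0, [4, 3, 2, 3, 4], [3, 2, 3]),
  (0, [4, 3, 4], [3]), (0, [4, 3, 4], [3]), (0, [3, 4, 2, 4, 3], [4, 2, 4]), (0, [3, 4, 2, 4, 3], [4, 2, 4]),
  (0, [3, 4, 2, 4, 3], [4, 2, 4]), (0, [4, 2, 4], [2]), (0, [4, 2, 4], [2]), (0, [4, 2, 4], [2]),
  (0, [4, 2, 4], [2]), (0, [4, 3, 4], [3]), (0, [4, 3, 4], [3]), (0, [4, 3, 4], [3]),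
  (0, [4, 2, 4], [2]), (0, [4, 2, 4], [2]), (0, [4, 2, 4], [2]), (0, [4, 2, 4], [2]),
  (0, [4, 2, 4], [2]), (0, [4, 2, 4], [2]), (0, [3, 4, 2, 4, 3], [4, 2, 4]), (0, [4, 3, 4], [3]),
  (0, [3, 4, 2, 4, 3], [4, 2, 4]), (0, [4, 3, 2, 3, 4], [3, 2, 3]), (0, [4, 3, 2, 3, 4], [3, 2, 3]), (0, [4, 3, 2, 3, 4], [3, 2, 3]),
  (0, [4, 2, 4], [2]), (0, [4, 3, 2, 3, 4], [3, 2, 3]), (0, [4, 3, 4], [3]), (0, [4, 2, 4], [2])]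

/-- Some options of a node. -/
def tOpt38x3 : List (ℕ × List ℕ × List ℕ) := [
  (0, [3, 4, 2, 4, 3], [4, 2, 4]), (0, [3, 4, 2, 4, 3], [4, 2, 4]), (0, [3, 4, 2, 4, 3], [4, 2, 4]), (0, [3, 4, 2, 4, 3], [4, 2, 4]),
  (0, [3, 4, 2, 4, 3], [4, 2, 4]), (0, [4, 3, 4], [3]), (0, [4, 2, 4], [2]), (0, [4, 3, 4], [3]),
  (0, [3, 4, 2, 4, 3], [4, 2, 4]), (0, [4, 3, 4], [3]), (0, [3, 4, 2, 4, 3], [4, 2, 4]), (0, [4, 3, 4], [3]),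
  (0, [3, 4, 2, 4, 3], [4, 2, 4]), (0, [4, 2, 4], [2]), (0, [4, 2, 4], [2]), (0, [4, 2, 4], [2]),
  (0, [3, 4, 2, 4, 3], [4, 2, 4]), (0, [4, 3, 4], [3]), (0, [3, 4, 2, 4, 3], [4, 2, 4]), (0, [3, 4, 2, 4, 3], [4, 2, 4]),
  (0, [3, 4, 2, 4, 3], [4, 2, 4]), (0, [3, 4, 2, 4, 3], [4, 2, 4]), (0, [3, 4, 2, 4, 3], [4, 2, 4]), (0, [4, 2, 4], [2]),
  (0, [3, 4, 2, 4, 3], [4, 2, 4]), (0, [3, 4, 2, 4, 3], [4, 2, 4]), (0, [4, 3, 4], [3]), (0, [3, 4, 2, 4, 3], [4, 2, 4]),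
  (0, [3, 4, 2, 4, 3], [4, 2, 4]), (0, [3, 4, 2, 4, 3], [4, 2, 4]), (0, [3, 4, 2, 4, 3], [4, 2, 4]), (0, [3, 4, 2, 4, 3], [4, 2, 4]),
  (0, [4, 3, 2, 3, 4], [3, 2, 3]), (0, [4, 3, 2, 3, 4], [3, 2, 3]), (0, [4, 3, 2, 3, 4], [3, 2, 3]), (0, [4, 3, 4], [3]),
  (0, [4, 3, 4], [3]), (0, [3, 4, 2, 4, 3], [4, 2, 4]), (0, [3, 4, 2, 4, 3], [4, 2, 4]), (0, [3, 4, 2, 4, 3], [4, 2, 4]),
  (0, [4, 2, 4], [2]), (0, [4, 2, 4], [2]), (0, [3, 4, 2, 4, 3], [4, 2, 4]), (0, [3, 4, 2, 4, 3], [4, 2, 4]),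
  (0, [3, 4, 2, 4, 3], [4, 2, 4]), (0, [4, 3, 4], [3]), (0, [4, 3, 4], [3]), (0, [3, 4, 2, 4, 3], [4, 2, 4]),
  (0, [4, 3, 4], [3]), (0, [3, 4, 2, 4, 3], [4, 2, 4]), (0, [3, 4, 2, 4, 3], [4, 2, 4]), (0, [3, 4, 2, 4, 3], [4, 2, 4]),
  (0, [3, 4, 2, 4, 3], [4, 2, 4]), (0, [3, 4, 2, 4, 3], [4, 2, 4]), (0, [3, 4, 2, 4, 3], [4, 2, 4]), (0, [3, 4, 2, 4, 3], [4, 2, 4]),
  (0, [3, 4, 2, 4, 3], [4, 2, 4]), (0, [3, 4, 2, 4, 3], [4, 2, 4]), (0, [3, 4, 2, 4, 3], [4, 2, 4]), (0, [4, 3, 4], [3]),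
  (0, [3, 4, 2, 4, 3], [4, 2, 4]), (0, [4, 3, 4], [3]), (0, [4, 3, 4], [3]), (0, [3, 4, 2, 4, 3], [4, 2, 4]),
  (0, [4, 3, 4], [3]), (0, [3, 4, 2, 4, 3], [4, 2, 4]), (0, [4, 3, 4], [3]), (0, [3, 4, 2, 4, 3], [4, 2, 4]),
  (0, [4, 3, 4], [3]), (0, [3, 4, 2, 4, 3], [4, 2, 4]), (0, [3, 4, 2, 4, 3], [4, 2, 4]), (0, [4, 3, 4], [3]),
  (0, [3, 4, 2, 4, 3], [4, 2, 4]), (0, [4, 3, 4], [3]), (0, [3, 4, 2, 4, 3], [4, 2, 4]), (0, [4, 3, 4], [3]),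
  (0, [3, 4, 2, 4, 3], [4, 2, 4])]

/-- A node. -/
def tNode38 : TNode := ⟨[0, 1, 159, 29], [1, 0, 41, 3], 58, tOpt38x0 ++ tOpt38x1 ++ tOpt38x2 ++ tOpt38x3, []⟩

/-- Some options of a node. -/
def tOpt39x0 : List (ℕ × List ℕ × List ℕ) := [
  (0, [1], [4]), (0, [0], [4]), (0, [4, 2, 4], [2]), (1, [], []),
  (0, [4, 2, 4], [2]), (0, [4, 2, 4], [2]), (1, [20, 19, 17, 20, 19, 17, 22, 23], []), (0, [4, 2, 4], [2]),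
  (0, [4, 2, 4], [2]), (1, [20, 19, 20, 19, 17, 22, 23], []), (1, [19, 17, 19, 16, 18, 19, 18, 17, 19, 16, 23], []), (0, [4, 2, 4], [2]),
  (0, [4, 2, 4], [2]), (0, [4, 2, 4], [2]), (1, [19, 17, 19], []), (1, [16, 19, 18, 17, 19, 18, 17, 16, 22], []),
  (0, [4, 2, 4], [2]), (0, [4, 2, 4], [2]), (0, [4, 2, 4], [2]), (1, [20, 19, 17, 16, 19, 17, 16, 19, 17, 20, 16, 22, 23], []),
  (0, [4, 2, 4], [2]), (0, [4, 2, 4], [2]), (0, [4, 2, 4], [2]), (0, [4, 2, 4], [2]),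
  (1, [18, 16, 19, 18, 17, 19, 18, 16, 18, 23], []), (0, [4, 2, 4], [2]), (0, [4, 2, 4], [2]), (0, [4, 2, 4], [2]),
  (0, [4, 2, 4], [2]), (0, [4, 2, 4], [2]), (0, [4, 2, 4], [2]), (0, [4, 2, 4], [2]),
  (0, [4, 2, 4], [2]), (0, [4, 2, 4], [2]), (0, [4, 2, 4], [2]), (0, [4, 2, 4], [2]),
  (0, [4, 2, 4], [2]), (0, [4, 2, 4], [2]), (0, [4, 2, 4], [2]), (0, [4, 3, 4], [3]),
  (0, [4, 2, 4], [2]), (0, [2], [4]), (0, [4, 2, 4], [2]), (0, [4, 2, 4], [2]),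
  (0, [4, 2, 4], [2]), (0, [4, 3, 4], [3]), (0, [4, 2, 4], [2]), (0, [4, 2, 4], [2]),
  (0, [4, 2, 4], [2]), (0, [4, 2, 4], [2]), (0, [4, 2, 4], [2]), (0, [4, 3, 4], [3]),
  (0, [4, 3, 4], [3]), (0, [4, 3, 4], [3]), (0, [4, 2, 4], [2]), (0, [4, 2, 4], [2]),
  (0, [4, 2, 4], [2]), (0, [4, 2, 4], [2]), (0, [4, 3, 4], [3]), (0, [4, 3, 4], [3]),
  (0, [4, 3, 4], [3]), (0, [4, 2, 4], [2]), (0, [4, 2, 4], [2]), (0, [4, 2, 4], [2]),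
  (0, [4, 2, 4], [2]), (0, [4, 3, 4], [3]), (0, [4, 3, 4], [3]), (0, [4, 3, 4], [3]),
  (0, [4, 3, 4], [3]), (0, [4, 3, 4], [3]), (0, [4, 2, 4], [2]), (0, [4, 2, 4], [2]),
  (0, [4, 2, 4], [2]), (0, [4, 3, 4], [3]), (0, [4, 3, 4], [3]), (0, [4, 3, 4], [3]),
  (0, [4, 2, 4], [2]), (0, [4, 2, 4], [2]), (0, [4, 2, 4], [2]), (0, [4, 3, 4], [3])]

/-- Some options of a node. -/
def tOpt39x1 : List (ℕ × List ℕ × List ℕ) := [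
  (0, [4, 3, 4], [3]), (0, [4, 2, 4], [2]), (0, [4, 3, 4], [3]), (0, [4, 3, 4], [3]),
  (0, [4, 3, 4], [3]), (0, [4, 3, 4], [3]), (0, [4, 2, 4], [2]), (0, [4, 2, 4], [2]),
  (0, [4, 3, 4], [3]), (0, [4, 2, 4], [2]), (0, [4, 3, 4], [3]), (0, [4, 2, 4], [2]),
  (0, [4, 2, 4], [2]), (0, [4, 3, 4], [3]), (0, [4, 3, 4], [3]), (0, [3], [4]),
  (0, [4, 2, 4], [2]), (0, [4, 3, 4], [3]), (0, [4, 3, 4], [3]), (0, [4, 3, 4], [3]),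
  (0, [4, 2, 4], [2]), (0, [4, 2, 4], [2]), (0, [4, 3, 4], [3]), (0, [4, 2, 4], [3, 2, 3]),
  (0, [3, 2, 3], [4]), (0, [4, 3, 4], [3]), (0, [4, 2, 4], [3, 2, 3]), (0, [4, 2, 4], [3, 2, 3]),
  (0, [4, 3, 4], [3]), (1, [19, 21, 18, 21, 19], []), (0, [4, 3, 4], [3]), (0, [4, 3, 4], [3]),
  (0, [4, 2, 4], [3, 2, 3]), (0, [4, 2, 4], [3, 2, 3]), (1, [21, 18, 21, 22, 23], []), (1, [21, 18, 21, 20, 19, 17, 20, 19], []),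
  (0, [4, 2, 4], [3, 2, 3]), (0, [4, 3, 4], [3]), (0, [4, 3, 4], [3]), (1, [20, 21, 17, 16, 19, 18, 21, 19, 20, 16, 22, 23], []),
  (1, [21, 18, 21, 16, 19, 18, 17, 19, 18, 17, 16, 23], []), (1, [21, 17, 19, 17, 16, 19, 18, 16, 18, 17, 21, 19, 16, 22, 23], []), (0, [4, 3, 4], [3]), (0, [4, 3, 4], [3]),
  (1, [21, 18, 19, 21, 19, 17], []), (0, [4, 2, 4], [3, 2, 3]), (1, [19, 21, 19, 16, 18, 17, 21, 18, 16, 22], []), (1, [16, 19, 21, 18, 17, 21, 19, 18, 17, 16, 22, 23], []),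
  (0, [4, 2, 4], [2]), (1, [21, 19, 18, 17, 16, 19, 21, 16, 18, 17, 19, 18, 16, 22, 23], []), (1, [16, 18, 19, 18, 17, 21, 19, 16, 18, 21], []), (0, [4, 2, 4], [2]),
  (0, [4, 3, 4], [3]), (1, [19, 16, 18, 21, 18, 16, 19, 17, 21, 18, 22, 23], []), (1, [19, 17, 21, 17, 19, 16, 18, 17, 21, 18, 17, 16], []), (1, [19, 18, 21, 18, 16, 18, 21, 18, 16, 19, 22, 23], []),
  (0, [4, 3, 4], [3]), (1, [21, 16, 18, 17, 21, 18, 17, 16, 23], []), (0, [4, 2, 4], [2]), (0, [4, 2, 4], [2]),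
  (1, [21, 19, 18, 17, 19, 16, 18, 17, 21, 18, 16, 23], []), (1, [21, 18, 16, 19, 18, 17, 19, 21, 18, 17, 16], []), (0, [4, 2, 4], [3, 2, 3]), (1, [20, 19, 21, 18, 16, 18, 21, 20, 16, 19, 17], []),
  (1, [16, 18, 21, 18, 17, 16, 19, 21, 17, 19, 22], []), (0, [4, 2, 4], [2]), (0, [4, 2, 4], [2]), (0, [4, 2, 4], [2]),
  (1, [19, 21, 19, 18, 16, 18, 17, 21, 18, 16, 23], []), (1, [19, 21, 18, 16, 19, 16, 18, 17, 19, 21, 18, 16], []), (0, [4, 2, 4], [2]), (1, [21, 19, 18, 17, 19, 16, 18, 17, 21, 18, 17, 16], []),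
  (0, [4, 2, 4], [3, 2, 3]), (0, [4, 2, 4], [3, 2, 3]), (0, [4, 3, 4], [3]), (1, [21, 17, 19, 16, 18, 21, 18, 17, 16, 19, 18, 23], []),
  (1, [21, 18, 16, 18, 17, 21, 18, 17, 16, 23], []), (0, [4, 3, 4], [3]), (0, [4, 2, 4], [3, 2, 3]), (0, [4, 2, 4], [3, 2, 3])]

/-- Some options of a node. -/
def tOpt39x2 : List (ℕ × List ℕ × List ℕ) := [
  (0, [4, 2, 4], [3, 2, 3]), (0, [3, 4, 2, 4, 3], [4, 2, 4]), (0, [3, 4, 2, 4, 3], [4, 2, 4]), (0, [4, 2, 4], [3, 2, 3]),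
  (0, [3, 4, 2, 4, 3], [4, 2, 4]), (0, [3, 4, 2, 4, 3], [4, 2, 4]), (0, [4, 2, 4], [3, 2, 3]), (0, [4, 2, 4], [2]),
  (0, [4, 3, 4], [3]), (0, [4, 3, 4], [3]), (0, [4, 2, 4], [2]), (0, [4, 2, 4], [2]),
  (0, [4, 2, 4], [2]), (0, [4, 2, 4], [2]), (0, [4, 2, 4], [2]), (0, [4, 2, 4], [2]),
  (0, [4, 2, 4], [2]), (0, [4, 2, 4], [2]), (0, [4, 2, 4], [2]), (0, [4, 2, 4], [2]),
  (0, [4, 2, 4], [2]), (0, [4, 2, 4], [2]), (0, [4, 2, 4], [2]), (0, [4, 2, 4], [2]),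
  (0, [4, 2, 4], [2]), (0, [4, 2, 4], [2]), (0, [4, 2, 4], [2]), (0, [4, 2, 4], [2]),
  (0, [4, 2, 4], [2]), (0, [4, 3, 4], [3]), (0, [4, 2, 4], [2]), (0, [4, 2, 4], [2]),
  (0, [4, 3, 4], [3]), (0, [4, 3, 4], [3]), (0, [4, 3, 4], [3]), (0, [4, 2, 4], [2]),
  (0, [4, 3, 4], [3]), (0, [4, 3, 4], [3]), (0, [4, 2, 4], [2]), (0, [4, 3, 4], [3]),
  (0, [4, 2, 4], [2]), (0, [4, 2, 4], [2]), (0, [4, 2, 4], [2]), (0, [4, 2, 4], [2]),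
  (0, [4, 3, 4], [3]), (0, [4, 2, 4], [2]), (0, [4, 3, 4], [3]), (0, [4, 2, 4], [2]),
  (0, [4, 2, 4], [2]), (0, [4, 2, 4], [2]), (0, [4, 2, 4], [2]), (0, [4, 3, 2, 3, 4], [3, 2, 3]),
  (0, [4, 3, 4], [3]), (0, [3, 4, 2, 4, 3], [4, 2, 4]), (0, [2, 3, 4, 3, 2], [3, 2, 4, 2, 3]), (0, [2, 3, 4, 3, 2], [3, 2, 4, 2, 3]),
  (0, [4, 3, 4], [3]), (0, [4, 2, 4], [2]), (0, [4, 2, 4], [2]), (0, [4, 2, 4], [2]),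
  (0, [4, 2, 4], [2]), (0, [2, 3, 4, 3, 2], [3, 2, 4, 2, 3]), (0, [2, 3, 4, 3, 2], [3, 2, 4, 2, 3]), (0, [4, 3, 4], [3]),
  (0, [4, 2, 4], [2]), (0, [4, 2, 4], [2]), (0, [4, 2, 4], [2]), (0, [4, 2, 4], [2]),
  (0, [4, 2, 4], [2]), (0, [4, 2, 4], [2]), (0, [4, 3, 4], [3]), (0, [3, 4, 2, 4, 3], [4, 2, 4]),
  (0, [4, 3, 4], [3]), (0, [4, 3, 2, 3, 4], [3, 2, 3]), (0, [4, 3, 2, 3, 4], [3, 2, 3]), (0, [4, 3, 2, 3, 4], [3, 2, 3]),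
  (0, [4, 2, 4], [2]), (0, [4, 3, 2, 3, 4], [3, 2, 3]), (0, [3, 4, 2, 4, 3], [4, 2, 4]), (0, [4, 2, 4], [2])]

/-- Some options of a node. -/
def tOpt39x3 : List (ℕ × List ℕ × List ℕ) := [
  (0, [2, 3, 4, 3, 2], [3, 2, 4, 2, 3]), (0, [2, 3, 4, 3, 2], [3, 2, 4, 2, 3]), (0, [4, 3, 4], [3]), (0, [4, 3, 4], [3]),
  (0, [4, 3, 4], [3]), (0, [4, 3, 4], [3]), (0, [4, 2, 4], [2]), (0, [4, 3, 4], [3]),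
  (0, [2, 3, 4, 3, 2], [3, 2, 4, 2, 3]), (0, [2, 3, 4, 3, 2], [3, 2, 4, 2, 3]), (0, [4, 3, 4], [3]), (0, [4, 3, 4], [3]),
  (0, [4, 3, 4], [3]), (0, [4, 2, 4], [2]), (0, [4, 2, 4], [2]), (0, [4, 2, 4], [2]),
  (0, [2, 3, 4, 3, 2], [3, 2, 4, 2, 3]), (0, [2, 3, 4, 3, 2], [3, 2, 4, 2, 3]), (0, [2, 3, 4, 3, 2], [3, 2, 4, 2, 3]), (0, [2, 3, 4, 3, 2], [3, 2, 4, 2, 3]),
  (0, [4, 3, 4], [3]), (0, [2, 3, 4, 3, 2], [3, 2, 4, 2, 3]), (0, [2, 3, 4, 3, 2], [3, 2, 4, 2, 3]), (0, [4, 2, 4], [2]),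
  (0, [4, 3, 4], [3]), (0, [4, 3, 4], [3]), (0, [3, 4, 2, 4, 3], [4, 2, 4]), (0, [2, 3, 4, 3, 2], [3, 2, 4, 2, 3]),
  (0, [4, 3, 4], [3]), (0, [4, 3, 4], [3]), (0, [4, 3, 4], [3]), (0, [2, 3, 4, 3, 2], [3, 2, 4, 2, 3]),
  (0, [4, 3, 2, 3, 4], [3, 2, 3]), (0, [4, 3, 2, 3, 4], [3, 2, 3]), (0, [4, 3, 2, 3, 4], [3, 2, 3]), (0, [2, 3, 4, 3, 2], [3, 2, 4, 2, 3]),
  (0, [4, 3, 4], [3]), (0, [4, 3, 4], [3]), (0, [2, 3, 4, 3, 2], [3, 2, 4, 2, 3]), (0, [2, 3, 4, 3, 2], [3, 2, 4, 2, 3]),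
  (0, [4, 2, 4], [2]), (0, [4, 2, 4], [2]), (0, [2, 3, 4, 3, 2], [3, 2, 4, 2, 3]), (0, [2, 3, 4, 3, 2], [3, 2, 4, 2, 3]),
  (0, [2, 3, 4, 3, 2], [3, 2, 4, 2, 3]), (0, [4, 3, 4], [3]), (0, [2, 3, 4, 3, 2], [3, 2, 4, 2, 3]), (0, [4, 3, 4], [3]),
  (0, [4, 3, 4], [3]), (0, [4, 3, 4], [3]), (0, [2, 3, 4, 3, 2], [3, 2, 4, 2, 3]), (0, [2, 3, 4, 3, 2], [3, 2, 4, 2, 3]),
  (0, [2, 3, 4, 3, 2], [3, 2, 4, 2, 3]), (0, [2, 3, 4, 3, 2], [3, 2, 4, 2, 3]), (0, [2, 3, 4, 3, 2], [3, 2, 4, 2, 3]), (0, [4, 3, 4], [3]),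
  (0, [4, 3, 4], [3]), (0, [4, 3, 4], [3]), (0, [2, 3, 4, 3, 2], [3, 2, 4, 2, 3]), (0, [2, 3, 4, 3, 2], [3, 2, 4, 2, 3]),
  (0, [2, 3, 4, 3, 2], [3, 2, 4, 2, 3]), (0, [2, 3, 4, 3, 2], [3, 2, 4, 2, 3]), (0, [4, 3, 2, 3, 4], [3, 2, 3]), (0, [4, 3, 4], [3]),
  (0, [4, 3, 4], [3]), (0, [4, 3, 4], [3]), (0, [4, 3, 4], [3]), (0, [4, 3, 2, 3, 4], [3, 2, 3]),
  (0, [4, 3, 2, 3, 4], [3, 2, 3]), (0, [4, 3, 2, 3, 4], [3, 2, 3]), (0, [4, 3, 4], [3]), (0, [4, 3, 4], [3]),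
  (0, [4, 3, 4], [3]), (0, [4, 3, 2, 3, 4], [3, 2, 3]), (0, [4, 3, 2, 3, 4], [3, 2, 3]), (0, [4, 3, 2, 3, 4], [3, 2, 3]),
  (0, [4, 3, 2, 3, 4], [3, 2, 3])]

/-- A node. -/
def tNode39 : TNode := ⟨[0, 1, 159, 29], [1, 0, 41, 95], 59, tOpt39x0 ++ tOpt39x1 ++ tOpt39x2 ++ tOpt39x3, [40]⟩

/-- Some options of a node. -/
def tOpt40x0 : List (ℕ × List ℕ × List ℕ) := [
  (0, [1], [5]), (0, [0], [5]), (0, [5, 4, 5], [2, 4, 2]), (0, [4], [5]),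
  (0, [5, 3, 5], [3]), (0, [5, 4, 5], [2, 4, 2]), (0, [5, 2, 5], [2]), (0, [5, 3, 5], [3]),
  (0, [5, 4, 5], [2, 4, 2]), (0, [5, 2, 5], [2]), (0, [5, 2, 5], [2]), (0, [5, 3, 5], [3]),
  (0, [5, 3, 5], [3]), (0, [5, 3, 5], [3]), (0, [5, 2, 5], [2]), (0, [5, 2, 5], [2]),
  (0, [5, 3, 5], [3]), (0, [5, 3, 5], [3]), (0, [5, 3, 5], [3]), (0, [5, 2, 5], [2]),
  (0, [5, 3, 5], [3]), (0, [5, 3, 5], [3]), (0, [5, 3, 5], [3]), (0, [5, 3, 5], [3]),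
  (0, [5, 2, 5], [2]), (0, [5, 3, 5], [3]), (0, [5, 3, 5], [3]), (0, [5, 3, 5], [3]),
  (0, [5, 3, 5], [3]), (0, [5, 3, 5], [3]), (0, [5, 3, 5], [3]), (0, [5, 3, 5], [3]),
  (0, [5, 3, 5], [3]), (0, [5, 3, 5], [3]), (0, [5, 3, 5], [3]), (0, [5, 3, 5], [3]),
  (0, [5, 3, 5], [3]), (0, [5, 3, 5], [3]), (0, [5, 3, 5], [3]), (0, [5, 2, 5], [2]),
  (0, [4, 3, 4], [5]), (0, [2], [5]), (0, [5, 3, 5], [3]), (0, [5, 3, 5], [3]),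
  (0, [5, 3, 5], [3]), (0, [5, 2, 5], [2]), (0, [5, 3, 5], [3]), (0, [5, 3, 5], [3]),
  (0, [5, 4, 5], [2, 4, 2]), (0, [5, 3, 5], [3]), (0, [5, 3, 5], [3]), (0, [5, 2, 5], [2]),
  (0, [5, 2, 5], [2]), (0, [5, 2, 5], [2]), (0, [5, 3, 5], [3]), (0, [5, 3, 5], [3]),
  (0, [5, 4, 5], [2, 4, 2]), (0, [5, 3, 5], [3]), (0, [5, 2, 5], [2]), (0, [5, 2, 5], [2]),
  (0, [5, 2, 5], [2]), (0, [5, 4, 5], [2, 4, 2]), (0, [5, 3, 5], [3]), (0, [5, 3, 5], [3]),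
  (0, [5, 3, 5], [3]), (0, [5, 2, 5], [2]), (0, [5, 2, 5], [2]), (0, [5, 2, 5], [2]),
  (0, [5, 2, 5], [2]), (0, [5, 2, 5], [2]), (0, [5, 4, 5], [2, 4, 2]), (0, [5, 3, 5], [3]),
  (0, [5, 3, 5], [3]), (0, [5, 2, 5], [2]), (0, [5, 2, 5], [2]), (0, [5, 2, 5], [2]),
  (0, [5, 3, 5], [3]), (0, [5, 3, 5], [3]), (0, [5, 4, 5], [2, 4, 2]), (0, [5, 2, 5], [2])]

/-- Some options of a node. -/
def tOpt40x1 : List (ℕ × List ℕ × List ℕ) := [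
  (0, [5, 2, 5], [2]), (0, [5, 4, 5], [2, 4, 2]), (0, [5, 2, 5], [2]), (0, [5, 2, 5], [2]),
  (0, [5, 2, 5], [2]), (0, [5, 2, 5], [2]), (0, [5, 3, 5], [3]), (0, [5, 4, 5], [2, 4, 2]),
  (0, [5, 2, 5], [2]), (0, [5, 4, 5], [2, 4, 2]), (0, [5, 2, 5], [2]), (0, [5, 4, 5], [2, 4, 2]),
  (0, [5, 3, 5], [3]), (0, [5, 2, 5], [2]), (0, [5, 2, 5], [2]), (0, [3], [5]),
  (1, [], []), (0, [5, 2, 5], [2]), (0, [5, 2, 5], [2]), (0, [5, 2, 5], [2]),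
  (0, [5, 3, 5], [3]), (0, [4, 2, 4], [5]), (0, [5, 2, 5], [2]), (0, [5, 2, 5], [2]),
  (0, [3, 2, 3], [5]), (0, [5, 2, 5], [2]), (0, [5, 2, 5], [2]), (0, [5, 2, 5], [2]),
  (0, [5, 2, 5], [2]), (0, [5, 2, 5], [2]), (0, [5, 2, 5], [2]), (0, [5, 2, 5], [2]),
  (0, [5, 2, 5], [2]), (0, [5, 2, 5], [2]), (0, [5, 2, 5], [2]), (0, [5, 2, 5], [2]),
  (0, [5, 2, 5], [2]), (0, [5, 2, 5], [2]), (0, [5, 2, 5], [2]), (0, [5, 2, 5], [2]),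
  (0, [5, 2, 5], [2]), (0, [5, 2, 5], [2]), (0, [5, 2, 5], [2]), (0, [5, 2, 5], [2]),
  (0, [5, 2, 5], [2]), (0, [5, 2, 5], [2]), (0, [5, 2, 5], [2]), (0, [5, 2, 5], [2]),
  (0, [5, 3, 5], [3]), (0, [5, 2, 5], [2]), (0, [5, 2, 5], [2]), (0, [5, 4, 5], [2, 4, 2]),
  (0, [5, 2, 5], [2]), (0, [5, 2, 5], [2]), (0, [5, 2, 5], [2]), (0, [5, 2, 5], [2]),
  (0, [5, 2, 5], [2]), (0, [5, 2, 5], [2]), (0, [5, 3, 5], [3]), (0, [5, 4, 5], [2, 4, 2]),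
  (0, [5, 2, 5], [2]), (0, [5, 2, 5], [2]), (0, [5, 2, 5], [2]), (0, [5, 2, 5], [2]),
  (0, [5, 2, 5], [2]), (0, [5, 3, 5], [3]), (0, [5, 3, 5], [3]), (0, [4, 5, 4], [3, 2, 3]),
  (0, [5, 2, 5], [2]), (0, [5, 2, 5], [2]), (2, [], []), (0, [5, 2, 5], [2]),
  (0, [5, 2, 5], [2]), (0, [5, 2, 5], [2]), (0, [5, 2, 5], [2]), (0, [5, 2, 5], [2]),
  (0, [5, 2, 5], [2]), (0, [5, 2, 5], [2]), (0, [5, 2, 5], [2]), (0, [5, 2, 5], [2])]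

/-- Some options of a node. -/
def tOpt40x2 : List (ℕ × List ℕ × List ℕ) := [
  (0, [5, 2, 5], [2]), (0, [5, 2, 5], [2]), (0, [5, 2, 5], [2]), (0, [5, 2, 5], [2]),
  (0, [5, 2, 5], [2]), (0, [5, 2, 5], [2]), (0, [5, 2, 5], [2]), (0, [5, 3, 5], [3]),
  (0, [5, 2, 5], [2]), (0, [5, 2, 5], [2]), (0, [5, 3, 5], [3]), (0, [5, 3, 5], [3]),
  (0, [5, 3, 5], [3]), (0, [5, 3, 5], [3]), (0, [5, 4, 5], [2, 4, 2]), (0, [5, 4, 5], [2, 4, 2]),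
  (0, [5, 3, 5], [3]), (0, [5, 3, 5], [3]), (0, [5, 3, 5], [3]), (0, [5, 3, 5], [3]),
  (0, [5, 3, 5], [3]), (0, [5, 4, 5], [2, 4, 2]), (0, [5, 4, 5], [2, 4, 2]), (0, [5, 4, 5], [2, 4, 2]),
  (0, [5, 4, 5], [2, 4, 2]), (0, [5, 3, 5], [3]), (0, [5, 4, 5], [2, 4, 2]), (0, [5, 4, 5], [2, 4, 2]),
  (0, [5, 4, 5], [2, 4, 2]), (0, [5, 2, 5], [2]), (0, [5, 4, 5], [2, 4, 2]), (0, [5, 3, 5], [3]),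
  (0, [5, 2, 5], [2]), (0, [5, 2, 5], [2]), (0, [5, 2, 5], [2]), (0, [5, 4, 5], [2, 4, 2]),
  (0, [5, 2, 5], [2]), (0, [5, 2, 5], [2]), (0, [5, 4, 5], [2, 4, 2]), (0, [5, 2, 5], [2]),
  (0, [5, 4, 5], [2, 4, 2]), (0, [5, 4, 5], [2, 4, 2]), (0, [5, 3, 5], [3]), (0, [5, 4, 5], [2, 4, 2]),
  (0, [5, 2, 5], [2]), (0, [5, 4, 5], [2, 4, 2]), (0, [5, 2, 5], [2]), (0, [5, 3, 5], [3]),
  (0, [5, 3, 5], [3]), (0, [5, 3, 5], [3]), (0, [5, 3, 5], [3]), (0, [5, 2, 5], [2]),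
  (0, [5, 2, 5], [2]), (0, [5, 2, 5], [2]), (0, [5, 2, 5], [2]), (0, [5, 2, 5], [2]),
  (0, [5, 2, 5], [2]), (0, [5, 3, 5], [3]), (0, [5, 3, 5], [3]), (0, [5, 3, 5], [3]),
  (0, [5, 3, 5], [3]), (0, [5, 2, 5], [2]), (0, [5, 2, 5], [2]), (0, [5, 2, 5], [2]),
  (0, [5, 3, 5], [3]), (0, [5, 3, 5], [3]), (0, [5, 3, 5], [3]), (0, [5, 3, 5], [3]),
  (0, [5, 3, 5], [3]), (0, [5, 3, 5], [3]), (0, [5, 2, 5], [2]), (0, [5, 2, 5], [2]),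
  (0, [5, 2, 5], [2]), (0, [5, 2, 5], [2]), (0, [5, 2, 5], [2]), (0, [5, 2, 5], [2]),
  (0, [5, 3, 5], [3]), (0, [5, 2, 5], [2]), (0, [5, 2, 5], [2]), (0, [5, 4, 5], [2, 4, 2])]

/-- Some options of a node. -/
def tOpt40x3 : List (ℕ × List ℕ × List ℕ) := [
  (0, [5, 2, 5], [2]), (0, [5, 2, 5], [2]), (0, [5, 2, 5], [2]), (0, [5, 2, 5], [2]),
  (0, [5, 2, 5], [2]), (0, [5, 2, 5], [2]), (0, [5, 3, 5], [3]), (0, [5, 2, 5], [2]),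
  (0, [5, 2, 5], [2]), (0, [5, 2, 5], [2]), (0, [5, 2, 5], [2]), (0, [5, 2, 5], [2]),
  (0, [5, 2, 5], [2]), (0, [5, 3, 5], [3]), (0, [5, 3, 5], [3]), (0, [5, 3, 5], [3]),
  (0, [5, 2, 5], [2]), (0, [5, 2, 5], [2]), (0, [5, 2, 5], [2]), (0, [5, 2, 5], [2]),
  (0, [5, 2, 5], [2]), (0, [5, 2, 5], [2]), (0, [5, 2, 5], [2]), (0, [5, 4, 5], [2, 4, 2]),
  (0, [5, 2, 5], [2]), (0, [5, 2, 5], [2]), (0, [5, 2, 5], [2]), (0, [5, 2, 5], [2]),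
  (0, [5, 2, 5], [2]), (0, [5, 2, 5], [2]), (0, [5, 2, 5], [2]), (0, [5, 2, 5], [2]),
  (0, [5, 2, 5], [2]), (0, [5, 2, 5], [2]), (0, [5, 2, 5], [2]), (0, [5, 2, 5], [2]),
  (0, [5, 2, 5], [2]), (0, [5, 2, 5], [2]), (0, [5, 2, 5], [2]), (0, [5, 2, 5], [2]),
  (0, [5, 4, 5], [2, 4, 2]), (0, [5, 4, 5], [2, 4, 2]), (0, [5, 2, 5], [2]), (0, [5, 2, 5], [2]),
  (0, [5, 2, 5], [2]), (0, [5, 2, 5], [2]), (0, [5, 2, 5], [2]), (0, [5, 2, 5], [2]),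
  (0, [5, 2, 5], [2]), (0, [5, 2, 5], [2]), (0, [5, 2, 5], [2]), (0, [5, 2, 5], [2]),
  (0, [5, 2, 5], [2]), (0, [5, 2, 5], [2]), (0, [5, 2, 5], [2]), (0, [5, 2, 5], [2]),
  (0, [5, 2, 5], [2]), (0, [5, 2, 5], [2]), (0, [5, 2, 5], [2]), (0, [5, 2, 5], [2]),
  (0, [5, 2, 5], [2]), (0, [5, 2, 5], [2]), (0, [5, 2, 5], [2]), (0, [5, 2, 5], [2]),
  (0, [5, 2, 5], [2]), (0, [5, 2, 5], [2]), (0, [5, 2, 5], [2]), (0, [5, 2, 5], [2]),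
  (0, [5, 2, 5], [2]), (0, [5, 2, 5], [2]), (0, [5, 2, 5], [2]), (0, [5, 2, 5], [2]),
  (0, [5, 2, 5], [2]), (0, [5, 2, 5], [2]), (0, [5, 2, 5], [2]), (0, [5, 2, 5], [2]),
  (0, [5, 2, 5], [2])]

/-- A node. -/
def tNode40 : TNode := ⟨[0, 1, 159, 29, 59], [1, 0, 41, 95, 3], 54, tOpt40x0 ++ tOpt40x1 ++ tOpt40x2 ++ tOpt40x3, [41, 47]⟩

/-- Some options of a node. -/
def tOpt41x0 : List (ℕ × List ℕ × List ℕ) := [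
  (0, [1], [6]), (0, [0], [6]), (0, [6, 2, 6], [4, 2, 4]), (0, [4], [6]),
  (0, [6, 2, 6], [4, 2, 4]), (0, [6, 2, 6], [4, 2, 4]), (0, [6, 3, 6], [4, 3, 4]), (0, [6, 2, 6], [4, 2, 4]),
  (0, [6, 2, 6], [4, 2, 4]), (0, [6, 3, 6], [4, 3, 4]), (0, [6, 2, 6], [4, 2, 4]), (0, [6, 2, 6], [4, 2, 4]),
  (0, [6, 2, 6], [4, 2, 4]), (0, [6, 2, 6], [4, 2, 4]), (1, [], []), (0, [6, 2, 6], [4, 2, 4]),
  (0, [6, 2, 6], [4, 2, 4]), (0, [6, 2, 6], [4, 2, 4]), (0, [6, 2, 6], [4, 2, 4]), (0, [6, 2, 6], [4, 2, 4]),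
  (0, [6, 2, 6], [4, 2, 4]), (0, [6, 2, 6], [4, 2, 4]), (0, [6, 2, 6], [4, 2, 4]), (0, [6, 2, 6], [4, 2, 4]),
  (0, [6, 2, 6], [4, 2, 4]), (0, [6, 2, 6], [4, 2, 4]), (0, [6, 2, 6], [4, 2, 4]), (0, [6, 2, 6], [4, 2, 4]),
  (0, [6, 2, 6], [4, 2, 4]), (0, [6, 2, 6], [4, 2, 4]), (0, [6, 2, 6], [4, 2, 4]), (0, [6, 2, 6], [4, 2, 4]),
  (0, [6, 2, 6], [4, 2, 4]), (0, [6, 2, 6], [4, 2, 4]), (0, [6, 2, 6], [4, 2, 4]), (0, [6, 2, 6], [4, 2, 4]),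
  (0, [6, 2, 6], [4, 2, 4]), (0, [6, 2, 6], [4, 2, 4]), (0, [6, 2, 6], [4, 2, 4]), (0, [6, 2, 6], [4, 2, 4]),
  (0, [6, 2, 6], [4, 2, 4]), (0, [2], [6]), (0, [6, 2, 6], [4, 2, 4]), (0, [6, 2, 6], [4, 2, 4]),
  (0, [6, 2, 6], [4, 2, 4]), (0, [6, 2, 6], [4, 2, 4]), (0, [6, 2, 6], [4, 2, 4]), (0, [6, 2, 6], [4, 2, 4]),
  (0, [6, 2, 6], [4, 2, 4]), (0, [6, 2, 6], [4, 2, 4]), (0, [6, 2, 6], [4, 2, 4]), (0, [6, 2, 6], [4, 2, 4]),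
  (0, [6, 2, 6], [4, 2, 4]), (0, [6, 2, 6], [4, 2, 4]), (0, [6, 2, 6], [4, 2, 4]), (0, [6, 2, 6], [4, 2, 4]),
  (0, [6, 2, 6], [4, 2, 4]), (0, [6, 2, 6], [4, 2, 4]), (0, [6, 2, 6], [4, 2, 4]), (0, [6, 2, 6], [4, 2, 4]),
  (0, [6, 2, 6], [4, 2, 4]), (0, [6, 2, 6], [4, 2, 4]), (0, [6, 2, 6], [4, 2, 4]), (0, [6, 2, 6], [4, 2, 4]),
  (0, [6, 2, 6], [4, 2, 4]), (0, [6, 2, 6], [4, 2, 4]), (0, [6, 2, 6], [4, 2, 4]), (0, [6, 2, 6], [4, 2, 4]),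
  (0, [6, 2, 6], [4, 2, 4]), (0, [6, 2, 6], [4, 2, 4]), (0, [6, 2, 6], [4, 2, 4]), (0, [6, 2, 6], [4, 2, 4]),
  (0, [6, 2, 6], [4, 2, 4]), (0, [6, 2, 6], [4, 2, 4]), (0, [6, 2, 6], [4, 2, 4]), (0, [6, 2, 6], [4, 2, 4]),
  (0, [6, 2, 6], [4, 2, 4]), (0, [6, 2, 6], [4, 2, 4]), (0, [6, 2, 6], [4, 2, 4]), (0, [6, 2, 6], [4, 2, 4])]

/-- Some options of a node. -/
def tOpt41x1 : List (ℕ × List ℕ × List ℕ) := [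
  (0, [6, 2, 6], [4, 2, 4]), (0, [6, 2, 6], [4, 2, 4]), (0, [6, 2, 6], [4, 2, 4]), (0, [6, 2, 6], [4, 2, 4]),
  (0, [6, 2, 6], [4, 2, 4]), (0, [6, 2, 6], [4, 2, 4]), (0, [6, 2, 6], [4, 2, 4]), (0, [6, 2, 6], [4, 2, 4]),
  (0, [6, 2, 6], [4, 2, 4]), (0, [6, 2, 6], [4, 2, 4]), (0, [6, 2, 6], [4, 2, 4]), (0, [6, 2, 6], [4, 2, 4]),
  (0, [6, 2, 6], [4, 2, 4]), (0, [6, 2, 6], [4, 2, 4]), (0, [6, 2, 6], [4, 2, 4]), (0, [3], [6]),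
  (0, [5], [6]), (0, [6, 2, 6], [4, 2, 4]), (0, [6, 2, 6], [4, 2, 4]), (0, [6, 2, 6], [4, 2, 4]),
  (0, [6, 2, 6], [4, 2, 4]), (0, [4, 2, 4], [6]), (0, [6, 2, 6], [4, 2, 4]), (0, [6, 2, 6], [4, 2, 4]),
  (0, [3, 2, 3], [6]), (0, [6, 2, 6], [4, 2, 4]), (0, [6, 2, 6], [4, 2, 4]), (0, [6, 2, 6], [4, 2, 4]),
  (0, [6, 2, 6], [4, 2, 4]), (0, [6, 3, 6], [4, 3, 4]), (0, [6, 2, 6], [4, 2, 4]), (0, [6, 2, 6], [4, 2, 4]),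
  (0, [6, 2, 6], [4, 2, 4]), (0, [6, 2, 6], [4, 2, 4]), (0, [6, 3, 6], [4, 3, 4]), (0, [6, 3, 6], [4, 3, 4]),
  (0, [6, 2, 6], [4, 2, 4]), (0, [6, 2, 6], [4, 2, 4]), (0, [6, 2, 6], [4, 2, 4]), (0, [6, 2, 6], [4, 2, 4]),
  (0, [6, 2, 6], [4, 2, 4]), (0, [6, 2, 6], [4, 2, 4]), (0, [6, 2, 6], [4, 2, 4]), (0, [6, 2, 6], [4, 2, 4]),
  (0, [6, 3, 6], [4, 3, 4]), (0, [6, 2, 6], [4, 2, 4]), (0, [6, 2, 6], [4, 2, 4]), (0, [6, 2, 6], [4, 2, 4]),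
  (0, [6, 2, 6], [4, 2, 4]), (0, [6, 2, 6], [4, 2, 4]), (0, [6, 2, 6], [4, 2, 4]), (0, [6, 2, 6], [4, 2, 4]),
  (0, [6, 2, 6], [4, 2, 4]), (0, [6, 2, 6], [4, 2, 4]), (0, [6, 2, 6], [4, 2, 4]), (0, [6, 2, 6], [4, 2, 4]),
  (0, [6, 2, 6], [4, 2, 4]), (0, [6, 2, 6], [4, 2, 4]), (0, [6, 2, 6], [4, 2, 4]), (0, [6, 2, 6], [4, 2, 4]),
  (0, [6, 2, 6], [4, 2, 4]), (0, [6, 2, 6], [4, 2, 4]), (0, [6, 2, 6], [4, 2, 4]), (0, [6, 2, 6], [4, 2, 4]),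
  (0, [6, 2, 6], [4, 2, 4]), (0, [6, 2, 6], [4, 2, 4]), (0, [6, 2, 6], [4, 2, 4]), (0, [6, 2, 6], [4, 2, 4]),
  (0, [6, 2, 6], [4, 2, 4]), (0, [6, 2, 6], [4, 2, 4]), (0, [6, 2, 6], [4, 2, 4]), (0, [6, 2, 6], [4, 2, 4]),
  (0, [6, 2, 6], [4, 2, 4]), (0, [6, 2, 6], [4, 2, 4]), (0, [6, 2, 6], [4, 2, 4]), (0, [6, 2, 6], [4, 2, 4]),
  (0, [6, 2, 6], [4, 2, 4]), (0, [6, 2, 6], [4, 2, 4]), (0, [6, 2, 6], [4, 2, 4]), (0, [6, 2, 6], [4, 2, 4])]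

/-- Some options of a node. -/
def tOpt41x2 : List (ℕ × List ℕ × List ℕ) := [
  (0, [6, 2, 6], [4, 2, 4]), (0, [6, 2, 6], [4, 2, 4]), (0, [6, 2, 6], [4, 2, 4]), (0, [6, 2, 6], [4, 2, 4]),
  (0, [6, 2, 6], [4, 2, 4]), (0, [6, 2, 6], [4, 2, 4]), (0, [6, 2, 6], [4, 2, 4]), (0, [6, 2, 6], [4, 2, 4]),
  (0, [6, 2, 6], [4, 2, 4]), (0, [6, 2, 6], [4, 2, 4]), (0, [6, 2, 6], [4, 2, 4]), (0, [6, 2, 6], [4, 2, 4]),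
  (0, [6, 2, 6], [4, 2, 4]), (0, [6, 2, 6], [4, 2, 4]), (0, [6, 2, 6], [4, 2, 4]), (0, [6, 2, 6], [4, 2, 4]),
  (0, [6, 2, 6], [4, 2, 4]), (0, [6, 2, 6], [4, 2, 4]), (0, [6, 2, 6], [4, 2, 4]), (0, [6, 2, 6], [4, 2, 4]),
  (0, [6, 2, 6], [4, 2, 4]), (0, [6, 2, 6], [4, 2, 4]), (0, [6, 2, 6], [4, 2, 4]), (0, [6, 2, 6], [4, 2, 4]),
  (0, [6, 2, 6], [4, 2, 4]), (0, [6, 2, 6], [4, 2, 4]), (0, [6, 2, 6], [4, 2, 4]), (0, [6, 2, 6], [4, 2, 4]),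
  (0, [6, 2, 6], [4, 2, 4]), (0, [6, 2, 6], [4, 2, 4]), (0, [6, 2, 6], [4, 2, 4]), (0, [6, 2, 6], [4, 2, 4]),
  (0, [6, 2, 6], [4, 2, 4]), (0, [6, 2, 6], [4, 2, 4]), (0, [6, 2, 6], [4, 2, 4]), (0, [6, 2, 6], [4, 2, 4]),
  (0, [6, 2, 6], [4, 2, 4]), (0, [6, 2, 6], [4, 2, 4]), (0, [6, 2, 6], [4, 2, 4]), (0, [6, 2, 6], [4, 2, 4]),
  (0, [6, 2, 6], [4, 2, 4]), (0, [6, 2, 6], [4, 2, 4]), (0, [6, 2, 6], [4, 2, 4]), (0, [6, 2, 6], [4, 2, 4]),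
  (0, [6, 2, 6], [4, 2, 4]), (0, [6, 2, 6], [4, 2, 4]), (0, [6, 2, 6], [4, 2, 4]), (0, [6, 2, 6], [4, 2, 4]),
  (0, [6, 2, 6], [4, 2, 4]), (0, [6, 2, 6], [4, 2, 4]), (0, [6, 2, 6], [4, 2, 4]), (0, [6, 2, 6], [4, 2, 4]),
  (0, [6, 2, 6], [4, 2, 4]), (0, [6, 2, 6], [4, 2, 4]), (0, [6, 2, 6], [4, 2, 4]), (0, [6, 2, 6], [4, 2, 4]),
  (0, [6, 2, 6], [4, 2, 4]), (0, [6, 2, 6], [4, 2, 4]), (0, [6, 2, 6], [4, 2, 4]), (0, [6, 2, 6], [4, 2, 4]),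
  (0, [6, 2, 6], [4, 2, 4]), (0, [6, 2, 6], [4, 2, 4]), (0, [6, 2, 6], [4, 2, 4]), (0, [6, 2, 6], [4, 2, 4]),
  (0, [6, 2, 6], [4, 2, 4]), (0, [6, 2, 6], [4, 2, 4]), (0, [6, 2, 6], [4, 2, 4]), (0, [6, 2, 6], [4, 2, 4]),
  (0, [6, 2, 6], [4, 2, 4]), (0, [6, 2, 6], [4, 2, 4]), (0, [6, 2, 6], [4, 2, 4]), (0, [6, 2, 6], [4, 2, 4]),
  (0, [6, 2, 6], [4, 2, 4]), (0, [6, 2, 6], [4, 2, 4]), (0, [6, 2, 6], [4, 2, 4]), (0, [6, 2, 6], [4, 2, 4]),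
  (0, [6, 2, 6], [4, 2, 4]), (0, [6, 2, 6], [4, 2, 4]), (0, [6, 2, 6], [4, 2, 4]), (0, [6, 2, 6], [4, 2, 4])]

/-- Some options of a node. -/
def tOpt41x3 : List (ℕ × List ℕ × List ℕ) := [
  (0, [6, 2, 6], [4, 2, 4]), (0, [6, 2, 6], [4, 2, 4]), (0, [6, 2, 6], [4, 2, 4]), (0, [6, 2, 6], [4, 2, 4]),
  (0, [6, 2, 6], [4, 2, 4]), (0, [6, 2, 6], [4, 2, 4]), (0, [6, 2, 6], [4, 2, 4]), (0, [6, 2, 6], [4, 2, 4]),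
  (0, [6, 2, 6], [4, 2, 4]), (0, [6, 2, 6], [4, 2, 4]), (0, [6, 2, 6], [4, 2, 4]), (0, [6, 2, 6], [4, 2, 4]),
  (0, [6, 2, 6], [4, 2, 4]), (0, [6, 2, 6], [4, 2, 4]), (0, [6, 2, 6], [4, 2, 4]), (0, [6, 2, 6], [4, 2, 4]),
  (0, [6, 2, 6], [4, 2, 4]), (0, [6, 2, 6], [4, 2, 4]), (0, [6, 2, 6], [4, 2, 4]), (0, [6, 2, 6], [4, 2, 4]),
  (0, [6, 2, 6], [4, 2, 4]), (0, [6, 2, 6], [4, 2, 4]), (0, [6, 2, 6], [4, 2, 4]), (0, [6, 2, 6], [4, 2, 4]),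
  (0, [6, 2, 6], [4, 2, 4]), (0, [6, 2, 6], [4, 2, 4]), (0, [6, 2, 6], [4, 2, 4]), (0, [6, 2, 6], [4, 2, 4]),
  (0, [6, 2, 6], [4, 2, 4]), (0, [6, 2, 6], [4, 2, 4]), (0, [6, 2, 6], [4, 2, 4]), (0, [6, 2, 6], [4, 2, 4]),
  (0, [6, 2, 6], [4, 2, 4]), (0, [6, 2, 6], [4, 2, 4]), (0, [6, 2, 6], [4, 2, 4]), (0, [6, 2, 6], [4, 2, 4]),
  (0, [6, 2, 6], [4, 2, 4]), (0, [6, 2, 6], [4, 2, 4]), (0, [6, 2, 6], [4, 2, 4]), (0, [6, 2, 6], [4, 2, 4]),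
  (0, [6, 2, 6], [4, 2, 4]), (0, [6, 2, 6], [4, 2, 4]), (0, [6, 2, 6], [4, 2, 4]), (0, [6, 2, 6], [4, 2, 4]),
  (0, [6, 2, 6], [4, 2, 4]), (0, [6, 2, 6], [4, 2, 4]), (0, [6, 2, 6], [4, 2, 4]), (0, [6, 2, 6], [4, 2, 4]),
  (0, [6, 2, 6], [4, 2, 4]), (0, [6, 2, 6], [4, 2, 4]), (0, [6, 2, 6], [4, 2, 4]), (0, [6, 2, 6], [4, 2, 4]),
  (0, [6, 2, 6], [4, 2, 4]), (0, [6, 2, 6], [4, 2, 4]), (0, [6, 2, 6], [4, 2, 4]), (0, [6, 2, 6], [4, 2, 4]),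
  (0, [6, 2, 6], [4, 2, 4]), (0, [6, 2, 6], [4, 2, 4]), (0, [6, 2, 6], [4, 2, 4]), (0, [6, 2, 6], [4, 2, 4]),
  (0, [6, 2, 6], [4, 2, 4]), (0, [6, 2, 6], [4, 2, 4]), (0, [6, 2, 6], [4, 2, 4]), (0, [6, 2, 6], [4, 2, 4]),
  (0, [6, 2, 6], [4, 2, 4]), (0, [6, 2, 6], [4, 2, 4]), (0, [6, 2, 6], [4, 2, 4]), (0, [6, 2, 6], [4, 2, 4]),
  (0, [6, 2, 6], [4, 2, 4]), (0, [6, 2, 6], [4, 2, 4]), (0, [6, 2, 6], [4, 2, 4]), (0, [6, 2, 6], [4, 2, 4]),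
  (0, [6, 2, 6], [4, 2, 4]), (0, [6, 2, 6], [4, 2, 4]), (0, [6, 2, 6], [4, 2, 4]), (0, [6, 2, 6], [4, 2, 4]),
  (0, [6, 2, 6], [4, 2, 4])]

/-- A node. -/
def tNode41 : TNode := ⟨[0, 1, 159, 29, 59, 54], [1, 0, 41, 95, 3, 96], 51, tOpt41x0 ++ tOpt41x1 ++ tOpt41x2 ++ tOpt41x3, [42]⟩

/-- Some options of a node. -/
def tOpt42x0 : List (ℕ × List ℕ × List ℕ) := [
  (0, [1], [7]), (0, [0], [7]), (0, [7, 3, 7], [3]), (0, [4], [7]),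
  (0, [4, 7, 4], [7, 4, 7]), (0, [7, 3, 7], [3]), (0, [7, 2, 7], [2]), (0, [4, 7, 4], [7, 4, 7]),
  (0, [7, 3, 7], [3]), (0, [7, 2, 7], [2]), (0, [7, 2, 7], [2]), (0, [4, 7, 4], [7, 4, 7]),
  (0, [4, 7, 4], [7, 4, 7]), (0, [4, 7, 4], [7, 4, 7]), (0, [6], [7]), (0, [7, 2, 7], [2]),
  (0, [4, 7, 4], [7, 4, 7]), (0, [4, 7, 4], [7, 4, 7]), (0, [4, 7, 4], [7, 4, 7]), (0, [7, 2, 7], [2]),
  (0, [4, 7, 4], [7, 4, 7]), (0, [4, 7, 4], [7, 4, 7]), (0, [4, 7, 4], [7, 4, 7]), (0, [4, 7, 4], [7, 4, 7]),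
  (0, [7, 2, 7], [2]), (0, [4, 7, 4], [7, 4, 7]), (0, [4, 7, 4], [7, 4, 7]), (0, [4, 7, 4], [7, 4, 7]),
  (0, [4, 7, 4], [7, 4, 7]), (0, [7, 5, 7], [5]), (0, [4, 7, 4], [7, 4, 7]), (0, [4, 7, 4], [7, 4, 7]),
  (0, [4, 7, 4], [7, 4, 7]), (0, [4, 7, 4], [7, 4, 7]), (0, [4, 7, 4], [7, 4, 7]), (0, [7, 5, 7], [5]),
  (0, [4, 7, 4], [7, 4, 7]), (0, [4, 7, 4], [7, 4, 7]), (0, [4, 7, 4], [7, 4, 7]), (0, [7, 2, 7], [2]),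
  (0, [4, 3, 4], [7]), (0, [2], [7]), (0, [4, 7, 4], [7, 4, 7]), (0, [4, 7, 4], [7, 4, 7]),
  (0, [4, 7, 4], [7, 4, 7]), (0, [7, 2, 7], [2]), (0, [7, 3, 7], [2, 3, 2]), (0, [4, 7, 4], [7, 4, 7]),
  (0, [7, 3, 7], [3]), (0, [4, 7, 4], [7, 4, 7]), (0, [4, 7, 4], [7, 4, 7]), (0, [7, 2, 7], [2]),
  (0, [7, 2, 7], [2]), (0, [7, 2, 7], [2]), (0, [7, 3, 7], [2, 3, 2]), (0, [7, 3, 7], [2, 3, 2]),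
  (0, [7, 3, 7], [3]), (0, [4, 7, 4], [7, 4, 7]), (0, [7, 2, 7], [2]), (0, [7, 2, 7], [2]),
  (0, [7, 2, 7], [2]), (0, [7, 3, 7], [3]), (0, [4, 7, 4], [7, 4, 7]), (0, [7, 3, 7], [2, 3, 2]),
  (0, [7, 3, 7], [2, 3, 2]), (0, [7, 2, 7], [2]), (0, [7, 2, 7], [2]), (0, [7, 2, 7], [2]),
  (0, [7, 2, 7], [2]), (0, [7, 2, 7], [2]), (0, [7, 3, 7], [3]), (1, [], []),
  (2, [], []), (0, [7, 2, 7], [2]), (0, [7, 2, 7], [2]), (0, [7, 2, 7], [2]),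
  (1, [19, 21, 17, 21, 19, 23], []), (2, [19, 21, 17, 21, 19, 23], []), (0, [7, 3, 7], [3]), (0, [7, 2, 7], [2])]

/-- Some options of a node. -/
def tOpt42x1 : List (ℕ × List ℕ × List ℕ) := [
  (0, [7, 2, 7], [2]), (0, [7, 3, 7], [3]), (0, [7, 2, 7], [2]), (0, [7, 2, 7], [2]),
  (0, [7, 2, 7], [2]), (0, [7, 2, 7], [2]), (0, [7, 5, 7], [5]), (0, [7, 3, 7], [3]),
  (0, [7, 2, 7], [2]), (0, [7, 3, 7], [3]), (0, [7, 2, 7], [2]), (0, [7, 3, 7], [3]),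
  (0, [7, 5, 7], [5]), (0, [7, 2, 7], [2]), (0, [7, 2, 7], [2]), (0, [3], [7]),
  (0, [5], [7]), (0, [7, 2, 7], [2]), (0, [7, 2, 7], [2]), (0, [7, 2, 7], [2]),
  (0, [7, 3, 7], [2, 3, 2]), (0, [4, 2, 4], [7]), (0, [7, 2, 7], [2]), (0, [7, 2, 7], [2]),
  (0, [3, 2, 3], [7]), (0, [7, 2, 7], [2]), (0, [7, 2, 7], [2]), (0, [7, 2, 7], [2]),
  (0, [7, 2, 7], [2]), (0, [7, 2, 7], [2]), (0, [7, 2, 7], [2]), (0, [7, 2, 7], [2]),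
  (0, [7, 2, 7], [2]), (0, [7, 2, 7], [2]), (0, [7, 2, 7], [2]), (0, [7, 2, 7], [2]),
  (0, [7, 2, 7], [2]), (0, [7, 2, 7], [2]), (0, [7, 2, 7], [2]), (0, [7, 2, 7], [2]),
  (0, [7, 2, 7], [2]), (0, [7, 2, 7], [2]), (0, [7, 2, 7], [2]), (0, [7, 2, 7], [2]),
  (0, [7, 2, 7], [2]), (0, [7, 2, 7], [2]), (0, [7, 2, 7], [2]), (0, [7, 2, 7], [2]),
  (0, [7, 4, 7], [4]), (0, [7, 2, 7], [2]), (0, [7, 2, 7], [2]), (0, [7, 3, 7], [3]),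
  (0, [7, 2, 7], [2]), (0, [7, 2, 7], [2]), (0, [7, 2, 7], [2]), (0, [7, 2, 7], [2]),
  (0, [7, 2, 7], [2]), (0, [7, 2, 7], [2]), (0, [7, 4, 7], [4]), (0, [7, 3, 7], [3]),
  (0, [7, 2, 7], [2]), (0, [7, 2, 7], [2]), (0, [7, 2, 7], [2]), (0, [7, 2, 7], [2]),
  (0, [7, 2, 7], [2]), (0, [7, 3, 7], [2, 3, 2]), (0, [7, 3, 7], [2, 3, 2]), (0, [7, 3, 7], [3]),
  (0, [7, 2, 7], [2]), (0, [7, 2, 7], [2]), (0, [7, 3, 7], [3]), (0, [7, 2, 7], [2]),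
  (0, [7, 2, 7], [2]), (0, [7, 2, 7], [2]), (0, [7, 2, 7], [2]), (0, [7, 2, 7], [2]),
  (0, [7, 2, 7], [2]), (0, [7, 2, 7], [2]), (0, [7, 2, 7], [2]), (0, [7, 2, 7], [2])]

/-- Some options of a node. -/
def tOpt42x2 : List (ℕ × List ℕ × List ℕ) := [
  (0, [7, 2, 7], [2]), (0, [7, 2, 7], [2]), (0, [7, 2, 7], [2]), (0, [7, 2, 7], [2]),
  (0, [7, 2, 7], [2]), (0, [7, 2, 7], [2]), (0, [7, 2, 7], [2]), (0, [7, 4, 7], [4]),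
  (0, [7, 2, 7], [2]), (0, [7, 2, 7], [2]), (0, [7, 4, 7], [4]), (0, [7, 3, 7], [2, 3, 2]),
  (0, [7, 3, 7], [2, 3, 2]), (0, [7, 5, 7], [5]), (0, [7, 3, 7], [3]), (0, [7, 3, 7], [3]),
  (0, [7, 5, 7], [4, 2, 4]), (0, [7, 5, 7], [4, 2, 4]), (0, [7, 5, 7], [4, 2, 4]), (0, [7, 5, 7], [5]),
  (0, [7, 5, 7], [4, 2, 4]), (0, [7, 3, 7], [3]), (0, [7, 3, 7], [3]), (0, [7, 3, 7], [3]),
  (0, [7, 3, 7], [3]), (0, [7, 5, 7], [5]), (0, [7, 3, 7], [3]), (0, [7, 3, 7], [3]),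
  (0, [7, 3, 7], [3]), (0, [7, 2, 7], [2]), (0, [7, 3, 7], [3]), (0, [7, 5, 7], [5]),
  (0, [7, 2, 7], [2]), (0, [7, 2, 7], [2]), (0, [7, 2, 7], [2]), (0, [7, 3, 7], [3]),
  (0, [7, 2, 7], [2]), (0, [7, 2, 7], [2]), (0, [7, 3, 7], [3]), (0, [7, 2, 7], [2]),
  (0, [7, 3, 7], [3]), (0, [7, 3, 7], [3]), (0, [7, 4, 7], [4]), (0, [7, 3, 7], [3]),
  (0, [7, 2, 7], [2]), (0, [7, 3, 7], [3]), (0, [7, 2, 7], [2]), (0, [7, 5, 7], [4, 2, 4]),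
  (0, [7, 4, 7], [4]), (0, [7, 4, 7], [4]), (0, [7, 5, 7], [4, 2, 4]), (0, [7, 2, 7], [2]),
  (0, [7, 2, 7], [2]), (0, [7, 2, 7], [2]), (0, [7, 2, 7], [2]), (0, [7, 2, 7], [2]),
  (0, [7, 2, 7], [2]), (0, [7, 5, 7], [4, 2, 4]), (0, [7, 5, 7], [4, 2, 4]), (0, [7, 5, 7], [4, 2, 4]),
  (0, [7, 4, 7], [4]), (0, [7, 2, 7], [2]), (0, [7, 2, 7], [2]), (0, [7, 2, 7], [2]),
  (0, [7, 5, 7], [5]), (0, [7, 4, 7], [4]), (0, [7, 5, 7], [5]), (0, [7, 5, 7], [4, 2, 4]),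
  (0, [7, 5, 7], [4, 2, 4]), (0, [7, 5, 7], [4, 2, 4]), (0, [7, 2, 7], [2]), (0, [7, 2, 7], [2]),
  (0, [7, 2, 7], [2]), (0, [7, 2, 7], [2]), (0, [7, 2, 7], [2]), (0, [7, 2, 7], [2]),
  (0, [7, 4, 7], [4]), (0, [7, 2, 7], [2]), (0, [7, 2, 7], [2]), (0, [7, 3, 7], [3])]

/-- Some options of a node. -/
def tOpt42x3 : List (ℕ × List ℕ × List ℕ) := [
  (0, [7, 2, 7], [2]), (0, [7, 2, 7], [2]), (0, [7, 2, 7], [2]), (0, [7, 2, 7], [2]),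
  (0, [7, 2, 7], [2]), (0, [7, 2, 7], [2]), (0, [7, 4, 7], [4]), (0, [7, 2, 7], [2]),
  (0, [7, 2, 7], [2]), (0, [7, 2, 7], [2]), (0, [7, 2, 7], [2]), (0, [7, 2, 7], [2]),
  (0, [7, 2, 7], [2]), (0, [7, 5, 7], [5]), (0, [7, 4, 7], [4]), (0, [7, 5, 7], [5]),
  (0, [7, 2, 7], [2]), (0, [7, 2, 7], [2]), (0, [7, 2, 7], [2]), (0, [7, 2, 7], [2]),
  (0, [7, 2, 7], [2]), (0, [7, 2, 7], [2]), (0, [7, 2, 7], [2]), (0, [7, 3, 7], [3]),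
  (0, [7, 2, 7], [2]), (0, [7, 2, 7], [2]), (0, [7, 2, 7], [2]), (0, [7, 2, 7], [2]),
  (0, [7, 2, 7], [2]), (0, [7, 2, 7], [2]), (0, [7, 2, 7], [2]), (0, [7, 2, 7], [2]),
  (0, [7, 2, 7], [2]), (0, [7, 2, 7], [2]), (0, [7, 2, 7], [2]), (0, [7, 2, 7], [2]),
  (0, [7, 2, 7], [2]), (0, [7, 2, 7], [2]), (0, [7, 2, 7], [2]), (0, [7, 2, 7], [2]),
  (0, [7, 3, 7], [3]), (0, [7, 3, 7], [3]), (0, [7, 2, 7], [2]), (0, [7, 2, 7], [2]),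
  (0, [7, 2, 7], [2]), (0, [7, 2, 7], [2]), (0, [7, 2, 7], [2]), (0, [7, 2, 7], [2]),
  (0, [7, 2, 7], [2]), (0, [7, 2, 7], [2]), (0, [7, 2, 7], [2]), (0, [7, 2, 7], [2]),
  (0, [7, 2, 7], [2]), (0, [7, 2, 7], [2]), (0, [7, 2, 7], [2]), (0, [7, 2, 7], [2]),
  (0, [7, 2, 7], [2]), (0, [7, 2, 7], [2]), (0, [7, 2, 7], [2]), (0, [7, 2, 7], [2]),
  (0, [7, 2, 7], [2]), (0, [7, 2, 7], [2]), (0, [7, 2, 7], [2]), (0, [7, 2, 7], [2]),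
  (0, [7, 2, 7], [2]), (0, [7, 2, 7], [2]), (0, [7, 2, 7], [2]), (0, [7, 2, 7], [2]),
  (0, [7, 2, 7], [2]), (0, [7, 2, 7], [2]), (0, [7, 2, 7], [2]), (0, [7, 2, 7], [2]),
  (0, [7, 2, 7], [2]), (0, [7, 2, 7], [2]), (0, [7, 2, 7], [2]), (0, [7, 2, 7], [2]),
  (0, [7, 2, 7], [2])]

/-- A node. -/
def tNode42 : TNode := ⟨[0, 1, 159, 29, 59, 54, 51], [1, 0, 41, 95, 3, 96, 14], 166, tOpt42x0 ++ tOpt42x1 ++ tOpt42x2 ++ tOpt42x3, [43, 45]⟩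

/-- Some options of a node. -/
def tOpt43x0 : List (ℕ × List ℕ × List ℕ) := [
  (0, [1], [8]), (0, [0], [8]), (0, [8, 2, 8], [5]), (0, [4], [8]),
  (0, [8, 2, 8], [5]), (0, [8, 2, 8], [5]), (0, [8, 2, 8], [5]), (0, [8, 2, 8], [5]),
  (0, [8, 2, 8], [5]), (0, [8, 2, 8], [5]), (0, [8, 3, 8], [4, 3, 4]), (0, [8, 2, 8], [5]),
  (0, [8, 2, 8], [5]), (0, [8, 2, 8], [5]), (0, [6], [8]), (0, [8, 7, 8], [4, 7, 4]),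
  (0, [8, 2, 8], [5]), (0, [8, 2, 8], [5]), (0, [8, 2, 8], [5]), (1, [], []),
  (0, [8, 2, 8], [5]), (0, [8, 2, 8], [5]), (0, [8, 2, 8], [5]), (0, [8, 2, 8], [5]),
  (0, [8, 3, 8], [4, 3, 4]), (0, [8, 2, 8], [5]), (0, [8, 2, 8], [5]), (0, [8, 2, 8], [5]),
  (0, [8, 2, 8], [5]), (0, [8, 2, 8], [5]), (0, [8, 2, 8], [5]), (0, [8, 2, 8], [5]),
  (0, [8, 2, 8], [5]), (0, [8, 2, 8], [5]), (0, [8, 2, 8], [5]), (0, [8, 2, 8], [5]),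
  (0, [8, 2, 8], [5]), (0, [8, 2, 8], [5]), (0, [8, 2, 8], [5]), (0, [8, 2, 8], [5]),
  (0, [8, 2, 8], [5]), (0, [2], [8]), (0, [8, 2, 8], [5]), (0, [8, 2, 8], [5]),
  (0, [8, 2, 8], [5]), (0, [8, 2, 8], [5]), (0, [8, 2, 8], [5]), (0, [8, 2, 8], [5]),
  (0, [8, 2, 8], [5]), (0, [8, 2, 8], [5]), (0, [8, 2, 8], [5]), (0, [8, 2, 8], [5]),
  (0, [8, 2, 8], [5]), (0, [8, 2, 8], [5]), (0, [8, 2, 8], [5]), (0, [8, 2, 8], [5]),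
  (0, [8, 2, 8], [5]), (0, [8, 2, 8], [5]), (0, [8, 2, 8], [5]), (0, [8, 2, 8], [5]),
  (0, [8, 2, 8], [5]), (0, [8, 2, 8], [5]), (0, [8, 2, 8], [5]), (0, [8, 2, 8], [5]),
  (0, [8, 2, 8], [5]), (0, [8, 2, 8], [5]), (0, [8, 2, 8], [5]), (0, [8, 2, 8], [5]),
  (0, [8, 2, 8], [5]), (0, [8, 2, 8], [5]), (0, [8, 2, 8], [5]), (0, [7], [8]),
  (0, [8, 2, 8], [5]), (0, [8, 2, 8], [5]), (0, [8, 2, 8], [5]), (0, [8, 2, 8], [5]),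
  (0, [8, 2, 8], [5]), (0, [8, 2, 8], [5]), (0, [8, 2, 8], [5]), (0, [8, 2, 8], [5])]

/-- Some options of a node. -/
def tOpt43x1 : List (ℕ × List ℕ × List ℕ) := [
  (0, [8, 2, 8], [5]), (0, [8, 2, 8], [5]), (0, [8, 2, 8], [5]), (0, [8, 2, 8], [5]),
  (0, [8, 2, 8], [5]), (0, [8, 2, 8], [5]), (0, [8, 2, 8], [5]), (0, [8, 2, 8], [5]),
  (0, [8, 2, 8], [5]), (0, [8, 2, 8], [5]), (0, [8, 2, 8], [5]), (0, [8, 2, 8], [5]),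
  (0, [8, 2, 8], [5]), (0, [8, 2, 8], [5]), (0, [8, 2, 8], [5]), (0, [3], [8]),
  (0, [5], [8]), (0, [8, 2, 8], [5]), (0, [8, 2, 8], [5]), (0, [8, 2, 8], [5]),
  (0, [8, 2, 8], [5]), (0, [4, 2, 4], [8]), (0, [8, 2, 8], [5]), (0, [8, 2, 8], [5]),
  (0, [3, 2, 3], [8]), (0, [8, 2, 8], [5]), (0, [8, 2, 8], [5]), (0, [8, 2, 8], [5]),
  (0, [8, 2, 8], [5]), (0, [8, 2, 8], [5]), (0, [8, 2, 8], [5]), (0, [8, 2, 8], [5]),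
  (0, [8, 2, 8], [5]), (0, [8, 2, 8], [5]), (0, [8, 2, 8], [5]), (0, [8, 2, 8], [5]),
  (0, [8, 2, 8], [5]), (0, [8, 2, 8], [5]), (0, [8, 2, 8], [5]), (0, [8, 2, 8], [5]),
  (0, [8, 3, 8], [4, 3, 4]), (0, [8, 3, 8], [4, 3, 4]), (0, [8, 2, 8], [5]), (0, [8, 2, 8], [5]),
  (0, [8, 2, 8], [5]), (0, [8, 2, 8], [5]), (0, [8, 2, 8], [5]), (0, [8, 2, 8], [5]),
  (0, [8, 2, 8], [5]), (0, [8, 3, 8], [4, 3, 4]), (0, [8, 3, 8], [4, 3, 4]), (0, [8, 2, 8], [5]),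
  (0, [8, 2, 8], [5]), (0, [8, 2, 8], [5]), (0, [8, 2, 8], [5]), (0, [8, 2, 8], [5]),
  (0, [8, 2, 8], [5]), (0, [8, 2, 8], [5]), (0, [8, 2, 8], [5]), (0, [8, 2, 8], [5]),
  (0, [8, 2, 8], [5]), (0, [8, 2, 8], [5]), (0, [8, 2, 8], [5]), (0, [8, 2, 8], [5]),
  (0, [8, 2, 8], [5]), (0, [8, 2, 8], [5]), (0, [8, 2, 8], [5]), (0, [8, 2, 8], [5]),
  (0, [8, 2, 8], [5]), (0, [8, 2, 8], [5]), (0, [8, 2, 8], [5]), (0, [8, 2, 8], [5]),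
  (0, [8, 2, 8], [5]), (0, [8, 2, 8], [5]), (0, [8, 2, 8], [5]), (0, [8, 2, 8], [5]),
  (0, [8, 2, 8], [5]), (0, [8, 2, 8], [5]), (0, [8, 2, 8], [5]), (0, [8, 2, 8], [5])]

/-- Some options of a node. -/
def tOpt43x2 : List (ℕ × List ℕ × List ℕ) := [
  (0, [8, 2, 8], [5]), (0, [8, 2, 8], [5]), (0, [8, 2, 8], [5]), (0, [8, 2, 8], [5]),
  (0, [8, 2, 8], [5]), (0, [8, 2, 8], [5]), (0, [8, 2, 8], [5]), (0, [8, 2, 8], [5]),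
  (0, [8, 2, 8], [5]), (0, [8, 2, 8], [5]), (0, [8, 2, 8], [5]), (0, [8, 2, 8], [5]),
  (0, [8, 2, 8], [5]), (0, [8, 2, 8], [5]), (0, [8, 2, 8], [5]), (0, [8, 2, 8], [5]),
  (0, [8, 2, 8], [5]), (0, [8, 2, 8], [5]), (0, [8, 2, 8], [5]), (0, [8, 2, 8], [5]),
  (0, [8, 2, 8], [5]), (0, [8, 2, 8], [5]), (0, [8, 2, 8], [5]), (0, [8, 2, 8], [5]),
  (0, [8, 2, 8], [5]), (0, [8, 2, 8], [5]), (0, [8, 2, 8], [5]), (0, [8, 2, 8], [5]),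
  (0, [8, 2, 8], [5]), (0, [8, 2, 8], [5]), (0, [8, 2, 8], [5]), (0, [8, 2, 8], [5]),
  (0, [8, 2, 8], [5]), (0, [8, 2, 8], [5]), (0, [8, 2, 8], [5]), (0, [8, 2, 8], [5]),
  (0, [8, 2, 8], [5]), (0, [8, 2, 8], [5]), (0, [8, 2, 8], [5]), (0, [8, 2, 8], [5]),
  (0, [8, 2, 8], [5]), (0, [8, 2, 8], [5]), (0, [8, 2, 8], [5]), (0, [8, 2, 8], [5]),
  (0, [8, 2, 8], [5]), (0, [8, 2, 8], [5]), (0, [8, 2, 8], [5]), (0, [8, 2, 8], [5]),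
  (0, [8, 2, 8], [5]), (0, [8, 2, 8], [5]), (0, [8, 2, 8], [5]), (0, [8, 2, 8], [5]),
  (0, [8, 2, 8], [5]), (0, [8, 2, 8], [5]), (0, [8, 2, 8], [5]), (0, [8, 2, 8], [5]),
  (0, [8, 2, 8], [5]), (0, [8, 2, 8], [5]), (0, [8, 2, 8], [5]), (0, [8, 2, 8], [5]),
  (0, [8, 2, 8], [5]), (0, [8, 2, 8], [5]), (0, [8, 2, 8], [5]), (0, [8, 2, 8], [5]),
  (0, [8, 2, 8], [5]), (0, [8, 2, 8], [5]), (0, [8, 2, 8], [5]), (0, [8, 2, 8], [5]),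
  (0, [8, 2, 8], [5]), (0, [8, 2, 8], [5]), (0, [8, 2, 8], [5]), (0, [8, 2, 8], [5]),
  (0, [8, 2, 8], [5]), (0, [8, 2, 8], [5]), (0, [8, 2, 8], [5]), (0, [8, 2, 8], [5]),
  (0, [8, 2, 8], [5]), (0, [8, 2, 8], [5]), (0, [8, 2, 8], [5]), (0, [8, 2, 8], [5])]

/-- Some options of a node. -/
def tOpt43x3 : List (ℕ × List ℕ × List ℕ) := [
  (0, [8, 2, 8], [5]), (0, [8, 2, 8], [5]), (0, [8, 2, 8], [5]), (0, [8, 2, 8], [5]),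
  (0, [8, 2, 8], [5]), (0, [8, 2, 8], [5]), (0, [8, 2, 8], [5]), (0, [8, 2, 8], [5]),
  (0, [8, 2, 8], [5]), (0, [8, 2, 8], [5]), (0, [8, 2, 8], [5]), (0, [8, 2, 8], [5]),
  (0, [8, 2, 8], [5]), (0, [8, 2, 8], [5]), (0, [8, 2, 8], [5]), (0, [8, 2, 8], [5]),
  (0, [8, 2, 8], [5]), (0, [8, 2, 8], [5]), (0, [8, 2, 8], [5]), (0, [8, 2, 8], [5]),
  (0, [8, 2, 8], [5]), (0, [8, 2, 8], [5]), (0, [8, 2, 8], [5]), (0, [8, 2, 8], [5]),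
  (0, [8, 2, 8], [5]), (0, [8, 2, 8], [5]), (0, [8, 2, 8], [5]), (0, [8, 2, 8], [5]),
  (0, [8, 2, 8], [5]), (0, [8, 2, 8], [5]), (0, [8, 2, 8], [5]), (0, [8, 2, 8], [5]),
  (0, [8, 2, 8], [5]), (0, [8, 2, 8], [5]), (0, [8, 2, 8], [5]), (0, [8, 2, 8], [5]),
  (0, [8, 2, 8], [5]), (0, [8, 2, 8], [5]), (0, [8, 2, 8], [5]), (0, [8, 2, 8], [5]),
  (0, [8, 2, 8], [5]), (0, [8, 2, 8], [5]), (0, [8, 2, 8], [5]), (0, [8, 2, 8], [5]),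
  (0, [8, 2, 8], [5]), (0, [8, 2, 8], [5]), (0, [8, 2, 8], [5]), (0, [8, 2, 8], [5]),
  (0, [8, 2, 8], [5]), (0, [8, 2, 8], [5]), (0, [8, 2, 8], [5]), (0, [8, 2, 8], [5]),
  (0, [8, 2, 8], [5]), (0, [8, 2, 8], [5]), (0, [8, 2, 8], [5]), (0, [8, 2, 8], [5]),
  (0, [8, 2, 8], [5]), (0, [8, 2, 8], [5]), (0, [8, 2, 8], [5]), (0, [8, 2, 8], [5]),
  (0, [8, 2, 8], [5]), (0, [8, 2, 8], [5]), (0, [8, 2, 8], [5]), (0, [8, 2, 8], [5]),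
  (0, [8, 2, 8], [5]), (0, [8, 2, 8], [5]), (0, [8, 2, 8], [5]), (0, [8, 2, 8], [5]),
  (0, [8, 2, 8], [5]), (0, [8, 2, 8], [5]), (0, [8, 2, 8], [5]), (0, [8, 2, 8], [5]),
  (0, [8, 2, 8], [5]), (0, [8, 2, 8], [5]), (0, [8, 2, 8], [5]), (0, [8, 2, 8], [5]),
  (0, [8, 2, 8], [5])]

/-- A node. -/
def tNode43 : TNode := ⟨[0, 1, 159, 29, 59, 54, 51, 166], [1, 0, 41, 95, 3, 96, 14, 71], 58, tOpt43x0 ++ tOpt43x1 ++ tOpt43x2 ++ tOpt43x3, [44]⟩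

/-- Some options of a node. -/
def tOpt44x0 : List (ℕ × List ℕ × List ℕ) := [
  (0, [1], [9]), (0, [0], [9]), (0, [9, 2, 9], [5]), (0, [4], [9]),
  (0, [9, 2, 9], [5]), (0, [9, 2, 9], [5]), (0, [9, 2, 9], [5]), (0, [9, 2, 9], [5]),
  (0, [9, 2, 9], [5]), (0, [9, 2, 9], [5]), (0, [9, 7, 9], [4, 7, 4]), (0, [9, 2, 9], [5]),
  (0, [9, 2, 9], [5]), (0, [9, 2, 9], [5]), (0, [6], [9]), (0, [9, 3, 9], [4, 3, 4]),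
  (0, [9, 2, 9], [5]), (0, [9, 2, 9], [5]), (0, [9, 2, 9], [5]), (0, [8], [9]),
  (0, [9, 2, 9], [5]), (0, [9, 2, 9], [5]), (0, [9, 2, 9], [5]), (0, [9, 2, 9], [5]),
  (0, [9, 7, 9], [6, 7, 6]), (0, [9, 2, 9], [5]), (0, [9, 2, 9], [5]), (0, [9, 2, 9], [5]),
  (0, [9, 2, 9], [5]), (0, [9, 2, 9], [5]), (0, [9, 2, 9], [5]), (0, [9, 2, 9], [5]),
  (0, [9, 2, 9], [5]), (0, [9, 2, 9], [5]), (0, [9, 2, 9], [5]), (0, [9, 2, 9], [5]),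
  (0, [9, 2, 9], [5]), (0, [9, 2, 9], [5]), (0, [9, 2, 9], [5]), (0, [9, 2, 9], [5]),
  (0, [9, 2, 9], [5]), (0, [2], [9]), (0, [9, 2, 9], [5]), (0, [9, 2, 9], [5]),
  (0, [9, 2, 9], [5]), (0, [9, 2, 9], [5]), (0, [9, 2, 9], [5]), (0, [9, 2, 9], [5]),
  (0, [9, 2, 9], [5]), (0, [9, 2, 9], [5]), (0, [9, 2, 9], [5]), (0, [9, 2, 9], [5]),
  (0, [9, 2, 9], [5]), (0, [9, 2, 9], [5]), (0, [9, 2, 9], [5]), (0, [9, 2, 9], [5]),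
  (0, [9, 2, 9], [5]), (0, [9, 2, 9], [5]), (0, [9, 2, 9], [5]), (0, [9, 2, 9], [5]),
  (0, [9, 2, 9], [5]), (0, [9, 2, 9], [5]), (0, [9, 2, 9], [5]), (0, [9, 2, 9], [5]),
  (0, [9, 2, 9], [5]), (0, [9, 2, 9], [5]), (0, [9, 2, 9], [5]), (0, [9, 2, 9], [5]),
  (0, [9, 2, 9], [5]), (0, [9, 2, 9], [5]), (0, [9, 2, 9], [5]), (0, [7], [9]),
  (0, [9, 2, 9], [5]), (0, [9, 2, 9], [5]), (0, [9, 2, 9], [5]), (0, [9, 2, 9], [5]),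
  (0, [9, 2, 9], [5]), (0, [9, 2, 9], [5]), (0, [9, 2, 9], [5]), (0, [9, 2, 9], [5])]

/-- Some options of a node. -/
def tOpt44x1 : List (ℕ × List ℕ × List ℕ) := [
  (0, [9, 2, 9], [5]), (0, [9, 2, 9], [5]), (0, [9, 2, 9], [5]), (0, [9, 2, 9], [5]),
  (0, [9, 2, 9], [5]), (0, [9, 2, 9], [5]), (0, [9, 2, 9], [5]), (0, [9, 2, 9], [5]),
  (0, [9, 2, 9], [5]), (0, [9, 2, 9], [5]), (0, [9, 2, 9], [5]), (0, [9, 2, 9], [5]),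
  (0, [9, 2, 9], [5]), (0, [9, 2, 9], [5]), (0, [9, 2, 9], [5]), (0, [3], [9]),
  (0, [5], [9]), (0, [9, 2, 9], [5]), (0, [9, 2, 9], [5]), (0, [9, 2, 9], [5]),
  (0, [9, 2, 9], [5]), (0, [4, 2, 4], [9]), (0, [9, 2, 9], [5]), (0, [9, 2, 9], [5]),
  (0, [3, 2, 3], [9]), (0, [9, 2, 9], [5]), (0, [9, 2, 9], [5]), (0, [9, 2, 9], [5]),
  (0, [9, 2, 9], [5]), (0, [9, 2, 9], [5]), (0, [9, 2, 9], [5]), (0, [9, 2, 9], [5]),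
  (0, [9, 2, 9], [5]), (0, [9, 2, 9], [5]), (0, [9, 2, 9], [5]), (0, [9, 2, 9], [5]),
  (0, [9, 2, 9], [5]), (0, [9, 2, 9], [5]), (0, [9, 2, 9], [5]), (0, [9, 2, 9], [5]),
  (0, [3, 9, 3], [7, 4, 7]), (0, [2, 8, 2], [9]), (0, [9, 2, 9], [5]), (0, [9, 2, 9], [5]),
  (0, [9, 2, 9], [5]), (0, [9, 2, 9], [5]), (0, [9, 2, 9], [5]), (0, [9, 2, 9], [5]),
  (0, [9, 2, 9], [5]), (0, [3, 9, 3], [7, 6, 7]), (0, [0, 9, 6, 5, 3], [4, 8, 3, 2]), (0, [9, 2, 9], [5]),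
  (0, [9, 2, 9], [5]), (0, [9, 2, 9], [5]), (0, [9, 2, 9], [5]), (0, [9, 2, 9], [5]),
  (0, [9, 2, 9], [5]), (0, [9, 2, 9], [5]), (0, [9, 2, 9], [5]), (0, [9, 2, 9], [5]),
  (0, [9, 2, 9], [5]), (0, [9, 2, 9], [5]), (0, [9, 2, 9], [5]), (0, [9, 2, 9], [5]),
  (0, [9, 2, 9], [5]), (0, [9, 2, 9], [5]), (0, [9, 2, 9], [5]), (0, [9, 2, 9], [5]),
  (0, [9, 2, 9], [5]), (0, [9, 2, 9], [5]), (0, [9, 2, 9], [5]), (0, [9, 2, 9], [5]),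
  (0, [9, 2, 9], [5]), (0, [9, 2, 9], [5]), (0, [9, 2, 9], [5]), (0, [9, 2, 9], [5]),
  (0, [9, 2, 9], [5]), (0, [9, 2, 9], [5]), (0, [9, 2, 9], [5]), (0, [9, 2, 9], [5])]

/-- Some options of a node. -/
def tOpt44x2 : List (ℕ × List ℕ × List ℕ) := [
  (0, [9, 2, 9], [5]), (0, [9, 2, 9], [5]), (0, [9, 2, 9], [5]), (0, [9, 2, 9], [5]),
  (0, [9, 2, 9], [5]), (0, [9, 2, 9], [5]), (0, [9, 2, 9], [5]), (0, [9, 2, 9], [5]),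
  (0, [9, 2, 9], [5]), (0, [9, 2, 9], [5]), (0, [9, 2, 9], [5]), (0, [9, 2, 9], [5]),
  (0, [9, 2, 9], [5]), (0, [9, 2, 9], [5]), (0, [9, 2, 9], [5]), (0, [9, 2, 9], [5]),
  (0, [9, 2, 9], [5]), (0, [9, 2, 9], [5]), (0, [9, 2, 9], [5]), (0, [9, 2, 9], [5]),
  (0, [9, 2, 9], [5]), (0, [9, 2, 9], [5]), (0, [9, 2, 9], [5]), (0, [9, 2, 9], [5]),
  (0, [9, 2, 9], [5]), (0, [9, 2, 9], [5]), (0, [9, 2, 9], [5]), (0, [9, 2, 9], [5]),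
  (0, [9, 2, 9], [5]), (0, [9, 2, 9], [5]), (0, [9, 2, 9], [5]), (0, [9, 2, 9], [5]),
  (0, [9, 2, 9], [5]), (0, [9, 2, 9], [5]), (0, [9, 2, 9], [5]), (0, [9, 2, 9], [5]),
  (0, [9, 2, 9], [5]), (0, [9, 2, 9], [5]), (0, [9, 2, 9], [5]), (0, [9, 2, 9], [5]),
  (0, [9, 2, 9], [5]), (0, [9, 2, 9], [5]), (0, [9, 2, 9], [5]), (0, [9, 2, 9], [5]),
  (0, [9, 2, 9], [5]), (0, [9, 2, 9], [5]), (0, [9, 2, 9], [5]), (0, [9, 2, 9], [5]),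
  (0, [9, 2, 9], [5]), (0, [9, 2, 9], [5]), (0, [9, 2, 9], [5]), (0, [9, 2, 9], [5]),
  (0, [9, 2, 9], [5]), (0, [9, 2, 9], [5]), (0, [9, 2, 9], [5]), (0, [9, 2, 9], [5]),
  (0, [9, 2, 9], [5]), (0, [9, 2, 9], [5]), (0, [9, 2, 9], [5]), (0, [9, 2, 9], [5]),
  (0, [9, 2, 9], [5]), (0, [9, 2, 9], [5]), (0, [9, 2, 9], [5]), (0, [9, 2, 9], [5]),
  (0, [9, 2, 9], [5]), (0, [9, 2, 9], [5]), (0, [9, 2, 9], [5]), (0, [9, 2, 9], [5]),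
  (0, [9, 2, 9], [5]), (0, [9, 2, 9], [5]), (0, [9, 2, 9], [5]), (0, [9, 2, 9], [5]),
  (0, [9, 2, 9], [5]), (0, [9, 2, 9], [5]), (0, [9, 2, 9], [5]), (0, [9, 2, 9], [5]),
  (0, [9, 2, 9], [5]), (0, [9, 2, 9], [5]), (0, [9, 2, 9], [5]), (0, [9, 2, 9], [5])]

/-- Some options of a node. -/
def tOpt44x3 : List (ℕ × List ℕ × List ℕ) := [
  (0, [9, 2, 9], [5]), (0, [9, 2, 9], [5]), (0, [9, 2, 9], [5]), (0, [9, 2, 9], [5]),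
  (0, [9, 2, 9], [5]), (0, [9, 2, 9], [5]), (0, [9, 2, 9], [5]), (0, [9, 2, 9], [5]),
  (0, [9, 2, 9], [5]), (0, [9, 2, 9], [5]), (0, [9, 2, 9], [5]), (0, [9, 2, 9], [5]),
  (0, [9, 2, 9], [5]), (0, [9, 2, 9], [5]), (0, [9, 2, 9], [5]), (0, [9, 2, 9], [5]),
  (0, [9, 2, 9], [5]), (0, [9, 2, 9], [5]), (0, [9, 2, 9], [5]), (0, [9, 2, 9], [5]),
  (0, [9, 2, 9], [5]), (0, [9, 2, 9], [5]), (0, [9, 2, 9], [5]), (0, [9, 2, 9], [5]),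
  (0, [9, 2, 9], [5]), (0, [9, 2, 9], [5]), (0, [9, 2, 9], [5]), (0, [9, 2, 9], [5]),
  (0, [9, 2, 9], [5]), (0, [9, 2, 9], [5]), (0, [9, 2, 9], [5]), (0, [9, 2, 9], [5]),
  (0, [9, 2, 9], [5]), (0, [9, 2, 9], [5]), (0, [9, 2, 9], [5]), (0, [9, 2, 9], [5]),
  (0, [9, 2, 9], [5]), (0, [9, 2, 9], [5]), (0, [9, 2, 9], [5]), (0, [9, 2, 9], [5]),
  (0, [9, 2, 9], [5]), (0, [9, 2, 9], [5]), (0, [9, 2, 9], [5]), (0, [9, 2, 9], [5]),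
  (0, [9, 2, 9], [5]), (0, [9, 2, 9], [5]), (0, [9, 2, 9], [5]), (0, [9, 2, 9], [5]),
  (0, [9, 2, 9], [5]), (0, [9, 2, 9], [5]), (0, [9, 2, 9], [5]), (0, [9, 2, 9], [5]),
  (0, [9, 2, 9], [5]), (0, [9, 2, 9], [5]), (0, [9, 2, 9], [5]), (0, [9, 2, 9], [5]),
  (0, [9, 2, 9], [5]), (0, [9, 2, 9], [5]), (0, [9, 2, 9], [5]), (0, [9, 2, 9], [5]),
  (0, [9, 2, 9], [5]), (0, [9, 2, 9], [5]), (0, [9, 2, 9], [5]), (0, [9, 2, 9], [5]),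
  (0, [9, 2, 9], [5]), (0, [9, 2, 9], [5]), (0, [9, 2, 9], [5]), (0, [9, 2, 9], [5]),
  (0, [9, 2, 9], [5]), (0, [9, 2, 9], [5]), (0, [9, 2, 9], [5]), (0, [9, 2, 9], [5]),
  (0, [9, 2, 9], [5]), (0, [9, 2, 9], [5]), (0, [9, 2, 9], [5]), (0, [9, 2, 9], [5]),
  (0, [9, 2, 9], [5])]

/-- A node. -/
def tNode44 : TNode := ⟨[0, 1, 159, 29, 59, 54, 51, 166, 58], [1, 0, 41, 95, 3, 96, 14, 71, 19], 110, tOpt44x0 ++ tOpt44x1 ++ tOpt44x2 ++ tOpt44x3, []⟩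

/-- Some options of a node. -/
def tOpt45x0 : List (ℕ × List ℕ × List ℕ) := [
  (0, [1], [8]), (0, [0], [8]), (0, [8, 2, 8], [5]), (0, [4], [8]),
  (0, [8, 2, 8], [5]), (0, [8, 2, 8], [5]), (0, [8, 2, 8], [5]), (0, [8, 2, 8], [5]),
  (0, [8, 2, 8], [5]), (0, [8, 2, 8], [5]), (0, [8, 7, 8], [4, 7, 4]), (0, [8, 2, 8], [5]),
  (0, [8, 2, 8], [5]), (0, [8, 2, 8], [5]), (0, [6], [8]), (0, [8, 3, 8], [4, 3, 4]),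
  (0, [8, 2, 8], [5]), (0, [8, 2, 8], [5]), (0, [8, 2, 8], [5]), (0, [8, 3, 8], [4, 3, 4]),
  (0, [8, 2, 8], [5]), (0, [8, 2, 8], [5]), (0, [8, 2, 8], [5]), (0, [8, 2, 8], [5]),
  (0, [8, 7, 8], [6, 7, 6]), (0, [8, 2, 8], [5]), (0, [8, 2, 8], [5]), (0, [8, 2, 8], [5]),
  (0, [8, 2, 8], [5]), (0, [8, 2, 8], [5]), (0, [8, 2, 8], [5]), (0, [8, 2, 8], [5]),
  (0, [8, 2, 8], [5]), (0, [8, 2, 8], [5]), (0, [8, 2, 8], [5]), (0, [8, 2, 8], [5]),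
  (0, [8, 2, 8], [5]), (0, [8, 2, 8], [5]), (0, [8, 2, 8], [5]), (0, [8, 2, 8], [5]),
  (0, [8, 2, 8], [5]), (0, [2], [8]), (0, [8, 2, 8], [5]), (0, [8, 2, 8], [5]),
  (0, [8, 2, 8], [5]), (0, [8, 2, 8], [5]), (0, [8, 2, 8], [5]), (0, [8, 2, 8], [5]),
  (0, [8, 2, 8], [5]), (0, [8, 2, 8], [5]), (0, [8, 2, 8], [5]), (0, [8, 2, 8], [5]),
  (0, [8, 2, 8], [5]), (0, [8, 2, 8], [5]), (0, [8, 2, 8], [5]), (0, [8, 2, 8], [5]),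
  (0, [8, 2, 8], [5]), (0, [8, 2, 8], [5]), (0, [8, 2, 8], [5]), (0, [8, 2, 8], [5]),
  (0, [8, 2, 8], [5]), (0, [8, 2, 8], [5]), (0, [8, 2, 8], [5]), (0, [8, 2, 8], [5]),
  (0, [8, 2, 8], [5]), (0, [8, 2, 8], [5]), (0, [8, 2, 8], [5]), (0, [8, 2, 8], [5]),
  (0, [8, 2, 8], [5]), (0, [8, 2, 8], [5]), (0, [8, 2, 8], [5]), (0, [8, 2, 8], [5]),
  (0, [7], [8]), (0, [8, 2, 8], [5]), (0, [8, 2, 8], [5]), (0, [8, 2, 8], [5]),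
  (0, [8, 2, 8], [5]), (0, [8, 2, 8], [5]), (0, [8, 2, 8], [5]), (0, [8, 2, 8], [5])]

/-- Some options of a node. -/
def tOpt45x1 : List (ℕ × List ℕ × List ℕ) := [
  (0, [8, 2, 8], [5]), (0, [8, 2, 8], [5]), (0, [8, 2, 8], [5]), (0, [8, 2, 8], [5]),
  (0, [8, 2, 8], [5]), (0, [8, 2, 8], [5]), (0, [8, 2, 8], [5]), (0, [8, 2, 8], [5]),
  (0, [8, 2, 8], [5]), (0, [8, 2, 8], [5]), (0, [8, 2, 8], [5]), (0, [8, 2, 8], [5]),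
  (0, [8, 2, 8], [5]), (0, [8, 2, 8], [5]), (0, [8, 2, 8], [5]), (0, [3], [8]),
  (0, [5], [8]), (0, [8, 2, 8], [5]), (0, [8, 2, 8], [5]), (0, [8, 2, 8], [5]),
  (0, [8, 2, 8], [5]), (0, [4, 2, 4], [8]), (0, [8, 2, 8], [5]), (0, [8, 2, 8], [5]),
  (0, [3, 2, 3], [8]), (0, [8, 2, 8], [5]), (0, [8, 2, 8], [5]), (0, [8, 2, 8], [5]),
  (0, [8, 2, 8], [5]), (0, [8, 2, 8], [5]), (0, [8, 2, 8], [5]), (0, [8, 2, 8], [5]),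
  (0, [8, 2, 8], [5]), (0, [8, 2, 8], [5]), (0, [8, 2, 8], [5]), (0, [8, 2, 8], [5]),
  (0, [8, 2, 8], [5]), (0, [8, 2, 8], [5]), (0, [8, 2, 8], [5]), (0, [8, 2, 8], [5]),
  (0, [3, 8, 3], [7, 4, 7]), (0, [4, 3, 7, 3, 4], [8, 7, 8]), (0, [8, 2, 8], [5]), (0, [8, 2, 8], [5]),
  (0, [8, 2, 8], [5]), (0, [8, 2, 8], [5]), (0, [8, 2, 8], [5]), (0, [8, 2, 8], [5]),
  (0, [8, 2, 8], [5]), (0, [3, 8, 3], [7, 6, 7]), (1, [], []), (0, [8, 2, 8], [5]),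
  (0, [8, 2, 8], [5]), (0, [8, 2, 8], [5]), (0, [8, 2, 8], [5]), (0, [8, 2, 8], [5]),
  (0, [8, 2, 8], [5]), (0, [8, 2, 8], [5]), (0, [8, 2, 8], [5]), (0, [8, 2, 8], [5]),
  (0, [8, 2, 8], [5]), (0, [8, 2, 8], [5]), (0, [8, 2, 8], [5]), (0, [8, 2, 8], [5]),
  (0, [8, 2, 8], [5]), (0, [8, 2, 8], [5]), (0, [8, 2, 8], [5]), (0, [8, 2, 8], [5]),
  (0, [8, 2, 8], [5]), (0, [8, 2, 8], [5]), (0, [8, 2, 8], [5]), (0, [8, 2, 8], [5]),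
  (0, [8, 2, 8], [5]), (0, [8, 2, 8], [5]), (0, [8, 2, 8], [5]), (0, [8, 2, 8], [5]),
  (0, [8, 2, 8], [5]), (0, [8, 2, 8], [5]), (0, [8, 2, 8], [5]), (0, [8, 2, 8], [5])]

/-- Some options of a node. -/
def tOpt45x2 : List (ℕ × List ℕ × List ℕ) := [
  (0, [8, 2, 8], [5]), (0, [8, 2, 8], [5]), (0, [8, 2, 8], [5]), (0, [8, 2, 8], [5]),
  (0, [8, 2, 8], [5]), (0, [8, 2, 8], [5]), (0, [8, 2, 8], [5]), (0, [8, 2, 8], [5]),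
  (0, [8, 2, 8], [5]), (0, [8, 2, 8], [5]), (0, [8, 2, 8], [5]), (0, [8, 2, 8], [5]),
  (0, [8, 2, 8], [5]), (0, [8, 2, 8], [5]), (0, [8, 2, 8], [5]), (0, [8, 2, 8], [5]),
  (0, [8, 2, 8], [5]), (0, [8, 2, 8], [5]), (0, [8, 2, 8], [5]), (0, [8, 2, 8], [5]),
  (0, [8, 2, 8], [5]), (0, [8, 2, 8], [5]), (0, [8, 2, 8], [5]), (0, [8, 2, 8], [5]),
  (0, [8, 2, 8], [5]), (0, [8, 2, 8], [5]), (0, [8, 2, 8], [5]), (0, [8, 2, 8], [5]),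
  (0, [8, 2, 8], [5]), (0, [8, 2, 8], [5]), (0, [8, 2, 8], [5]), (0, [8, 2, 8], [5]),
  (0, [8, 2, 8], [5]), (0, [8, 2, 8], [5]), (0, [8, 2, 8], [5]), (0, [8, 2, 8], [5]),
  (0, [8, 2, 8], [5]), (0, [8, 2, 8], [5]), (0, [8, 2, 8], [5]), (0, [8, 2, 8], [5]),
  (0, [8, 2, 8], [5]), (0, [8, 2, 8], [5]), (0, [8, 2, 8], [5]), (0, [8, 2, 8], [5]),
  (0, [8, 2, 8], [5]), (0, [8, 2, 8], [5]), (0, [8, 2, 8], [5]), (0, [8, 2, 8], [5]),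
  (0, [8, 2, 8], [5]), (0, [8, 2, 8], [5]), (0, [8, 2, 8], [5]), (0, [8, 2, 8], [5]),
  (0, [8, 2, 8], [5]), (0, [8, 2, 8], [5]), (0, [8, 2, 8], [5]), (0, [8, 2, 8], [5]),
  (0, [8, 2, 8], [5]), (0, [8, 2, 8], [5]), (0, [8, 2, 8], [5]), (0, [8, 2, 8], [5]),
  (0, [8, 2, 8], [5]), (0, [8, 2, 8], [5]), (0, [8, 2, 8], [5]), (0, [8, 2, 8], [5]),
  (0, [8, 2, 8], [5]), (0, [8, 2, 8], [5]), (0, [8, 2, 8], [5]), (0, [8, 2, 8], [5]),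
  (0, [8, 2, 8], [5]), (0, [8, 2, 8], [5]), (0, [8, 2, 8], [5]), (0, [8, 2, 8], [5]),
  (0, [8, 2, 8], [5]), (0, [8, 2, 8], [5]), (0, [8, 2, 8], [5]), (0, [8, 2, 8], [5]),
  (0, [8, 2, 8], [5]), (0, [8, 2, 8], [5]), (0, [8, 2, 8], [5]), (0, [8, 2, 8], [5])]

/-- Some options of a node. -/
def tOpt45x3 : List (ℕ × List ℕ × List ℕ) := [
  (0, [8, 2, 8], [5]), (0, [8, 2, 8], [5]), (0, [8, 2, 8], [5]), (0, [8, 2, 8], [5]),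
  (0, [8, 2, 8], [5]), (0, [8, 2, 8], [5]), (0, [8, 2, 8], [5]), (0, [8, 2, 8], [5]),
  (0, [8, 2, 8], [5]), (0, [8, 2, 8], [5]), (0, [8, 2, 8], [5]), (0, [8, 2, 8], [5]),
  (0, [8, 2, 8], [5]), (0, [8, 2, 8], [5]), (0, [8, 2, 8], [5]), (0, [8, 2, 8], [5]),
  (0, [8, 2, 8], [5]), (0, [8, 2, 8], [5]), (0, [8, 2, 8], [5]), (0, [8, 2, 8], [5]),
  (0, [8, 2, 8], [5]), (0, [8, 2, 8], [5]), (0, [8, 2, 8], [5]), (0, [8, 2, 8], [5]),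
  (0, [8, 2, 8], [5]), (0, [8, 2, 8], [5]), (0, [8, 2, 8], [5]), (0, [8, 2, 8], [5]),
  (0, [8, 2, 8], [5]), (0, [8, 2, 8], [5]), (0, [8, 2, 8], [5]), (0, [8, 2, 8], [5]),
  (0, [8, 2, 8], [5]), (0, [8, 2, 8], [5]), (0, [8, 2, 8], [5]), (0, [8, 2, 8], [5]),
  (0, [8, 2, 8], [5]), (0, [8, 2, 8], [5]), (0, [8, 2, 8], [5]), (0, [8, 2, 8], [5]),
  (0, [8, 2, 8], [5]), (0, [8, 2, 8], [5]), (0, [8, 2, 8], [5]), (0, [8, 2, 8], [5]),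
  (0, [8, 2, 8], [5]), (0, [8, 2, 8], [5]), (0, [8, 2, 8], [5]), (0, [8, 2, 8], [5]),
  (0, [8, 2, 8], [5]), (0, [8, 2, 8], [5]), (0, [8, 2, 8], [5]), (0, [8, 2, 8], [5]),
  (0, [8, 2, 8], [5]), (0, [8, 2, 8], [5]), (0, [8, 2, 8], [5]), (0, [8, 2, 8], [5]),
  (0, [8, 2, 8], [5]), (0, [8, 2, 8], [5]), (0, [8, 2, 8], [5]), (0, [8, 2, 8], [5]),
  (0, [8, 2, 8], [5]), (0, [8, 2, 8], [5]), (0, [8, 2, 8], [5]), (0, [8, 2, 8], [5]),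
  (0, [8, 2, 8], [5]), (0, [8, 2, 8], [5]), (0, [8, 2, 8], [5]), (0, [8, 2, 8], [5]),
  (0, [8, 2, 8], [5]), (0, [8, 2, 8], [5]), (0, [8, 2, 8], [5]), (0, [8, 2, 8], [5]),
  (0, [8, 2, 8], [5]), (0, [8, 2, 8], [5]), (0, [8, 2, 8], [5]), (0, [8, 2, 8], [5]),
  (0, [8, 2, 8], [5])]

/-- A node. -/
def tNode45 : TNode := ⟨[0, 1, 159, 29, 59, 54, 51, 166], [1, 0, 41, 95, 3, 96, 14, 72], 110, tOpt45x0 ++ tOpt45x1 ++ tOpt45x2 ++ tOpt45x3, [46]⟩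

/-- Some options of a node. -/
def tOpt46x0 : List (ℕ × List ℕ × List ℕ) := [
  (0, [1], [9]), (0, [0], [9]), (0, [9, 2, 9], [5]), (0, [4], [9]),
  (0, [9, 2, 9], [5]), (0, [9, 2, 9], [5]), (0, [9, 2, 9], [5]), (0, [9, 2, 9], [5]),
  (0, [9, 2, 9], [5]), (0, [9, 2, 9], [5]), (0, [9, 3, 9], [4, 3, 4]), (0, [9, 2, 9], [5]),
  (0, [9, 2, 9], [5]), (0, [9, 2, 9], [5]), (0, [6], [9]), (0, [9, 7, 9], [4, 7, 4]),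
  (0, [9, 2, 9], [5]), (0, [9, 2, 9], [5]), (0, [9, 2, 9], [5]), (0, [8, 5, 3, 4, 1], [9, 3, 2, 6]),
  (0, [9, 2, 9], [5]), (0, [9, 2, 9], [5]), (0, [9, 2, 9], [5]), (0, [9, 2, 9], [5]),
  (0, [9, 3, 9], [4, 3, 4]), (0, [9, 2, 9], [5]), (0, [9, 2, 9], [5]), (0, [9, 2, 9], [5]),
  (0, [9, 2, 9], [5]), (0, [9, 2, 9], [5]), (0, [9, 2, 9], [5]), (0, [9, 2, 9], [5]),
  (0, [9, 2, 9], [5]), (0, [9, 2, 9], [5]), (0, [9, 2, 9], [5]), (0, [9, 2, 9], [5]),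
  (0, [9, 2, 9], [5]), (0, [9, 2, 9], [5]), (0, [9, 2, 9], [5]), (0, [9, 2, 9], [5]),
  (0, [9, 2, 9], [5]), (0, [2], [9]), (0, [9, 2, 9], [5]), (0, [9, 2, 9], [5]),
  (0, [9, 2, 9], [5]), (0, [9, 2, 9], [5]), (0, [9, 2, 9], [5]), (0, [9, 2, 9], [5]),
  (0, [9, 2, 9], [5]), (0, [9, 2, 9], [5]), (0, [9, 2, 9], [5]), (0, [9, 2, 9], [5]),
  (0, [9, 2, 9], [5]), (0, [9, 2, 9], [5]), (0, [9, 2, 9], [5]), (0, [9, 2, 9], [5]),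
  (0, [9, 2, 9], [5]), (0, [9, 2, 9], [5]), (0, [9, 2, 9], [5]), (0, [9, 2, 9], [5]),
  (0, [9, 2, 9], [5]), (0, [9, 2, 9], [5]), (0, [9, 2, 9], [5]), (0, [9, 2, 9], [5]),
  (0, [9, 2, 9], [5]), (0, [9, 2, 9], [5]), (0, [9, 2, 9], [5]), (0, [9, 2, 9], [5]),
  (0, [9, 2, 9], [5]), (0, [9, 2, 9], [5]), (0, [9, 2, 9], [5]), (0, [9, 2, 9], [5]),
  (0, [7], [9]), (0, [9, 2, 9], [5]), (0, [9, 2, 9], [5]), (0, [9, 2, 9], [5]),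
  (0, [9, 2, 9], [5]), (0, [9, 2, 9], [5]), (0, [9, 2, 9], [5]), (0, [9, 2, 9], [5])]

/-- Some options of a node. -/
def tOpt46x1 : List (ℕ × List ℕ × List ℕ) := [
  (0, [9, 2, 9], [5]), (0, [9, 2, 9], [5]), (0, [9, 2, 9], [5]), (0, [9, 2, 9], [5]),
  (0, [9, 2, 9], [5]), (0, [9, 2, 9], [5]), (0, [9, 2, 9], [5]), (0, [9, 2, 9], [5]),
  (0, [9, 2, 9], [5]), (0, [9, 2, 9], [5]), (0, [9, 2, 9], [5]), (0, [9, 2, 9], [5]),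
  (0, [9, 2, 9], [5]), (0, [9, 2, 9], [5]), (0, [9, 2, 9], [5]), (0, [3], [9]),
  (0, [5], [9]), (0, [9, 2, 9], [5]), (0, [9, 2, 9], [5]), (0, [9, 2, 9], [5]),
  (0, [9, 2, 9], [5]), (0, [4, 2, 4], [9]), (0, [9, 2, 9], [5]), (0, [9, 2, 9], [5]),
  (0, [3, 2, 3], [9]), (0, [9, 2, 9], [5]), (0, [9, 2, 9], [5]), (0, [9, 2, 9], [5]),
  (0, [9, 2, 9], [5]), (0, [9, 2, 9], [5]), (0, [9, 2, 9], [5]), (0, [9, 2, 9], [5]),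
  (0, [9, 2, 9], [5]), (0, [9, 2, 9], [5]), (0, [9, 2, 9], [5]), (0, [9, 2, 9], [5]),
  (0, [9, 2, 9], [5]), (0, [9, 2, 9], [5]), (0, [9, 2, 9], [5]), (0, [9, 2, 9], [5]),
  (0, [9, 3, 9], [4, 3, 4]), (0, [9, 3, 9], [4, 3, 4]), (0, [9, 2, 9], [5]), (0, [9, 2, 9], [5]),
  (0, [9, 2, 9], [5]), (0, [9, 2, 9], [5]), (0, [9, 2, 9], [5]), (0, [9, 2, 9], [5]),
  (0, [9, 2, 9], [5]), (0, [9, 3, 9], [4, 3, 4]), (0, [8], [9]), (0, [9, 2, 9], [5]),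
  (0, [9, 2, 9], [5]), (0, [9, 2, 9], [5]), (0, [9, 2, 9], [5]), (0, [9, 2, 9], [5]),
  (0, [9, 2, 9], [5]), (0, [9, 2, 9], [5]), (0, [9, 2, 9], [5]), (0, [9, 2, 9], [5]),
  (0, [9, 2, 9], [5]), (0, [9, 2, 9], [5]), (0, [9, 2, 9], [5]), (0, [9, 2, 9], [5]),
  (0, [9, 2, 9], [5]), (0, [9, 2, 9], [5]), (0, [9, 2, 9], [5]), (0, [9, 2, 9], [5]),
  (0, [9, 2, 9], [5]), (0, [9, 2, 9], [5]), (0, [9, 2, 9], [5]), (0, [9, 2, 9], [5]),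
  (0, [9, 2, 9], [5]), (0, [9, 2, 9], [5]), (0, [9, 2, 9], [5]), (0, [9, 2, 9], [5]),
  (0, [9, 2, 9], [5]), (0, [9, 2, 9], [5]), (0, [9, 2, 9], [5]), (0, [9, 2, 9], [5])]

/-- Some options of a node. -/
def tOpt46x2 : List (ℕ × List ℕ × List ℕ) := [
  (0, [9, 2, 9], [5]), (0, [9, 2, 9], [5]), (0, [9, 2, 9], [5]), (0, [9, 2, 9], [5]),
  (0, [9, 2, 9], [5]), (0, [9, 2, 9], [5]), (0, [9, 2, 9], [5]), (0, [9, 2, 9], [5]),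
  (0, [9, 2, 9], [5]), (0, [9, 2, 9], [5]), (0, [9, 2, 9], [5]), (0, [9, 2, 9], [5]),
  (0, [9, 2, 9], [5]), (0, [9, 2, 9], [5]), (0, [9, 2, 9], [5]), (0, [9, 2, 9], [5]),
  (0, [9, 2, 9], [5]), (0, [9, 2, 9], [5]), (0, [9, 2, 9], [5]), (0, [9, 2, 9], [5]),
  (0, [9, 2, 9], [5]), (0, [9, 2, 9], [5]), (0, [9, 2, 9], [5]), (0, [9, 2, 9], [5]),
  (0, [9, 2, 9], [5]), (0, [9, 2, 9], [5]), (0, [9, 2, 9], [5]), (0, [9, 2, 9], [5]),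
  (0, [9, 2, 9], [5]), (0, [9, 2, 9], [5]), (0, [9, 2, 9], [5]), (0, [9, 2, 9], [5]),
  (0, [9, 2, 9], [5]), (0, [9, 2, 9], [5]), (0, [9, 2, 9], [5]), (0, [9, 2, 9], [5]),
  (0, [9, 2, 9], [5]), (0, [9, 2, 9], [5]), (0, [9, 2, 9], [5]), (0, [9, 2, 9], [5]),
  (0, [9, 2, 9], [5]), (0, [9, 2, 9], [5]), (0, [9, 2, 9], [5]), (0, [9, 2, 9], [5]),
  (0, [9, 2, 9], [5]), (0, [9, 2, 9], [5]), (0, [9, 2, 9], [5]), (0, [9, 2, 9], [5]),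
  (0, [9, 2, 9], [5]), (0, [9, 2, 9], [5]), (0, [9, 2, 9], [5]), (0, [9, 2, 9], [5]),
  (0, [9, 2, 9], [5]), (0, [9, 2, 9], [5]), (0, [9, 2, 9], [5]), (0, [9, 2, 9], [5]),
  (0, [9, 2, 9], [5]), (0, [9, 2, 9], [5]), (0, [9, 2, 9], [5]), (0, [9, 2, 9], [5]),
  (0, [9, 2, 9], [5]), (0, [9, 2, 9], [5]), (0, [9, 2, 9], [5]), (0, [9, 2, 9], [5]),
  (0, [9, 2, 9], [5]), (0, [9, 2, 9], [5]), (0, [9, 2, 9], [5]), (0, [9, 2, 9], [5]),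
  (0, [9, 2, 9], [5]), (0, [9, 2, 9], [5]), (0, [9, 2, 9], [5]), (0, [9, 2, 9], [5]),
  (0, [9, 2, 9], [5]), (0, [9, 2, 9], [5]), (0, [9, 2, 9], [5]), (0, [9, 2, 9], [5]),
  (0, [9, 2, 9], [5]), (0, [9, 2, 9], [5]), (0, [9, 2, 9], [5]), (0, [9, 2, 9], [5])]

/-- Some options of a node. -/
def tOpt46x3 : List (ℕ × List ℕ × List ℕ) := [
  (0, [9, 2, 9], [5]), (0, [9, 2, 9], [5]), (0, [9, 2, 9], [5]), (0, [9, 2, 9], [5]),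
  (0, [9, 2, 9], [5]), (0, [9, 2, 9], [5]), (0, [9, 2, 9], [5]), (0, [9, 2, 9], [5]),
  (0, [9, 2, 9], [5]), (0, [9, 2, 9], [5]), (0, [9, 2, 9], [5]), (0, [9, 2, 9], [5]),
  (0, [9, 2, 9], [5]), (0, [9, 2, 9], [5]), (0, [9, 2, 9], [5]), (0, [9, 2, 9], [5]),
  (0, [9, 2, 9], [5]), (0, [9, 2, 9], [5]), (0, [9, 2, 9], [5]), (0, [9, 2, 9], [5]),
  (0, [9, 2, 9], [5]), (0, [9, 2, 9], [5]), (0, [9, 2, 9], [5]), (0, [9, 2, 9], [5]),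
  (0, [9, 2, 9], [5]), (0, [9, 2, 9], [5]), (0, [9, 2, 9], [5]), (0, [9, 2, 9], [5]),
  (0, [9, 2, 9], [5]), (0, [9, 2, 9], [5]), (0, [9, 2, 9], [5]), (0, [9, 2, 9], [5]),
  (0, [9, 2, 9], [5]), (0, [9, 2, 9], [5]), (0, [9, 2, 9], [5]), (0, [9, 2, 9], [5]),
  (0, [9, 2, 9], [5]), (0, [9, 2, 9], [5]), (0, [9, 2, 9], [5]), (0, [9, 2, 9], [5]),
  (0, [9, 2, 9], [5]), (0, [9, 2, 9], [5]), (0, [9, 2, 9], [5]), (0, [9, 2, 9], [5]),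
  (0, [9, 2, 9], [5]), (0, [9, 2, 9], [5]), (0, [9, 2, 9], [5]), (0, [9, 2, 9], [5]),
  (0, [9, 2, 9], [5]), (0, [9, 2, 9], [5]), (0, [9, 2, 9], [5]), (0, [9, 2, 9], [5]),
  (0, [9, 2, 9], [5]), (0, [9, 2, 9], [5]), (0, [9, 2, 9], [5]), (0, [9, 2, 9], [5]),
  (0, [9, 2, 9], [5]), (0, [9, 2, 9], [5]), (0, [9, 2, 9], [5]), (0, [9, 2, 9], [5]),
  (0, [9, 2, 9], [5]), (0, [9, 2, 9], [5]), (0, [9, 2, 9], [5]), (0, [9, 2, 9], [5]),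
  (0, [9, 2, 9], [5]), (0, [9, 2, 9], [5]), (0, [9, 2, 9], [5]), (0, [9, 2, 9], [5]),
  (0, [9, 2, 9], [5]), (0, [9, 2, 9], [5]), (0, [9, 2, 9], [5]), (0, [9, 2, 9], [5]),
  (0, [9, 2, 9], [5]), (0, [9, 2, 9], [5]), (0, [9, 2, 9], [5]), (0, [9, 2, 9], [5]),
  (0, [9, 2, 9], [5])]

/-- A node. -/
def tNode46 : TNode := ⟨[0, 1, 159, 29, 59, 54, 51, 166, 110], [1, 0, 41, 95, 3, 96, 14, 72, 130], 58, tOpt46x0 ++ tOpt46x1 ++ tOpt46x2 ++ tOpt46x3, []⟩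

/-- Some options of a node. -/
def tOpt47x0 : List (ℕ × List ℕ × List ℕ) := [
  (0, [1], [6]), (0, [0], [6]), (0, [6, 4, 6], [4]), (0, [4], [6]),
  (0, [6, 3, 6], [3]), (0, [6, 4, 6], [4]), (0, [6, 2, 6], [2]), (0, [6, 3, 6], [3]),
  (0, [6, 4, 6], [4]), (0, [6, 2, 6], [2]), (0, [6, 2, 6], [2]), (0, [6, 3, 6], [3]),
  (0, [6, 3, 6], [3]), (0, [6, 3, 6], [3]), (0, [6, 2, 6], [2]), (0, [6, 2, 6], [2]),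
  (0, [6, 3, 6], [3]), (0, [6, 3, 6], [3]), (0, [6, 3, 6], [3]), (0, [6, 2, 6], [2]),
  (0, [6, 3, 6], [3]), (0, [6, 3, 6], [3]), (0, [6, 3, 6], [3]), (0, [6, 3, 6], [3]),
  (0, [6, 2, 6], [2]), (0, [6, 3, 6], [3]), (0, [6, 3, 6], [3]), (0, [6, 3, 6], [3]),
  (0, [6, 3, 6], [3]), (0, [6, 3, 6], [3]), (0, [6, 3, 6], [3]), (0, [6, 3, 6], [3]),
  (0, [6, 3, 6], [3]), (0, [6, 3, 6], [3]), (0, [6, 3, 6], [3]), (0, [6, 3, 6], [3]),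
  (0, [6, 3, 6], [3]), (0, [6, 3, 6], [3]), (0, [6, 3, 6], [3]), (0, [6, 2, 6], [2]),
  (0, [4, 3, 4], [6]), (0, [2], [6]), (0, [6, 3, 6], [3]), (0, [6, 3, 6], [3]),
  (0, [6, 3, 6], [3]), (0, [6, 2, 6], [2]), (0, [6, 3, 6], [3]), (0, [6, 3, 6], [3]),
  (0, [6, 4, 6], [3, 4, 3]), (0, [6, 3, 6], [3]), (0, [6, 3, 6], [3]), (0, [6, 2, 6], [2]),
  (0, [6, 2, 6], [2]), (0, [6, 2, 6], [2]), (0, [6, 3, 6], [3]), (0, [6, 3, 6], [3]),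
  (0, [6, 5, 6], [4, 2, 4]), (0, [6, 3, 6], [3]), (0, [6, 2, 6], [2]), (0, [6, 2, 6], [2]),
  (0, [6, 2, 6], [2]), (0, [6, 5, 6], [4, 2, 4]), (0, [6, 3, 6], [3]), (0, [6, 3, 6], [3]),
  (0, [6, 3, 6], [3]), (0, [6, 2, 6], [2]), (0, [6, 2, 6], [2]), (0, [6, 2, 6], [2]),
  (0, [6, 2, 6], [2]), (0, [6, 2, 6], [2]), (0, [6, 4, 6], [3, 4, 3]), (0, [6, 3, 6], [3]),
  (0, [6, 3, 6], [3]), (0, [6, 2, 6], [2]), (0, [6, 2, 6], [2]), (0, [6, 2, 6], [2]),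
  (0, [6, 3, 6], [3]), (0, [6, 3, 6], [3]), (0, [6, 4, 6], [3, 4, 3]), (0, [6, 2, 6], [2])]

/-- Some options of a node. -/
def tOpt47x1 : List (ℕ × List ℕ × List ℕ) := [
  (0, [6, 2, 6], [2]), (0, [6, 5, 6], [5]), (0, [6, 2, 6], [2]), (0, [6, 2, 6], [2]),
  (0, [6, 2, 6], [2]), (0, [6, 2, 6], [2]), (0, [6, 3, 6], [3]), (0, [6, 5, 6], [4, 2, 4]),
  (0, [6, 2, 6], [2]), (0, [6, 5, 6], [5]), (0, [6, 2, 6], [2]), (0, [6, 5, 6], [4, 2, 4]),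
  (0, [6, 3, 6], [3]), (0, [6, 2, 6], [2]), (0, [6, 2, 6], [2]), (0, [3], [6]),
  (0, [6, 4, 6], [2, 4, 2]), (0, [6, 2, 6], [2]), (0, [6, 2, 6], [2]), (0, [6, 2, 6], [2]),
  (0, [6, 3, 6], [3]), (0, [4, 2, 4], [6]), (0, [6, 2, 6], [2]), (0, [6, 2, 6], [2]),
  (0, [3, 2, 3], [6]), (0, [6, 2, 6], [2]), (0, [6, 2, 6], [2]), (0, [6, 2, 6], [2]),
  (0, [6, 2, 6], [2]), (0, [6, 2, 6], [2]), (0, [6, 2, 6], [2]), (0, [6, 2, 6], [2]),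
  (0, [6, 2, 6], [2]), (0, [6, 2, 6], [2]), (0, [6, 2, 6], [2]), (0, [6, 2, 6], [2]),
  (0, [6, 2, 6], [2]), (0, [6, 2, 6], [2]), (0, [6, 2, 6], [2]), (0, [6, 2, 6], [2]),
  (0, [6, 2, 6], [2]), (0, [6, 2, 6], [2]), (0, [6, 2, 6], [2]), (0, [6, 2, 6], [2]),
  (0, [6, 2, 6], [2]), (0, [6, 2, 6], [2]), (0, [6, 2, 6], [2]), (0, [6, 2, 6], [2]),
  (0, [6, 3, 6], [3]), (0, [6, 2, 6], [2]), (0, [6, 2, 6], [2]), (0, [6, 5, 6], [5]),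
  (0, [6, 2, 6], [2]), (0, [6, 2, 6], [2]), (0, [6, 2, 6], [2]), (0, [6, 2, 6], [2]),
  (0, [6, 2, 6], [2]), (0, [6, 2, 6], [2]), (0, [6, 3, 6], [3]), (0, [6, 5, 6], [5]),
  (0, [6, 2, 6], [2]), (0, [6, 2, 6], [2]), (0, [6, 2, 6], [2]), (0, [6, 2, 6], [2]),
  (0, [6, 2, 6], [2]), (0, [6, 3, 6], [3]), (0, [6, 3, 6], [3]), (0, [6, 4, 6], [2, 4, 2]),
  (0, [6, 2, 6], [2]), (0, [6, 2, 6], [2]), (0, [5], [6]), (0, [6, 2, 6], [2]),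
  (0, [6, 2, 6], [2]), (0, [6, 2, 6], [2]), (0, [6, 2, 6], [2]), (0, [6, 2, 6], [2]),
  (0, [6, 2, 6], [2]), (0, [6, 2, 6], [2]), (0, [6, 2, 6], [2]), (0, [6, 2, 6], [2])]

/-- Some options of a node. -/
def tOpt47x2 : List (ℕ × List ℕ × List ℕ) := [
  (0, [6, 2, 6], [2]), (0, [6, 2, 6], [2]), (0, [6, 2, 6], [2]), (0, [6, 2, 6], [2]),
  (0, [6, 2, 6], [2]), (0, [6, 2, 6], [2]), (0, [6, 2, 6], [2]), (0, [6, 3, 6], [3]),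
  (0, [6, 2, 6], [2]), (0, [6, 2, 6], [2]), (0, [6, 3, 6], [3]), (0, [6, 3, 6], [3]),
  (0, [6, 3, 6], [3]), (0, [6, 3, 6], [3]), (1, [], []), (2, [], []),
  (0, [6, 3, 6], [3]), (0, [6, 3, 6], [3]), (0, [6, 3, 6], [3]), (0, [6, 3, 6], [3]),
  (0, [6, 3, 6], [3]), (0, [6, 5, 6], [5]), (1, [19, 21, 17, 21, 19, 23], []), (0, [6, 5, 6], [5]),
  (0, [6, 5, 6], [5]), (0, [6, 3, 6], [3]), (0, [6, 5, 6], [5]), (2, [19, 21, 17, 21, 19, 23], []),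
  (0, [6, 5, 6], [5]), (0, [6, 2, 6], [2]), (0, [6, 5, 6], [5]), (0, [6, 3, 6], [3]),
  (0, [6, 2, 6], [2]), (0, [6, 2, 6], [2]), (0, [6, 2, 6], [2]), (0, [6, 5, 6], [5]),
  (0, [6, 2, 6], [2]), (0, [6, 2, 6], [2]), (0, [6, 5, 6], [5]), (0, [6, 2, 6], [2]),
  (0, [6, 5, 6], [5]), (0, [6, 5, 6], [5]), (0, [6, 3, 6], [3]), (0, [6, 5, 6], [5]),
  (0, [6, 2, 6], [2]), (0, [6, 5, 6], [5]), (0, [6, 2, 6], [2]), (0, [6, 3, 6], [3]),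
  (0, [6, 3, 6], [3]), (0, [6, 3, 6], [3]), (0, [6, 3, 6], [3]), (0, [6, 2, 6], [2]),
  (0, [6, 2, 6], [2]), (0, [6, 2, 6], [2]), (0, [6, 2, 6], [2]), (0, [6, 2, 6], [2]),
  (0, [6, 2, 6], [2]), (0, [6, 3, 6], [3]), (0, [6, 3, 6], [3]), (0, [6, 3, 6], [3]),
  (0, [6, 3, 6], [3]), (0, [6, 2, 6], [2]), (0, [6, 2, 6], [2]), (0, [6, 2, 6], [2]),
  (0, [6, 3, 6], [3]), (0, [6, 3, 6], [3]), (0, [6, 3, 6], [3]), (0, [6, 3, 6], [3]),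
  (0, [6, 3, 6], [3]), (0, [6, 3, 6], [3]), (0, [6, 2, 6], [2]), (0, [6, 2, 6], [2]),
  (0, [6, 2, 6], [2]), (0, [6, 2, 6], [2]), (0, [6, 2, 6], [2]), (0, [6, 2, 6], [2]),
  (0, [6, 3, 6], [3]), (0, [6, 2, 6], [2]), (0, [6, 2, 6], [2]), (0, [6, 4, 6], [4])]

/-- Some options of a node. -/
def tOpt47x3 : List (ℕ × List ℕ × List ℕ) := [
  (0, [6, 2, 6], [2]), (0, [6, 2, 6], [2]), (0, [6, 2, 6], [2]), (0, [6, 2, 6], [2]),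
  (0, [6, 2, 6], [2]), (0, [6, 2, 6], [2]), (0, [6, 3, 6], [3]), (0, [6, 2, 6], [2]),
  (0, [6, 2, 6], [2]), (0, [6, 2, 6], [2]), (0, [6, 2, 6], [2]), (0, [6, 2, 6], [2]),
  (0, [6, 2, 6], [2]), (0, [6, 3, 6], [3]), (0, [6, 3, 6], [3]), (0, [6, 3, 6], [3]),
  (0, [6, 2, 6], [2]), (0, [6, 2, 6], [2]), (0, [6, 2, 6], [2]), (0, [6, 2, 6], [2]),
  (0, [6, 2, 6], [2]), (0, [6, 2, 6], [2]), (0, [6, 2, 6], [2]), (0, [6, 4, 6], [4]),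
  (0, [6, 2, 6], [2]), (0, [6, 2, 6], [2]), (0, [6, 2, 6], [2]), (0, [6, 2, 6], [2]),
  (0, [6, 2, 6], [2]), (0, [6, 2, 6], [2]), (0, [6, 2, 6], [2]), (0, [6, 2, 6], [2]),
  (0, [6, 2, 6], [2]), (0, [6, 2, 6], [2]), (0, [6, 2, 6], [2]), (0, [6, 2, 6], [2]),
  (0, [6, 2, 6], [2]), (0, [6, 2, 6], [2]), (0, [6, 2, 6], [2]), (0, [6, 2, 6], [2]),
  (0, [6, 4, 6], [4]), (0, [6, 4, 6], [4]), (0, [6, 2, 6], [2]), (0, [6, 2, 6], [2]),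
  (0, [6, 2, 6], [2]), (0, [6, 2, 6], [2]), (0, [6, 2, 6], [2]), (0, [6, 2, 6], [2]),
  (0, [6, 2, 6], [2]), (0, [6, 2, 6], [2]), (0, [6, 2, 6], [2]), (0, [6, 2, 6], [2]),
  (0, [6, 2, 6], [2]), (0, [6, 2, 6], [2]), (0, [6, 2, 6], [2]), (0, [6, 2, 6], [2]),
  (0, [6, 2, 6], [2]), (0, [6, 2, 6], [2]), (0, [6, 2, 6], [2]), (0, [6, 2, 6], [2]),
  (0, [6, 2, 6], [2]), (0, [6, 2, 6], [2]), (0, [6, 2, 6], [2]), (0, [6, 2, 6], [2]),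
  (0, [6, 2, 6], [2]), (0, [6, 2, 6], [2]), (0, [6, 2, 6], [2]), (0, [6, 2, 6], [2]),
  (0, [6, 2, 6], [2]), (0, [6, 2, 6], [2]), (0, [6, 2, 6], [2]), (0, [6, 2, 6], [2]),
  (0, [6, 2, 6], [2]), (0, [6, 2, 6], [2]), (0, [6, 2, 6], [2]), (0, [6, 2, 6], [2]),
  (0, [6, 2, 6], [2])]

/-- A node. -/
def tNode47 : TNode := ⟨[0, 1, 159, 29, 59, 54], [1, 0, 41, 95, 3, 150], 171, tOpt47x0 ++ tOpt47x1 ++ tOpt47x2 ++ tOpt47x3, [48, 49]⟩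

/-- Some options of a node. -/
def tOpt48x0 : List (ℕ × List ℕ × List ℕ) := [
  (0, [1], [7]), (0, [0], [7]), (0, [7, 2, 7], [2]), (0, [4], [7]),
  (0, [7, 2, 7], [2]), (0, [7, 2, 7], [2]), (0, [7, 2, 7], [4, 2, 4]), (0, [7, 2, 7], [2]),
  (0, [7, 2, 7], [2]), (0, [7, 2, 7], [4, 2, 4]), (0, [7, 5, 7], [3, 2, 3]), (0, [7, 2, 7], [2]),
  (0, [7, 2, 7], [2]), (0, [7, 2, 7], [2]), (0, [7, 2, 7], [4, 2, 4]), (0, [7, 3, 7], [4, 3, 4]),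
  (0, [7, 2, 7], [2]), (0, [7, 2, 7], [2]), (0, [7, 2, 7], [2]), (0, [7, 3, 7], [4, 3, 4]),
  (0, [7, 2, 7], [2]), (0, [7, 2, 7], [2]), (0, [7, 2, 7], [2]), (0, [7, 2, 7], [2]),
  (0, [7, 5, 7], [3, 2, 3]), (0, [7, 2, 7], [2]), (0, [7, 2, 7], [2]), (0, [7, 2, 7], [2]),
  (0, [7, 2, 7], [2]), (0, [7, 2, 7], [2]), (0, [7, 2, 7], [2]), (0, [7, 2, 7], [2]),
  (0, [7, 2, 7], [2]), (0, [7, 2, 7], [2]), (0, [7, 2, 7], [2]), (0, [7, 2, 7], [2]),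
  (0, [7, 2, 7], [2]), (0, [7, 2, 7], [2]), (0, [7, 2, 7], [2]), (0, [7, 3, 7], [3]),
  (0, [7, 2, 7], [2]), (0, [2], [7]), (0, [7, 2, 7], [2]), (0, [7, 2, 7], [2]),
  (0, [7, 2, 7], [2]), (0, [7, 3, 7], [3]), (0, [7, 2, 7], [2]), (0, [7, 2, 7], [2]),
  (0, [7, 2, 7], [2]), (0, [7, 2, 7], [2]), (0, [7, 2, 7], [2]), (0, [7, 3, 7], [3]),
  (0, [7, 3, 7], [3]), (0, [7, 3, 7], [3]), (0, [7, 2, 7], [2]), (0, [7, 2, 7], [2]),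
  (0, [7, 2, 7], [2]), (0, [7, 2, 7], [2]), (0, [7, 3, 7], [3]), (0, [7, 3, 7], [3]),
  (0, [7, 3, 7], [3]), (0, [7, 2, 7], [2]), (0, [7, 2, 7], [2]), (0, [7, 2, 7], [2]),
  (0, [7, 2, 7], [2]), (0, [7, 3, 7], [3]), (0, [7, 3, 7], [3]), (0, [7, 3, 7], [3]),
  (0, [7, 3, 7], [3]), (0, [7, 3, 7], [3]), (0, [7, 2, 7], [2]), (0, [7, 2, 7], [2]),
  (0, [7, 2, 7], [2]), (0, [7, 3, 7], [3]), (0, [7, 3, 7], [3]), (0, [7, 3, 7], [3]),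
  (0, [7, 2, 7], [2]), (0, [7, 2, 7], [2]), (0, [7, 2, 7], [2]), (0, [7, 3, 7], [3])]

/-- Some options of a node. -/
def tOpt48x1 : List (ℕ × List ℕ × List ℕ) := [
  (0, [7, 3, 7], [3]), (0, [7, 2, 7], [2]), (0, [7, 3, 7], [3]), (0, [7, 3, 7], [3]),
  (0, [7, 3, 7], [3]), (0, [7, 3, 7], [3]), (0, [7, 2, 7], [2]), (0, [7, 2, 7], [2]),
  (0, [7, 3, 7], [3]), (0, [7, 2, 7], [2]), (0, [7, 3, 7], [3]), (0, [7, 2, 7], [2]),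
  (0, [7, 2, 7], [2]), (0, [7, 3, 7], [3]), (0, [7, 3, 7], [3]), (0, [3], [7]),
  (0, [7, 2, 7], [2]), (0, [7, 3, 7], [3]), (0, [7, 3, 7], [3]), (0, [7, 3, 7], [3]),
  (0, [7, 2, 7], [2]), (0, [4, 2, 4], [7]), (0, [7, 3, 7], [3]), (0, [7, 2, 7], [3, 2, 3]),
  (0, [3, 2, 3], [7]), (0, [7, 3, 7], [3]), (0, [7, 2, 7], [3, 2, 3]), (0, [7, 2, 7], [3, 2, 3]),
  (0, [7, 3, 7], [3]), (0, [7, 2, 7], [4, 2, 4]), (0, [7, 3, 7], [3]), (0, [7, 3, 7], [3]),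
  (0, [7, 2, 7], [3, 2, 3]), (0, [7, 2, 7], [3, 2, 3]), (0, [7, 2, 7], [4, 2, 4]), (0, [7, 2, 7], [4, 2, 4]),
  (0, [7, 2, 7], [3, 2, 3]), (0, [7, 3, 7], [3]), (0, [7, 3, 7], [3]), (0, [6, 5, 6], [7, 2, 7]),
  (0, [7, 5, 7], [3, 2, 3]), (0, [7, 5, 7], [3, 2, 3]), (0, [7, 3, 7], [3]), (0, [7, 3, 7], [3]),
  (0, [7, 2, 7], [4, 2, 4]), (0, [7, 2, 7], [3, 2, 3]), (0, [7, 2, 7], [5]), (0, [7, 3, 7], [4, 3, 4]),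
  (0, [7, 2, 7], [2]), (0, [7, 5, 7], [3, 2, 3]), (0, [7, 5, 7], [3, 2, 3]), (0, [7, 2, 7], [2]),
  (0, [7, 3, 7], [3]), (0, [6, 5, 6], [7, 2, 7]), (0, [7, 2, 7], [5]), (0, [7, 3, 7], [4, 3, 4]),
  (0, [7, 3, 7], [3]), (0, [7, 2, 7], [5]), (0, [7, 2, 7], [2]), (0, [7, 2, 7], [2]),
  (0, [7, 2, 7], [5]), (0, [6, 5, 6], [7, 2, 7]), (0, [7, 2, 7], [3, 2, 3]), (0, [6, 5, 6], [7, 2, 7]),
  (0, [7, 2, 7], [5]), (0, [7, 2, 7], [2]), (0, [7, 2, 7], [2]), (0, [7, 2, 7], [2]),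
  (0, [7, 2, 7], [5]), (0, [6, 5, 6], [7, 2, 7]), (0, [5], [7]), (0, [7, 2, 7], [5]),
  (0, [7, 2, 7], [3, 2, 3]), (0, [7, 2, 7], [3, 2, 3]), (0, [7, 3, 7], [3]), (0, [6, 5, 6], [7, 2, 7]),
  (0, [7, 2, 7], [5]), (0, [7, 3, 7], [3]), (0, [7, 2, 7], [3, 2, 3]), (0, [7, 2, 7], [3, 2, 3])]

/-- Some options of a node. -/
def tOpt48x2 : List (ℕ × List ℕ × List ℕ) := [
  (0, [7, 2, 7], [3, 2, 3]), (0, [4, 5, 4], [7, 2, 7]), (0, [4, 5, 4], [7, 2, 7]), (0, [7, 2, 7], [3, 2, 3]),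
  (0, [4, 5, 4], [7, 2, 7]), (0, [4, 5, 4], [7, 2, 7]), (0, [7, 2, 7], [3, 2, 3]), (0, [7, 2, 7], [2]),
  (0, [7, 3, 7], [3]), (0, [7, 3, 7], [3]), (0, [7, 2, 7], [2]), (0, [7, 2, 7], [2]),
  (0, [7, 2, 7], [2]), (0, [7, 2, 7], [2]), (0, [6], [7]), (0, [7, 2, 7], [2]),
  (0, [7, 2, 7], [2]), (0, [7, 2, 7], [2]), (0, [7, 2, 7], [2]), (0, [7, 2, 7], [2]),
  (0, [7, 2, 7], [2]), (0, [7, 2, 7], [2]), (0, [7, 2, 7], [2]), (0, [7, 2, 7], [2]),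
  (0, [7, 2, 7], [2]), (0, [7, 2, 7], [2]), (0, [7, 2, 7], [2]), (0, [7, 2, 7], [2]),
  (0, [7, 2, 7], [2]), (0, [7, 3, 7], [3]), (0, [7, 2, 7], [2]), (0, [7, 2, 7], [2]),
  (0, [7, 3, 7], [3]), (0, [7, 3, 7], [3]), (0, [7, 3, 7], [3]), (0, [7, 2, 7], [2]),
  (0, [7, 3, 7], [3]), (0, [7, 3, 7], [3]), (0, [7, 2, 7], [2]), (0, [7, 3, 7], [3]),
  (0, [7, 2, 7], [2]), (0, [7, 2, 7], [2]), (0, [7, 2, 7], [2]), (0, [7, 2, 7], [2]),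
  (0, [7, 3, 7], [3]), (0, [7, 2, 7], [2]), (0, [7, 3, 7], [3]), (0, [7, 2, 7], [2]),
  (0, [7, 2, 7], [2]), (0, [7, 2, 7], [2]), (0, [7, 2, 7], [2]), (0, [7, 4, 7], [4]),
  (0, [7, 3, 7], [3]), (0, [7, 5, 7], [6, 5, 6]), (0, [7, 4, 7], [4]), (0, [7, 4, 7], [4]),
  (0, [7, 3, 7], [3]), (0, [7, 2, 7], [2]), (0, [7, 2, 7], [2]), (0, [7, 2, 7], [2]),
  (0, [7, 2, 7], [2]), (0, [4, 6, 4], [7, 5, 7]), (0, [4, 6, 4], [7, 5, 7]), (0, [7, 3, 7], [3]),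
  (0, [7, 2, 7], [2]), (0, [7, 2, 7], [2]), (0, [7, 2, 7], [2]), (0, [7, 2, 7], [2]),
  (0, [7, 2, 7], [2]), (0, [7, 2, 7], [2]), (0, [7, 3, 7], [3]), (0, [7, 5, 7], [6, 5, 6]),
  (0, [7, 3, 7], [3]), (0, [7, 4, 7], [4]), (0, [7, 4, 7], [4]), (0, [7, 4, 7], [4]),
  (0, [7, 2, 7], [2]), (0, [7, 4, 7], [4]), (0, [7, 5, 7], [6, 5, 6]), (0, [7, 2, 7], [2])]

/-- Some options of a node. -/
def tOpt48x3 : List (ℕ × List ℕ × List ℕ) := [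
  (0, [7, 4, 7], [4]), (0, [7, 4, 7], [4]), (0, [7, 3, 7], [3]), (0, [7, 3, 7], [3]),
  (0, [7, 3, 7], [3]), (0, [7, 3, 7], [3]), (0, [7, 2, 7], [2]), (0, [7, 3, 7], [3]),
  (0, [7, 4, 7], [4]), (0, [4, 6, 4], [7, 5, 7]), (0, [7, 3, 7], [3]), (0, [7, 3, 7], [3]),
  (0, [7, 3, 7], [3]), (0, [7, 2, 7], [2]), (0, [7, 2, 7], [2]), (0, [7, 2, 7], [2]),
  (0, [7, 4, 7], [4]), (0, [4, 6, 4], [7, 5, 7]), (0, [7, 4, 7], [4]), (0, [7, 4, 7], [4]),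
  (0, [7, 3, 7], [3]), (0, [7, 4, 7], [4]), (0, [7, 4, 7], [4]), (0, [7, 2, 7], [2]),
  (0, [7, 3, 7], [3]), (0, [7, 3, 7], [3]), (0, [7, 5, 7], [6, 5, 6]), (0, [7, 4, 7], [4]),
  (0, [7, 3, 7], [3]), (0, [7, 3, 7], [3]), (0, [7, 3, 7], [3]), (0, [7, 4, 7], [4]),
  (0, [7, 4, 7], [4]), (0, [7, 4, 7], [4]), (0, [7, 4, 7], [4]), (0, [4, 6, 4], [7, 5, 7]),
  (0, [7, 3, 7], [3]), (0, [7, 3, 7], [3]), (0, [7, 4, 7], [4]), (0, [7, 4, 7], [4]),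
  (0, [7, 2, 7], [2]), (0, [7, 2, 7], [2]), (0, [7, 4, 7], [4]), (0, [7, 4, 7], [4]),
  (0, [7, 4, 7], [4]), (0, [7, 3, 7], [3]), (0, [4, 6, 4], [7, 5, 7]), (0, [7, 3, 7], [3]),
  (0, [7, 3, 7], [3]), (0, [7, 3, 7], [3]), (0, [7, 4, 7], [4]), (0, [7, 4, 7], [4]),
  (0, [7, 4, 7], [4]), (0, [7, 4, 7], [4]), (0, [7, 4, 7], [4]), (0, [7, 3, 7], [3]),
  (0, [7, 3, 7], [3]), (0, [7, 3, 7], [3]), (0, [7, 4, 7], [4]), (0, [4, 6, 4], [7, 5, 7]),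
  (0, [7, 4, 7], [4]), (0, [4, 6, 4], [7, 5, 7]), (0, [7, 5, 7], [5]), (0, [7, 3, 7], [3]),
  (0, [7, 3, 7], [3]), (0, [7, 3, 7], [3]), (0, [7, 3, 7], [3]), (0, [7, 4, 7], [4]),
  (0, [7, 5, 7], [5]), (0, [7, 4, 7], [4]), (0, [7, 3, 7], [3]), (0, [7, 3, 7], [3]),
  (0, [7, 3, 7], [3]), (0, [7, 5, 7], [5]), (0, [7, 4, 7], [4]), (0, [7, 5, 7], [5]),
  (0, [7, 4, 7], [4])]

/-- A node. -/
def tNode48 : TNode := ⟨[0, 1, 159, 29, 59, 54, 171], [1, 0, 41, 95, 3, 150, 174], 230, tOpt48x0 ++ tOpt48x1 ++ tOpt48x2 ++ tOpt48x3, []⟩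

/-- Some options of a node. -/
def tOpt49x0 : List (ℕ × List ℕ × List ℕ) := [
  (0, [1], [7]), (0, [0], [7]), (0, [7, 2, 7], [2]), (0, [4], [7]),
  (0, [7, 2, 7], [2]), (0, [7, 2, 7], [2]), (0, [7, 2, 7], [4, 2, 4]), (0, [7, 2, 7], [2]),
  (0, [7, 2, 7], [2]), (0, [7, 2, 7], [4, 2, 4]), (0, [7, 4, 7], [4]), (0, [7, 2, 7], [2]),
  (0, [7, 2, 7], [2]), (0, [7, 2, 7], [2]), (0, [7, 2, 7], [4, 2, 4]), (0, [7, 3, 7], [4, 3, 4]),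
  (0, [7, 2, 7], [2]), (0, [7, 2, 7], [2]), (0, [7, 2, 7], [2]), (0, [7, 3, 7], [4, 3, 4]),
  (0, [7, 2, 7], [2]), (0, [7, 2, 7], [2]), (0, [7, 2, 7], [2]), (0, [7, 2, 7], [2]),
  (0, [7, 4, 7], [4]), (0, [7, 2, 7], [2]), (0, [7, 2, 7], [2]), (0, [7, 2, 7], [2]),
  (0, [7, 2, 7], [2]), (0, [7, 2, 7], [2]), (0, [7, 2, 7], [2]), (0, [7, 2, 7], [2]),
  (0, [7, 2, 7], [2]), (0, [7, 2, 7], [2]), (0, [7, 2, 7], [2]), (0, [7, 2, 7], [2]),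
  (0, [7, 2, 7], [2]), (0, [7, 2, 7], [2]), (0, [7, 2, 7], [2]), (0, [7, 3, 7], [3]),
  (0, [7, 2, 7], [2]), (0, [2], [7]), (0, [7, 2, 7], [2]), (0, [7, 2, 7], [2]),
  (0, [7, 2, 7], [2]), (0, [7, 3, 7], [3]), (0, [7, 2, 7], [2]), (0, [7, 2, 7], [2]),
  (0, [7, 2, 7], [2]), (0, [7, 2, 7], [2]), (0, [7, 2, 7], [2]), (0, [7, 3, 7], [3]),
  (0, [7, 3, 7], [3]), (0, [7, 3, 7], [3]), (0, [7, 2, 7], [2]), (0, [7, 2, 7], [2]),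
  (0, [7, 2, 7], [2]), (0, [7, 2, 7], [2]), (0, [7, 3, 7], [3]), (0, [7, 3, 7], [3]),
  (0, [7, 3, 7], [3]), (0, [7, 2, 7], [2]), (0, [7, 2, 7], [2]), (0, [7, 2, 7], [2]),
  (0, [7, 2, 7], [2]), (0, [7, 3, 7], [3]), (0, [7, 3, 7], [3]), (0, [7, 3, 7], [3]),
  (0, [7, 3, 7], [3]), (0, [7, 3, 7], [3]), (0, [7, 2, 7], [2]), (0, [7, 2, 7], [2]),
  (0, [7, 2, 7], [2]), (0, [7, 3, 7], [3]), (0, [7, 3, 7], [3]), (0, [7, 3, 7], [3]),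
  (0, [7, 2, 7], [2]), (0, [7, 2, 7], [2]), (0, [7, 2, 7], [2]), (0, [7, 3, 7], [3])]

/-- Some options of a node. -/
def tOpt49x1 : List (ℕ × List ℕ × List ℕ) := [
  (0, [7, 3, 7], [3]), (0, [7, 2, 7], [2]), (0, [7, 3, 7], [3]), (0, [7, 3, 7], [3]),
  (0, [7, 3, 7], [3]), (0, [7, 3, 7], [3]), (0, [7, 2, 7], [2]), (0, [7, 2, 7], [2]),
  (0, [7, 3, 7], [3]), (0, [7, 2, 7], [2]), (0, [7, 3, 7], [3]), (0, [7, 2, 7], [2]),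
  (0, [7, 2, 7], [2]), (0, [7, 3, 7], [3]), (0, [7, 3, 7], [3]), (0, [3], [7]),
  (0, [7, 2, 7], [2]), (0, [7, 3, 7], [3]), (0, [7, 3, 7], [3]), (0, [7, 3, 7], [3]),
  (0, [7, 2, 7], [2]), (0, [4, 2, 4], [7]), (0, [7, 3, 7], [3]), (0, [7, 2, 7], [3, 2, 3]),
  (0, [3, 2, 3], [7]), (0, [7, 3, 7], [3]), (0, [7, 2, 7], [3, 2, 3]), (0, [7, 2, 7], [3, 2, 3]),
  (0, [7, 3, 7], [3]), (0, [7, 2, 7], [4, 2, 4]), (0, [7, 3, 7], [3]), (0, [7, 3, 7], [3]),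
  (0, [7, 2, 7], [3, 2, 3]), (0, [7, 2, 7], [3, 2, 3]), (0, [7, 2, 7], [4, 2, 4]), (0, [7, 2, 7], [4, 2, 4]),
  (0, [7, 2, 7], [3, 2, 3]), (0, [7, 3, 7], [3]), (0, [7, 3, 7], [3]), (0, [7, 4, 7], [4]),
  (0, [7, 4, 7], [4]), (0, [7, 4, 7], [4]), (0, [7, 3, 7], [3]), (0, [7, 3, 7], [3]),
  (0, [7, 2, 7], [4, 2, 4]), (0, [7, 2, 7], [3, 2, 3]), (0, [7, 2, 7], [5]), (0, [7, 3, 7], [4, 3, 4]),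
  (0, [7, 2, 7], [2]), (0, [7, 4, 7], [4]), (0, [7, 4, 7], [4]), (0, [7, 2, 7], [2]),
  (0, [7, 3, 7], [3]), (0, [7, 4, 7], [4]), (0, [7, 2, 7], [5]), (0, [7, 3, 7], [4, 3, 4]),
  (0, [7, 3, 7], [3]), (0, [7, 2, 7], [5]), (0, [7, 2, 7], [2]), (0, [7, 2, 7], [2]),
  (0, [7, 2, 7], [5]), (0, [7, 4, 7], [4]), (0, [7, 2, 7], [3, 2, 3]), (0, [7, 4, 7], [4]),
  (0, [7, 2, 7], [5]), (0, [7, 2, 7], [2]), (0, [7, 2, 7], [2]), (0, [7, 2, 7], [2]),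
  (0, [7, 2, 7], [5]), (0, [7, 4, 7], [4]), (0, [5], [7]), (0, [7, 2, 7], [5]),
  (0, [7, 2, 7], [3, 2, 3]), (0, [7, 2, 7], [3, 2, 3]), (0, [7, 3, 7], [3]), (0, [7, 4, 7], [4]),
  (0, [7, 2, 7], [5]), (0, [7, 3, 7], [3]), (0, [7, 2, 7], [3, 2, 3]), (0, [7, 2, 7], [3, 2, 3])]

/-- Some options of a node. -/
def tOpt49x2 : List (ℕ × List ℕ × List ℕ) := [
  (0, [7, 2, 7], [3, 2, 3]), (0, [7, 4, 7], [4]), (0, [7, 4, 7], [4]), (0, [7, 2, 7], [3, 2, 3]),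
  (0, [7, 4, 7], [4]), (0, [7, 4, 7], [4]), (0, [7, 2, 7], [3, 2, 3]), (0, [7, 2, 7], [2]),
  (0, [7, 3, 7], [3]), (0, [7, 3, 7], [3]), (0, [7, 2, 7], [2]), (0, [7, 2, 7], [2]),
  (0, [7, 2, 7], [2]), (0, [7, 2, 7], [2]), (0, [7, 2, 7], [2]), (0, [6], [7]),
  (0, [7, 2, 7], [2]), (0, [7, 2, 7], [2]), (0, [7, 2, 7], [2]), (0, [7, 2, 7], [2]),
  (0, [7, 2, 7], [2]), (0, [7, 2, 7], [2]), (0, [7, 2, 7], [2]), (0, [7, 2, 7], [2]),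
  (0, [7, 2, 7], [2]), (0, [7, 2, 7], [2]), (0, [7, 2, 7], [2]), (0, [7, 2, 7], [2]),
  (0, [7, 2, 7], [2]), (0, [7, 3, 7], [3]), (0, [7, 2, 7], [2]), (0, [7, 2, 7], [2]),
  (0, [7, 3, 7], [3]), (0, [7, 3, 7], [3]), (0, [7, 3, 7], [3]), (0, [7, 2, 7], [2]),
  (0, [7, 3, 7], [3]), (0, [7, 3, 7], [3]), (0, [7, 2, 7], [2]), (0, [7, 3, 7], [3]),
  (0, [7, 2, 7], [2]), (0, [7, 2, 7], [2]), (0, [7, 2, 7], [2]), (0, [7, 2, 7], [2]),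
  (0, [7, 3, 7], [3]), (0, [7, 2, 7], [2]), (0, [7, 3, 7], [3]), (0, [7, 2, 7], [2]),
  (0, [7, 2, 7], [2]), (0, [7, 2, 7], [2]), (0, [7, 2, 7], [2]), (0, [4, 5, 4], [7, 2, 7]),
  (0, [7, 3, 7], [3]), (0, [7, 4, 7], [4]), (0, [4, 5, 4], [7, 2, 7]), (0, [4, 5, 4], [7, 2, 7]),
  (0, [7, 3, 7], [3]), (0, [7, 2, 7], [2]), (0, [7, 2, 7], [2]), (0, [7, 2, 7], [2]),
  (0, [7, 2, 7], [2]), (0, [7, 4, 7], [4]), (0, [7, 4, 7], [4]), (0, [7, 3, 7], [3]),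
  (0, [7, 2, 7], [2]), (0, [7, 2, 7], [2]), (0, [7, 2, 7], [2]), (0, [7, 2, 7], [2]),
  (0, [7, 2, 7], [2]), (0, [7, 2, 7], [2]), (0, [7, 3, 7], [3]), (0, [7, 4, 7], [4]),
  (0, [7, 3, 7], [3]), (0, [4, 5, 4], [7, 2, 7]), (0, [4, 5, 4], [7, 2, 7]), (0, [4, 5, 4], [7, 2, 7]),
  (0, [7, 2, 7], [2]), (0, [4, 5, 4], [7, 2, 7]), (0, [7, 4, 7], [4]), (0, [7, 2, 7], [2])]

/-- Some options of a node. -/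
def tOpt49x3 : List (ℕ × List ℕ × List ℕ) := [
  (0, [4, 5, 4], [7, 2, 7]), (0, [4, 5, 4], [7, 2, 7]), (0, [7, 3, 7], [3]), (0, [7, 3, 7], [3]),
  (0, [7, 3, 7], [3]), (0, [7, 3, 7], [3]), (0, [7, 2, 7], [2]), (0, [7, 3, 7], [3]),
  (0, [4, 5, 4], [7, 2, 7]), (0, [7, 4, 7], [4]), (0, [7, 3, 7], [3]), (0, [7, 3, 7], [3]),
  (0, [7, 3, 7], [3]), (0, [7, 2, 7], [2]), (0, [7, 2, 7], [2]), (0, [7, 2, 7], [2]),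
  (0, [4, 5, 4], [7, 2, 7]), (0, [7, 4, 7], [4]), (0, [4, 5, 4], [7, 2, 7]), (0, [4, 5, 4], [7, 2, 7]),
  (0, [7, 3, 7], [3]), (0, [4, 5, 4], [7, 2, 7]), (0, [4, 5, 4], [7, 2, 7]), (0, [7, 2, 7], [2]),
  (0, [7, 3, 7], [3]), (0, [7, 3, 7], [3]), (0, [7, 4, 7], [4]), (0, [4, 5, 4], [7, 2, 7]),
  (0, [7, 3, 7], [3]), (0, [7, 3, 7], [3]), (0, [7, 3, 7], [3]), (0, [4, 5, 4], [7, 2, 7]),
  (0, [4, 5, 4], [7, 2, 7]), (0, [4, 5, 4], [7, 2, 7]), (0, [4, 5, 4], [7, 2, 7]), (0, [7, 4, 7], [4]),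
  (0, [7, 3, 7], [3]), (0, [7, 3, 7], [3]), (0, [4, 5, 4], [7, 2, 7]), (0, [4, 5, 4], [7, 2, 7]),
  (0, [7, 2, 7], [2]), (0, [7, 2, 7], [2]), (0, [4, 5, 4], [7, 2, 7]), (0, [4, 5, 4], [7, 2, 7]),
  (0, [4, 5, 4], [7, 2, 7]), (0, [7, 3, 7], [3]), (0, [7, 4, 7], [4]), (0, [7, 3, 7], [3]),
  (0, [7, 3, 7], [3]), (0, [7, 3, 7], [3]), (0, [4, 5, 4], [7, 2, 7]), (0, [4, 5, 4], [7, 2, 7]),
  (0, [4, 5, 4], [7, 2, 7]), (0, [4, 5, 4], [7, 2, 7]), (0, [4, 5, 4], [7, 2, 7]), (0, [7, 3, 7], [3]),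
  (0, [7, 3, 7], [3]), (0, [7, 3, 7], [3]), (0, [4, 5, 4], [7, 2, 7]), (0, [7, 4, 7], [4]),
  (0, [4, 5, 4], [7, 2, 7]), (0, [7, 4, 7], [4]), (0, [7, 4, 7], [4]), (0, [7, 3, 7], [3]),
  (0, [7, 3, 7], [3]), (0, [7, 3, 7], [3]), (0, [7, 3, 7], [3]), (0, [4, 5, 4], [7, 2, 7]),
  (0, [7, 4, 7], [4]), (0, [4, 5, 4], [7, 2, 7]), (0, [7, 3, 7], [3]), (0, [7, 3, 7], [3]),
  (0, [7, 3, 7], [3]), (0, [7, 4, 7], [4]), (0, [4, 5, 4], [7, 2, 7]), (0, [7, 4, 7], [4]),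
  (0, [4, 5, 4], [7, 2, 7])]

/-- A node. -/
def tNode49 : TNode := ⟨[0, 1, 159, 29, 59, 54, 171], [1, 0, 41, 95, 3, 150, 175], 221, tOpt49x0 ++ tOpt49x1 ++ tOpt49x2 ++ tOpt49x3, []⟩

end CfsgLib.CoTwoRec
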