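import Cfsg.Agent.Lib.CoTwoRec.RelTree

/-!
# The forcing tree (generated)
-/

set_option autoImplicit false
set_option maxRecDepth 100000

namespace CfsgLib.CoTwoRec

/-- Some options of a node. -/
def tOpt50x0 : List (ℕ × List ℕ × List ℕ) := [
  (0, [1], [4]), (0, [0], [4]), (0, [4, 2, 4], [2]), (1, [], []),
  (0, [4, 2, 4], [2]), (0, [4, 2, 4], [2]), (1, [19, 20, 17, 20, 19, 17, 22], []), (0, [4, 2, 4], [2]),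
  (0, [4, 2, 4], [2]), (1, [21, 17, 21, 20, 17, 20], []), (1, [19, 20, 17, 16, 19, 17, 16, 19, 20, 16, 23], []), (0, [4, 2, 4], [2]),
  (0, [4, 2, 4], [2]), (0, [4, 2, 4], [2]), (1, [19, 20, 17, 20, 19, 23], []), (1, [20, 16, 19, 17, 20, 19, 17, 16, 22, 23], []),
  (0, [4, 2, 4], [2]), (0, [4, 2, 4], [2]), (0, [4, 2, 4], [2]), (1, [19, 20, 17, 16, 19, 17, 16, 19, 20, 17, 16, 22], []),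
  (0, [4, 2, 4], [2]), (0, [4, 2, 4], [2]), (0, [4, 2, 4], [2]), (0, [4, 2, 4], [2]),
  (1, [16, 19, 21, 17, 21, 17, 19, 16, 23], []), (0, [4, 2, 4], [2]), (0, [4, 2, 4], [2]), (0, [4, 2, 4], [2]),
  (0, [4, 2, 4], [2]), (0, [4, 2, 4], [2]), (0, [4, 2, 4], [2]), (0, [4, 2, 4], [2]),
  (0, [4, 2, 4], [2]), (0, [4, 2, 4], [2]), (0, [4, 2, 4], [2]), (0, [4, 2, 4], [2]),
  (0, [4, 2, 4], [2]), (0, [4, 2, 4], [2]), (0, [4, 2, 4], [2]), (0, [4, 3, 4], [3]),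
  (0, [4, 2, 4], [2]), (0, [2], [4]), (0, [4, 2, 4], [2]), (0, [4, 2, 4], [2]),
  (0, [4, 2, 4], [2]), (0, [4, 3, 4], [3]), (0, [4, 2, 4], [2]), (0, [4, 2, 4], [2]),
  (0, [4, 2, 4], [2]), (0, [4, 2, 4], [2]), (0, [4, 2, 4], [2]), (0, [4, 3, 4], [3]),
  (0, [4, 3, 4], [3]), (0, [4, 3, 4], [3]), (0, [4, 2, 4], [2]), (0, [4, 2, 4], [2]),
  (0, [4, 2, 4], [2]), (0, [4, 2, 4], [2]), (0, [4, 3, 4], [3]), (0, [4, 3, 4], [3]),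
  (0, [4, 3, 4], [3]), (0, [4, 2, 4], [2]), (0, [4, 2, 4], [2]), (0, [4, 2, 4], [2]),
  (0, [4, 2, 4], [2]), (0, [4, 3, 4], [3]), (0, [4, 3, 4], [3]), (0, [4, 3, 4], [3]),
  (0, [4, 3, 4], [3]), (0, [4, 3, 4], [3]), (0, [4, 2, 4], [2]), (0, [4, 2, 4], [2]),
  (0, [4, 2, 4], [2]), (0, [4, 3, 4], [3]), (0, [4, 3, 4], [3]), (0, [4, 3, 4], [3]),
  (0, [4, 2, 4], [2]), (0, [4, 2, 4], [2]), (0, [4, 2, 4], [2]), (0, [4, 3, 4], [3])]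

/-- Some options of a node. -/
def tOpt50x1 : List (ℕ × List ℕ × List ℕ) := [
  (0, [4, 3, 4], [3]), (0, [4, 2, 4], [2]), (0, [4, 3, 4], [3]), (0, [4, 3, 4], [3]),
  (0, [4, 3, 4], [3]), (0, [4, 3, 4], [3]), (0, [4, 2, 4], [2]), (0, [4, 2, 4], [2]),
  (0, [4, 3, 4], [3]), (0, [4, 2, 4], [2]), (0, [4, 3, 4], [3]), (0, [4, 2, 4], [2]),
  (0, [4, 2, 4], [2]), (0, [4, 3, 4], [3]), (0, [4, 3, 4], [3]), (0, [4, 2, 4], [3, 2, 3]),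
  (0, [4, 2, 4], [2]), (0, [4, 3, 4], [3]), (0, [4, 3, 4], [3]), (0, [4, 3, 4], [3]),
  (0, [4, 2, 4], [2]), (0, [4, 2, 4], [2]), (0, [4, 3, 4], [3]), (0, [4, 2, 4], [3, 2, 3]),
  (0, [3, 2, 3], [4]), (0, [4, 3, 4], [3]), (0, [3], [4]), (0, [4, 2, 4], [3, 2, 3]),
  (0, [4, 3, 4], [3]), (1, [19, 21, 18, 21, 19, 22, 23], []), (0, [4, 3, 4], [3]), (0, [4, 3, 4], [3]),
  (0, [4, 2, 4], [3, 2, 3]), (0, [4, 2, 4], [3, 2, 3]), (1, [19, 21, 18, 21, 20, 17, 20, 19, 17, 23], []), (1, [20, 19, 21, 18, 21, 20, 18, 19, 17, 22, 23], []),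
  (0, [4, 2, 4], [3, 2, 3]), (0, [4, 3, 4], [3]), (0, [4, 3, 4], [3]), (1, [20, 18, 16, 19, 21, 18, 21, 20, 19, 16, 22, 23], []),
  (1, [21, 19, 16, 18, 17, 19, 17, 16, 19, 18, 21, 16, 22], []), (1, [19, 21, 16, 19, 18, 16, 18, 17, 19, 21, 16, 23], []), (0, [4, 3, 4], [3]), (0, [4, 3, 4], [3]),
  (1, [21, 18, 19, 17, 21, 19, 17, 22, 23], []), (0, [4, 2, 4], [3, 2, 3]), (1, [21, 16, 18, 17, 21, 18, 16, 18, 23], []), (1, [21, 19, 18, 16, 18, 21, 18, 17, 16, 19, 22], []),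
  (0, [4, 2, 4], [2]), (1, [21, 19, 18, 16, 19, 17, 21, 17, 16, 19, 16], []), (1, [21, 20, 16, 19, 17, 20, 19, 16, 18, 21, 23], []), (0, [4, 2, 4], [2]),
  (0, [4, 3, 4], [3]), (1, [19, 21, 16, 18, 21, 18, 16, 19], []), (1, [19, 18, 17, 19, 21, 16, 18, 21, 18, 17, 16, 23], []), (1, [19, 16, 18, 21, 18, 16, 18, 21, 19, 22, 23], []),
  (0, [4, 3, 4], [3]), (1, [18, 21, 16, 18, 17, 21, 18, 17, 16, 23], []), (0, [4, 2, 4], [2]), (0, [4, 2, 4], [2]),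
  (1, [21, 16, 19, 16, 18, 21, 18, 16, 19, 16, 23], []), (1, [21, 19, 16, 18, 21, 18, 16, 19, 17, 22, 23], []), (0, [4, 2, 4], [3, 2, 3]), (1, [21, 19, 18, 16, 18, 17, 21, 18, 16, 19, 17, 22, 23], []),
  (1, [21, 16, 18, 21, 18, 16, 19, 18, 17, 19, 23], []), (0, [4, 2, 4], [2]), (0, [4, 2, 4], [2]), (0, [4, 2, 4], [2]),
  (1, [21, 18, 16, 18, 17, 21, 18, 16, 18], []), (1, [17, 21, 19, 16, 18, 17, 21, 18, 17, 16, 19, 22, 23], []), (0, [4, 2, 4], [2]), (1, [18, 19, 21, 18, 19, 16, 18, 17, 21, 18, 17, 16, 22, 23], []),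
  (0, [4, 2, 4], [3, 2, 3]), (0, [4, 2, 4], [3, 2, 3]), (0, [3, 4, 2, 4, 3], [4, 2, 4]), (1, [20, 21, 19, 16, 18, 17, 21, 20, 17, 16, 19, 23], []),
  (1, [18, 21, 18, 16, 18, 17, 21, 18, 17, 16, 22], []), (0, [3, 4, 2, 4, 3], [4, 2, 4]), (0, [4, 2, 4], [3, 2, 3]), (0, [4, 2, 4], [3, 2, 3])]

/-- Some options of a node. -/
def tOpt50x2 : List (ℕ × List ℕ × List ℕ) := [
  (0, [4, 2, 4], [3, 2, 3]), (0, [4, 3, 4], [3]), (0, [4, 3, 4], [3]), (0, [4, 2, 4], [3, 2, 3]),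
  (0, [4, 3, 4], [3]), (0, [4, 3, 4], [3]), (0, [4, 2, 4], [3, 2, 3]), (0, [4, 2, 4], [2]),
  (0, [3, 4, 2, 4, 3], [4, 2, 4]), (0, [3, 4, 2, 4, 3], [4, 2, 4]), (0, [4, 2, 4], [2]), (0, [4, 2, 4], [2]),
  (0, [4, 2, 4], [2]), (0, [4, 2, 4], [2]), (0, [4, 2, 4], [2]), (0, [4, 2, 4], [2]),
  (0, [4, 2, 4], [2]), (0, [4, 2, 4], [2]), (0, [4, 2, 4], [2]), (0, [4, 2, 4], [2]),
  (0, [4, 2, 4], [2]), (0, [4, 2, 4], [2]), (0, [4, 2, 4], [2]), (0, [4, 2, 4], [2]),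
  (0, [4, 2, 4], [2]), (0, [4, 2, 4], [2]), (0, [4, 2, 4], [2]), (0, [4, 2, 4], [2]),
  (0, [4, 2, 4], [2]), (0, [4, 3, 4], [3]), (0, [4, 2, 4], [2]), (0, [4, 2, 4], [2]),
  (0, [4, 3, 4], [3]), (0, [4, 3, 4], [3]), (0, [4, 3, 4], [3]), (0, [4, 2, 4], [2]),
  (0, [4, 3, 4], [3]), (0, [4, 3, 4], [3]), (0, [4, 2, 4], [2]), (0, [4, 3, 4], [3]),
  (0, [4, 2, 4], [2]), (0, [4, 2, 4], [2]), (0, [4, 2, 4], [2]), (0, [4, 2, 4], [2]),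
  (0, [4, 3, 4], [3]), (0, [4, 2, 4], [2]), (0, [3, 4, 2, 4, 3], [4, 2, 4]), (0, [4, 2, 4], [2]),
  (0, [4, 2, 4], [2]), (0, [4, 2, 4], [2]), (0, [4, 2, 4], [2]), (0, [4, 3, 2, 3, 4], [3, 2, 3]),
  (0, [3, 4, 2, 4, 3], [4, 2, 4]), (0, [4, 3, 4], [3]), (0, [3, 4, 2, 4, 3], [4, 2, 4]), (0, [4, 3, 4], [3]),
  (2, [], []), (0, [4, 2, 4], [2]), (0, [4, 2, 4], [2]), (0, [4, 2, 4], [2]),
  (0, [4, 2, 4], [2]), (0, [4, 3, 4], [3]), (0, [3, 4, 2, 4, 3], [4, 2, 4]), (2, [20, 21, 18, 16, 18, 21, 17, 20, 16, 23], []),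
  (0, [4, 2, 4], [2]), (0, [4, 2, 4], [2]), (0, [4, 2, 4], [2]), (0, [4, 2, 4], [2]),
  (0, [4, 2, 4], [2]), (0, [4, 2, 4], [2]), (2, [19, 21, 17, 21, 19], []), (0, [4, 3, 4], [3]),
  (2, [21, 16, 18, 19, 21, 16, 18, 16, 19, 17, 16], []), (0, [4, 3, 2, 3, 4], [3, 2, 3]), (0, [4, 3, 2, 3, 4], [3, 2, 3]), (0, [4, 3, 2, 3, 4], [3, 2, 3]),
  (0, [4, 2, 4], [2]), (0, [4, 3, 2, 3, 4], [3, 2, 3]), (0, [4, 3, 4], [3]), (0, [4, 2, 4], [2])]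

/-- Some options of a node. -/
def tOpt50x3 : List (ℕ × List ℕ × List ℕ) := [
  (0, [3, 4, 2, 4, 3], [4, 2, 4]), (0, [4, 3, 4], [3]), (2, [16, 19, 21, 17, 21, 17, 19, 16, 23], []), (2, [20, 16, 19, 17, 20, 19, 17, 16, 22, 23], []),
  (2, [17], []), (0, [3, 4, 2, 4, 3], [4, 2, 4]), (0, [4, 2, 4], [2]), (0, [3, 4, 2, 4, 3], [4, 2, 4]),
  (0, [3, 4, 2, 4, 3], [4, 2, 4]), (0, [4, 3, 4], [3]), (2, [19, 21, 16, 18, 17, 21, 18, 16, 19], []), (2, [19, 21, 16, 18, 21, 18, 16, 19, 17], []),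
  (2, [21, 18, 16, 18, 17, 21, 18, 16, 18], []), (0, [4, 2, 4], [2]), (0, [4, 2, 4], [2]), (0, [4, 2, 4], [2]),
  (0, [3, 4, 2, 4, 3], [4, 2, 4]), (0, [4, 3, 4], [3]), (0, [3, 4, 2, 4, 3], [4, 2, 4]), (0, [4, 3, 4], [3]),
  (2, [16, 19, 21, 17, 21, 17, 19, 17, 16, 23], []), (0, [4, 3, 4], [3]), (0, [3, 4, 2, 4, 3], [4, 2, 4]), (0, [4, 2, 4], [2]),
  (2, [20, 16, 19, 17, 20, 19, 16, 22], []), (2, [21, 17, 21, 20, 17, 20], []), (0, [4, 3, 4], [3]), (0, [4, 3, 4], [3]),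
  (2, [18, 16, 19, 21, 18, 21, 18, 19, 16], []), (2, [21, 19, 18, 16, 18, 21, 18, 17, 16, 19, 22], []), (2, [21, 16, 18, 17, 21, 18, 16, 18, 23], []), (0, [4, 3, 4], [3]),
  (0, [4, 3, 2, 3, 4], [3, 2, 3]), (0, [4, 3, 2, 3, 4], [3, 2, 3]), (0, [4, 3, 2, 3, 4], [3, 2, 3]), (0, [3, 4, 2, 4, 3], [4, 2, 4]),
  (2, [18, 21, 18, 16, 18, 17, 21, 18, 17, 16, 22], []), (2, [18, 21, 16, 18, 17, 21, 18, 17, 16, 23], []), (0, [4, 3, 4], [3]), (0, [3, 4, 2, 4, 3], [4, 2, 4]),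
  (0, [4, 2, 4], [2]), (0, [4, 2, 4], [2]), (0, [3, 4, 2, 4, 3], [4, 2, 4]), (0, [4, 3, 4], [3]),
  (0, [3, 4, 2, 4, 3], [4, 2, 4]), (2, [19, 21, 18, 21, 19, 17, 22, 23], []), (0, [4, 3, 4], [3]), (2, [18, 19, 21, 18, 19, 16, 18, 17, 21, 18, 17, 16, 22, 23], []),
  (2, [21, 19, 16, 18, 21, 18, 16, 19, 17, 22, 23], []), (2, [19, 21, 16, 18, 21, 18, 16, 19], []), (0, [4, 3, 4], [3]), (0, [3, 4, 2, 4, 3], [4, 2, 4]),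
  (0, [4, 3, 4], [3]), (0, [4, 3, 4], [3]), (0, [3, 4, 2, 4, 3], [4, 2, 4]), (2, [21, 16, 18, 21, 18, 16, 19, 18, 17, 19, 23], []),
  (2, [19, 16, 18, 21, 18, 16, 18, 21, 19, 22, 23], []), (2, [20, 18, 16, 19, 21, 18, 21, 20, 19, 16, 22, 23], []), (0, [4, 3, 4], [3]), (0, [3, 4, 2, 4, 3], [4, 2, 4]),
  (0, [3, 4, 2, 4, 3], [4, 2, 4]), (0, [3, 4, 2, 4, 3], [4, 2, 4]), (0, [4, 3, 2, 3, 4], [3, 2, 3]), (2, [19, 21, 16, 19, 18, 16, 18, 17, 19, 21, 16, 23], []),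
  (2, [21, 19, 18, 16, 19, 17, 21, 17, 16, 19, 16], []), (2, [19, 21, 18, 21, 19, 22, 23], []), (2, [20, 19, 21, 18, 21, 20, 18, 19, 17, 22, 23], []), (0, [4, 3, 2, 3, 4], [3, 2, 3]),
  (0, [4, 3, 2, 3, 4], [3, 2, 3]), (0, [4, 3, 2, 3, 4], [3, 2, 3]), (2, [19, 21, 18, 17, 21, 19, 22, 23], []), (2, [16, 19, 17, 21, 17, 16, 19, 16, 18, 21, 19], []),
  (2, [21, 20, 16, 19, 17, 20, 19, 16, 18, 21, 23], []), (0, [4, 3, 2, 3, 4], [3, 2, 3]), (0, [4, 3, 2, 3, 4], [3, 2, 3]), (0, [4, 3, 2, 3, 4], [3, 2, 3]),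
  (0, [4, 3, 2, 3, 4], [3, 2, 3])]

/-- A node. -/
def tNode50 : TNode := ⟨[0, 1, 159, 29], [1, 0, 41, 106], 83, tOpt50x0 ++ tOpt50x1 ++ tOpt50x2 ++ tOpt50x3, [51, 53]⟩

/-- Some options of a node. -/
def tOpt51x0 : List (ℕ × List ℕ × List ℕ) := [
  (0, [1], [5]), (0, [0], [5]), (0, [5, 2, 5], [2]), (0, [4], [5]),
  (0, [5, 2, 5], [2]), (0, [5, 2, 5], [2]), (0, [5, 2, 5], [4, 2, 4]), (0, [5, 2, 5], [2]),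
  (0, [5, 2, 5], [2]), (0, [5, 2, 5], [4, 2, 4]), (0, [4, 3, 2, 3, 4], [5, 2, 5]), (0, [5, 2, 5], [2]),
  (0, [5, 2, 5], [2]), (0, [5, 2, 5], [2]), (0, [5, 2, 5], [4, 2, 4]), (0, [5, 3, 5], [4, 3, 4]),
  (0, [5, 2, 5], [2]), (0, [5, 2, 5], [2]), (0, [5, 2, 5], [2]), (0, [5, 3, 5], [4, 3, 4]),
  (0, [5, 2, 5], [2]), (0, [5, 2, 5], [2]), (0, [5, 2, 5], [2]), (0, [5, 2, 5], [2]),
  (0, [4, 3, 2, 3, 4], [5, 2, 5]), (0, [5, 2, 5], [2]), (0, [5, 2, 5], [2]), (0, [5, 2, 5], [2]),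
  (0, [5, 2, 5], [2]), (0, [5, 2, 5], [2]), (0, [5, 2, 5], [2]), (0, [5, 2, 5], [2]),
  (0, [5, 2, 5], [2]), (0, [5, 2, 5], [2]), (0, [5, 2, 5], [2]), (0, [5, 2, 5], [2]),
  (0, [5, 2, 5], [2]), (0, [5, 2, 5], [2]), (0, [5, 2, 5], [2]), (0, [5, 3, 5], [4, 3, 4]),
  (0, [5, 2, 5], [2]), (0, [2], [5]), (0, [5, 2, 5], [2]), (0, [5, 2, 5], [2]),
  (0, [5, 2, 5], [2]), (0, [5, 3, 5], [4, 3, 4]), (0, [5, 2, 5], [2]), (0, [5, 2, 5], [2]),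
  (0, [5, 2, 5], [2]), (0, [5, 2, 5], [2]), (0, [5, 2, 5], [2]), (0, [5, 3, 5], [4, 3, 4]),
  (0, [5, 3, 5], [4, 3, 4]), (0, [5, 3, 5], [4, 3, 4]), (0, [5, 2, 5], [2]), (0, [5, 2, 5], [2]),
  (0, [5, 2, 5], [2]), (0, [5, 2, 5], [2]), (0, [5, 3, 5], [4, 3, 4]), (0, [5, 3, 5], [4, 3, 4]),
  (0, [5, 3, 5], [4, 3, 4]), (0, [5, 2, 5], [2]), (0, [5, 2, 5], [2]), (0, [5, 2, 5], [2]),
  (0, [5, 2, 5], [2]), (0, [5, 3, 5], [4, 3, 4]), (0, [5, 3, 5], [4, 3, 4]), (0, [5, 3, 5], [4, 3, 4]),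
  (0, [5, 3, 5], [4, 3, 4]), (0, [5, 3, 5], [4, 3, 4]), (0, [5, 2, 5], [2]), (0, [5, 2, 5], [2]),
  (0, [5, 2, 5], [2]), (0, [5, 3, 5], [4, 3, 4]), (0, [5, 3, 5], [4, 3, 4]), (0, [5, 3, 5], [4, 3, 4]),
  (0, [5, 2, 5], [2]), (0, [5, 2, 5], [2]), (0, [5, 2, 5], [2]), (0, [5, 3, 5], [4, 3, 4])]

/-- Some options of a node. -/
def tOpt51x1 : List (ℕ × List ℕ × List ℕ) := [
  (0, [5, 3, 5], [4, 3, 4]), (0, [5, 2, 5], [2]), (0, [5, 3, 5], [4, 3, 4]), (0, [5, 3, 5], [4, 3, 4]),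
  (0, [5, 3, 5], [4, 3, 4]), (0, [5, 3, 5], [4, 3, 4]), (0, [5, 2, 5], [2]), (0, [5, 2, 5], [2]),
  (0, [5, 3, 5], [4, 3, 4]), (0, [5, 2, 5], [2]), (0, [5, 3, 5], [4, 3, 4]), (0, [5, 2, 5], [2]),
  (0, [5, 2, 5], [2]), (0, [5, 3, 5], [4, 3, 4]), (0, [5, 3, 5], [4, 3, 4]), (0, [5, 2, 5], [3, 2, 3]),
  (0, [5, 2, 5], [2]), (0, [5, 3, 5], [4, 3, 4]), (0, [5, 3, 5], [4, 3, 4]), (0, [5, 3, 5], [4, 3, 4]),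
  (0, [5, 2, 5], [2]), (0, [4, 2, 4], [5]), (0, [5, 3, 5], [4, 3, 4]), (0, [5, 2, 5], [3, 2, 3]),
  (0, [3, 2, 3], [5]), (0, [5, 3, 5], [4, 3, 4]), (0, [3], [5]), (0, [5, 2, 5], [3, 2, 3]),
  (0, [5, 3, 5], [4, 3, 4]), (0, [5, 2, 5], [4, 2, 4]), (0, [5, 3, 5], [4, 3, 4]), (0, [5, 3, 5], [4, 3, 4]),
  (0, [5, 2, 5], [3, 2, 3]), (0, [5, 2, 5], [3, 2, 3]), (0, [5, 2, 5], [4, 2, 4]), (0, [5, 2, 5], [4, 2, 4]),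
  (0, [5, 2, 5], [3, 2, 3]), (0, [5, 3, 5], [4, 3, 4]), (0, [5, 3, 5], [4, 3, 4]), (0, [5, 3, 5], [4, 3, 4]),
  (0, [5, 3, 5], [4, 3, 4]), (0, [5, 3, 5], [4, 3, 4]), (0, [5, 3, 5], [4, 3, 4]), (0, [5, 3, 5], [4, 3, 4]),
  (0, [5, 2, 5], [4, 2, 4]), (0, [5, 2, 5], [3, 2, 3]), (0, [5, 3, 5], [4, 3, 4]), (0, [5, 3, 5], [4, 3, 4]),
  (0, [5, 2, 5], [2]), (0, [5, 3, 5], [4, 3, 4]), (0, [5, 3, 5], [4, 3, 4]), (0, [5, 2, 5], [2]),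
  (0, [5, 3, 5], [4, 3, 4]), (1, [], []), (0, [5, 3, 5], [4, 3, 4]), (0, [5, 3, 5], [4, 3, 4]),
  (0, [5, 3, 5], [4, 3, 4]), (0, [5, 3, 5], [4, 3, 4]), (0, [5, 2, 5], [2]), (0, [5, 2, 5], [2]),
  (0, [4, 3, 2, 3, 4], [5, 2, 5]), (0, [5, 3, 5], [4, 3, 4]), (0, [5, 2, 5], [3, 2, 3]), (0, [5, 3, 5], [4, 3, 4]),
  (0, [5, 3, 5], [4, 3, 4]), (0, [5, 2, 5], [2]), (0, [5, 2, 5], [2]), (0, [5, 2, 5], [2]),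
  (0, [5, 3, 5], [4, 3, 4]), (0, [5, 3, 5], [4, 3, 4]), (0, [5, 2, 5], [2]), (0, [5, 3, 5], [4, 3, 4]),
  (0, [5, 2, 5], [3, 2, 3]), (0, [5, 2, 5], [3, 2, 3]), (0, [5, 3, 5], [4, 3, 4]), (0, [3, 4, 3], [5]),
  (0, [4, 3, 2, 3, 4], [5, 2, 5]), (0, [5, 3, 5], [4, 3, 4]), (0, [5, 2, 5], [3, 2, 3]), (0, [5, 2, 5], [3, 2, 3])]

/-- Some options of a node. -/
def tOpt51x2 : List (ℕ × List ℕ × List ℕ) := [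
  (0, [5, 2, 5], [3, 2, 3]), (0, [5, 3, 5], [4, 3, 4]), (0, [5, 3, 5], [4, 3, 4]), (0, [5, 2, 5], [3, 2, 3]),
  (0, [5, 3, 5], [4, 3, 4]), (0, [5, 3, 5], [4, 3, 4]), (0, [5, 2, 5], [3, 2, 3]), (0, [5, 2, 5], [2]),
  (0, [5, 3, 5], [4, 3, 4]), (0, [5, 3, 5], [4, 3, 4]), (0, [5, 2, 5], [2]), (0, [5, 2, 5], [2]),
  (0, [5, 2, 5], [2]), (0, [5, 2, 5], [2]), (0, [5, 2, 5], [2]), (0, [5, 2, 5], [2]),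
  (0, [5, 2, 5], [2]), (0, [5, 2, 5], [2]), (0, [5, 2, 5], [2]), (0, [5, 2, 5], [2]),
  (0, [5, 2, 5], [2]), (0, [5, 2, 5], [2]), (0, [5, 2, 5], [2]), (0, [5, 2, 5], [2]),
  (0, [5, 2, 5], [2]), (0, [5, 2, 5], [2]), (0, [5, 2, 5], [2]), (0, [5, 2, 5], [2]),
  (0, [5, 2, 5], [2]), (0, [5, 3, 5], [4, 3, 4]), (0, [5, 2, 5], [2]), (0, [5, 2, 5], [2]),
  (0, [5, 3, 5], [4, 3, 4]), (0, [5, 3, 5], [4, 3, 4]), (0, [5, 3, 5], [4, 3, 4]), (0, [5, 2, 5], [2]),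
  (0, [5, 3, 5], [4, 3, 4]), (0, [5, 3, 5], [4, 3, 4]), (0, [5, 2, 5], [2]), (0, [5, 3, 5], [4, 3, 4]),
  (0, [5, 2, 5], [2]), (0, [5, 2, 5], [2]), (0, [5, 2, 5], [2]), (0, [5, 2, 5], [2]),
  (0, [5, 3, 5], [4, 3, 4]), (0, [5, 2, 5], [2]), (0, [5, 3, 5], [4, 3, 4]), (0, [5, 2, 5], [2]),
  (0, [5, 2, 5], [2]), (0, [5, 2, 5], [2]), (0, [5, 2, 5], [2]), (0, [5, 3, 5], [4, 3, 4]),
  (0, [5, 3, 5], [4, 3, 4]), (0, [5, 3, 5], [4, 3, 4]), (0, [5, 3, 5], [4, 3, 4]), (0, [5, 3, 5], [4, 3, 4]),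
  (0, [5, 3, 5], [4, 3, 4]), (0, [5, 2, 5], [2]), (0, [5, 2, 5], [2]), (0, [5, 2, 5], [2]),
  (0, [5, 2, 5], [2]), (0, [5, 3, 5], [4, 3, 4]), (0, [5, 3, 5], [4, 3, 4]), (0, [5, 3, 5], [4, 3, 4]),
  (0, [5, 2, 5], [2]), (0, [5, 2, 5], [2]), (0, [5, 2, 5], [2]), (0, [5, 2, 5], [2]),
  (0, [5, 2, 5], [2]), (0, [5, 2, 5], [2]), (0, [5, 3, 5], [4, 3, 4]), (0, [5, 3, 5], [4, 3, 4]),
  (0, [5, 3, 5], [4, 3, 4]), (0, [5, 3, 5], [4, 3, 4]), (0, [5, 3, 5], [4, 3, 4]), (0, [5, 3, 5], [4, 3, 4]),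
  (0, [5, 2, 5], [2]), (0, [5, 3, 5], [4, 3, 4]), (0, [5, 3, 5], [4, 3, 4]), (0, [5, 2, 5], [2])]

/-- Some options of a node. -/
def tOpt51x3 : List (ℕ × List ℕ × List ℕ) := [
  (0, [5, 3, 5], [4, 3, 4]), (0, [5, 3, 5], [4, 3, 4]), (0, [5, 3, 5], [4, 3, 4]), (0, [5, 3, 5], [4, 3, 4]),
  (0, [5, 3, 5], [4, 3, 4]), (0, [5, 3, 5], [4, 3, 4]), (0, [5, 2, 5], [2]), (0, [5, 3, 5], [4, 3, 4]),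
  (0, [5, 3, 5], [4, 3, 4]), (0, [5, 3, 5], [4, 3, 4]), (0, [5, 3, 5], [4, 3, 4]), (0, [5, 3, 5], [4, 3, 4]),
  (0, [5, 3, 5], [4, 3, 4]), (0, [5, 2, 5], [2]), (0, [5, 2, 5], [2]), (0, [5, 2, 5], [2]),
  (0, [5, 3, 5], [4, 3, 4]), (0, [5, 3, 5], [4, 3, 4]), (0, [5, 3, 5], [4, 3, 4]), (0, [5, 3, 5], [4, 3, 4]),
  (0, [5, 3, 5], [4, 3, 4]), (0, [5, 3, 5], [4, 3, 4]), (0, [5, 3, 5], [4, 3, 4]), (0, [5, 2, 5], [2]),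
  (0, [5, 3, 5], [4, 3, 4]), (0, [5, 3, 5], [4, 3, 4]), (0, [5, 3, 5], [4, 3, 4]), (0, [5, 3, 5], [4, 3, 4]),
  (0, [5, 3, 5], [4, 3, 4]), (0, [4, 3, 4], [5, 2, 5]), (0, [4, 3, 4], [5, 2, 5]), (0, [5, 3, 5], [4, 3, 4]),
  (0, [5, 3, 5], [4, 3, 4]), (0, [5, 3, 5], [4, 3, 4]), (0, [5, 3, 5], [4, 3, 4]), (0, [5, 3, 5], [4, 3, 4]),
  (0, [5, 3, 5], [4, 3, 4]), (0, [5, 3, 5], [4, 3, 4]), (0, [5, 3, 5], [4, 3, 4]), (0, [5, 3, 5], [4, 3, 4]),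
  (0, [5, 2, 5], [2]), (0, [5, 2, 5], [2]), (0, [5, 3, 5], [4, 3, 4]), (0, [5, 3, 5], [4, 3, 4]),
  (0, [5, 3, 5], [4, 3, 4]), (0, [5, 3, 5], [4, 3, 4]), (0, [5, 3, 5], [4, 3, 4]), (0, [5, 3, 5], [4, 3, 4]),
  (0, [5, 3, 5], [4, 3, 4]), (0, [5, 3, 5], [4, 3, 4]), (0, [5, 3, 5], [4, 3, 4]), (0, [5, 3, 5], [4, 3, 4]),
  (0, [5, 3, 5], [4, 3, 4]), (0, [5, 3, 5], [4, 3, 4]), (0, [5, 3, 5], [4, 3, 4]), (0, [4, 3, 4], [5, 2, 5]),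
  (0, [4, 3, 4], [5, 2, 5]), (0, [5, 3, 5], [4, 3, 4]), (0, [5, 3, 5], [4, 3, 4]), (0, [5, 3, 5], [4, 3, 4]),
  (0, [5, 3, 5], [4, 3, 4]), (0, [5, 3, 5], [4, 3, 4]), (0, [5, 3, 5], [4, 3, 4]), (0, [5, 3, 5], [4, 3, 4]),
  (0, [4, 3, 4], [5, 2, 5]), (0, [4, 3, 4], [5, 2, 5]), (0, [5, 3, 5], [4, 3, 4]), (0, [5, 3, 5], [4, 3, 4]),
  (0, [5, 3, 5], [4, 3, 4]), (0, [5, 3, 5], [4, 3, 4]), (0, [4, 3, 4], [5, 2, 5]), (0, [4, 3, 4], [5, 2, 5]),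
  (0, [5, 3, 5], [4, 3, 4]), (0, [5, 3, 5], [4, 3, 4]), (0, [5, 3, 5], [4, 3, 4]), (0, [5, 3, 5], [4, 3, 4]),
  (0, [5, 3, 5], [4, 3, 4])]

/-- A node. -/
def tNode51 : TNode := ⟨[0, 1, 159, 29, 83], [1, 0, 41, 106, 3], 99, tOpt51x0 ++ tOpt51x1 ++ tOpt51x2 ++ tOpt51x3, [52]⟩

/-- Some options of a node. -/
def tOpt52x0 : List (ℕ × List ℕ × List ℕ) := [
  (0, [1], [6]), (0, [0], [6]), (0, [6, 4, 6], [4]), (0, [4], [6]),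
  (0, [6, 3, 6], [3]), (0, [6, 4, 6], [4]), (0, [6, 2, 6], [2]), (0, [6, 3, 6], [3]),
  (0, [6, 4, 6], [4]), (0, [6, 2, 6], [2]), (0, [6, 2, 6], [2]), (0, [6, 3, 6], [3]),
  (0, [6, 3, 6], [3]), (0, [6, 3, 6], [3]), (0, [6, 2, 6], [2]), (0, [6, 2, 6], [2]),
  (0, [6, 3, 6], [3]), (0, [6, 3, 6], [3]), (0, [6, 3, 6], [3]), (0, [6, 2, 6], [2]),
  (0, [6, 3, 6], [3]), (0, [6, 3, 6], [3]), (0, [6, 3, 6], [3]), (0, [6, 3, 6], [3]),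
  (0, [6, 2, 6], [2]), (0, [6, 3, 6], [3]), (0, [6, 3, 6], [3]), (0, [6, 3, 6], [3]),
  (0, [6, 3, 6], [3]), (0, [6, 3, 6], [3]), (0, [6, 3, 6], [3]), (0, [6, 3, 6], [3]),
  (0, [6, 3, 6], [3]), (0, [6, 3, 6], [3]), (0, [6, 3, 6], [3]), (0, [6, 3, 6], [3]),
  (0, [6, 3, 6], [3]), (0, [6, 3, 6], [3]), (0, [6, 3, 6], [3]), (0, [6, 2, 6], [2]),
  (0, [6, 3, 6], [3]), (0, [2], [6]), (0, [6, 3, 6], [3]), (0, [6, 3, 6], [3]),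
  (0, [6, 3, 6], [3]), (0, [6, 2, 6], [2]), (0, [6, 3, 6], [3]), (0, [6, 3, 6], [3]),
  (0, [6, 3, 6], [3]), (0, [6, 3, 6], [3]), (0, [6, 3, 6], [3]), (0, [6, 2, 6], [2]),
  (0, [6, 2, 6], [2]), (0, [6, 2, 6], [2]), (0, [6, 4, 6], [3, 4, 3]), (0, [6, 4, 6], [3, 4, 3]),
  (0, [6, 3, 6], [3]), (0, [6, 3, 6], [3]), (0, [6, 2, 6], [2]), (0, [6, 2, 6], [2]),
  (0, [6, 2, 6], [2]), (0, [6, 3, 6], [3]), (0, [6, 3, 6], [3]), (0, [4, 3, 4], [6]),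
  (0, [6, 4, 6], [3, 4, 3]), (0, [6, 2, 6], [2]), (0, [6, 2, 6], [2]), (0, [6, 2, 6], [2]),
  (0, [6, 2, 6], [2]), (0, [6, 2, 6], [2]), (0, [6, 3, 6], [3]), (0, [6, 4, 2, 4, 6], [4, 2, 4]),
  (0, [6, 4, 2, 4, 6], [4, 2, 4]), (0, [6, 2, 6], [2]), (0, [6, 2, 6], [2]), (0, [6, 2, 6], [2]),
  (0, [6, 4, 2, 4, 6], [4, 2, 4]), (0, [6, 4, 2, 4, 6], [4, 2, 4]), (0, [6, 3, 6], [3]), (0, [6, 2, 6], [2])]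

/-- Some options of a node. -/
def tOpt52x1 : List (ℕ × List ℕ × List ℕ) := [
  (0, [6, 2, 6], [2]), (0, [5, 4, 1, 0, 6], [6, 4, 5]), (0, [6, 2, 6], [2]), (0, [6, 2, 6], [2]),
  (0, [6, 2, 6], [2]), (0, [6, 2, 6], [2]), (0, [6, 3, 6], [3]), (0, [6, 3, 6], [3]),
  (0, [6, 2, 6], [2]), (0, [4, 6, 0, 5, 1], [5, 6, 4]), (0, [6, 2, 6], [2]), (0, [6, 3, 6], [3]),
  (0, [6, 3, 6], [3]), (0, [6, 2, 6], [2]), (0, [6, 2, 6], [2]), (0, [6, 2, 6], [2]),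
  (0, [6, 4, 6], [2, 4, 2]), (0, [6, 2, 6], [2]), (0, [6, 2, 6], [2]), (0, [6, 2, 6], [2]),
  (0, [6, 3, 6], [3]), (0, [4, 2, 4], [6]), (0, [6, 2, 6], [2]), (0, [6, 2, 6], [2]),
  (0, [3, 2, 3], [6]), (0, [6, 2, 6], [2]), (0, [3], [6]), (0, [6, 2, 6], [2]),
  (0, [6, 2, 6], [2]), (0, [6, 2, 6], [2]), (0, [6, 2, 6], [2]), (0, [6, 2, 6], [2]),
  (0, [6, 2, 6], [2]), (0, [6, 2, 6], [2]), (0, [6, 2, 6], [2]), (0, [6, 2, 6], [2]),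
  (0, [6, 2, 6], [2]), (0, [6, 2, 6], [2]), (0, [6, 2, 6], [2]), (0, [6, 2, 6], [2]),
  (0, [6, 2, 6], [2]), (0, [6, 2, 6], [2]), (0, [6, 2, 6], [2]), (0, [6, 2, 6], [2]),
  (0, [6, 2, 6], [2]), (0, [6, 2, 6], [2]), (0, [6, 2, 6], [2]), (0, [6, 2, 6], [2]),
  (0, [6, 3, 6], [3]), (0, [6, 2, 6], [2]), (0, [6, 2, 6], [2]), (0, [5, 6, 1, 4, 5], [4, 6, 0]),
  (0, [6, 2, 6], [2]), (0, [5], [6]), (0, [6, 2, 6], [2]), (0, [6, 2, 6], [2]),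
  (0, [6, 2, 6], [2]), (0, [6, 2, 6], [2]), (0, [6, 3, 6], [3]), (0, [6, 5, 1, 4], [5, 4, 6, 0]),
  (0, [6, 2, 6], [2]), (0, [6, 2, 6], [2]), (0, [6, 2, 6], [2]), (0, [6, 2, 6], [2]),
  (0, [6, 2, 6], [2]), (0, [6, 3, 6], [3]), (0, [6, 3, 6], [3]), (0, [5, 2, 5], [6]),
  (0, [6, 2, 6], [2]), (0, [6, 2, 6], [2]), (0, [6, 4, 6], [2, 4, 2]), (0, [6, 2, 6], [2]),
  (0, [6, 2, 6], [2]), (0, [6, 2, 6], [2]), (0, [6, 2, 6], [2]), (0, [6, 2, 6], [2]),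
  (0, [6, 2, 6], [2]), (0, [6, 2, 6], [2]), (0, [6, 2, 6], [2]), (0, [6, 2, 6], [2])]

/-- Some options of a node. -/
def tOpt52x2 : List (ℕ × List ℕ × List ℕ) := [
  (0, [6, 2, 6], [2]), (0, [6, 2, 6], [2]), (0, [6, 2, 6], [2]), (0, [6, 2, 6], [2]),
  (0, [6, 2, 6], [2]), (0, [6, 2, 6], [2]), (0, [6, 2, 6], [2]), (0, [6, 3, 6], [3]),
  (0, [6, 2, 6], [2]), (0, [6, 2, 6], [2]), (0, [6, 3, 6], [3]), (0, [6, 3, 6], [3]),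
  (0, [6, 3, 6], [3]), (0, [6, 3, 6], [3]), (0, [6, 3, 6], [3]), (0, [6, 3, 6], [3]),
  (0, [6, 4, 2, 4, 6], [4, 2, 4]), (0, [6, 4, 2, 4, 6], [4, 2, 4]), (0, [6, 4, 2, 4, 6], [4, 2, 4]), (0, [6, 3, 6], [3]),
  (0, [6, 4, 2, 4, 6], [4, 2, 4]), (0, [3, 5, 3], [6, 4, 6]), (0, [6, 3, 6], [3]), (0, [3, 5, 3], [6, 4, 6]),
  (0, [6, 2, 4, 5, 3, 6], [1, 0, 3, 2, 4, 5]), (0, [6, 3, 6], [3]), (0, [3, 5, 3], [6, 4, 6]), (0, [6, 3, 6], [3]),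
  (0, [3, 5, 3], [6, 4, 6]), (0, [6, 2, 6], [2]), (0, [0, 3, 4, 6, 1, 4], [4, 6, 4, 2, 2, 3]), (0, [6, 3, 6], [3]),
  (0, [6, 2, 6], [2]), (0, [6, 2, 6], [2]), (0, [6, 2, 6], [2]), (0, [4, 0, 0, 3, 0, 4, 6], [6, 5, 1, 3, 5]),
  (0, [6, 2, 6], [2]), (0, [6, 2, 6], [2]), (0, [3, 5, 3], [6, 4, 6]), (0, [6, 2, 6], [2]),
  (0, [3, 5, 3], [6, 4, 6]), (0, [4, 5, 6, 2, 1], [6, 2, 4, 0, 5]), (0, [6, 3, 6], [3]), (0, [3, 5, 3], [6, 4, 6]),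
  (0, [6, 2, 6], [2]), (0, [3, 5, 3], [6, 4, 6]), (0, [6, 2, 6], [2]), (0, [6, 3, 6], [3]),
  (0, [6, 3, 6], [3]), (0, [6, 3, 6], [3]), (0, [6, 3, 6], [3]), (0, [6, 2, 6], [2]),
  (0, [6, 2, 6], [2]), (0, [6, 2, 6], [2]), (0, [6, 2, 6], [2]), (0, [6, 2, 6], [2]),
  (0, [6, 2, 6], [2]), (0, [6, 3, 6], [3]), (0, [6, 3, 6], [3]), (0, [6, 3, 6], [3]),
  (0, [6, 3, 6], [3]), (0, [6, 2, 6], [2]), (0, [6, 2, 6], [2]), (0, [6, 2, 6], [2]),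
  (0, [6, 3, 6], [3]), (0, [6, 3, 6], [3]), (0, [6, 3, 6], [3]), (0, [6, 3, 6], [3]),
  (0, [6, 3, 6], [3]), (0, [6, 3, 6], [3]), (0, [6, 2, 6], [2]), (0, [6, 2, 6], [2]),
  (0, [6, 2, 6], [2]), (0, [6, 2, 6], [2]), (0, [6, 2, 6], [2]), (0, [6, 2, 6], [2]),
  (0, [6, 3, 6], [3]), (0, [6, 2, 6], [2]), (0, [6, 2, 6], [2]), (0, [6, 4, 6], [4])]

/-- Some options of a node. -/
def tOpt52x3 : List (ℕ × List ℕ × List ℕ) := [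
  (0, [6, 2, 6], [2]), (0, [6, 2, 6], [2]), (0, [6, 2, 6], [2]), (0, [6, 2, 6], [2]),
  (0, [6, 2, 6], [2]), (0, [6, 2, 6], [2]), (0, [6, 3, 6], [3]), (0, [6, 2, 6], [2]),
  (0, [6, 2, 6], [2]), (0, [6, 2, 6], [2]), (0, [6, 2, 6], [2]), (0, [6, 2, 6], [2]),
  (0, [6, 2, 6], [2]), (0, [6, 3, 6], [3]), (0, [6, 3, 6], [3]), (0, [6, 3, 6], [3]),
  (0, [6, 2, 6], [2]), (0, [6, 2, 6], [2]), (0, [6, 2, 6], [2]), (0, [6, 2, 6], [2]),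
  (0, [6, 2, 6], [2]), (0, [6, 2, 6], [2]), (0, [6, 2, 6], [2]), (0, [6, 4, 6], [4]),
  (0, [6, 2, 6], [2]), (0, [6, 2, 6], [2]), (0, [6, 2, 6], [2]), (0, [6, 2, 6], [2]),
  (0, [6, 2, 6], [2]), (0, [6, 2, 6], [2]), (0, [6, 2, 6], [2]), (0, [6, 2, 6], [2]),
  (0, [6, 2, 6], [2]), (0, [6, 2, 6], [2]), (0, [6, 2, 6], [2]), (0, [6, 2, 6], [2]),
  (0, [6, 2, 6], [2]), (0, [6, 2, 6], [2]), (0, [6, 2, 6], [2]), (0, [6, 2, 6], [2]),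
  (0, [6, 4, 6], [4]), (0, [6, 4, 6], [4]), (0, [6, 2, 6], [2]), (0, [6, 2, 6], [2]),
  (0, [6, 2, 6], [2]), (0, [6, 2, 6], [2]), (0, [6, 2, 6], [2]), (0, [6, 2, 6], [2]),
  (0, [6, 2, 6], [2]), (0, [6, 2, 6], [2]), (0, [6, 2, 6], [2]), (0, [6, 2, 6], [2]),
  (0, [6, 2, 6], [2]), (0, [6, 2, 6], [2]), (0, [6, 2, 6], [2]), (0, [6, 2, 6], [2]),
  (0, [6, 2, 6], [2]), (0, [6, 2, 6], [2]), (0, [6, 2, 6], [2]), (0, [6, 2, 6], [2]),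
  (0, [6, 2, 6], [2]), (0, [6, 2, 6], [2]), (0, [6, 2, 6], [2]), (0, [6, 2, 6], [2]),
  (0, [6, 2, 6], [2]), (0, [6, 2, 6], [2]), (0, [6, 2, 6], [2]), (0, [6, 2, 6], [2]),
  (0, [6, 2, 6], [2]), (0, [6, 2, 6], [2]), (0, [6, 2, 6], [2]), (0, [6, 2, 6], [2]),
  (0, [6, 2, 6], [2]), (0, [6, 2, 6], [2]), (0, [6, 2, 6], [2]), (0, [6, 2, 6], [2]),
  (0, [6, 2, 6], [2])]

/-- A node. -/
def tNode52 : TNode := ⟨[0, 1, 159, 29, 83, 99], [1, 0, 41, 106, 3, 133], 77, tOpt52x0 ++ tOpt52x1 ++ tOpt52x2 ++ tOpt52x3, []⟩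

/-- Some options of a node. -/
def tOpt53x0 : List (ℕ × List ℕ × List ℕ) := [
  (0, [1], [5]), (0, [0], [5]), (0, [5, 3, 5], [3]), (0, [5, 2, 5], [2]),
  (0, [5, 4, 3, 4, 5], [4, 3, 4]), (0, [5, 3, 5], [3]), (0, [5, 2, 5], [2]), (0, [5, 4, 5], [2, 4, 2]),
  (0, [5, 3, 5], [3]), (0, [5, 2, 5], [2]), (0, [5, 2, 5], [2]), (0, [5, 4, 5], [2, 4, 2]),
  (0, [5, 4, 3, 4, 5], [4, 3, 4]), (0, [5, 4, 3, 4, 5], [4, 3, 4]), (0, [5, 2, 5], [2]), (0, [5, 2, 5], [2]),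
  (0, [5, 4, 3, 4, 5], [4, 3, 4]), (0, [5, 4, 3, 4, 5], [4, 3, 4]), (0, [5, 4, 5], [4]), (0, [5, 2, 5], [2]),
  (0, [5, 4, 5], [4]), (0, [5, 4, 5], [2, 4, 2]), (0, [5, 4, 3, 4, 5], [4, 3, 4]), (0, [5, 4, 3, 4, 5], [4, 3, 4]),
  (0, [5, 2, 5], [2]), (0, [5, 4, 3, 4, 5], [4, 3, 4]), (0, [5, 4, 3, 4, 5], [4, 3, 4]), (0, [5, 4, 5], [4]),
  (0, [5, 4, 3, 4, 5], [4, 3, 4]), (0, [3, 5, 4, 5, 3], [5, 3, 4, 3, 5]), (0, [5, 4, 3, 4, 5], [4, 3, 4]), (0, [5, 4, 5], [4]),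
  (0, [5, 4, 3, 4, 5], [4, 3, 4]), (0, [5, 4, 3, 4, 5], [4, 3, 4]), (0, [5, 4, 3, 4, 5], [4, 3, 4]), (0, [3, 5, 4, 5, 3], [5, 3, 4, 3, 5]),
  (0, [5, 4, 3, 4, 5], [4, 3, 4]), (0, [5, 4, 3, 4, 5], [4, 3, 4]), (0, [5, 4, 5], [4]), (0, [5, 2, 5], [2]),
  (0, [5, 3, 5], [2, 3, 2]), (0, [2], [5]), (0, [5, 4, 5], [4]), (0, [5, 4, 5], [2, 4, 2]),
  (0, [5, 4, 5], [4]), (0, [5, 2, 5], [2]), (0, [5, 3, 5], [2, 3, 2]), (0, [5, 4, 3, 4, 5], [4, 3, 4]),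
  (0, [5, 3, 5], [2, 3, 2]), (0, [5, 4, 3, 4, 5], [4, 3, 4]), (0, [5, 4, 3, 4, 5], [4, 3, 4]), (0, [5, 2, 5], [2]),
  (0, [5, 2, 5], [2]), (0, [5, 2, 5], [2]), (0, [5, 3, 5], [3]), (0, [4, 2, 4], [5]),
  (0, [5, 4, 5], [4]), (0, [5, 4, 3, 4, 5], [4, 3, 4]), (0, [5, 2, 5], [2]), (0, [5, 2, 5], [2]),
  (0, [5, 2, 5], [2]), (0, [5, 4, 5], [4]), (0, [5, 4, 5], [4]), (0, [5, 3, 5], [3]),
  (0, [5, 3, 5], [3]), (0, [5, 2, 5], [2]), (0, [5, 2, 5], [2]), (0, [5, 2, 5], [2]),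
  (0, [5, 2, 5], [2]), (0, [5, 2, 5], [2]), (0, [5, 3, 5], [2, 3, 2]), (0, [5, 3, 5], [3]),
  (0, [5, 3, 5], [3]), (0, [5, 2, 5], [2]), (0, [5, 2, 5], [2]), (0, [5, 2, 5], [2]),
  (0, [5, 3, 5], [3]), (0, [5, 3, 5], [3]), (0, [5, 3, 5], [2, 3, 2]), (0, [5, 2, 5], [2])]

/-- Some options of a node. -/
def tOpt53x1 : List (ℕ × List ℕ × List ℕ) := [
  (0, [5, 2, 5], [2]), (0, [5, 3, 5], [3]), (0, [5, 2, 5], [2]), (0, [5, 2, 5], [2]),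
  (0, [5, 2, 5], [2]), (0, [5, 2, 5], [2]), (0, [3, 5, 4, 5, 3], [5, 3, 4, 3, 5]), (0, [5, 4, 3, 4, 5], [4, 3, 4]),
  (0, [5, 2, 5], [2]), (0, [5, 3, 5], [3]), (0, [5, 2, 5], [2]), (0, [5, 4, 3, 4, 5], [4, 3, 4]),
  (0, [3, 5, 4, 5, 3], [5, 3, 4, 3, 5]), (0, [5, 2, 5], [2]), (0, [5, 2, 5], [2]), (0, [5, 2, 5], [2]),
  (0, [4, 3, 4], [5]), (0, [5, 2, 5], [2]), (0, [5, 2, 5], [2]), (0, [5, 2, 5], [2]),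
  (0, [5, 3, 5], [2, 3, 2]), (0, [5, 3, 5], [3]), (0, [5, 2, 5], [2]), (0, [5, 2, 5], [2]),
  (0, [3, 2, 3], [5]), (0, [5, 2, 5], [2]), (0, [3], [5]), (0, [5, 2, 5], [2]),
  (0, [5, 2, 5], [2]), (0, [5, 2, 5], [2]), (0, [5, 2, 5], [2]), (0, [5, 2, 5], [2]),
  (0, [5, 2, 5], [2]), (0, [5, 2, 5], [2]), (0, [5, 2, 5], [2]), (0, [5, 2, 5], [2]),
  (0, [5, 2, 5], [2]), (0, [5, 2, 5], [2]), (0, [5, 2, 5], [2]), (0, [5, 2, 5], [2]),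
  (0, [5, 2, 5], [2]), (0, [5, 2, 5], [2]), (0, [5, 2, 5], [2]), (0, [5, 2, 5], [2]),
  (0, [5, 2, 5], [2]), (0, [5, 2, 5], [2]), (0, [5, 2, 5], [2]), (0, [5, 2, 5], [2]),
  (0, [5, 4, 2, 4, 5], [4, 2, 4]), (0, [5, 2, 5], [2]), (0, [5, 2, 5], [2]), (0, [5, 3, 5], [3]),
  (0, [5, 2, 5], [2]), (0, [5, 2, 5], [2]), (0, [5, 2, 5], [2]), (0, [5, 2, 5], [2]),
  (0, [5, 2, 5], [2]), (0, [5, 2, 5], [2]), (0, [5, 4, 2, 4, 5], [4, 2, 4]), (0, [5, 3, 5], [3]),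
  (0, [5, 2, 5], [2]), (0, [5, 2, 5], [2]), (0, [5, 2, 5], [2]), (0, [5, 2, 5], [2]),
  (0, [5, 2, 5], [2]), (0, [5, 3, 5], [2, 3, 2]), (0, [5, 3, 5], [2, 3, 2]), (0, [5, 3, 5], [3]),
  (0, [5, 2, 5], [2]), (0, [5, 2, 5], [2]), (0, [5, 3, 5], [3]), (0, [5, 2, 5], [2]),
  (0, [5, 2, 5], [2]), (0, [5, 2, 5], [2]), (0, [5, 2, 5], [2]), (0, [5, 2, 5], [2]),
  (0, [5, 2, 5], [2]), (0, [5, 2, 5], [2]), (0, [5, 2, 5], [2]), (0, [5, 2, 5], [2])]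

/-- Some options of a node. -/
def tOpt53x2 : List (ℕ × List ℕ × List ℕ) := [
  (0, [5, 2, 5], [2]), (0, [5, 2, 5], [2]), (0, [5, 2, 5], [2]), (0, [5, 2, 5], [2]),
  (0, [5, 2, 5], [2]), (0, [5, 2, 5], [2]), (0, [5, 2, 5], [2]), (0, [5, 4, 2, 4, 5], [4, 2, 4]),
  (0, [5, 2, 5], [2]), (0, [5, 2, 5], [2]), (0, [5, 4, 2, 4, 5], [4, 2, 4]), (0, [5, 3, 5], [2, 3, 2]),
  (0, [5, 3, 5], [2, 3, 2]), (0, [3, 5, 4, 5, 3], [5, 3, 4, 3, 5]), (0, [5, 4, 5], [4]), (0, [5, 4, 3, 4, 5], [4, 3, 4]),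
  (0, [5, 3, 5], [3]), (0, [5, 3, 5], [3]), (0, [5, 3, 5], [3]), (0, [3, 5, 4, 5, 3], [5, 3, 4, 3, 5]),
  (0, [5, 3, 5], [3]), (0, [5, 3, 5], [3]), (0, [5, 4, 5], [4]), (0, [5, 3, 5], [3]),
  (0, [5, 3, 5], [3]), (0, [3, 5, 4, 5, 3], [5, 3, 4, 3, 5]), (0, [5, 3, 5], [3]), (0, [5, 4, 3, 4, 5], [4, 3, 4]),
  (0, [5, 3, 5], [3]), (0, [5, 2, 5], [2]), (0, [5, 3, 5], [3]), (0, [3, 5, 4, 5, 3], [5, 3, 4, 3, 5]),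
  (0, [5, 2, 5], [2]), (0, [5, 2, 5], [2]), (0, [5, 2, 5], [2]), (0, [5, 3, 5], [3]),
  (0, [5, 2, 5], [2]), (0, [5, 2, 5], [2]), (0, [5, 3, 5], [3]), (0, [5, 2, 5], [2]),
  (0, [5, 3, 5], [3]), (0, [5, 3, 5], [3]), (0, [5, 4, 2, 4, 5], [4, 2, 4]), (0, [5, 3, 5], [3]),
  (0, [5, 2, 5], [2]), (0, [5, 3, 5], [3]), (0, [5, 2, 5], [2]), (0, [4, 5, 4], [5, 4, 5]),
  (0, [5, 4, 2, 4, 5], [4, 2, 4]), (0, [4, 5, 4], [5, 4, 5]), (0, [4, 5, 4], [5, 4, 5]), (0, [5, 2, 5], [2]),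
  (0, [5, 2, 5], [2]), (0, [5, 2, 5], [2]), (0, [5, 2, 5], [2]), (0, [5, 2, 5], [2]),
  (0, [4], [5]), (0, [4, 5, 4], [5, 4, 5]), (0, [4, 5, 4], [5, 4, 5]), (0, [4, 5, 4], [5, 4, 5]),
  (0, [5, 4, 2, 4, 5], [4, 2, 4]), (0, [5, 2, 5], [2]), (0, [5, 2, 5], [2]), (0, [5, 2, 5], [2]),
  (0, [4, 5, 4], [5, 4, 5]), (0, [4, 5, 4], [5, 4, 5]), (0, [4, 5, 4], [5, 4, 5]), (0, [4, 5, 4], [5, 4, 5]),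
  (0, [4, 5, 4], [5, 4, 5]), (0, [4, 5, 4], [5, 4, 5]), (0, [5, 2, 5], [2]), (0, [5, 2, 5], [2]),
  (0, [5, 2, 5], [2]), (0, [5, 2, 5], [2]), (0, [5, 2, 5], [2]), (0, [5, 2, 5], [2]),
  (0, [4, 5, 4], [5, 4, 5]), (0, [5, 2, 5], [2]), (0, [5, 2, 5], [2]), (0, [5, 3, 5], [3])]

/-- Some options of a node. -/
def tOpt53x3 : List (ℕ × List ℕ × List ℕ) := [
  (0, [5, 2, 5], [2]), (0, [5, 2, 5], [2]), (0, [5, 2, 5], [2]), (0, [5, 2, 5], [2]),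
  (0, [5, 2, 5], [2]), (0, [5, 2, 5], [2]), (0, [5, 4, 2, 4, 5], [4, 2, 4]), (0, [5, 2, 5], [2]),
  (0, [5, 2, 5], [2]), (0, [5, 2, 5], [2]), (0, [5, 2, 5], [2]), (0, [5, 2, 5], [2]),
  (0, [5, 2, 5], [2]), (0, [4, 5, 4], [5, 4, 5]), (0, [4, 5, 4], [5, 4, 5]), (0, [4, 5, 4], [5, 4, 5]),
  (0, [5, 2, 5], [2]), (0, [5, 2, 5], [2]), (0, [5, 2, 5], [2]), (0, [5, 2, 5], [2]),
  (0, [5, 2, 5], [2]), (0, [5, 2, 5], [2]), (0, [5, 2, 5], [2]), (0, [5, 3, 5], [3]),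
  (0, [5, 2, 5], [2]), (0, [5, 2, 5], [2]), (0, [5, 2, 5], [2]), (0, [5, 2, 5], [2]),
  (0, [5, 2, 5], [2]), (0, [5, 2, 5], [2]), (0, [5, 2, 5], [2]), (0, [5, 2, 5], [2]),
  (0, [5, 2, 5], [2]), (0, [5, 2, 5], [2]), (0, [5, 2, 5], [2]), (0, [5, 2, 5], [2]),
  (0, [5, 2, 5], [2]), (0, [5, 2, 5], [2]), (0, [5, 2, 5], [2]), (0, [5, 2, 5], [2]),
  (0, [5, 3, 5], [3]), (0, [5, 3, 5], [3]), (0, [5, 2, 5], [2]), (0, [5, 2, 5], [2]),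
  (0, [5, 2, 5], [2]), (0, [5, 2, 5], [2]), (0, [5, 2, 5], [2]), (0, [5, 2, 5], [2]),
  (0, [5, 2, 5], [2]), (0, [5, 2, 5], [2]), (0, [5, 2, 5], [2]), (0, [5, 2, 5], [2]),
  (0, [5, 2, 5], [2]), (0, [5, 2, 5], [2]), (0, [5, 2, 5], [2]), (0, [5, 2, 5], [2]),
  (0, [5, 2, 5], [2]), (0, [5, 2, 5], [2]), (0, [5, 2, 5], [2]), (0, [5, 2, 5], [2]),
  (0, [5, 2, 5], [2]), (0, [5, 2, 5], [2]), (0, [5, 2, 5], [2]), (0, [5, 2, 5], [2]),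
  (0, [5, 2, 5], [2]), (0, [5, 2, 5], [2]), (0, [5, 2, 5], [2]), (0, [5, 2, 5], [2]),
  (0, [5, 2, 5], [2]), (0, [5, 2, 5], [2]), (0, [5, 2, 5], [2]), (0, [5, 2, 5], [2]),
  (0, [5, 2, 5], [2]), (0, [5, 2, 5], [2]), (0, [5, 2, 5], [2]), (0, [5, 2, 5], [2]),
  (0, [5, 2, 5], [2])]

/-- A node. -/
def tNode53 : TNode := ⟨[0, 1, 159, 29, 83], [1, 0, 41, 106, 216], 161, tOpt53x0 ++ tOpt53x1 ++ tOpt53x2 ++ tOpt53x3, []⟩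

/-- Some options of a node. -/
def tOpt54x0 : List (ℕ × List ℕ × List ℕ) := [
  (0, [1], [4]), (0, [0], [4]), (0, [4, 2, 4], [2]), (0, [4, 3, 2, 3, 4], [3, 2, 3]),
  (0, [4, 2, 4], [2]), (0, [4, 2, 4], [2]), (0, [4, 3, 2, 3, 4], [3, 2, 3]), (0, [4, 2, 4], [2]),
  (0, [4, 2, 4], [2]), (0, [4, 3, 2, 3, 4], [3, 2, 3]), (0, [4, 3, 2, 3, 4], [3, 2, 3]), (0, [4, 2, 4], [2]),
  (0, [4, 2, 4], [2]), (0, [4, 2, 4], [2]), (0, [4, 3, 2, 3, 4], [3, 2, 3]), (0, [4, 3, 2, 3, 4], [3, 2, 3]),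
  (0, [4, 2, 4], [2]), (0, [4, 2, 4], [2]), (0, [4, 2, 4], [2]), (0, [4, 3, 2, 3, 4], [3, 2, 3]),
  (0, [4, 2, 4], [2]), (0, [4, 2, 4], [2]), (0, [4, 2, 4], [2]), (0, [4, 2, 4], [2]),
  (0, [4, 3, 2, 3, 4], [3, 2, 3]), (0, [4, 2, 4], [2]), (0, [4, 2, 4], [2]), (0, [4, 2, 4], [2]),
  (0, [4, 2, 4], [2]), (0, [4, 2, 4], [2]), (0, [4, 2, 4], [2]), (0, [4, 2, 4], [2]),
  (0, [4, 2, 4], [2]), (0, [4, 2, 4], [2]), (0, [4, 2, 4], [2]), (0, [4, 2, 4], [2]),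
  (0, [4, 2, 4], [2]), (0, [4, 2, 4], [2]), (0, [4, 2, 4], [2]), (0, [4, 3, 4], [3]),
  (0, [4, 2, 4], [2]), (0, [2], [4]), (0, [4, 2, 4], [2]), (0, [4, 2, 4], [2]),
  (0, [4, 2, 4], [2]), (0, [4, 3, 4], [3]), (0, [3, 2, 3], [4]), (0, [4, 2, 4], [2]),
  (0, [4, 2, 4], [2]), (0, [4, 2, 4], [2]), (0, [4, 2, 4], [2]), (0, [4, 3, 4], [3]),
  (0, [4, 3, 4], [3]), (0, [4, 3, 4], [3]), (0, [4, 2, 4], [2]), (0, [4, 2, 4], [2]),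
  (0, [4, 2, 4], [2]), (0, [4, 2, 4], [2]), (0, [4, 3, 4], [3]), (0, [4, 3, 4], [3]),
  (0, [4, 3, 4], [3]), (0, [4, 2, 4], [2]), (0, [4, 2, 4], [2]), (0, [4, 2, 4], [2]),
  (0, [4, 2, 4], [2]), (0, [4, 3, 4], [3]), (0, [4, 3, 4], [3]), (0, [4, 3, 4], [3]),
  (0, [4, 3, 4], [3]), (0, [4, 3, 4], [3]), (0, [4, 2, 4], [2]), (0, [4, 2, 4], [2]),
  (0, [4, 2, 4], [2]), (0, [4, 3, 4], [3]), (0, [4, 3, 4], [3]), (0, [4, 3, 4], [3]),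
  (0, [4, 2, 4], [2]), (0, [4, 2, 4], [2]), (0, [4, 2, 4], [2]), (0, [4, 3, 4], [3])]

/-- Some options of a node. -/
def tOpt54x1 : List (ℕ × List ℕ × List ℕ) := [
  (0, [4, 3, 4], [3]), (0, [4, 2, 4], [2]), (0, [4, 3, 4], [3]), (0, [4, 3, 4], [3]),
  (0, [4, 3, 4], [3]), (0, [4, 3, 4], [3]), (0, [4, 2, 4], [2]), (0, [4, 2, 4], [2]),
  (0, [4, 3, 4], [3]), (0, [4, 2, 4], [2]), (0, [4, 3, 4], [3]), (0, [4, 2, 4], [2]),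
  (0, [4, 2, 4], [2]), (0, [4, 3, 4], [3]), (0, [4, 3, 4], [3]), (0, [4, 3, 4], [3]),
  (0, [4, 2, 4], [2]), (0, [4, 3, 4], [3]), (0, [4, 3, 4], [3]), (0, [4, 3, 4], [3]),
  (0, [4, 2, 4], [2]), (0, [4, 2, 4], [2]), (0, [4, 3, 4], [3]), (0, [4, 3, 4], [3]),
  (0, [4, 2, 4], [2]), (0, [4, 3, 4], [3]), (0, [4, 3, 4], [3]), (0, [4, 3, 4], [3]),
  (0, [4, 3, 4], [3]), (0, [4, 3, 2, 3, 4], [3, 2, 3]), (0, [4, 3, 4], [3]), (0, [4, 3, 4], [3]),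
  (0, [4, 3, 4], [3]), (0, [4, 3, 4], [3]), (0, [4, 3, 2, 3, 4], [3, 2, 3]), (0, [4, 3, 2, 3, 4], [3, 2, 3]),
  (0, [4, 3, 4], [3]), (0, [4, 3, 4], [3]), (0, [4, 3, 4], [3]), (0, [4, 3, 2, 3, 4], [3, 2, 3]),
  (0, [4, 3, 2, 3, 4], [3, 2, 3]), (0, [4, 3, 2, 3, 4], [3, 2, 3]), (0, [4, 3, 4], [3]), (0, [4, 3, 4], [3]),
  (0, [4, 3, 2, 3, 4], [3, 2, 3]), (0, [4, 3, 4], [3]), (0, [4, 3, 2, 3, 4], [3, 2, 3]), (0, [4, 3, 2, 3, 4], [3, 2, 3]),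
  (0, [4, 2, 4], [2]), (0, [4, 3, 2, 3, 4], [3, 2, 3]), (0, [4, 3, 2, 3, 4], [3, 2, 3]), (0, [4, 2, 4], [2]),
  (0, [4, 3, 4], [3]), (0, [4, 3, 2, 3, 4], [3, 2, 3]), (0, [4, 3, 2, 3, 4], [3, 2, 3]), (0, [4, 3, 2, 3, 4], [3, 2, 3]),
  (0, [4, 3, 4], [3]), (0, [4, 3, 2, 3, 4], [3, 2, 3]), (0, [4, 2, 4], [2]), (0, [4, 2, 4], [2]),
  (0, [4, 3, 2, 3, 4], [3, 2, 3]), (0, [4, 3, 2, 3, 4], [3, 2, 3]), (0, [4, 3, 4], [3]), (0, [4, 3, 2, 3, 4], [3, 2, 3]),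
  (0, [4, 3, 2, 3, 4], [3, 2, 3]), (0, [4, 2, 4], [2]), (0, [4, 2, 4], [2]), (0, [4, 2, 4], [2]),
  (0, [4, 3, 2, 3, 4], [3, 2, 3]), (0, [4, 3, 2, 3, 4], [3, 2, 3]), (0, [4, 2, 4], [2]), (0, [4, 3, 2, 3, 4], [3, 2, 3]),
  (0, [4, 3, 4], [3]), (0, [4, 3, 2, 3, 4], [3, 2, 3]), (0, [4, 3, 2, 3, 4], [3, 2, 3]), (0, [4, 3, 2, 3, 4], [3, 2, 3]),
  (0, [4, 3, 2, 3, 4], [3, 2, 3]), (0, [4, 3, 2, 3, 4], [3, 2, 3]), (0, [4, 3, 2, 3, 4], [3, 2, 3]), (0, [4, 3, 2, 3, 4], [3, 2, 3])]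

/-- Some options of a node. -/
def tOpt54x2 : List (ℕ × List ℕ × List ℕ) := [
  (0, [4, 3, 2, 3, 4], [3, 2, 3]), (0, [4, 3, 4], [3]), (0, [4, 3, 4], [3]), (0, [4, 3, 4], [3]),
  (0, [4, 3, 4], [3]), (0, [4, 3, 4], [3]), (0, [4, 3, 4], [3]), (0, [4, 2, 4], [2]),
  (0, [4, 3, 2, 3, 4], [3, 2, 3]), (0, [4, 3, 2, 3, 4], [3, 2, 3]), (0, [4, 2, 4], [2]), (0, [4, 2, 4], [2]),
  (0, [4, 2, 4], [2]), (0, [4, 2, 4], [2]), (0, [4, 2, 4], [2]), (0, [4, 2, 4], [2]),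
  (0, [4, 2, 4], [2]), (0, [4, 2, 4], [2]), (0, [4, 2, 4], [2]), (0, [4, 2, 4], [2]),
  (0, [4, 2, 4], [2]), (0, [4, 2, 4], [2]), (0, [4, 2, 4], [2]), (0, [4, 2, 4], [2]),
  (0, [4, 2, 4], [2]), (0, [4, 2, 4], [2]), (0, [4, 2, 4], [2]), (0, [4, 2, 4], [2]),
  (0, [4, 2, 4], [2]), (0, [3], [4]), (0, [4, 2, 4], [2]), (0, [4, 2, 4], [2]),
  (0, [4, 2, 4], [3, 2, 3]), (0, [4, 2, 4], [3, 2, 3]), (0, [4, 2, 4], [3, 2, 3]), (0, [4, 2, 4], [2]),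
  (0, [4, 2, 4], [3, 2, 3]), (0, [4, 2, 4], [3, 2, 3]), (0, [4, 2, 4], [2]), (0, [4, 2, 4], [3, 2, 3]),
  (0, [4, 2, 4], [2]), (0, [4, 2, 4], [2]), (0, [4, 2, 4], [2]), (0, [4, 2, 4], [2]),
  (0, [4, 2, 4], [3, 2, 3]), (0, [4, 2, 4], [2]), (0, [4, 2, 4], [3, 2, 3]), (0, [4, 2, 4], [2]),
  (0, [4, 2, 4], [2]), (0, [4, 2, 4], [2]), (0, [4, 2, 4], [2]), (0, [4, 2, 4], [3, 2, 3]),
  (0, [4, 2, 4], [3, 2, 3]), (0, [4, 2, 4], [3, 2, 3]), (0, [4, 3, 4], [3]), (0, [4, 3, 2, 3, 4], [3, 2, 3]),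
  (0, [4, 3, 4], [3]), (0, [4, 2, 4], [2]), (0, [4, 2, 4], [2]), (0, [4, 2, 4], [2]),
  (0, [4, 2, 4], [2]), (0, [4, 3, 2, 3, 4], [3, 2, 3]), (0, [4, 3, 4], [3]), (0, [4, 3, 4], [3]),
  (0, [4, 2, 4], [2]), (0, [4, 2, 4], [2]), (0, [4, 2, 4], [2]), (0, [4, 2, 4], [2]),
  (0, [4, 2, 4], [2]), (0, [4, 2, 4], [2]), (0, [4, 3, 4], [3]), (0, [4, 2, 4], [3, 2, 3]),
  (0, [4, 3, 4], [3]), (0, [4, 2, 4], [3, 2, 3]), (0, [4, 2, 4], [3, 2, 3]), (0, [4, 2, 4], [3, 2, 3]),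
  (0, [4, 2, 4], [2]), (0, [4, 2, 4], [3, 2, 3]), (0, [4, 2, 4], [3, 2, 3]), (0, [4, 2, 4], [2])]

/-- Some options of a node. -/
def tOpt54x3 : List (ℕ × List ℕ × List ℕ) := [
  (0, [4, 3, 4], [3]), (0, [4, 3, 4], [3]), (0, [4, 3, 2, 3, 4], [3, 2, 3]), (0, [4, 3, 2, 3, 4], [3, 2, 3]),
  (0, [4, 3, 4], [3]), (0, [4, 2, 4], [3, 2, 3]), (0, [4, 2, 4], [2]), (0, [4, 2, 4], [3, 2, 3]),
  (0, [4, 3, 2, 3, 4], [3, 2, 3]), (0, [4, 3, 4], [3]), (0, [4, 3, 2, 3, 4], [3, 2, 3]), (0, [4, 3, 2, 3, 4], [3, 2, 3]),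
  (0, [4, 3, 4], [3]), (0, [4, 2, 4], [2]), (0, [4, 2, 4], [2]), (0, [4, 2, 4], [2]),
  (0, [4, 3, 4], [3]), (0, [4, 3, 2, 3, 4], [3, 2, 3]), (0, [4, 3, 2, 3, 4], [3, 2, 3]), (0, [4, 3, 4], [3]),
  (0, [4, 3, 2, 3, 4], [3, 2, 3]), (0, [4, 3, 2, 3, 4], [3, 2, 3]), (0, [4, 3, 4], [3]), (0, [4, 2, 4], [2]),
  (0, [4, 3, 2, 3, 4], [3, 2, 3]), (0, [4, 3, 4], [3]), (0, [4, 2, 4], [3, 2, 3]), (0, [4, 3, 2, 3, 4], [3, 2, 3]),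
  (0, [4, 3, 2, 3, 4], [3, 2, 3]), (0, [4, 3, 2, 3, 4], [3, 2, 3]), (0, [4, 3, 4], [3]), (0, [4, 3, 2, 3, 4], [3, 2, 3]),
  (0, [4, 2, 4], [3, 2, 3]), (0, [4, 2, 4], [3, 2, 3]), (0, [4, 2, 4], [3, 2, 3]), (0, [4, 3, 4], [3]),
  (0, [4, 3, 4], [3]), (0, [4, 3, 4], [3]), (0, [4, 3, 4], [3]), (0, [4, 3, 2, 3, 4], [3, 2, 3]),
  (0, [4, 2, 4], [2]), (0, [4, 2, 4], [2]), (0, [4, 3, 4], [3]), (0, [4, 3, 4], [3]),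
  (0, [4, 3, 2, 3, 4], [3, 2, 3]), (0, [4, 3, 4], [3]), (0, [4, 3, 4], [3]), (0, [4, 3, 4], [3]),
  (0, [4, 3, 2, 3, 4], [3, 2, 3]), (0, [4, 3, 2, 3, 4], [3, 2, 3]), (0, [4, 3, 4], [3]), (0, [4, 3, 2, 3, 4], [3, 2, 3]),
  (0, [4, 3, 4], [3]), (0, [4, 3, 2, 3, 4], [3, 2, 3]), (0, [4, 3, 4], [3]), (0, [4, 3, 4], [3]),
  (0, [4, 3, 2, 3, 4], [3, 2, 3]), (0, [4, 3, 2, 3, 4], [3, 2, 3]), (0, [4, 3, 2, 3, 4], [3, 2, 3]), (0, [4, 3, 2, 3, 4], [3, 2, 3]),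
  (0, [4, 3, 2, 3, 4], [3, 2, 3]), (0, [4, 3, 2, 3, 4], [3, 2, 3]), (0, [4, 2, 4], [3, 2, 3]), (0, [4, 3, 2, 3, 4], [3, 2, 3]),
  (0, [4, 3, 2, 3, 4], [3, 2, 3]), (0, [4, 3, 4], [3]), (0, [4, 3, 4], [3]), (0, [4, 2, 4], [3, 2, 3]),
  (0, [4, 2, 4], [3, 2, 3]), (0, [4, 2, 4], [3, 2, 3]), (0, [4, 3, 4], [3]), (0, [4, 3, 2, 3, 4], [3, 2, 3]),
  (0, [4, 3, 2, 3, 4], [3, 2, 3]), (0, [4, 2, 4], [3, 2, 3]), (0, [4, 2, 4], [3, 2, 3]), (0, [4, 2, 4], [3, 2, 3]),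
  (0, [4, 2, 4], [3, 2, 3])]

/-- A node. -/
def tNode54 : TNode := ⟨[0, 1, 159, 29], [1, 0, 41, 189], 294, tOpt54x0 ++ tOpt54x1 ++ tOpt54x2 ++ tOpt54x3, []⟩

/-- Some options of a node. -/
def tOpt55x0 : List (ℕ × List ℕ × List ℕ) := [
  (0, [1], [4]), (0, [0], [4]), (0, [4, 2, 4], [2]), (0, [4, 3, 2, 3, 4], [3, 2, 3]),
  (0, [4, 2, 4], [2]), (0, [4, 2, 4], [2]), (0, [4, 3, 2, 3, 4], [3, 2, 3]), (0, [4, 2, 4], [2]),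
  (0, [4, 2, 4], [2]), (0, [4, 3, 2, 3, 4], [3, 2, 3]), (0, [4, 3, 2, 3, 4], [3, 2, 3]), (0, [4, 2, 4], [2]),
  (0, [4, 2, 4], [2]), (0, [4, 2, 4], [2]), (0, [4, 3, 2, 3, 4], [3, 2, 3]), (0, [4, 3, 2, 3, 4], [3, 2, 3]),
  (0, [4, 2, 4], [2]), (0, [4, 2, 4], [2]), (0, [4, 2, 4], [2]), (0, [4, 3, 2, 3, 4], [3, 2, 3]),
  (0, [4, 2, 4], [2]), (0, [4, 2, 4], [2]), (0, [4, 2, 4], [2]), (0, [4, 2, 4], [2]),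
  (0, [4, 3, 2, 3, 4], [3, 2, 3]), (0, [4, 2, 4], [2]), (0, [4, 2, 4], [2]), (0, [4, 2, 4], [2]),
  (0, [4, 2, 4], [2]), (0, [4, 2, 4], [2]), (0, [4, 2, 4], [2]), (0, [4, 2, 4], [2]),
  (0, [4, 2, 4], [2]), (0, [4, 2, 4], [2]), (0, [4, 2, 4], [2]), (0, [4, 2, 4], [2]),
  (0, [4, 2, 4], [2]), (0, [4, 2, 4], [2]), (0, [4, 2, 4], [2]), (0, [4, 3, 4], [3]),
  (0, [4, 2, 4], [2]), (0, [2], [4]), (0, [4, 2, 4], [2]), (0, [4, 2, 4], [2]),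
  (0, [4, 2, 4], [2]), (0, [4, 3, 4], [3]), (0, [3, 2, 3], [4]), (0, [4, 2, 4], [2]),
  (0, [4, 2, 4], [2]), (0, [4, 2, 4], [2]), (0, [4, 2, 4], [2]), (0, [4, 3, 4], [3]),
  (0, [4, 3, 4], [3]), (0, [4, 3, 4], [3]), (0, [4, 2, 4], [2]), (0, [4, 2, 4], [2]),
  (0, [4, 2, 4], [2]), (0, [4, 2, 4], [2]), (0, [4, 3, 4], [3]), (0, [4, 3, 4], [3]),
  (0, [4, 3, 4], [3]), (0, [4, 2, 4], [2]), (0, [4, 2, 4], [2]), (0, [4, 2, 4], [2]),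
  (0, [4, 2, 4], [2]), (0, [4, 3, 4], [3]), (0, [4, 3, 4], [3]), (0, [4, 3, 4], [3]),
  (0, [4, 3, 4], [3]), (0, [4, 3, 4], [3]), (0, [4, 2, 4], [2]), (0, [4, 2, 4], [2]),
  (0, [4, 2, 4], [2]), (0, [4, 3, 4], [3]), (0, [4, 3, 4], [3]), (0, [4, 3, 4], [3]),
  (0, [4, 2, 4], [2]), (0, [4, 2, 4], [2]), (0, [4, 2, 4], [2]), (0, [4, 3, 4], [3])]

/-- Some options of a node. -/
def tOpt55x1 : List (ℕ × List ℕ × List ℕ) := [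
  (0, [4, 3, 4], [3]), (0, [4, 2, 4], [2]), (0, [4, 3, 4], [3]), (0, [4, 3, 4], [3]),
  (0, [4, 3, 4], [3]), (0, [4, 3, 4], [3]), (0, [4, 2, 4], [2]), (0, [4, 2, 4], [2]),
  (0, [4, 3, 4], [3]), (0, [4, 2, 4], [2]), (0, [4, 3, 4], [3]), (0, [4, 2, 4], [2]),
  (0, [4, 2, 4], [2]), (0, [4, 3, 4], [3]), (0, [4, 3, 4], [3]), (0, [4, 3, 4], [3]),
  (0, [4, 2, 4], [2]), (0, [4, 3, 4], [3]), (0, [4, 3, 4], [3]), (0, [4, 3, 4], [3]),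
  (0, [4, 2, 4], [2]), (0, [4, 2, 4], [2]), (0, [4, 3, 4], [3]), (0, [4, 3, 4], [3]),
  (0, [4, 2, 4], [2]), (0, [4, 3, 4], [3]), (0, [4, 3, 4], [3]), (0, [4, 3, 4], [3]),
  (0, [4, 3, 4], [3]), (0, [4, 3, 2, 3, 4], [3, 2, 3]), (0, [4, 3, 4], [3]), (0, [4, 3, 4], [3]),
  (0, [4, 3, 4], [3]), (0, [4, 3, 4], [3]), (0, [4, 3, 2, 3, 4], [3, 2, 3]), (0, [4, 3, 2, 3, 4], [3, 2, 3]),
  (0, [4, 3, 4], [3]), (0, [4, 3, 4], [3]), (0, [4, 3, 4], [3]), (0, [4, 3, 2, 3, 4], [3, 2, 3]),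
  (0, [4, 3, 2, 3, 4], [3, 2, 3]), (0, [4, 3, 2, 3, 4], [3, 2, 3]), (0, [4, 3, 4], [3]), (0, [4, 3, 4], [3]),
  (0, [4, 3, 2, 3, 4], [3, 2, 3]), (0, [4, 3, 4], [3]), (0, [4, 3, 2, 3, 4], [3, 2, 3]), (0, [4, 3, 2, 3, 4], [3, 2, 3]),
  (0, [4, 2, 4], [2]), (0, [4, 3, 2, 3, 4], [3, 2, 3]), (0, [4, 3, 2, 3, 4], [3, 2, 3]), (0, [4, 2, 4], [2]),
  (0, [4, 3, 4], [3]), (0, [4, 3, 2, 3, 4], [3, 2, 3]), (0, [4, 3, 2, 3, 4], [3, 2, 3]), (0, [4, 3, 2, 3, 4], [3, 2, 3]),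
  (0, [4, 3, 4], [3]), (0, [4, 3, 2, 3, 4], [3, 2, 3]), (0, [4, 2, 4], [2]), (0, [4, 2, 4], [2]),
  (0, [4, 3, 2, 3, 4], [3, 2, 3]), (0, [4, 3, 2, 3, 4], [3, 2, 3]), (0, [4, 3, 2, 3, 4], [3, 2, 3]), (0, [4, 3, 2, 3, 4], [3, 2, 3]),
  (0, [4, 3, 2, 3, 4], [3, 2, 3]), (0, [4, 2, 4], [2]), (0, [4, 2, 4], [2]), (0, [4, 2, 4], [2]),
  (0, [4, 3, 2, 3, 4], [3, 2, 3]), (0, [4, 3, 2, 3, 4], [3, 2, 3]), (0, [4, 2, 4], [2]), (0, [4, 3, 2, 3, 4], [3, 2, 3]),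
  (0, [4, 3, 2, 3, 4], [3, 2, 3]), (0, [4, 3, 4], [3]), (0, [4, 3, 4], [3]), (0, [4, 3, 2, 3, 4], [3, 2, 3]),
  (0, [4, 3, 2, 3, 4], [3, 2, 3]), (0, [4, 3, 4], [3]), (0, [4, 3, 4], [3]), (0, [4, 3, 4], [3])]

/-- Some options of a node. -/
def tOpt55x2 : List (ℕ × List ℕ × List ℕ) := [
  (0, [4, 3, 4], [3]), (0, [4, 3, 2, 3, 4], [3, 2, 3]), (0, [4, 3, 2, 3, 4], [3, 2, 3]), (0, [4, 3, 2, 3, 4], [3, 2, 3]),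
  (0, [4, 3, 2, 3, 4], [3, 2, 3]), (0, [4, 3, 2, 3, 4], [3, 2, 3]), (0, [4, 3, 2, 3, 4], [3, 2, 3]), (0, [4, 2, 4], [2]),
  (0, [4, 3, 4], [3]), (0, [4, 3, 4], [3]), (0, [4, 2, 4], [2]), (0, [4, 2, 4], [2]),
  (0, [4, 2, 4], [2]), (0, [4, 2, 4], [2]), (0, [4, 2, 4], [2]), (0, [4, 2, 4], [2]),
  (0, [4, 2, 4], [2]), (0, [4, 2, 4], [2]), (0, [4, 2, 4], [2]), (0, [4, 2, 4], [2]),
  (0, [4, 2, 4], [2]), (0, [4, 2, 4], [2]), (0, [4, 2, 4], [2]), (0, [4, 2, 4], [2]),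
  (0, [4, 2, 4], [2]), (0, [4, 2, 4], [2]), (0, [4, 2, 4], [2]), (0, [4, 2, 4], [2]),
  (0, [4, 2, 4], [2]), (0, [4, 2, 4], [3, 2, 3]), (0, [4, 2, 4], [2]), (0, [4, 2, 4], [2]),
  (0, [4, 2, 4], [3, 2, 3]), (0, [3], [4]), (0, [4, 2, 4], [3, 2, 3]), (0, [4, 2, 4], [2]),
  (0, [4, 2, 4], [3, 2, 3]), (0, [4, 2, 4], [3, 2, 3]), (0, [4, 2, 4], [2]), (0, [4, 2, 4], [3, 2, 3]),
  (0, [4, 2, 4], [2]), (0, [4, 2, 4], [2]), (0, [4, 2, 4], [2]), (0, [4, 2, 4], [2]),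
  (0, [4, 2, 4], [3, 2, 3]), (0, [4, 2, 4], [2]), (0, [4, 2, 4], [3, 2, 3]), (0, [4, 2, 4], [2]),
  (0, [4, 2, 4], [2]), (0, [4, 2, 4], [2]), (0, [4, 2, 4], [2]), (0, [4, 2, 4], [3, 2, 3]),
  (0, [4, 2, 4], [3, 2, 3]), (0, [4, 2, 4], [3, 2, 3]), (0, [4, 3, 2, 3, 4], [3, 2, 3]), (0, [4, 3, 2, 3, 4], [3, 2, 3]),
  (0, [4, 3, 2, 3, 4], [3, 2, 3]), (0, [4, 2, 4], [2]), (0, [4, 2, 4], [2]), (0, [4, 2, 4], [2]),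
  (0, [4, 2, 4], [2]), (0, [4, 3, 2, 3, 4], [3, 2, 3]), (0, [4, 3, 2, 3, 4], [3, 2, 3]), (0, [4, 3, 2, 3, 4], [3, 2, 3]),
  (0, [4, 2, 4], [2]), (0, [4, 2, 4], [2]), (0, [4, 2, 4], [2]), (0, [4, 2, 4], [2]),
  (0, [4, 2, 4], [2]), (0, [4, 2, 4], [2]), (0, [4, 3, 2, 3, 4], [3, 2, 3]), (0, [4, 2, 4], [3, 2, 3]),
  (0, [4, 3, 2, 3, 4], [3, 2, 3]), (0, [4, 2, 4], [3, 2, 3]), (0, [4, 2, 4], [3, 2, 3]), (0, [4, 2, 4], [3, 2, 3]),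
  (0, [4, 2, 4], [2]), (0, [4, 2, 4], [3, 2, 3]), (0, [4, 2, 4], [3, 2, 3]), (0, [4, 2, 4], [2])]

/-- Some options of a node. -/
def tOpt55x3 : List (ℕ × List ℕ × List ℕ) := [
  (0, [4, 3, 2, 3, 4], [3, 2, 3]), (0, [4, 3, 2, 3, 4], [3, 2, 3]), (0, [4, 3, 2, 3, 4], [3, 2, 3]), (0, [4, 3, 2, 3, 4], [3, 2, 3]),
  (0, [4, 3, 2, 3, 4], [3, 2, 3]), (0, [4, 2, 4], [3, 2, 3]), (0, [4, 2, 4], [2]), (0, [4, 2, 4], [3, 2, 3]),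
  (0, [4, 3, 2, 3, 4], [3, 2, 3]), (0, [4, 3, 2, 3, 4], [3, 2, 3]), (0, [4, 3, 2, 3, 4], [3, 2, 3]), (0, [4, 3, 2, 3, 4], [3, 2, 3]),
  (0, [4, 3, 2, 3, 4], [3, 2, 3]), (0, [4, 2, 4], [2]), (0, [4, 2, 4], [2]), (0, [4, 2, 4], [2]),
  (0, [4, 3, 2, 3, 4], [3, 2, 3]), (0, [4, 3, 2, 3, 4], [3, 2, 3]), (0, [4, 3, 2, 3, 4], [3, 2, 3]), (0, [4, 3, 2, 3, 4], [3, 2, 3]),
  (0, [4, 3, 2, 3, 4], [3, 2, 3]), (0, [4, 3, 2, 3, 4], [3, 2, 3]), (0, [4, 3, 2, 3, 4], [3, 2, 3]), (0, [4, 2, 4], [2]),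
  (0, [4, 3, 2, 3, 4], [3, 2, 3]), (0, [4, 3, 2, 3, 4], [3, 2, 3]), (0, [4, 2, 4], [3, 2, 3]), (0, [4, 3, 2, 3, 4], [3, 2, 3]),
  (0, [4, 3, 2, 3, 4], [3, 2, 3]), (0, [4, 3, 2, 3, 4], [3, 2, 3]), (0, [4, 3, 2, 3, 4], [3, 2, 3]), (0, [4, 3, 2, 3, 4], [3, 2, 3]),
  (0, [4, 2, 4], [3, 2, 3]), (0, [4, 2, 4], [3, 2, 3]), (0, [4, 2, 4], [3, 2, 3]), (0, [4, 3, 2, 3, 4], [3, 2, 3]),
  (0, [4, 3, 2, 3, 4], [3, 2, 3]), (0, [4, 3, 2, 3, 4], [3, 2, 3]), (0, [4, 3, 2, 3, 4], [3, 2, 3]), (0, [4, 3, 2, 3, 4], [3, 2, 3]),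
  (0, [4, 2, 4], [2]), (0, [4, 2, 4], [2]), (0, [4, 3, 2, 3, 4], [3, 2, 3]), (0, [4, 3, 2, 3, 4], [3, 2, 3]),
  (0, [4, 3, 2, 3, 4], [3, 2, 3]), (0, [4, 3, 2, 3, 4], [3, 2, 3]), (0, [4, 3, 2, 3, 4], [3, 2, 3]), (0, [4, 3, 2, 3, 4], [3, 2, 3]),
  (0, [4, 3, 2, 3, 4], [3, 2, 3]), (0, [4, 3, 2, 3, 4], [3, 2, 3]), (0, [4, 3, 2, 3, 4], [3, 2, 3]), (0, [4, 3, 2, 3, 4], [3, 2, 3]),
  (0, [4, 3, 2, 3, 4], [3, 2, 3]), (0, [4, 3, 2, 3, 4], [3, 2, 3]), (0, [4, 3, 2, 3, 4], [3, 2, 3]), (0, [4, 3, 2, 3, 4], [3, 2, 3]),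
  (0, [4, 3, 2, 3, 4], [3, 2, 3]), (0, [4, 3, 2, 3, 4], [3, 2, 3]), (0, [4, 3, 2, 3, 4], [3, 2, 3]), (0, [4, 3, 2, 3, 4], [3, 2, 3]),
  (0, [4, 3, 2, 3, 4], [3, 2, 3]), (0, [4, 3, 2, 3, 4], [3, 2, 3]), (0, [4, 2, 4], [3, 2, 3]), (0, [4, 3, 2, 3, 4], [3, 2, 3]),
  (0, [4, 3, 2, 3, 4], [3, 2, 3]), (0, [4, 3, 2, 3, 4], [3, 2, 3]), (0, [4, 3, 2, 3, 4], [3, 2, 3]), (0, [4, 2, 4], [3, 2, 3]),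
  (0, [4, 2, 4], [3, 2, 3]), (0, [4, 2, 4], [3, 2, 3]), (0, [4, 3, 2, 3, 4], [3, 2, 3]), (0, [4, 3, 2, 3, 4], [3, 2, 3]),
  (0, [4, 3, 2, 3, 4], [3, 2, 3]), (0, [4, 2, 4], [3, 2, 3]), (0, [4, 2, 4], [3, 2, 3]), (0, [4, 2, 4], [3, 2, 3]),
  (0, [4, 2, 4], [3, 2, 3])]

/-- A node. -/
def tNode55 : TNode := ⟨[0, 1, 159, 29], [1, 0, 41, 193], 221, tOpt55x0 ++ tOpt55x1 ++ tOpt55x2 ++ tOpt55x3, []⟩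

/-- Some options of a node. -/
def tOpt56x0 : List (ℕ × List ℕ × List ℕ) := [
  (0, [1], [4]), (0, [0], [4]), (0, [4, 2, 4], [2]), (0, [2, 3, 4, 3, 2], [3, 2, 4, 2, 3]),
  (0, [4, 2, 4], [2]), (0, [4, 2, 4], [2]), (0, [2, 3, 4, 3, 2], [3, 2, 4, 2, 3]), (0, [4, 2, 4], [2]),
  (0, [4, 2, 4], [2]), (0, [2, 3, 4, 3, 2], [3, 2, 4, 2, 3]), (0, [2, 3, 4, 3, 2], [3, 2, 4, 2, 3]), (0, [4, 2, 4], [2]),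
  (0, [4, 2, 4], [2]), (0, [4, 2, 4], [2]), (0, [2, 3, 4, 3, 2], [3, 2, 4, 2, 3]), (0, [2, 3, 4, 3, 2], [3, 2, 4, 2, 3]),
  (0, [4, 2, 4], [2]), (0, [4, 2, 4], [2]), (0, [4, 2, 4], [2]), (0, [2, 3, 4, 3, 2], [3, 2, 4, 2, 3]),
  (0, [4, 2, 4], [2]), (0, [4, 2, 4], [2]), (0, [4, 2, 4], [2]), (0, [4, 2, 4], [2]),
  (0, [2, 3, 4, 3, 2], [3, 2, 4, 2, 3]), (0, [4, 2, 4], [2]), (0, [4, 2, 4], [2]), (0, [4, 2, 4], [2]),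
  (0, [4, 2, 4], [2]), (0, [4, 2, 4], [2]), (0, [4, 2, 4], [2]), (0, [4, 2, 4], [2]),
  (0, [4, 2, 4], [2]), (0, [4, 2, 4], [2]), (0, [4, 2, 4], [2]), (0, [4, 2, 4], [2]),
  (0, [4, 2, 4], [2]), (0, [4, 2, 4], [2]), (0, [4, 2, 4], [2]), (0, [2, 3, 4, 3, 2], [3, 2, 4, 2, 3]),
  (0, [4, 2, 4], [2]), (0, [2], [4]), (0, [4, 2, 4], [2]), (0, [4, 2, 4], [2]),
  (0, [4, 2, 4], [2]), (0, [2, 3, 4, 3, 2], [3, 2, 4, 2, 3]), (0, [3, 2, 3], [4]), (0, [4, 2, 4], [2]),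
  (0, [4, 2, 4], [2]), (0, [4, 2, 4], [2]), (0, [4, 2, 4], [2]), (0, [2, 3, 4, 3, 2], [3, 2, 4, 2, 3]),
  (0, [2, 3, 4, 3, 2], [3, 2, 4, 2, 3]), (0, [2, 3, 4, 3, 2], [3, 2, 4, 2, 3]), (0, [4, 2, 4], [2]), (0, [4, 2, 4], [2]),
  (0, [4, 2, 4], [2]), (0, [4, 2, 4], [2]), (0, [2, 3, 4, 3, 2], [3, 2, 4, 2, 3]), (0, [2, 3, 4, 3, 2], [3, 2, 4, 2, 3]),
  (0, [2, 3, 4, 3, 2], [3, 2, 4, 2, 3]), (0, [4, 2, 4], [2]), (0, [4, 2, 4], [2]), (0, [4, 2, 4], [2]),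
  (0, [4, 2, 4], [2]), (0, [2, 3, 4, 3, 2], [3, 2, 4, 2, 3]), (0, [3, 4, 2, 4, 3], [4, 2, 4]), (0, [2, 3, 4, 3, 2], [3, 2, 4, 2, 3]),
  (0, [2, 3, 4, 3, 2], [3, 2, 4, 2, 3]), (0, [2, 3, 4, 3, 2], [3, 2, 4, 2, 3]), (0, [4, 2, 4], [2]), (0, [4, 2, 4], [2]),
  (0, [4, 2, 4], [2]), (0, [2, 3, 4, 3, 2], [3, 2, 4, 2, 3]), (0, [2, 3, 4, 3, 2], [3, 2, 4, 2, 3]), (0, [4, 3, 4], [3]),
  (0, [4, 2, 4], [2]), (0, [4, 2, 4], [2]), (0, [4, 2, 4], [2]), (0, [4, 3, 4], [3])]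

/-- Some options of a node. -/
def tOpt56x1 : List (ℕ × List ℕ × List ℕ) := [
  (0, [2, 3, 4, 3, 2], [3, 2, 4, 2, 3]), (0, [4, 2, 4], [2]), (0, [4, 3, 4], [3]), (0, [3, 4, 2, 4, 3], [4, 2, 4]),
  (0, [2, 3, 4, 3, 2], [3, 2, 4, 2, 3]), (0, [4, 3, 4], [3]), (0, [4, 2, 4], [2]), (0, [4, 2, 4], [2]),
  (0, [3, 4, 2, 4, 3], [4, 2, 4]), (0, [4, 2, 4], [2]), (0, [3, 4, 2, 4, 3], [4, 2, 4]), (0, [4, 2, 4], [2]),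
  (0, [4, 2, 4], [2]), (0, [3, 4, 2, 4, 3], [4, 2, 4]), (0, [4, 3, 4], [3]), (0, [2, 3, 4, 3, 2], [3, 2, 4, 2, 3]),
  (0, [4, 2, 4], [2]), (0, [4, 3, 4], [3]), (0, [3, 4, 2, 4, 3], [4, 2, 4]), (0, [3, 4, 2, 4, 3], [4, 2, 4]),
  (0, [4, 2, 4], [2]), (0, [4, 2, 4], [2]), (0, [4, 3, 4], [3]), (0, [2, 3, 4, 3, 2], [3, 2, 4, 2, 3]),
  (0, [4, 2, 4], [2]), (0, [3, 4, 2, 4, 3], [4, 2, 4]), (0, [2, 3, 4, 3, 2], [3, 2, 4, 2, 3]), (0, [2, 3, 4, 3, 2], [3, 2, 4, 2, 3]),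
  (0, [2, 3, 4, 3, 2], [3, 2, 4, 2, 3]), (0, [2, 3, 4, 3, 2], [3, 2, 4, 2, 3]), (0, [4, 3, 4], [3]), (0, [2, 3, 4, 3, 2], [3, 2, 4, 2, 3]),
  (0, [2, 3, 4, 3, 2], [3, 2, 4, 2, 3]), (0, [2, 3, 4, 3, 2], [3, 2, 4, 2, 3]), (0, [2, 3, 4, 3, 2], [3, 2, 4, 2, 3]), (0, [2, 3, 4, 3, 2], [3, 2, 4, 2, 3]),
  (0, [2, 3, 4, 3, 2], [3, 2, 4, 2, 3]), (0, [2, 3, 4, 3, 2], [3, 2, 4, 2, 3]), (0, [2, 3, 4, 3, 2], [3, 2, 4, 2, 3]), (0, [3, 4, 2, 4, 3], [4, 2, 4]),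
  (0, [2, 3, 4, 3, 2], [3, 2, 4, 2, 3]), (0, [2, 3, 4, 3, 2], [3, 2, 4, 2, 3]), (0, [2, 3, 4, 3, 2], [3, 2, 4, 2, 3]), (0, [2, 3, 4, 3, 2], [3, 2, 4, 2, 3]),
  (0, [2, 3, 4, 3, 2], [3, 2, 4, 2, 3]), (0, [2, 3, 4, 3, 2], [3, 2, 4, 2, 3]), (0, [4, 3, 4], [3]), (0, [4, 3, 4], [3]),
  (0, [4, 2, 4], [2]), (0, [2, 3, 4, 3, 2], [3, 2, 4, 2, 3]), (0, [2, 3, 4, 3, 2], [3, 2, 4, 2, 3]), (0, [4, 2, 4], [2]),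
  (0, [2, 3, 4, 3, 2], [3, 2, 4, 2, 3]), (0, [4, 3, 4], [3]), (0, [4, 3, 4], [3]), (0, [3, 4, 2, 4, 3], [4, 2, 4]),
  (0, [2, 3, 4, 3, 2], [3, 2, 4, 2, 3]), (0, [3, 4, 2, 4, 3], [4, 2, 4]), (0, [4, 2, 4], [2]), (0, [4, 2, 4], [2]),
  (0, [3, 4, 2, 4, 3], [4, 2, 4]), (0, [3, 4, 2, 4, 3], [4, 2, 4]), (0, [2, 3, 4, 3, 2], [3, 2, 4, 2, 3]), (0, [4, 3, 4], [3]),
  (0, [3, 4, 2, 4, 3], [4, 2, 4]), (0, [4, 2, 4], [2]), (0, [4, 2, 4], [2]), (0, [4, 2, 4], [2]),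
  (0, [3, 4, 2, 4, 3], [4, 2, 4]), (0, [4, 3, 4], [3]), (0, [4, 2, 4], [2]), (0, [4, 3, 4], [3]),
  (0, [2, 3, 4, 3, 2], [3, 2, 4, 2, 3]), (0, [2, 3, 4, 3, 2], [3, 2, 4, 2, 3]), (0, [2, 3, 4, 3, 2], [3, 2, 4, 2, 3]), (0, [3, 4, 2, 4, 3], [4, 2, 4]),
  (0, [4, 3, 4], [3]), (0, [2, 3, 4, 3, 2], [3, 2, 4, 2, 3]), (0, [2, 3, 4, 3, 2], [3, 2, 4, 2, 3]), (0, [2, 3, 4, 3, 2], [3, 2, 4, 2, 3])]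

/-- Some options of a node. -/
def tOpt56x2 : List (ℕ × List ℕ × List ℕ) := [
  (0, [2, 3, 4, 3, 2], [3, 2, 4, 2, 3]), (0, [2, 3, 4, 3, 2], [3, 2, 4, 2, 3]), (0, [2, 3, 4, 3, 2], [3, 2, 4, 2, 3]), (0, [2, 3, 4, 3, 2], [3, 2, 4, 2, 3]),
  (0, [2, 3, 4, 3, 2], [3, 2, 4, 2, 3]), (0, [2, 3, 4, 3, 2], [3, 2, 4, 2, 3]), (0, [2, 3, 4, 3, 2], [3, 2, 4, 2, 3]), (0, [4, 2, 4], [2]),
  (0, [2, 3, 4, 3, 2], [3, 2, 4, 2, 3]), (0, [2, 3, 4, 3, 2], [3, 2, 4, 2, 3]), (0, [4, 2, 4], [2]), (0, [4, 2, 4], [2]),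
  (0, [4, 2, 4], [2]), (0, [4, 2, 4], [2]), (0, [4, 2, 4], [2]), (0, [4, 2, 4], [2]),
  (0, [4, 2, 4], [2]), (0, [4, 2, 4], [2]), (0, [4, 2, 4], [2]), (0, [4, 2, 4], [2]),
  (0, [4, 2, 4], [2]), (0, [4, 2, 4], [2]), (0, [4, 2, 4], [2]), (0, [4, 2, 4], [2]),
  (0, [4, 2, 4], [2]), (0, [4, 2, 4], [2]), (0, [4, 2, 4], [2]), (0, [4, 2, 4], [2]),
  (0, [4, 2, 4], [2]), (0, [4, 2, 4], [3, 2, 3]), (0, [4, 2, 4], [2]), (0, [4, 2, 4], [2]),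
  (0, [4, 2, 4], [3, 2, 3]), (0, [4, 2, 4], [3, 2, 3]), (0, [4, 2, 4], [3, 2, 3]), (0, [4, 2, 4], [2]),
  (0, [4, 2, 4], [3, 2, 3]), (0, [4, 2, 4], [3, 2, 3]), (0, [4, 2, 4], [2]), (0, [4, 2, 4], [3, 2, 3]),
  (0, [4, 2, 4], [2]), (0, [4, 2, 4], [2]), (0, [4, 2, 4], [2]), (0, [4, 2, 4], [2]),
  (0, [4, 2, 4], [3, 2, 3]), (0, [4, 2, 4], [2]), (0, [4, 2, 4], [3, 2, 3]), (0, [4, 2, 4], [2]),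
  (0, [4, 2, 4], [2]), (0, [4, 2, 4], [2]), (0, [4, 2, 4], [2]), (0, [3], [4]),
  (0, [4, 2, 4], [3, 2, 3]), (0, [4, 2, 4], [3, 2, 3]), (0, [3, 4, 3], [4, 3, 4]), (0, [3, 4, 3], [4, 3, 4]),
  (0, [3, 4, 3], [4, 3, 4]), (0, [4, 2, 4], [2]), (0, [4, 2, 4], [2]), (0, [4, 2, 4], [2]),
  (0, [4, 2, 4], [2]), (0, [3, 4, 3], [4, 3, 4]), (0, [3, 4, 3], [4, 3, 4]), (0, [3, 4, 3], [4, 3, 4]),
  (0, [4, 2, 4], [2]), (0, [4, 2, 4], [2]), (0, [4, 2, 4], [2]), (0, [4, 2, 4], [2]),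
  (0, [4, 2, 4], [2]), (0, [4, 2, 4], [2]), (0, [3, 4, 3], [4, 3, 4]), (0, [4, 2, 4], [3, 2, 3]),
  (0, [3, 4, 3], [4, 3, 4]), (0, [4, 2, 4], [3, 2, 3]), (0, [4, 2, 4], [3, 2, 3]), (0, [4, 2, 4], [3, 2, 3]),
  (0, [4, 2, 4], [2]), (0, [4, 2, 4], [3, 2, 3]), (0, [4, 2, 4], [3, 2, 3]), (0, [4, 2, 4], [2])]

/-- Some options of a node. -/
def tOpt56x3 : List (ℕ × List ℕ × List ℕ) := [
  (0, [3, 4, 3], [4, 3, 4]), (0, [3, 4, 3], [4, 3, 4]), (0, [3, 4, 3], [4, 3, 4]), (0, [3, 4, 3], [4, 3, 4]),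
  (0, [3, 4, 3], [4, 3, 4]), (0, [4, 2, 4], [3, 2, 3]), (0, [4, 2, 4], [2]), (0, [4, 2, 4], [3, 2, 3]),
  (0, [3, 4, 3], [4, 3, 4]), (0, [3, 4, 3], [4, 3, 4]), (0, [3, 4, 3], [4, 3, 4]), (0, [3, 4, 3], [4, 3, 4]),
  (0, [3, 4, 3], [4, 3, 4]), (0, [4, 2, 4], [2]), (0, [4, 2, 4], [2]), (0, [4, 2, 4], [2]),
  (0, [3, 4, 3], [4, 3, 4]), (0, [3, 4, 3], [4, 3, 4]), (0, [3, 4, 3], [4, 3, 4]), (0, [3, 4, 3], [4, 3, 4]),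
  (0, [3, 4, 3], [4, 3, 4]), (0, [3, 4, 3], [4, 3, 4]), (0, [3, 4, 3], [4, 3, 4]), (0, [4, 2, 4], [2]),
  (0, [3, 4, 3], [4, 3, 4]), (0, [3, 4, 3], [4, 3, 4]), (0, [4, 2, 4], [3, 2, 3]), (0, [3, 4, 3], [4, 3, 4]),
  (0, [3, 4, 3], [4, 3, 4]), (0, [3, 4, 3], [4, 3, 4]), (0, [3, 4, 3], [4, 3, 4]), (0, [3, 4, 3], [4, 3, 4]),
  (0, [4, 2, 4], [3, 2, 3]), (0, [4, 2, 4], [3, 2, 3]), (0, [4, 2, 4], [3, 2, 3]), (0, [3, 4, 3], [4, 3, 4]),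
  (0, [3, 4, 3], [4, 3, 4]), (0, [3, 4, 3], [4, 3, 4]), (0, [3, 4, 3], [4, 3, 4]), (0, [3, 4, 3], [4, 3, 4]),
  (0, [4, 2, 4], [2]), (0, [4, 2, 4], [2]), (0, [3, 4, 3], [4, 3, 4]), (0, [3, 4, 3], [4, 3, 4]),
  (0, [3, 4, 3], [4, 3, 4]), (0, [3, 4, 3], [4, 3, 4]), (0, [3, 4, 3], [4, 3, 4]), (0, [3, 4, 3], [4, 3, 4]),
  (0, [3, 4, 3], [4, 3, 4]), (0, [3, 4, 3], [4, 3, 4]), (0, [3, 4, 3], [4, 3, 4]), (0, [3, 4, 3], [4, 3, 4]),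
  (0, [3, 4, 3], [4, 3, 4]), (0, [3, 4, 3], [4, 3, 4]), (0, [3, 4, 3], [4, 3, 4]), (0, [3, 4, 3], [4, 3, 4]),
  (0, [3, 4, 3], [4, 3, 4]), (0, [3, 4, 3], [4, 3, 4]), (0, [3, 4, 3], [4, 3, 4]), (0, [3, 4, 3], [4, 3, 4]),
  (0, [3, 4, 3], [4, 3, 4]), (0, [3, 4, 3], [4, 3, 4]), (0, [4, 2, 4], [3, 2, 3]), (0, [3, 4, 3], [4, 3, 4]),
  (0, [3, 4, 3], [4, 3, 4]), (0, [3, 4, 3], [4, 3, 4]), (0, [3, 4, 3], [4, 3, 4]), (0, [4, 2, 4], [3, 2, 3]),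
  (0, [4, 2, 4], [3, 2, 3]), (0, [4, 2, 4], [3, 2, 3]), (0, [3, 4, 3], [4, 3, 4]), (0, [3, 4, 3], [4, 3, 4]),
  (0, [3, 4, 3], [4, 3, 4]), (0, [4, 2, 4], [3, 2, 3]), (0, [4, 2, 4], [3, 2, 3]), (0, [4, 2, 4], [3, 2, 3]),
  (0, [4, 2, 4], [3, 2, 3])]

/-- A node. -/
def tNode56 : TNode := ⟨[0, 1, 159, 29], [1, 0, 41, 211], 311, tOpt56x0 ++ tOpt56x1 ++ tOpt56x2 ++ tOpt56x3, []⟩

/-- Some options of a node. -/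
def tOpt57x0 : List (ℕ × List ℕ × List ℕ) := [
  (0, [1], [4]), (0, [0], [4]), (0, [4, 2, 4], [2]), (0, [3, 4, 2, 4, 3], [4, 2, 4]),
  (0, [4, 2, 4], [2]), (0, [4, 2, 4], [2]), (0, [3, 4, 2, 4, 3], [4, 2, 4]), (0, [4, 2, 4], [2]),
  (0, [4, 2, 4], [2]), (0, [3, 4, 2, 4, 3], [4, 2, 4]), (0, [3, 4, 2, 4, 3], [4, 2, 4]), (0, [4, 2, 4], [2]),
  (0, [4, 2, 4], [2]), (0, [4, 2, 4], [2]), (0, [3, 4, 2, 4, 3], [4, 2, 4]), (0, [3, 4, 2, 4, 3], [4, 2, 4]),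
  (0, [4, 2, 4], [2]), (0, [4, 2, 4], [2]), (0, [4, 2, 4], [2]), (0, [3, 4, 2, 4, 3], [4, 2, 4]),
  (0, [4, 2, 4], [2]), (0, [4, 2, 4], [2]), (0, [4, 2, 4], [2]), (0, [4, 2, 4], [2]),
  (0, [3, 4, 2, 4, 3], [4, 2, 4]), (0, [4, 2, 4], [2]), (0, [4, 2, 4], [2]), (0, [4, 2, 4], [2]),
  (0, [4, 2, 4], [2]), (0, [4, 2, 4], [2]), (0, [4, 2, 4], [2]), (0, [4, 2, 4], [2]),
  (0, [4, 2, 4], [2]), (0, [4, 2, 4], [2]), (0, [4, 2, 4], [2]), (0, [4, 2, 4], [2]),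
  (0, [4, 2, 4], [2]), (0, [4, 2, 4], [2]), (0, [4, 2, 4], [2]), (0, [4, 3, 4], [3]),
  (0, [4, 2, 4], [2]), (0, [2], [4]), (0, [4, 2, 4], [2]), (0, [4, 2, 4], [2]),
  (0, [4, 2, 4], [2]), (0, [3, 4, 2, 4, 3], [4, 2, 4]), (0, [4, 2, 4], [2]), (0, [4, 2, 4], [2]),
  (0, [4, 2, 4], [2]), (0, [4, 2, 4], [2]), (0, [4, 2, 4], [2]), (0, [4, 3, 4], [3]),
  (0, [3, 4, 2, 4, 3], [4, 2, 4]), (0, [4, 3, 4], [3]), (0, [4, 2, 4], [2]), (0, [4, 2, 4], [2]),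
  (0, [4, 2, 4], [2]), (0, [4, 2, 4], [2]), (0, [3, 4, 2, 4, 3], [4, 2, 4]), (0, [3, 4, 2, 4, 3], [4, 2, 4]),
  (0, [3, 4, 2, 4, 3], [4, 2, 4]), (0, [4, 2, 4], [2]), (0, [4, 2, 4], [2]), (0, [4, 2, 4], [2]),
  (0, [4, 2, 4], [2]), (0, [3, 4, 2, 4, 3], [4, 2, 4]), (0, [3, 4, 2, 4, 3], [4, 2, 4]), (0, [4, 3, 4], [3]),
  (0, [3, 4, 2, 4, 3], [4, 2, 4]), (0, [3, 4, 2, 4, 3], [4, 2, 4]), (0, [4, 2, 4], [2]), (0, [4, 2, 4], [2]),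
  (0, [4, 2, 4], [2]), (0, [3, 4, 2, 4, 3], [4, 2, 4]), (0, [3, 4, 2, 4, 3], [4, 2, 4]), (0, [3, 4, 2, 4, 3], [4, 2, 4]),
  (0, [4, 2, 4], [2]), (0, [4, 2, 4], [2]), (0, [4, 2, 4], [2]), (0, [3, 4, 2, 4, 3], [4, 2, 4])]

/-- Some options of a node. -/
def tOpt57x1 : List (ℕ × List ℕ × List ℕ) := [
  (0, [3, 4, 2, 4, 3], [4, 2, 4]), (0, [4, 2, 4], [2]), (0, [3, 4, 2, 4, 3], [4, 2, 4]), (0, [3, 4, 2, 4, 3], [4, 2, 4]),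
  (0, [3, 4, 2, 4, 3], [4, 2, 4]), (0, [3, 4, 2, 4, 3], [4, 2, 4]), (0, [4, 2, 4], [2]), (0, [3, 2, 3], [4]),
  (0, [3, 4, 2, 4, 3], [4, 2, 4]), (0, [4, 2, 4], [2]), (0, [3, 4, 2, 4, 3], [4, 2, 4]), (0, [4, 2, 4], [2]),
  (0, [4, 2, 4], [2]), (0, [3, 4, 2, 4, 3], [4, 2, 4]), (0, [3, 4, 2, 4, 3], [4, 2, 4]), (0, [4, 3, 2, 3, 4], [3, 2, 3]),
  (0, [4, 2, 4], [2]), (0, [4, 3, 4], [3]), (0, [3, 4, 2, 4, 3], [4, 2, 4]), (0, [4, 3, 4], [3]),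
  (0, [4, 2, 4], [2]), (0, [4, 2, 4], [2]), (0, [3, 4, 2, 4, 3], [4, 2, 4]), (0, [4, 3, 2, 3, 4], [3, 2, 3]),
  (0, [4, 2, 4], [2]), (0, [4, 3, 4], [3]), (0, [3, 4, 2, 4, 3], [4, 2, 4]), (0, [4, 3, 4], [3]),
  (0, [4, 3, 2, 3, 4], [3, 2, 3]), (0, [3, 4, 2, 4, 3], [4, 2, 4]), (0, [4, 3, 4], [3]), (0, [4, 3, 2, 3, 4], [3, 2, 3]),
  (0, [3, 4, 2, 4, 3], [4, 2, 4]), (0, [4, 3, 4], [3]), (0, [4, 3, 4], [3]), (0, [3, 4, 2, 4, 3], [4, 2, 4]),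
  (0, [4, 3, 2, 3, 4], [3, 2, 3]), (0, [4, 3, 4], [3]), (0, [4, 3, 4], [3]), (0, [3, 4, 2, 4, 3], [4, 2, 4]),
  (0, [3, 4, 2, 4, 3], [4, 2, 4]), (0, [4, 3, 4], [3]), (0, [4, 3, 4], [3]), (0, [4, 3, 4], [3]),
  (0, [4, 3, 4], [3]), (0, [4, 3, 2, 3, 4], [3, 2, 3]), (0, [4, 3, 4], [3]), (0, [3, 4, 2, 4, 3], [4, 2, 4]),
  (0, [4, 2, 4], [2]), (0, [4, 3, 4], [3]), (0, [3, 4, 2, 4, 3], [4, 2, 4]), (0, [4, 2, 4], [2]),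
  (0, [4, 3, 2, 3, 4], [3, 2, 3]), (0, [3, 4, 2, 4, 3], [4, 2, 4]), (0, [3, 4, 2, 4, 3], [4, 2, 4]), (0, [4, 3, 4], [3]),
  (0, [4, 3, 2, 3, 4], [3, 2, 3]), (0, [4, 3, 4], [3]), (0, [4, 2, 4], [2]), (0, [4, 2, 4], [2]),
  (0, [3, 4, 2, 4, 3], [4, 2, 4]), (0, [3, 4, 2, 4, 3], [4, 2, 4]), (0, [4, 3, 2, 3, 4], [3, 2, 3]), (0, [4, 3, 4], [3]),
  (0, [3, 4, 2, 4, 3], [4, 2, 4]), (0, [4, 2, 4], [2]), (0, [4, 2, 4], [2]), (0, [4, 2, 4], [2]),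
  (0, [3, 4, 2, 4, 3], [4, 2, 4]), (0, [3, 4, 2, 4, 3], [4, 2, 4]), (0, [4, 2, 4], [2]), (0, [3, 4, 2, 4, 3], [4, 2, 4]),
  (0, [4, 3, 2, 3, 4], [3, 2, 3]), (0, [4, 3, 4], [3]), (0, [4, 3, 2, 3, 4], [3, 2, 3]), (0, [3, 4, 2, 4, 3], [4, 2, 4]),
  (0, [3, 4, 2, 4, 3], [4, 2, 4]), (0, [4, 3, 2, 3, 4], [3, 2, 3]), (0, [3, 4, 2, 4, 3], [4, 2, 4]), (0, [4, 3, 4], [3])]

/-- Some options of a node. -/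
def tOpt57x2 : List (ℕ × List ℕ × List ℕ) := [
  (0, [3, 4, 2, 4, 3], [4, 2, 4]), (0, [4, 3, 4], [3]), (0, [4, 3, 4], [3]), (0, [4, 3, 2, 3, 4], [3, 2, 3]),
  (0, [4, 3, 4], [3]), (0, [4, 3, 4], [3]), (0, [4, 3, 2, 3, 4], [3, 2, 3]), (0, [4, 2, 4], [2]),
  (0, [4, 3, 2, 3, 4], [3, 2, 3]), (0, [4, 3, 2, 3, 4], [3, 2, 3]), (0, [4, 2, 4], [2]), (0, [4, 2, 4], [2]),
  (0, [4, 2, 4], [2]), (0, [4, 2, 4], [2]), (0, [4, 2, 4], [2]), (0, [4, 2, 4], [2]),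
  (0, [4, 2, 4], [2]), (0, [4, 2, 4], [2]), (0, [4, 2, 4], [2]), (0, [4, 2, 4], [2]),
  (0, [4, 2, 4], [2]), (0, [4, 2, 4], [2]), (0, [4, 2, 4], [2]), (0, [4, 2, 4], [2]),
  (0, [4, 2, 4], [2]), (0, [4, 2, 4], [2]), (0, [4, 2, 4], [2]), (0, [4, 2, 4], [2]),
  (0, [4, 2, 4], [2]), (0, [4, 3, 4], [3]), (0, [4, 2, 4], [2]), (0, [4, 2, 4], [2]),
  (0, [4, 3, 4], [3]), (0, [4, 3, 2, 3, 4], [3, 2, 3]), (0, [4, 3, 2, 3, 4], [3, 2, 3]), (0, [4, 2, 4], [2]),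
  (0, [4, 3, 2, 3, 4], [3, 2, 3]), (0, [4, 3, 2, 3, 4], [3, 2, 3]), (0, [4, 2, 4], [2]), (0, [3, 4, 2, 4, 3], [4, 2, 4]),
  (0, [4, 2, 4], [2]), (0, [4, 2, 4], [2]), (0, [4, 2, 4], [2]), (0, [4, 2, 4], [2]),
  (0, [3, 4, 2, 4, 3], [4, 2, 4]), (0, [4, 2, 4], [2]), (0, [3, 4, 2, 4, 3], [4, 2, 4]), (0, [4, 2, 4], [2]),
  (0, [4, 2, 4], [2]), (0, [4, 2, 4], [2]), (0, [4, 2, 4], [2]), (0, [3, 4, 3], [4, 3, 4]),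
  (0, [3, 4, 2, 4, 3], [4, 2, 4]), (0, [4, 3, 2, 3, 4], [3, 2, 3]), (0, [3], [4]), (0, [4, 3, 4], [3]),
  (0, [3, 4, 3], [4, 3, 4]), (0, [4, 2, 4], [2]), (0, [4, 2, 4], [2]), (0, [4, 2, 4], [2]),
  (0, [4, 2, 4], [2]), (0, [4, 2, 4], [3, 2, 3]), (0, [4, 3, 4], [3]), (0, [3, 4, 3], [4, 3, 4]),
  (0, [4, 2, 4], [2]), (0, [4, 2, 4], [2]), (0, [4, 2, 4], [2]), (0, [4, 2, 4], [2]),
  (0, [4, 2, 4], [2]), (0, [4, 2, 4], [2]), (0, [3, 4, 3], [4, 3, 4]), (0, [4, 3, 2, 3, 4], [3, 2, 3]),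
  (0, [3, 4, 3], [4, 3, 4]), (0, [3, 4, 3], [4, 3, 4]), (0, [3, 4, 3], [4, 3, 4]), (0, [3, 4, 3], [4, 3, 4]),
  (0, [4, 2, 4], [2]), (0, [3, 4, 3], [4, 3, 4]), (0, [4, 3, 2, 3, 4], [3, 2, 3]), (0, [4, 2, 4], [2])]

/-- Some options of a node. -/
def tOpt57x3 : List (ℕ × List ℕ × List ℕ) := [
  (0, [4, 3, 4], [3]), (0, [3, 4, 2, 4, 3], [4, 2, 4]), (0, [3, 4, 3], [4, 3, 4]), (0, [3, 4, 3], [4, 3, 4]),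
  (0, [3, 4, 3], [4, 3, 4]), (0, [4, 3, 4], [3]), (0, [4, 2, 4], [2]), (0, [4, 3, 4], [3]),
  (0, [4, 2, 4], [3, 2, 3]), (0, [3, 4, 2, 4, 3], [4, 2, 4]), (0, [3, 4, 3], [4, 3, 4]), (0, [3, 4, 3], [4, 3, 4]),
  (0, [3, 4, 3], [4, 3, 4]), (0, [4, 2, 4], [2]), (0, [4, 2, 4], [2]), (0, [4, 2, 4], [2]),
  (0, [4, 2, 4], [3, 2, 3]), (0, [4, 2, 4], [3, 2, 3]), (0, [4, 3, 4], [3]), (0, [4, 3, 4], [3]),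
  (0, [3, 4, 3], [4, 3, 4]), (0, [3, 4, 2, 4, 3], [4, 2, 4]), (0, [4, 3, 4], [3]), (0, [4, 2, 4], [2]),
  (0, [3, 4, 3], [4, 3, 4]), (0, [3, 4, 3], [4, 3, 4]), (0, [4, 3, 2, 3, 4], [3, 2, 3]), (0, [4, 3, 4], [3]),
  (0, [3, 4, 3], [4, 3, 4]), (0, [3, 4, 3], [4, 3, 4]), (0, [3, 4, 3], [4, 3, 4]), (0, [3, 4, 2, 4, 3], [4, 2, 4]),
  (0, [3, 4, 3], [4, 3, 4]), (0, [3, 4, 3], [4, 3, 4]), (0, [3, 4, 3], [4, 3, 4]), (0, [4, 3, 4], [3]),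
  (0, [3, 4, 3], [4, 3, 4]), (0, [3, 4, 3], [4, 3, 4]), (0, [4, 2, 4], [3, 2, 3]), (0, [3, 4, 2, 4, 3], [4, 2, 4]),
  (0, [4, 2, 4], [2]), (0, [4, 2, 4], [2]), (0, [4, 3, 4], [3]), (0, [3, 4, 2, 4, 3], [4, 2, 4]),
  (0, [4, 2, 4], [3, 2, 3]), (0, [3, 4, 3], [4, 3, 4]), (0, [3, 4, 2, 4, 3], [4, 2, 4]), (0, [3, 4, 3], [4, 3, 4]),
  (0, [3, 4, 3], [4, 3, 4]), (0, [3, 4, 3], [4, 3, 4]), (0, [4, 2, 4], [3, 2, 3]), (0, [4, 3, 4], [3]),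
  (0, [4, 3, 4], [3]), (0, [3, 4, 2, 4, 3], [4, 2, 4]), (0, [4, 3, 4], [3]), (0, [3, 4, 3], [4, 3, 4]),
  (0, [3, 4, 3], [4, 3, 4]), (0, [3, 4, 3], [4, 3, 4]), (0, [3, 4, 2, 4, 3], [4, 2, 4]), (0, [3, 4, 2, 4, 3], [4, 2, 4]),
  (0, [3, 4, 2, 4, 3], [4, 2, 4]), (0, [3, 4, 2, 4, 3], [4, 2, 4]), (0, [3, 4, 3], [4, 3, 4]), (0, [3, 4, 3], [4, 3, 4]),
  (0, [3, 4, 3], [4, 3, 4]), (0, [3, 4, 3], [4, 3, 4]), (0, [3, 4, 3], [4, 3, 4]), (0, [3, 4, 3], [4, 3, 4]),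
  (0, [3, 4, 3], [4, 3, 4]), (0, [3, 4, 3], [4, 3, 4]), (0, [3, 4, 3], [4, 3, 4]), (0, [3, 4, 3], [4, 3, 4]),
  (0, [3, 4, 3], [4, 3, 4]), (0, [3, 4, 3], [4, 3, 4]), (0, [3, 4, 3], [4, 3, 4]), (0, [3, 4, 3], [4, 3, 4]),
  (0, [3, 4, 3], [4, 3, 4])]

/-- A node. -/
def tNode57 : TNode := ⟨[0, 1, 159, 29], [1, 0, 41, 214], 242, tOpt57x0 ++ tOpt57x1 ++ tOpt57x2 ++ tOpt57x3, []⟩

/-- Some options of a node. -/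
def tOpt58x0 : List (ℕ × List ℕ × List ℕ) := [
  (0, [1], [3]), (0, [0], [3]), (0, [3, 2, 3], [2]), (1, [], []),
  (0, [3, 2, 3], [2]), (0, [3, 2, 3], [2]), (1, [18, 17, 19, 18, 17], []), (0, [3, 2, 3], [2]),
  (0, [3, 2, 3], [2]), (1, [20, 17, 20], []), (1, [17, 19, 16, 18, 17, 19], []), (0, [3, 2, 3], [2]),
  (0, [3, 2, 3], [2]), (0, [3, 2, 3], [2]), (1, [17, 19, 18], []), (1, [17, 19, 16, 18, 17], []),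
  (0, [3, 2, 3], [2]), (0, [3, 2, 3], [2]), (0, [3, 2, 3], [2]), (1, [17, 19, 17, 16, 19, 17], []),
  (0, [3, 2, 3], [2]), (0, [3, 2, 3], [2]), (0, [3, 2, 3], [2]), (0, [3, 2, 3], [2]),
  (1, [17, 19, 18, 16], []), (0, [3, 2, 3], [2]), (0, [3, 2, 3], [2]), (0, [3, 2, 3], [2]),
  (0, [3, 2, 3], [2]), (0, [3, 2, 3], [2]), (0, [3, 2, 3], [2]), (0, [3, 2, 3], [2]),
  (0, [3, 2, 3], [2]), (0, [3, 2, 3], [2]), (0, [3, 2, 3], [2]), (0, [3, 2, 3], [2]),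
  (0, [3, 2, 3], [2]), (0, [3, 2, 3], [2]), (0, [3, 2, 3], [2]), (1, [21], []),
  (0, [3, 2, 3], [2]), (0, [3, 2, 3], [2]), (0, [3, 2, 3], [2]), (0, [3, 2, 3], [2]),
  (0, [3, 2, 3], [2]), (1, [18, 21, 18, 17, 19, 18], []), (0, [3, 2, 3], [2]), (0, [3, 2, 3], [2]),
  (0, [3, 2, 3], [2]), (0, [3, 2, 3], [2]), (0, [3, 2, 3], [2]), (1, [17, 21, 17], []),
  (1, [18, 21, 18, 19], []), (1, [18, 21, 18, 19, 18, 17, 16, 19, 17], []), (0, [3, 2, 3], [2]), (0, [3, 2, 3], [2]),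
  (0, [3, 2, 3], [2]), (0, [3, 2, 3], [2]), (1, [17, 21, 17, 19], []), (1, [18, 21, 18, 17, 19, 18, 16], []),
  (1, [18, 21, 18], []), (0, [3, 2, 3], [2]), (0, [3, 2, 3], [2]), (0, [3, 2, 3], [2]),
  (0, [3, 2, 3], [2]), (1, [17, 21, 19, 18], []), (1, [18, 21, 18, 19, 16], []), (1, [17, 21, 19, 16, 18, 19, 18, 22], []),
  (1, [18, 21, 18, 16, 18, 19, 17, 16, 22], []), (1, [18, 21, 18, 19, 18, 16, 18, 17], []), (0, [3, 2, 3], [2]), (0, [3, 2, 3], [2]),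
  (0, [3, 2, 3], [2]), (1, [17, 21, 17, 19, 16], []), (1, [18, 17, 21, 18, 17], []), (1, [18, 21, 18, 16], []),
  (0, [3, 2, 3], [2]), (0, [3, 2, 3], [2]), (0, [3, 2, 3], [2]), (1, [17, 21, 18, 16, 18, 19], [])]

/-- Some options of a node. -/
def tOpt58x1 : List (ℕ × List ℕ × List ℕ) := [
  (1, [17, 21, 17, 19, 16, 18, 19, 17, 22], []), (0, [3, 2, 3], [2]), (1, [18, 21, 18, 16, 19], []), (1, [18, 21, 18, 16, 18, 19, 17], []),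
  (1, [17, 21, 19, 16, 18, 17], []), (1, [18, 21, 18, 19, 18, 16, 18, 17, 16], []), (0, [3, 2, 3], [2]), (0, [3, 2, 3], [2]),
  (1, [18, 17, 21, 18, 17, 16], []), (0, [3, 2, 3], [2]), (1, [18, 21, 18, 16, 19, 16], []), (0, [3, 2, 3], [2]),
  (0, [3, 2, 3], [2]), (1, [17, 21, 18, 16, 18, 17, 19, 18], []), (1, [17, 21, 18, 17, 16, 19, 18, 17], []), (0, [3, 2, 3], [2]),
  (2, [], []), (1, [18, 21, 18, 16, 18, 17, 19, 18, 17], []), (1, [17, 21, 19, 18, 16, 18, 19, 17], []), (1, [21, 18, 16, 18, 17], []),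
  (0, [3, 2, 3], [2]), (2, [19], []), (1, [17, 21, 18, 17, 16, 19, 18, 17, 19], []), (0, [3, 2, 3], [2]),
  (0, [3, 2, 3], [2]), (1, [17, 21, 18, 16, 19, 17], []), (2, [18, 16, 18, 19, 18], []), (2, [18, 16, 18, 17, 19], []),
  (2, [16], []), (1, [20, 21, 18, 21, 20, 19], []), (1, [17, 21, 18, 16, 18], []), (2, [19, 16], []),
  (2, [18, 17, 16, 19, 17], []), (2, [18, 16, 19, 18, 17], []), (1, [20, 21, 18, 21, 20], []), (1, [20, 21, 18, 21, 20, 18, 19, 17], []),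
  (0, [3, 2, 3], [2]), (0, [3, 2, 3], [2]), (0, [3, 2, 3], [2]), (1, [20, 21, 18, 21, 20, 19, 16], []),
  (1, [17, 21, 19, 16, 18, 19, 21, 19, 17, 23], []), (1, [17, 21, 19, 16, 18, 17, 19, 17, 21, 17, 23], []), (0, [3, 2, 3], [2]), (0, [3, 2, 3], [2]),
  (1, [21, 18, 17, 21, 18, 17], []), (0, [3, 2, 3], [2]), (1, [20, 21, 18, 21, 20, 16], []), (1, [20, 21, 18, 21, 20, 19, 18, 16, 18, 17], []),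
  (0, [3, 2, 3], [2]), (1, [17, 21, 19, 16, 18, 19, 21, 18, 23], []), (1, [17, 19, 20, 18, 21, 16, 18, 21, 20], []), (0, [3, 2, 3], [2]),
  (2, [18, 16, 18, 17], []), (1, [16, 18, 21, 16, 18, 21, 16, 19, 18], []), (1, [19, 21, 16, 18, 16, 19, 16, 18, 21, 23], []), (1, [21, 18, 16, 18, 21, 19, 18], []),
  (2, [19, 18, 16, 18, 17], []), (1, [16, 18, 21, 16, 18, 21, 17, 16], []), (0, [3, 2, 3], [2]), (0, [3, 2, 3], [2]),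
  (1, [16, 18, 21, 16, 18, 21, 16, 19, 18, 16], []), (1, [19, 21, 19, 18, 16, 19, 21, 18, 17, 23], []), (0, [3, 2, 3], [2]), (1, [21, 18, 16, 18, 21, 18, 19, 18, 17], []),
  (1, [19, 21, 19, 18, 16, 19, 21, 18, 17, 19, 23], []), (2, [18, 21, 18], []), (2, [19, 18, 21, 18], []), (2, [18, 16, 18, 17, 16], []),
  (1, [18, 21, 18, 16, 18, 21, 18], []), (1, [19, 17, 21, 18, 16, 19, 21, 17, 16, 23], []), (2, [19, 18, 16, 18, 17, 16], []), (1, [19, 18, 19, 21, 18, 16, 19, 21, 17, 16, 23], []),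
  (0, [3, 2, 3], [2]), (2, [18, 16, 18, 17, 19, 18, 21, 18], []), (2, [18, 17, 21, 16, 18], []), (1, [16, 18, 21, 16, 18, 21, 17, 16, 19], []),
  (1, [21, 18, 16, 18, 21, 17], []), (2, [19, 18, 17, 21, 16, 18], []), (2, [18, 16, 18, 17, 19, 21], []), (2, [18, 16, 19, 21, 19, 18, 17, 19], [])]

/-- Some options of a node. -/
def tOpt58x2 : List (ℕ × List ℕ × List ℕ) := [
  (2, [18, 16, 18, 17, 19, 17, 21, 17], []), (0, [3, 2, 3], [2]), (0, [3, 2, 3], [2]), (0, [3, 2, 3], [2]),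
  (0, [3, 2, 3], [2]), (0, [3, 2, 3], [2]), (0, [3, 2, 3], [2]), (0, [3, 2, 3], [2]),
  (2, [18, 16, 18, 17, 21], []), (2, [19, 18, 16, 18, 17, 21], []), (0, [3, 2, 3], [2]), (2, [18, 16, 18, 17, 21, 18, 16, 18, 17], []),
  (2, [19, 18, 16, 18, 17, 21, 18, 16, 18, 17], []), (0, [3, 2, 3], [2]), (0, [2], [3]), (0, [3, 2, 3], [2]),
  (0, [3, 2, 3], [2]), (0, [3, 2, 3], [2]), (0, [3, 2, 3], [2]), (0, [3, 2, 3], [2]),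
  (0, [3, 2, 3], [2]), (0, [3, 2, 3], [2]), (0, [3, 2, 3], [2]), (0, [3, 2, 3], [2]),
  (3, [], []), (0, [3, 2, 3], [2]), (0, [3, 2, 3], [2]), (0, [3, 2, 3], [2]),
  (0, [3, 2, 3], [2]), (0, [3, 2, 3], [2]), (3, [19, 18, 16, 18, 17, 16, 19], []), (0, [3, 2, 3], [2]),
  (0, [3, 2, 3], [2]), (3, [19, 16], []), (3, [17, 19, 16, 18, 17], []), (3, [19, 18, 19, 18, 16, 18], []),
  (3, [17, 19, 18, 16], []), (3, [19, 18, 16, 18, 17], []), (3, [19], []), (0, [3, 2, 3], [2]),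
  (3, [17, 19, 16, 18, 17, 16], []), (3, [19, 18, 19, 17], []), (3, [18, 21, 18], []), (3, [17, 19, 18], []),
  (0, [3, 2, 3], [2]), (3, [19, 18, 16, 18, 17, 16], []), (0, [3, 2, 3], [2]), (0, [3, 2, 3], [2]),
  (3, [19, 18, 16, 18, 17, 21, 18, 16, 18, 19, 18], []), (0, [3, 2, 3], [2]), (0, [3, 2, 3], [2]), (0, [3, 2, 3], [2]),
  (0, [3, 2, 3], [2]), (3, [19, 18, 21, 16, 18, 17], []), (4, [], []), (0, [3, 2, 3], [2]),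
  (0, [3, 2, 3], [2]), (0, [3, 2, 3], [2]), (4, [18, 17, 19, 18, 17, 16], []), (4, [19, 16], []),
  (3, [19, 18, 21, 18, 19, 18, 16, 18, 17], []), (4, [20, 21, 18, 21, 20], []), (0, [3, 2, 3], [2]), (0, [3, 2, 3], [2]),
  (0, [3, 2, 3], [2]), (4, [20, 21, 18, 21, 20, 19, 16], []), (4, [18, 19, 21, 18, 16, 19, 21, 19, 18, 23], []), (0, [3, 2, 3], [2]),
  (4, [18, 19, 18, 16, 18], []), (4, [17, 19, 16, 18, 17], []), (0, [3, 2, 3], [2]), (3, [19, 18, 16, 18, 21, 17], []),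
  (0, [3, 2, 3], [2]), (0, [3, 2, 3], [2]), (4, [19, 18, 16, 18, 17], []), (4, [18, 17, 19, 16, 18], []),
  (0, [3, 2, 3], [2]), (0, [3, 2, 3], [2]), (3, [19, 18, 17, 21, 16, 18], []), (3, [19, 21], [])]

/-- Some options of a node. -/
def tOpt58x3 : List (ℕ × List ℕ × List ℕ) := [
  (0, [3, 2, 3], [2]), (0, [3, 2, 3], [2]), (0, [3, 2, 3], [2]), (4, [18, 17, 19, 18, 17], []),
  (4, [19], []), (0, [3, 2, 3], [2]), (3, [19, 18, 21, 18, 19], []), (0, [3, 2, 3], [2]),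
  (4, [19, 18, 17, 19, 18, 17], []), (0, [3, 2, 3], [2]), (0, [3, 2, 3], [2]), (4, [20, 21, 18, 21, 20, 19], []),
  (4, [20, 19, 21, 18, 21, 20], []), (4, [20, 21, 19, 18, 21, 20, 16], []), (4, [17, 20, 21, 19, 18, 21, 20, 16, 18, 17], []), (0, [3, 2, 3], [2]),
  (4, [20, 19, 20, 19], []), (4, [20, 21, 18, 21, 19, 20, 19], []), (0, [3, 2, 3], [2]), (4, [19, 18, 19, 17], []),
  (4, [19, 20, 17, 20], []), (0, [3, 2, 3], [2]), (4, [20, 19, 21, 18, 21, 20, 18, 19, 17], []), (3, [19, 18, 16, 18, 17, 21, 18, 16, 18, 17], []),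
  (0, [3, 2, 3], [2]), (4, [19, 18, 17, 21, 18, 17], []), (3, [19, 18, 16, 18, 17, 21], []), (0, [3, 2, 3], [2]),
  (0, [3, 2, 3], [2]), (4, [20, 18, 19, 20, 17], []), (4, [17, 19, 18, 17, 21, 17], []), (4, [19, 17, 19, 18], []),
  (4, [17, 19, 18, 16], []), (4, [18, 19, 17, 16], []), (0, [3, 2, 3], [2]), (0, [3, 2, 3], [2]),
  (0, [3, 2, 3], [2]), (0, [3, 2, 3], [2]), (4, [20, 19, 21, 18, 21, 20, 19], []), (0, [3, 2, 3], [2]),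
  (3, [19, 18, 21, 18], []), (3, [19, 18, 16, 18, 17, 21, 16], []), (0, [3, 2, 3], [2]), (0, [3, 2, 3], [2]),
  (4, [18, 19, 18, 17, 19, 17], []), (0, [3, 2, 3], [2]), (0, [3, 2, 3], [2]), (4, [20, 21, 19, 18, 21, 20], []),
  (4, [19, 21], []), (0, [3, 2, 3], [2]), (4, [20, 21, 19, 18, 21, 20, 19, 22], []), (0, [3, 2, 3], [2]),
  (4, [17, 19, 18, 19, 22], []), (0, [3, 2, 3], [2]), (4, [20, 21, 19, 18, 21, 20, 18, 19, 17, 22], []), (4, [17, 19, 18], []),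
  (4, [18, 19, 17], []), (0, [3, 2, 3], [2]), (4, [18, 19, 17, 19], []), (4, [20, 21, 18, 21, 20, 19, 18, 19, 17], []),
  (0, [3, 2, 3], [2]), (4, [20, 21, 18, 21, 19, 20, 18, 19, 17], []), (0, [3, 2, 3], [2]), (0, [3, 2, 3], [2]),
  (4, [20, 18, 19, 21, 18, 21, 20, 17], []), (4, [20, 21, 18, 21, 20, 18, 19, 17], []), (0, [3, 2, 3], [2]), (0, [3, 2, 3], [2]),
  (4, [20, 18, 19, 21, 18, 21, 20, 17, 16], []), (4, [20, 21, 18, 21, 20, 19, 18, 16, 18, 17], []), (4, [20, 21, 18, 21, 18, 19, 20, 17], []), (4, [17, 19, 21, 18], []),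
  (0, [3, 2, 3], [2]), (0, [3, 2, 3], [2]), (4, [21, 18, 16, 19, 21, 16, 19, 17, 23], []), (4, [19, 16, 18, 21, 16, 18, 21, 17, 16], []),
  (0, [3, 2, 3], [2])]

/-- A node. -/
def tNode58 : TNode := ⟨[0, 1, 159], [1, 0, 174], 28, tOpt58x0 ++ tOpt58x1 ++ tOpt58x2 ++ tOpt58x3, [59, 60, 61, 62]⟩

/-- Some options of a node. -/
def tOpt59x0 : List (ℕ × List ℕ × List ℕ) := [
  (0, [1], [4]), (0, [0], [4]), (0, [4, 2, 4], [2]), (0, [3], [4]),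
  (0, [4, 2, 4], [2]), (0, [4, 2, 4], [2]), (0, [4, 2, 3, 2, 4], [2, 3, 2]), (0, [4, 2, 4], [2]),
  (0, [4, 2, 4], [2]), (0, [4, 2, 3, 2, 4], [2, 3, 2]), (0, [4, 2, 3, 2, 4], [2, 3, 2]), (0, [4, 2, 4], [2]),
  (0, [4, 2, 4], [2]), (0, [4, 2, 4], [2]), (0, [4, 2, 3, 2, 4], [2, 3, 2]), (0, [4, 2, 3, 2, 4], [2, 3, 2]),
  (0, [4, 2, 4], [2]), (0, [4, 2, 4], [2]), (0, [4, 2, 4], [2]), (0, [4, 2, 4], [3, 2, 3]),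
  (0, [4, 2, 4], [2]), (0, [4, 2, 4], [2]), (0, [4, 2, 4], [2]), (0, [4, 2, 4], [2]),
  (0, [4, 2, 3, 2, 4], [2, 3, 2]), (0, [4, 2, 4], [2]), (0, [4, 2, 4], [2]), (0, [4, 2, 4], [2]),
  (0, [4, 2, 4], [2]), (0, [4, 2, 4], [2]), (0, [4, 2, 4], [2]), (0, [4, 2, 4], [2]),
  (0, [4, 2, 4], [2]), (0, [4, 2, 4], [2]), (0, [4, 2, 4], [2]), (0, [4, 2, 4], [2]),
  (0, [4, 2, 4], [2]), (0, [4, 2, 4], [2]), (0, [4, 2, 4], [2]), (0, [4, 3, 4], [3]),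
  (0, [4, 2, 4], [2]), (0, [4, 2, 4], [2]), (0, [4, 2, 4], [2]), (0, [4, 2, 4], [2]),
  (0, [4, 2, 4], [2]), (0, [4, 3, 4], [3]), (0, [4, 2, 4], [2]), (0, [4, 2, 4], [2]),
  (0, [4, 2, 4], [2]), (0, [4, 2, 4], [2]), (0, [4, 2, 4], [2]), (0, [4, 3, 4], [3]),
  (0, [4, 3, 4], [3]), (0, [4, 3, 4], [3]), (0, [4, 2, 4], [2]), (0, [4, 2, 4], [2]),
  (0, [4, 2, 4], [2]), (0, [4, 2, 4], [2]), (0, [4, 3, 4], [3]), (0, [4, 3, 4], [3]),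
  (0, [4, 3, 4], [3]), (0, [4, 2, 4], [2]), (0, [4, 2, 4], [2]), (0, [4, 2, 4], [2]),
  (0, [4, 2, 4], [2]), (0, [4, 3, 4], [3]), (0, [4, 3, 4], [3]), (0, [4, 3, 4], [3]),
  (0, [4, 3, 4], [3]), (0, [4, 3, 4], [3]), (0, [4, 2, 4], [2]), (0, [4, 2, 4], [2]),
  (0, [4, 2, 4], [2]), (0, [4, 3, 4], [3]), (0, [4, 3, 4], [3]), (0, [4, 3, 4], [3]),
  (0, [4, 2, 4], [2]), (0, [4, 2, 4], [2]), (0, [4, 2, 4], [2]), (0, [4, 3, 4], [3])]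

/-- Some options of a node. -/
def tOpt59x1 : List (ℕ × List ℕ × List ℕ) := [
  (0, [4, 3, 4], [3]), (0, [4, 2, 4], [2]), (0, [4, 3, 4], [3]), (0, [4, 3, 4], [3]),
  (0, [4, 3, 4], [3]), (0, [4, 3, 4], [3]), (0, [4, 2, 4], [2]), (0, [4, 2, 4], [2]),
  (0, [4, 3, 4], [3]), (0, [4, 2, 4], [2]), (0, [4, 3, 4], [3]), (0, [4, 2, 4], [2]),
  (0, [4, 2, 4], [2]), (0, [4, 3, 4], [3]), (0, [4, 3, 4], [3]), (0, [4, 2, 4], [2]),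
  (0, [4, 3, 4], [3]), (0, [4, 3, 4], [3]), (0, [4, 3, 4], [3]), (0, [4, 3, 4], [3]),
  (0, [4, 2, 4], [2]), (0, [4, 3, 4], [3]), (0, [4, 3, 4], [3]), (0, [4, 2, 4], [2]),
  (0, [4, 2, 4], [2]), (0, [4, 3, 4], [3]), (0, [4, 3, 4], [3]), (0, [4, 3, 4], [3]),
  (0, [4, 3, 4], [3]), (0, [4, 2, 3, 2, 4], [2, 3, 2]), (0, [4, 3, 4], [3]), (0, [4, 3, 4], [3]),
  (0, [4, 3, 4], [3]), (0, [4, 3, 4], [3]), (0, [4, 2, 3, 2, 4], [2, 3, 2]), (0, [4, 2, 4], [3, 2, 3]),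
  (0, [4, 2, 4], [2]), (0, [4, 2, 4], [2]), (0, [4, 2, 4], [2]), (0, [4, 2, 3, 2, 4], [2, 3, 2]),
  (0, [4, 2, 4], [3, 2, 3]), (0, [4, 2, 3, 2, 4], [2, 3, 2]), (0, [4, 2, 4], [2]), (0, [4, 2, 4], [2]),
  (0, [4, 2, 3, 2, 4], [2, 3, 2]), (0, [4, 2, 4], [2]), (0, [4, 2, 3, 2, 4], [2, 3, 2]), (0, [4, 2, 4], [3, 2, 3]),
  (0, [4, 2, 4], [2]), (0, [4, 2, 3, 2, 4], [2, 3, 2]), (0, [4, 2, 3, 2, 4], [2, 3, 2]), (0, [4, 2, 4], [2]),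
  (0, [4, 3, 4], [3]), (0, [4, 2, 3, 2, 4], [2, 3, 2]), (0, [4, 2, 4], [3, 2, 3]), (0, [4, 2, 3, 2, 4], [2, 3, 2]),
  (0, [4, 3, 4], [3]), (0, [4, 2, 3, 2, 4], [2, 3, 2]), (0, [4, 2, 4], [2]), (0, [4, 2, 4], [2]),
  (0, [4, 2, 3, 2, 4], [2, 3, 2]), (0, [4, 2, 3, 2, 4], [2, 3, 2]), (0, [4, 2, 4], [2]), (0, [4, 2, 3, 2, 4], [2, 3, 2]),
  (0, [4, 2, 3, 2, 4], [2, 3, 2]), (0, [4, 2, 3, 2, 4], [2, 3, 2]), (0, [4, 2, 3, 2, 4], [2, 3, 2]), (0, [4, 3, 4], [3]),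
  (0, [4, 2, 3, 2, 4], [2, 3, 2]), (0, [4, 2, 4], [3, 2, 3]), (0, [4, 3, 4], [3]), (0, [4, 2, 3, 2, 4], [2, 3, 2]),
  (0, [4, 2, 4], [2]), (0, [4, 2, 3, 2, 4], [2, 3, 2]), (0, [4, 2, 3, 2, 4], [2, 3, 2]), (0, [4, 2, 3, 2, 4], [2, 3, 2]),
  (0, [4, 2, 4], [3, 2, 3]), (0, [4, 2, 3, 2, 4], [2, 3, 2]), (0, [4, 2, 3, 2, 4], [2, 3, 2]), (0, [4, 2, 3, 2, 4], [2, 3, 2])]

/-- Some options of a node. -/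
def tOpt59x2 : List (ℕ × List ℕ × List ℕ) := [
  (0, [4, 2, 3, 2, 4], [2, 3, 2]), (0, [4, 2, 4], [2]), (0, [4, 2, 4], [2]), (0, [4, 2, 4], [2]),
  (0, [4, 2, 4], [2]), (0, [4, 2, 4], [2]), (0, [4, 2, 4], [2]), (0, [4, 2, 4], [2]),
  (0, [4, 2, 3, 2, 4], [2, 3, 2]), (0, [4, 2, 3, 2, 4], [2, 3, 2]), (0, [4, 2, 4], [2]), (0, [4, 2, 3, 2, 4], [2, 3, 2]),
  (0, [4, 2, 3, 2, 4], [2, 3, 2]), (0, [4, 2, 4], [2]), (0, [2], [4]), (0, [4, 2, 4], [2]),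
  (0, [4, 2, 4], [2]), (0, [4, 2, 4], [2]), (0, [4, 2, 4], [2]), (0, [4, 2, 4], [2]),
  (0, [4, 2, 4], [2]), (0, [4, 2, 4], [2]), (0, [4, 2, 4], [2]), (0, [4, 2, 4], [2]),
  (0, [4, 3, 4], [3]), (0, [4, 2, 4], [2]), (0, [4, 2, 4], [2]), (0, [4, 2, 4], [2]),
  (0, [4, 2, 4], [2]), (0, [3, 2, 3], [4]), (0, [4, 3, 4], [3]), (0, [4, 2, 4], [2]),
  (0, [4, 2, 4], [2]), (0, [4, 3, 4], [3]), (0, [4, 3, 4], [3]), (0, [4, 3, 4], [3]),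
  (0, [4, 3, 4], [3]), (0, [4, 3, 4], [3]), (0, [4, 3, 4], [3]), (0, [4, 2, 4], [2]),
  (0, [4, 3, 4], [3]), (0, [4, 3, 4], [3]), (0, [4, 2, 3, 2, 4], [2, 3, 2]), (0, [4, 3, 4], [3]),
  (0, [4, 2, 4], [2]), (0, [4, 3, 4], [3]), (0, [4, 2, 4], [2]), (0, [4, 2, 4], [2]),
  (0, [4, 2, 3, 2, 4], [2, 3, 2]), (0, [4, 2, 4], [2]), (0, [4, 2, 4], [2]), (0, [4, 2, 4], [2]),
  (0, [4, 2, 4], [2]), (0, [4, 2, 3, 2, 4], [2, 3, 2]), (0, [4, 3, 4], [3]), (0, [4, 2, 4], [2]),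
  (0, [4, 2, 4], [2]), (0, [4, 2, 4], [2]), (0, [4, 3, 4], [3]), (0, [4, 3, 4], [3]),
  (0, [4, 2, 3, 2, 4], [2, 3, 2]), (0, [4, 2, 3, 2, 4], [2, 3, 2]), (0, [4, 2, 4], [2]), (0, [4, 2, 4], [2]),
  (0, [4, 2, 4], [2]), (0, [4, 2, 3, 2, 4], [2, 3, 2]), (0, [4, 3, 4], [3]), (0, [4, 2, 4], [2]),
  (0, [4, 3, 4], [3]), (0, [4, 3, 4], [3]), (0, [4, 2, 4], [2]), (0, [4, 2, 3, 2, 4], [2, 3, 2]),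
  (0, [4, 2, 4], [2]), (0, [4, 2, 4], [2]), (0, [4, 3, 4], [3]), (0, [4, 3, 4], [3]),
  (0, [4, 2, 4], [2]), (0, [4, 2, 4], [2]), (0, [4, 2, 3, 2, 4], [2, 3, 2]), (0, [4, 2, 3, 2, 4], [2, 3, 2])]

/-- Some options of a node. -/
def tOpt59x3 : List (ℕ × List ℕ × List ℕ) := [
  (0, [4, 2, 4], [2]), (0, [4, 2, 4], [2]), (0, [4, 2, 4], [2]), (0, [4, 3, 4], [3]),
  (0, [4, 3, 4], [3]), (0, [4, 2, 4], [2]), (0, [4, 2, 3, 2, 4], [2, 3, 2]), (0, [4, 2, 4], [2]),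
  (0, [4, 3, 4], [3]), (0, [4, 2, 4], [2]), (0, [4, 2, 4], [2]), (0, [4, 2, 3, 2, 4], [2, 3, 2]),
  (0, [4, 3, 4], [3]), (0, [4, 3, 4], [3]), (0, [4, 2, 3, 2, 4], [2, 3, 2]), (0, [4, 2, 4], [2]),
  (0, [4, 3, 4], [3]), (0, [4, 2, 3, 2, 4], [2, 3, 2]), (0, [4, 2, 4], [2]), (0, [4, 3, 4], [3]),
  (0, [4, 3, 4], [3]), (0, [4, 2, 4], [2]), (0, [4, 3, 4], [3]), (0, [4, 2, 3, 2, 4], [2, 3, 2]),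
  (0, [4, 2, 4], [2]), (0, [4, 3, 4], [3]), (0, [4, 2, 3, 2, 4], [2, 3, 2]), (0, [4, 2, 4], [2]),
  (0, [4, 2, 4], [2]), (0, [4, 3, 4], [3]), (0, [4, 3, 4], [3]), (0, [4, 3, 4], [3]),
  (0, [4, 3, 4], [3]), (0, [4, 3, 4], [3]), (0, [4, 2, 4], [2]), (0, [4, 2, 4], [2]),
  (0, [4, 2, 4], [2]), (0, [4, 2, 4], [2]), (0, [4, 3, 4], [3]), (0, [4, 2, 4], [2]),
  (0, [4, 2, 3, 2, 4], [2, 3, 2]), (0, [4, 2, 3, 2, 4], [2, 3, 2]), (0, [4, 2, 4], [2]), (0, [4, 2, 4], [2]),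
  (0, [4, 3, 4], [3]), (0, [4, 2, 4], [2]), (0, [4, 2, 4], [2]), (0, [4, 3, 4], [3]),
  (0, [4, 2, 3, 2, 4], [2, 3, 2]), (0, [4, 2, 4], [2]), (0, [4, 3, 4], [3]), (0, [4, 2, 4], [2]),
  (0, [4, 3, 4], [3]), (0, [4, 2, 4], [2]), (0, [4, 3, 4], [3]), (0, [4, 3, 4], [3]),
  (0, [4, 3, 4], [3]), (0, [4, 2, 4], [2]), (0, [4, 3, 4], [3]), (0, [4, 2, 3, 2, 4], [2, 3, 2]),
  (0, [4, 2, 4], [2]), (0, [4, 2, 3, 2, 4], [2, 3, 2]), (0, [4, 2, 4], [2]), (0, [4, 2, 4], [2]),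
  (0, [4, 2, 3, 2, 4], [2, 3, 2]), (0, [4, 3, 4], [3]), (0, [4, 2, 4], [2]), (0, [4, 2, 4], [2]),
  (0, [4, 2, 3, 2, 4], [2, 3, 2]), (0, [4, 3, 4], [3]), (0, [4, 3, 4], [3]), (0, [4, 2, 3, 2, 4], [2, 3, 2]),
  (0, [4, 2, 4], [2]), (0, [4, 2, 4], [2]), (0, [4, 3, 4], [3]), (0, [4, 2, 3, 2, 4], [2, 3, 2]),
  (0, [4, 2, 4], [2])]

/-- A node. -/
def tNode59 : TNode := ⟨[0, 1, 159, 28], [1, 0, 174, 3], 310, tOpt59x0 ++ tOpt59x1 ++ tOpt59x2 ++ tOpt59x3, []⟩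

/-- Some options of a node. -/
def tOpt60x0 : List (ℕ × List ℕ × List ℕ) := [
  (0, [1], [4]), (0, [0], [4]), (0, [4, 3, 4], [3]), (0, [4, 2, 4], [2]),
  (0, [3, 4, 3], [4, 3, 4]), (0, [4, 3, 4], [3]), (0, [4, 2, 4], [2]), (0, [3, 4, 3], [4, 3, 4]),
  (0, [4, 3, 4], [3]), (0, [4, 2, 4], [2]), (0, [4, 2, 4], [2]), (0, [3, 4, 3], [4, 3, 4]),
  (0, [3, 4, 3], [4, 3, 4]), (0, [3, 4, 3], [4, 3, 4]), (0, [4, 2, 4], [2]), (0, [4, 2, 4], [2]),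
  (0, [3, 4, 3], [4, 3, 4]), (0, [3, 4, 3], [4, 3, 4]), (0, [3, 4, 3], [4, 3, 4]), (0, [4, 2, 4], [2]),
  (0, [3, 4, 3], [4, 3, 4]), (0, [3, 4, 3], [4, 3, 4]), (0, [3, 4, 3], [4, 3, 4]), (0, [3, 4, 3], [4, 3, 4]),
  (0, [4, 2, 4], [2]), (0, [3, 4, 3], [4, 3, 4]), (0, [3, 4, 3], [4, 3, 4]), (0, [3, 4, 3], [4, 3, 4]),
  (0, [3, 4, 3], [4, 3, 4]), (0, [4, 3, 4], [3]), (0, [3, 4, 3], [4, 3, 4]), (0, [3, 4, 3], [4, 3, 4]),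
  (0, [3, 4, 3], [4, 3, 4]), (0, [3, 4, 3], [4, 3, 4]), (0, [3, 4, 3], [4, 3, 4]), (0, [4, 3, 4], [3]),
  (0, [3, 4, 3], [4, 3, 4]), (0, [3, 4, 3], [4, 3, 4]), (0, [3, 4, 3], [4, 3, 4]), (0, [4, 2, 4], [2]),
  (0, [3, 4, 3], [4, 3, 4]), (0, [4, 3, 4], [3]), (0, [3, 4, 3], [4, 3, 4]), (0, [3, 4, 3], [4, 3, 4]),
  (0, [3, 4, 3], [4, 3, 4]), (0, [4, 2, 4], [2]), (0, [4, 3, 4], [3]), (0, [3, 4, 3], [4, 3, 4]),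
  (0, [3, 4, 3], [4, 3, 4]), (0, [3, 4, 3], [4, 3, 4]), (0, [3, 4, 3], [4, 3, 4]), (0, [4, 2, 4], [2]),
  (0, [4, 2, 4], [2]), (0, [4, 2, 4], [2]), (0, [3, 4, 3], [4, 3, 4]), (0, [3, 4, 3], [4, 3, 4]),
  (0, [3, 4, 3], [4, 3, 4]), (0, [3, 4, 3], [4, 3, 4]), (0, [4, 2, 4], [2]), (0, [4, 2, 4], [2]),
  (0, [4, 2, 4], [2]), (0, [3, 4, 3], [4, 3, 4]), (0, [3, 4, 3], [4, 3, 4]), (0, [3, 4, 3], [4, 3, 4]),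
  (0, [3, 4, 3], [4, 3, 4]), (0, [4, 2, 4], [2]), (0, [4, 2, 4], [2]), (0, [4, 2, 4], [2]),
  (0, [4, 2, 4], [2]), (0, [4, 2, 4], [2]), (0, [3, 4, 3], [4, 3, 4]), (0, [3, 4, 3], [4, 3, 4]),
  (0, [3, 4, 3], [4, 3, 4]), (0, [4, 2, 4], [2]), (0, [4, 2, 4], [2]), (0, [4, 2, 4], [2]),
  (0, [3, 4, 3], [4, 3, 4]), (0, [3, 4, 3], [4, 3, 4]), (0, [3, 4, 3], [4, 3, 4]), (0, [4, 2, 4], [2])]

/-- Some options of a node. -/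
def tOpt60x1 : List (ℕ × List ℕ × List ℕ) := [
  (0, [4, 2, 4], [2]), (0, [4, 3, 4], [3]), (0, [4, 2, 4], [2]), (0, [4, 2, 4], [2]),
  (0, [4, 2, 4], [2]), (0, [4, 2, 4], [2]), (0, [4, 3, 4], [3]), (0, [3, 4, 3], [4, 3, 4]),
  (0, [4, 2, 4], [2]), (0, [4, 3, 4], [3]), (0, [4, 2, 4], [2]), (0, [3, 4, 3], [4, 3, 4]),
  (0, [4, 3, 4], [3]), (0, [4, 2, 4], [2]), (0, [4, 2, 4], [2]), (0, [4, 3, 4], [3]),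
  (0, [3], [4]), (0, [4, 2, 4], [2]), (0, [4, 2, 4], [2]), (0, [4, 2, 4], [2]),
  (0, [4, 3, 4], [3]), (0, [4, 2, 4], [2]), (0, [4, 2, 4], [2]), (0, [4, 3, 4], [3]),
  (0, [4, 3, 4], [3]), (0, [4, 2, 4], [2]), (0, [4, 2, 4], [2]), (0, [4, 2, 4], [2]),
  (0, [4, 2, 4], [2]), (0, [4, 2, 4], [2]), (0, [4, 2, 4], [2]), (0, [4, 2, 4], [2]),
  (0, [4, 2, 4], [2]), (0, [4, 2, 4], [2]), (0, [4, 2, 4], [2]), (0, [4, 2, 4], [2]),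
  (0, [4, 3, 4], [3]), (0, [4, 3, 4], [3]), (0, [4, 3, 4], [3]), (0, [4, 2, 4], [2]),
  (0, [4, 2, 4], [2]), (0, [4, 2, 4], [2]), (0, [4, 3, 4], [3]), (0, [4, 3, 4], [3]),
  (0, [4, 2, 4], [2]), (0, [4, 3, 4], [3]), (0, [4, 2, 4], [2]), (0, [4, 2, 4], [2]),
  (0, [4, 3, 4], [3]), (0, [4, 2, 4], [2]), (0, [4, 2, 4], [2]), (0, [4, 3, 4], [3]),
  (0, [4, 2, 4], [2]), (0, [4, 2, 4], [2]), (0, [4, 2, 4], [2]), (0, [4, 2, 4], [2]),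
  (0, [4, 2, 4], [2]), (0, [4, 2, 4], [2]), (0, [4, 3, 4], [3]), (0, [4, 3, 4], [3]),
  (0, [4, 2, 4], [2]), (0, [4, 2, 4], [2]), (0, [3, 4, 3], [4, 3, 4]), (0, [4, 2, 4], [2]),
  (0, [4, 2, 4], [2]), (0, [4, 2, 4], [2]), (0, [4, 2, 4], [2]), (0, [4, 2, 4], [2]),
  (0, [4, 2, 4], [2]), (0, [4, 2, 4], [2]), (0, [4, 2, 4], [2]), (0, [4, 2, 4], [2]),
  (0, [3, 4, 3], [4, 3, 4]), (0, [4, 2, 4], [2]), (0, [4, 2, 4], [2]), (0, [4, 2, 4], [2]),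
  (0, [4, 2, 4], [2]), (0, [4, 2, 4], [2]), (0, [4, 2, 4], [2]), (0, [4, 2, 4], [2])]

/-- Some options of a node. -/
def tOpt60x2 : List (ℕ × List ℕ × List ℕ) := [
  (0, [4, 2, 4], [2]), (0, [3, 4, 3], [4, 3, 4]), (0, [3, 4, 3], [4, 3, 4]), (0, [3, 4, 3], [4, 3, 4]),
  (0, [3, 4, 3], [4, 3, 4]), (0, [3, 4, 3], [4, 3, 4]), (0, [3, 4, 3], [4, 3, 4]), (0, [4, 3, 4], [3]),
  (0, [4, 2, 4], [2]), (0, [4, 2, 4], [2]), (0, [4, 3, 4], [3]), (0, [4, 2, 4], [2]),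
  (0, [4, 2, 4], [2]), (0, [4, 3, 4], [3]), (0, [2], [4]), (0, [4, 3, 4], [2, 3, 2]),
  (0, [4, 3, 4], [2, 3, 2]), (0, [4, 3, 4], [2, 3, 2]), (0, [4, 3, 4], [2, 3, 2]), (0, [4, 3, 4], [3]),
  (0, [4, 3, 4], [2, 3, 2]), (0, [4, 3, 4], [3]), (0, [4, 3, 4], [2, 3, 2]), (0, [4, 3, 4], [3]),
  (0, [4, 2, 4], [2]), (0, [4, 3, 4], [3]), (0, [4, 3, 4], [3]), (0, [3, 2, 3], [4]),
  (0, [4, 3, 4], [3]), (0, [4, 3, 4], [3]), (0, [4, 2, 4], [2]), (0, [4, 3, 4], [3]),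
  (0, [4, 3, 4], [3]), (0, [4, 2, 4], [2]), (0, [4, 2, 4], [2]), (0, [4, 2, 4], [2]),
  (0, [4, 2, 4], [2]), (0, [4, 2, 4], [2]), (0, [4, 2, 4], [2]), (0, [4, 3, 4], [3]),
  (0, [4, 2, 4], [2]), (0, [4, 2, 4], [2]), (0, [4, 2, 4], [2]), (0, [4, 2, 4], [2]),
  (0, [4, 3, 4], [3]), (0, [4, 2, 4], [2]), (0, [4, 3, 4], [2, 3, 2]), (0, [4, 3, 4], [2, 3, 2]),
  (0, [4, 2, 4], [2]), (0, [4, 3, 4], [3]), (0, [4, 3, 4], [2, 3, 2]), (0, [4, 3, 4], [3]),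
  (0, [4, 3, 4], [2, 3, 2]), (0, [4, 2, 4], [2]), (0, [4, 2, 4], [2]), (0, [3, 4, 3], [4, 3, 4]),
  (0, [3, 4, 3], [4, 3, 4]), (0, [4, 3, 4], [2, 3, 2]), (0, [4, 2, 4], [2]), (0, [4, 2, 4], [2]),
  (0, [4, 2, 4], [2]), (0, [4, 2, 4], [2]), (0, [3, 4, 3], [4, 3, 4]), (0, [3, 4, 3], [4, 3, 4]),
  (0, [4, 3, 4], [3]), (0, [4, 2, 4], [2]), (0, [4, 2, 4], [2]), (0, [4, 3, 4], [2, 3, 2]),
  (0, [4, 2, 4], [2]), (0, [4, 2, 4], [2]), (0, [3, 4, 3], [4, 3, 4]), (0, [4, 2, 4], [2]),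
  (0, [3, 4, 3], [4, 3, 4]), (0, [4, 3, 4], [3]), (0, [4, 2, 4], [2]), (0, [4, 2, 4], [2]),
  (0, [4, 3, 4], [3]), (0, [4, 3, 4], [3]), (0, [4, 2, 4], [2]), (0, [4, 2, 4], [2])]

/-- Some options of a node. -/
def tOpt60x3 : List (ℕ × List ℕ × List ℕ) := [
  (0, [3, 4, 3], [4, 3, 4]), (0, [3, 4, 3], [4, 3, 4]), (0, [3, 4, 3], [4, 3, 4]), (0, [4, 2, 4], [2]),
  (0, [4, 2, 4], [2]), (0, [4, 3, 4], [2, 3, 2]), (0, [4, 2, 4], [2]), (0, [4, 3, 4], [2, 3, 2]),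
  (0, [4, 2, 4], [2]), (0, [3, 4, 3], [4, 3, 4]), (0, [3, 4, 3], [4, 3, 4]), (0, [4, 2, 4], [2]),
  (0, [4, 2, 4], [2]), (0, [4, 2, 4], [2]), (0, [4, 2, 4], [2]), (0, [4, 3, 4], [3]),
  (0, [4, 2, 4], [2]), (0, [4, 2, 4], [2]), (0, [3, 4, 3], [4, 3, 4]), (0, [4, 2, 4], [2]),
  (0, [4, 2, 4], [2]), (0, [3, 4, 3], [4, 3, 4]), (0, [4, 2, 4], [2]), (0, [4, 2, 4], [2]),
  (0, [3, 4, 3], [4, 3, 4]), (0, [4, 2, 4], [2]), (0, [4, 2, 4], [2]), (0, [3, 4, 3], [4, 3, 4]),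
  (0, [3, 4, 3], [4, 3, 4]), (0, [4, 2, 4], [2]), (0, [4, 2, 4], [2]), (0, [4, 2, 4], [2]),
  (0, [4, 2, 4], [2]), (0, [4, 2, 4], [2]), (0, [4, 3, 4], [3]), (0, [3, 4, 3], [4, 3, 4]),
  (0, [3, 4, 3], [4, 3, 4]), (0, [3, 4, 3], [4, 3, 4]), (0, [4, 2, 4], [2]), (0, [3, 4, 3], [4, 3, 4]),
  (0, [4, 2, 4], [2]), (0, [4, 2, 4], [2]), (0, [3, 4, 3], [4, 3, 4]), (0, [3, 4, 3], [4, 3, 4]),
  (0, [4, 2, 4], [2]), (0, [3, 4, 3], [4, 3, 4]), (0, [3, 4, 3], [4, 3, 4]), (0, [4, 2, 4], [2]),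
  (0, [4, 2, 4], [2]), (0, [3, 4, 3], [4, 3, 4]), (0, [4, 2, 4], [2]), (0, [3, 4, 3], [4, 3, 4]),
  (0, [4, 2, 4], [2]), (0, [3, 4, 3], [4, 3, 4]), (0, [4, 2, 4], [2]), (0, [4, 2, 4], [2]),
  (0, [4, 2, 4], [2]), (0, [3, 4, 3], [4, 3, 4]), (0, [4, 2, 4], [2]), (0, [4, 2, 4], [2]),
  (0, [3, 4, 3], [4, 3, 4]), (0, [4, 2, 4], [2]), (0, [4, 3, 4], [2, 3, 2]), (0, [3, 4, 3], [4, 3, 4]),
  (0, [4, 2, 4], [2]), (0, [4, 2, 4], [2]), (0, [3, 4, 3], [4, 3, 4]), (0, [4, 3, 4], [2, 3, 2]),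
  (0, [4, 2, 4], [2]), (0, [4, 2, 4], [2]), (0, [4, 2, 4], [2]), (0, [4, 2, 4], [2]),
  (0, [3, 4, 3], [4, 3, 4]), (0, [4, 3, 4], [2, 3, 2]), (0, [4, 2, 4], [2]), (0, [4, 2, 4], [2]),
  (0, [4, 3, 4], [2, 3, 2])]

/-- A node. -/
def tNode60 : TNode := ⟨[0, 1, 159, 28], [1, 0, 174, 96], 109, tOpt60x0 ++ tOpt60x1 ++ tOpt60x2 ++ tOpt60x3, []⟩

/-- Some options of a node. -/
def tOpt61x0 : List (ℕ × List ℕ × List ℕ) := [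
  (0, [1], [4]), (0, [0], [4]), (0, [4, 3, 4], [3]), (0, [4, 2, 4], [2]),
  (0, [3, 4, 3], [4, 3, 4]), (0, [4, 3, 4], [3]), (0, [4, 2, 4], [2]), (0, [3, 4, 3], [4, 3, 4]),
  (0, [4, 3, 4], [3]), (0, [4, 2, 4], [2]), (0, [4, 2, 4], [2]), (0, [3, 4, 3], [4, 3, 4]),
  (0, [3, 4, 3], [4, 3, 4]), (0, [3, 4, 3], [4, 3, 4]), (0, [4, 2, 4], [2]), (0, [4, 2, 4], [2]),
  (0, [3, 4, 3], [4, 3, 4]), (0, [3, 4, 3], [4, 3, 4]), (0, [3, 4, 3], [4, 3, 4]), (0, [4, 2, 4], [2]),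
  (0, [3, 4, 3], [4, 3, 4]), (0, [3, 4, 3], [4, 3, 4]), (0, [3, 4, 3], [4, 3, 4]), (0, [3, 4, 3], [4, 3, 4]),
  (0, [4, 2, 4], [2]), (0, [3, 4, 3], [4, 3, 4]), (0, [3, 4, 3], [4, 3, 4]), (0, [3, 4, 3], [4, 3, 4]),
  (0, [3, 4, 3], [4, 3, 4]), (0, [3, 4, 3], [4, 3, 4]), (0, [3, 4, 3], [4, 3, 4]), (0, [3, 4, 3], [4, 3, 4]),
  (0, [3, 4, 3], [4, 3, 4]), (0, [3, 4, 3], [4, 3, 4]), (0, [3, 4, 3], [4, 3, 4]), (0, [3, 4, 3], [4, 3, 4]),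
  (0, [3, 4, 3], [4, 3, 4]), (0, [3, 4, 3], [4, 3, 4]), (0, [3, 4, 3], [4, 3, 4]), (0, [4, 2, 4], [2]),
  (0, [3, 4, 3], [4, 3, 4]), (0, [4, 3, 4], [3]), (0, [3, 4, 3], [4, 3, 4]), (0, [3, 4, 3], [4, 3, 4]),
  (0, [3, 4, 3], [4, 3, 4]), (0, [4, 2, 4], [2]), (0, [4, 3, 4], [3]), (0, [3, 4, 3], [4, 3, 4]),
  (0, [3, 4, 3], [4, 3, 4]), (0, [3, 4, 3], [4, 3, 4]), (0, [3, 4, 3], [4, 3, 4]), (0, [4, 2, 4], [2]),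
  (0, [4, 2, 4], [2]), (0, [4, 2, 4], [2]), (0, [4, 3, 4], [2, 3, 2]), (0, [4, 3, 4], [2, 3, 2]),
  (0, [4, 3, 4], [3]), (0, [3, 4, 3], [4, 3, 4]), (0, [4, 2, 4], [2]), (0, [4, 2, 4], [2]),
  (0, [4, 2, 4], [2]), (0, [4, 3, 4], [3]), (0, [3, 4, 3], [4, 3, 4]), (0, [4, 3, 4], [2, 3, 2]),
  (0, [4, 3, 4], [2, 3, 2]), (0, [4, 2, 4], [2]), (0, [4, 2, 4], [2]), (0, [4, 2, 4], [2]),
  (0, [4, 2, 4], [2]), (0, [4, 2, 4], [2]), (0, [3, 4, 3], [4, 3, 4]), (0, [4, 3, 4], [3]),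
  (0, [4, 3, 4], [3]), (0, [4, 2, 4], [2]), (0, [4, 2, 4], [2]), (0, [4, 2, 4], [2]),
  (0, [4, 3, 4], [3]), (0, [4, 3, 4], [3]), (0, [3, 4, 3], [4, 3, 4]), (0, [4, 2, 4], [2])]

/-- Some options of a node. -/
def tOpt61x1 : List (ℕ × List ℕ × List ℕ) := [
  (0, [4, 2, 4], [2]), (0, [4, 3, 4], [3]), (0, [4, 2, 4], [2]), (0, [4, 2, 4], [2]),
  (0, [4, 2, 4], [2]), (0, [4, 2, 4], [2]), (0, [3, 4, 3], [4, 3, 4]), (0, [4, 3, 4], [3]),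
  (0, [4, 2, 4], [2]), (0, [4, 3, 4], [3]), (0, [4, 2, 4], [2]), (0, [4, 3, 4], [3]),
  (0, [3, 4, 3], [4, 3, 4]), (0, [4, 2, 4], [2]), (0, [4, 2, 4], [2]), (0, [4, 3, 4], [3]),
  (0, [4, 2, 4], [2]), (0, [4, 2, 4], [2]), (0, [4, 2, 4], [2]), (0, [4, 2, 4], [2]),
  (0, [4, 3, 4], [3]), (0, [4, 2, 4], [2]), (0, [4, 2, 4], [2]), (0, [4, 3, 4], [3]),
  (0, [4, 3, 4], [3]), (0, [4, 2, 4], [2]), (0, [4, 2, 4], [2]), (0, [4, 2, 4], [2]),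
  (0, [4, 2, 4], [2]), (0, [4, 2, 4], [2]), (0, [4, 2, 4], [2]), (0, [4, 2, 4], [2]),
  (0, [4, 2, 4], [2]), (0, [4, 2, 4], [2]), (0, [4, 2, 4], [2]), (0, [4, 2, 4], [2]),
  (0, [4, 3, 4], [3]), (0, [4, 3, 4], [3]), (0, [4, 3, 4], [3]), (0, [4, 2, 4], [2]),
  (0, [4, 2, 4], [2]), (0, [4, 2, 4], [2]), (0, [4, 3, 4], [3]), (0, [4, 3, 4], [3]),
  (0, [4, 2, 4], [2]), (0, [4, 3, 4], [3]), (0, [4, 2, 4], [2]), (0, [4, 2, 4], [2]),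
  (0, [3, 4, 3], [4, 3, 4]), (0, [4, 2, 4], [2]), (0, [4, 2, 4], [2]), (0, [4, 3, 4], [3]),
  (0, [4, 2, 4], [2]), (0, [4, 2, 4], [2]), (0, [4, 2, 4], [2]), (0, [4, 2, 4], [2]),
  (0, [4, 2, 4], [2]), (0, [4, 2, 4], [2]), (0, [3, 4, 3], [4, 3, 4]), (0, [4, 3, 4], [3]),
  (0, [4, 2, 4], [2]), (0, [4, 2, 4], [2]), (0, [3, 4, 3], [4, 3, 4]), (0, [4, 2, 4], [2]),
  (0, [4, 2, 4], [2]), (0, [4, 2, 4], [2]), (0, [4, 2, 4], [2]), (0, [4, 2, 4], [2]),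
  (0, [4, 2, 4], [2]), (0, [4, 2, 4], [2]), (0, [4, 2, 4], [2]), (0, [4, 2, 4], [2]),
  (0, [3, 4, 3], [4, 3, 4]), (0, [4, 2, 4], [2]), (0, [4, 2, 4], [2]), (0, [4, 2, 4], [2]),
  (0, [4, 2, 4], [2]), (0, [4, 2, 4], [2]), (0, [4, 2, 4], [2]), (0, [4, 2, 4], [2])]

/-- Some options of a node. -/
def tOpt61x2 : List (ℕ × List ℕ × List ℕ) := [
  (0, [4, 2, 4], [2]), (0, [4, 3, 4], [3]), (0, [4, 3, 4], [3]), (0, [3, 4, 3], [4, 3, 4]),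
  (0, [4, 3, 4], [3]), (0, [4, 3, 4], [3]), (0, [3, 4, 3], [4, 3, 4]), (0, [3, 4, 3], [4, 3, 4]),
  (0, [4, 2, 4], [2]), (0, [4, 2, 4], [2]), (0, [3, 4, 3], [4, 3, 4]), (0, [4, 2, 4], [2]),
  (0, [4, 2, 4], [2]), (0, [4, 3, 4], [3]), (0, [2], [4]), (0, [3, 2, 3], [4]),
  (0, [3, 4, 3], [4, 3, 4]), (0, [3, 4, 3], [4, 3, 4]), (0, [3, 4, 3], [4, 3, 4]), (0, [4, 3, 4], [3]),
  (0, [3, 4, 3], [4, 3, 4]), (0, [3, 4, 3], [4, 3, 4]), (0, [4, 3, 4], [2, 3, 2]), (0, [3, 4, 3], [4, 3, 4]),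
  (0, [3], [4]), (0, [4, 3, 4], [3]), (0, [3, 4, 3], [4, 3, 4]), (0, [4, 3, 4], [2, 3, 2]),
  (0, [3, 4, 3], [4, 3, 4]), (0, [4, 3, 4], [3]), (0, [4, 2, 4], [2]), (0, [4, 3, 4], [3]),
  (0, [4, 3, 4], [3]), (0, [4, 2, 4], [2]), (0, [4, 2, 4], [2]), (0, [4, 2, 4], [2]),
  (0, [4, 2, 4], [2]), (0, [4, 2, 4], [2]), (0, [4, 2, 4], [2]), (0, [4, 3, 4], [3]),
  (0, [4, 2, 4], [2]), (0, [4, 2, 4], [2]), (0, [4, 2, 4], [2]), (0, [4, 2, 4], [2]),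
  (0, [4, 3, 4], [3]), (0, [4, 2, 4], [2]), (0, [4, 3, 4], [2, 3, 2]), (0, [3, 4, 3], [4, 3, 4]),
  (0, [4, 2, 4], [2]), (0, [3, 4, 3], [4, 3, 4]), (0, [3, 4, 3], [4, 3, 4]), (0, [3, 4, 3], [4, 3, 4]),
  (0, [4, 3, 4], [2, 3, 2]), (0, [4, 2, 4], [2]), (0, [4, 2, 4], [2]), (0, [4, 3, 4], [3]),
  (0, [3, 4, 3], [4, 3, 4]), (0, [3, 4, 3], [4, 3, 4]), (0, [4, 2, 4], [2]), (0, [4, 2, 4], [2]),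
  (0, [4, 2, 4], [2]), (0, [4, 2, 4], [2]), (0, [4, 3, 4], [3]), (0, [3, 4, 3], [4, 3, 4]),
  (0, [3, 4, 3], [4, 3, 4]), (0, [4, 2, 4], [2]), (0, [4, 2, 4], [2]), (0, [3, 4, 3], [4, 3, 4]),
  (0, [4, 2, 4], [2]), (0, [4, 2, 4], [2]), (0, [3, 4, 3], [4, 3, 4]), (0, [4, 2, 4], [2]),
  (0, [3, 4, 3], [4, 3, 4]), (0, [3, 4, 3], [4, 3, 4]), (0, [4, 2, 4], [2]), (0, [4, 2, 4], [2]),
  (0, [3, 4, 3], [4, 3, 4]), (0, [3, 4, 3], [4, 3, 4]), (0, [4, 2, 4], [2]), (0, [4, 2, 4], [2])]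

/-- Some options of a node. -/
def tOpt61x3 : List (ℕ × List ℕ × List ℕ) := [
  (0, [4, 3, 4], [3]), (0, [4, 3, 4], [2, 3, 2]), (0, [3, 4, 3], [4, 3, 4]), (0, [4, 2, 4], [2]),
  (0, [4, 2, 4], [2]), (0, [4, 3, 4], [2, 3, 2]), (0, [4, 2, 4], [2]), (0, [4, 3, 4], [2, 3, 2]),
  (0, [4, 2, 4], [2]), (0, [4, 3, 4], [2, 3, 2]), (0, [3, 4, 3], [4, 3, 4]), (0, [4, 2, 4], [2]),
  (0, [4, 2, 4], [2]), (0, [4, 2, 4], [2]), (0, [4, 2, 4], [2]), (0, [3, 4, 3], [4, 3, 4]),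
  (0, [4, 2, 4], [2]), (0, [4, 2, 4], [2]), (0, [4, 3, 4], [2, 3, 2]), (0, [4, 2, 4], [2]),
  (0, [4, 2, 4], [2]), (0, [4, 3, 4], [3]), (0, [4, 2, 4], [2]), (0, [4, 2, 4], [2]),
  (0, [3, 4, 3], [4, 3, 4]), (0, [4, 2, 4], [2]), (0, [4, 2, 4], [2]), (0, [4, 3, 4], [3]),
  (0, [3, 4, 3], [4, 3, 4]), (0, [4, 2, 4], [2]), (0, [4, 2, 4], [2]), (0, [4, 2, 4], [2]),
  (0, [4, 2, 4], [2]), (0, [4, 2, 4], [2]), (0, [3, 4, 3], [4, 3, 4]), (0, [4, 3, 4], [3]),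
  (0, [3, 4, 3], [4, 3, 4]), (0, [3, 4, 3], [4, 3, 4]), (0, [4, 2, 4], [2]), (0, [4, 3, 4], [2, 3, 2]),
  (0, [4, 2, 4], [2]), (0, [4, 2, 4], [2]), (0, [4, 3, 4], [3]), (0, [4, 3, 4], [2, 3, 2]),
  (0, [4, 2, 4], [2]), (0, [3, 4, 3], [4, 3, 4]), (0, [4, 3, 4], [2, 3, 2]), (0, [4, 2, 4], [2]),
  (0, [4, 2, 4], [2]), (0, [3, 4, 3], [4, 3, 4]), (0, [4, 2, 4], [2]), (0, [4, 3, 4], [2, 3, 2]),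
  (0, [4, 2, 4], [2]), (0, [4, 3, 4], [3]), (0, [4, 2, 4], [2]), (0, [4, 2, 4], [2]),
  (0, [4, 2, 4], [2]), (0, [3, 4, 3], [4, 3, 4]), (0, [4, 2, 4], [2]), (0, [4, 2, 4], [2]),
  (0, [4, 3, 4], [2, 3, 2]), (0, [4, 2, 4], [2]), (0, [3, 4, 3], [4, 3, 4]), (0, [3, 4, 3], [4, 3, 4]),
  (0, [4, 2, 4], [2]), (0, [4, 2, 4], [2]), (0, [3, 4, 3], [4, 3, 4]), (0, [3, 4, 3], [4, 3, 4]),
  (0, [4, 2, 4], [2]), (0, [4, 2, 4], [2]), (0, [4, 2, 4], [2]), (0, [4, 2, 4], [2]),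
  (0, [3, 4, 3], [4, 3, 4]), (0, [3, 4, 3], [4, 3, 4]), (0, [4, 2, 4], [2]), (0, [4, 2, 4], [2]),
  (0, [3, 4, 3], [4, 3, 4])]

/-- A node. -/
def tNode61 : TNode := ⟨[0, 1, 159, 28], [1, 0, 174, 184], 114, tOpt61x0 ++ tOpt61x1 ++ tOpt61x2 ++ tOpt61x3, []⟩

/-- Some options of a node. -/
def tOpt62x0 : List (ℕ × List ℕ × List ℕ) := [
  (0, [1], [4]), (0, [0], [4]), (0, [4, 2, 4], [2]), (0, [3, 4, 2, 4, 3], [4, 2, 4]),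
  (0, [4, 2, 4], [2]), (0, [4, 2, 4], [2]), (0, [3, 4, 2, 4, 3], [4, 3, 2, 3, 4]), (0, [4, 2, 4], [2]),
  (0, [4, 2, 4], [2]), (0, [3, 4, 2, 4, 3], [4, 2, 4]), (0, [3, 4, 2, 4, 3], [4, 2, 4]), (0, [4, 2, 4], [2]),
  (0, [4, 2, 4], [2]), (0, [4, 2, 4], [2]), (0, [3, 4, 2, 4, 3], [4, 3, 2, 3, 4]), (0, [3, 4, 2, 4, 3], [4, 3, 2, 3, 4]),
  (0, [4, 2, 4], [2]), (0, [4, 2, 4], [2]), (0, [4, 2, 4], [2]), (0, [3, 4, 2, 4, 3], [4, 2, 4]),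
  (0, [4, 2, 4], [2]), (0, [4, 2, 4], [2]), (0, [4, 2, 4], [2]), (0, [4, 2, 4], [2]),
  (0, [3, 4, 2, 4, 3], [4, 3, 2, 3, 4]), (0, [4, 2, 4], [2]), (0, [4, 2, 4], [2]), (0, [4, 2, 4], [2]),
  (0, [4, 2, 4], [2]), (0, [4, 2, 4], [2]), (0, [4, 2, 4], [2]), (0, [4, 2, 4], [2]),
  (0, [4, 2, 4], [2]), (0, [4, 2, 4], [2]), (0, [4, 2, 4], [2]), (0, [4, 2, 4], [2]),
  (0, [4, 2, 4], [2]), (0, [4, 2, 4], [2]), (0, [4, 2, 4], [2]), (0, [4, 3, 4], [3]),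
  (0, [4, 2, 4], [2]), (0, [4, 2, 4], [2]), (0, [4, 2, 4], [2]), (0, [4, 2, 4], [2]),
  (0, [4, 2, 4], [2]), (0, [3, 4, 2, 4, 3], [4, 2, 4]), (0, [4, 2, 4], [2]), (0, [4, 2, 4], [2]),
  (0, [4, 2, 4], [2]), (0, [4, 2, 4], [2]), (0, [4, 2, 4], [2]), (0, [4, 3, 4], [3]),
  (0, [3, 4, 2, 4, 3], [4, 3, 2, 3, 4]), (0, [4, 3, 4], [3]), (0, [4, 2, 4], [2]), (0, [4, 2, 4], [2]),
  (0, [4, 2, 4], [2]), (0, [4, 2, 4], [2]), (0, [3, 4, 2, 4, 3], [4, 2, 4]), (0, [3, 4, 2, 4, 3], [4, 2, 4]),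
  (0, [3, 4, 2, 4, 3], [4, 2, 4]), (0, [4, 2, 4], [2]), (0, [4, 2, 4], [2]), (0, [4, 2, 4], [2]),
  (0, [4, 2, 4], [2]), (0, [3, 4, 2, 4, 3], [4, 3, 2, 3, 4]), (0, [3, 4, 2, 4, 3], [4, 3, 2, 3, 4]), (0, [4, 3, 4], [3]),
  (0, [3, 4, 2, 4, 3], [4, 2, 4]), (0, [3, 4, 2, 4, 3], [4, 3, 2, 3, 4]), (0, [4, 2, 4], [2]), (0, [4, 2, 4], [2]),
  (0, [4, 2, 4], [2]), (0, [3, 4, 2, 4, 3], [4, 2, 4]), (0, [3, 4, 2, 4, 3], [4, 2, 4]), (0, [3, 4, 2, 4, 3], [4, 2, 4]),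
  (0, [4, 2, 4], [2]), (0, [4, 2, 4], [2]), (0, [4, 2, 4], [2]), (0, [3, 4, 2, 4, 3], [4, 3, 2, 3, 4])]

/-- Some options of a node. -/
def tOpt62x1 : List (ℕ × List ℕ × List ℕ) := [
  (0, [3, 4, 2, 4, 3], [4, 2, 4]), (0, [4, 2, 4], [2]), (0, [3, 4, 2, 4, 3], [4, 2, 4]), (0, [3, 4, 2, 4, 3], [4, 2, 4]),
  (0, [3, 4, 2, 4, 3], [4, 3, 2, 3, 4]), (0, [3, 4, 2, 4, 3], [4, 3, 2, 3, 4]), (0, [4, 2, 4], [2]), (0, [4, 2, 4], [2]),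
  (0, [3, 4, 2, 4, 3], [4, 2, 4]), (0, [4, 2, 4], [2]), (0, [3, 4, 2, 4, 3], [4, 2, 4]), (0, [4, 2, 4], [2]),
  (0, [4, 2, 4], [2]), (0, [3, 4, 2, 4, 3], [4, 2, 4]), (0, [3, 4, 2, 4, 3], [4, 2, 4]), (0, [4, 2, 4], [2]),
  (0, [3, 4, 2, 4, 3], [4, 2, 4]), (0, [4, 3, 4], [3]), (0, [3, 4, 2, 4, 3], [4, 3, 2, 3, 4]), (0, [4, 3, 4], [3]),
  (0, [4, 2, 4], [2]), (0, [3, 4, 2, 4, 3], [4, 2, 4]), (0, [3, 4, 2, 4, 3], [4, 2, 4]), (0, [4, 2, 4], [2]),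
  (0, [4, 2, 4], [2]), (0, [4, 3, 4], [3]), (0, [4, 2, 4], [3, 2, 3]), (0, [4, 2, 4], [3, 2, 3]),
  (0, [3, 4, 2, 4, 3], [4, 2, 4]), (0, [3, 4, 2, 4, 3], [4, 2, 4]), (0, [4, 3, 4], [3]), (0, [3, 4, 2, 4, 3], [4, 2, 4]),
  (0, [4, 2, 4], [3, 2, 3]), (0, [4, 2, 4], [3, 2, 3]), (0, [4, 3, 4], [3]), (0, [3, 4, 2, 4, 3], [4, 2, 4]),
  (0, [4, 2, 4], [2]), (0, [4, 2, 4], [2]), (0, [4, 2, 4], [2]), (0, [3, 4, 2, 4, 3], [4, 2, 4]),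
  (0, [3, 4, 2, 4, 3], [4, 2, 4]), (0, [4, 3, 4], [3]), (0, [4, 2, 4], [2]), (0, [4, 2, 4], [2]),
  (0, [4, 3, 4], [3]), (0, [4, 2, 4], [2]), (0, [4, 3, 4], [3]), (0, [3, 4, 2, 4, 3], [4, 2, 4]),
  (0, [4, 2, 4], [2]), (0, [4, 3, 4], [3]), (0, [3, 4, 2, 4, 3], [4, 2, 4]), (0, [4, 2, 4], [2]),
  (0, [3, 4, 2, 4, 3], [4, 2, 4]), (0, [3, 4, 2, 4, 3], [4, 3, 2, 3, 4]), (0, [3, 4, 2, 4, 3], [4, 2, 4]), (0, [4, 3, 4], [3]),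
  (0, [3, 4, 2, 4, 3], [4, 2, 4]), (0, [4, 3, 4], [3]), (0, [4, 2, 4], [2]), (0, [4, 2, 4], [2]),
  (0, [3, 4, 2, 4, 3], [4, 3, 2, 3, 4]), (0, [3, 4, 2, 4, 3], [4, 3, 2, 3, 4]), (0, [4, 2, 4], [2]), (0, [4, 3, 4], [3]),
  (0, [3, 4, 2, 4, 3], [4, 2, 4]), (0, [3, 4, 2, 4, 3], [4, 2, 4]), (0, [3, 4, 2, 4, 3], [4, 2, 4]), (0, [3, 4, 2, 4, 3], [4, 2, 4]),
  (0, [3, 4, 2, 4, 3], [4, 2, 4]), (0, [3, 4, 2, 4, 3], [4, 2, 4]), (0, [3, 4, 2, 4, 3], [4, 2, 4]), (0, [3, 4, 2, 4, 3], [4, 3, 2, 3, 4]),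
  (0, [4, 2, 4], [2]), (0, [4, 2, 4], [3, 2, 3]), (0, [3, 4, 2, 4, 3], [4, 2, 4]), (0, [3, 4, 2, 4, 3], [4, 2, 4]),
  (0, [3, 4, 2, 4, 3], [4, 2, 4]), (0, [3, 4, 2, 4, 3], [4, 2, 4]), (0, [4, 2, 4], [3, 2, 3]), (0, [4, 2, 4], [3, 2, 3])]

/-- Some options of a node. -/
def tOpt62x2 : List (ℕ × List ℕ × List ℕ) := [
  (0, [4, 2, 4], [3, 2, 3]), (0, [4, 2, 4], [2]), (0, [4, 2, 4], [2]), (0, [4, 2, 4], [2]),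
  (0, [4, 2, 4], [2]), (0, [4, 2, 4], [2]), (0, [4, 2, 4], [2]), (0, [4, 2, 4], [2]),
  (0, [3, 4, 2, 4, 3], [4, 2, 4]), (0, [3, 4, 2, 4, 3], [4, 2, 4]), (0, [4, 2, 4], [2]), (0, [3, 4, 2, 4, 3], [4, 2, 4]),
  (0, [3, 4, 2, 4, 3], [4, 2, 4]), (0, [4, 2, 4], [2]), (0, [2], [4]), (0, [3, 2, 3], [4]),
  (0, [4, 2, 4], [2]), (0, [4, 2, 4], [2]), (0, [4, 2, 4], [2]), (0, [4, 2, 4], [2]),
  (0, [4, 2, 4], [2]), (0, [4, 2, 4], [2]), (0, [4, 2, 4], [2]), (0, [4, 2, 4], [2]),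
  (0, [4, 2, 4], [3, 2, 3]), (0, [4, 2, 4], [2]), (0, [4, 2, 4], [2]), (0, [4, 2, 4], [2]),
  (0, [4, 2, 4], [2]), (0, [4, 2, 4], [2]), (0, [4, 2, 4], [3, 2, 3]), (0, [4, 2, 4], [2]),
  (0, [4, 2, 4], [2]), (0, [3, 4, 2, 4, 3], [4, 2, 4]), (0, [3, 4, 2, 4, 3], [4, 2, 4]), (0, [4, 2, 4], [3, 2, 3]),
  (0, [3, 4, 2, 4, 3], [4, 2, 4]), (0, [3, 4, 2, 4, 3], [4, 2, 4]), (0, [3, 4, 2, 4, 3], [4, 2, 4]), (0, [4, 2, 4], [2]),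
  (0, [3, 4, 2, 4, 3], [4, 2, 4]), (0, [4, 2, 4], [3, 2, 3]), (0, [4, 2, 4], [3, 2, 3]), (0, [3, 4, 2, 4, 3], [4, 2, 4]),
  (0, [4, 2, 4], [2]), (0, [3, 4, 2, 4, 3], [4, 2, 4]), (0, [4, 2, 4], [2]), (0, [4, 2, 4], [2]),
  (0, [4, 2, 4], [3, 2, 3]), (0, [4, 2, 4], [2]), (0, [4, 2, 4], [2]), (0, [4, 2, 4], [2]),
  (0, [4, 2, 4], [2]), (0, [3, 4, 2, 4, 3], [4, 2, 4]), (0, [3], [4]), (0, [4, 2, 4], [2]),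
  (0, [4, 2, 4], [2]), (0, [4, 2, 4], [2]), (0, [3, 4, 3], [4, 3, 4]), (0, [3, 4, 3], [4, 3, 4]),
  (0, [4, 2, 4], [3, 2, 3]), (0, [4, 2, 4], [3, 2, 3]), (0, [4, 2, 4], [2]), (0, [4, 2, 4], [2]),
  (0, [4, 2, 4], [2]), (0, [3, 4, 3], [4, 3, 4]), (0, [3, 4, 3], [4, 3, 4]), (0, [4, 2, 4], [2]),
  (0, [3, 4, 3], [4, 3, 4]), (0, [3, 4, 3], [4, 3, 4]), (0, [4, 2, 4], [2]), (0, [3, 4, 2, 4, 3], [4, 2, 4]),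
  (0, [4, 2, 4], [2]), (0, [4, 2, 4], [2]), (0, [3, 4, 3], [4, 3, 4]), (0, [3, 4, 3], [4, 3, 4]),
  (0, [4, 2, 4], [2]), (0, [4, 2, 4], [2]), (0, [3, 4, 2, 4, 3], [4, 2, 4]), (0, [3, 4, 2, 4, 3], [4, 2, 4])]

/-- Some options of a node. -/
def tOpt62x3 : List (ℕ × List ℕ × List ℕ) := [
  (0, [4, 2, 4], [2]), (0, [4, 2, 4], [2]), (0, [4, 2, 4], [2]), (0, [3, 4, 3], [4, 3, 4]),
  (0, [3, 4, 3], [4, 3, 4]), (0, [4, 2, 4], [2]), (0, [4, 2, 4], [3, 2, 3]), (0, [4, 2, 4], [2]),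
  (0, [4, 2, 4], [3, 2, 3]), (0, [4, 2, 4], [2]), (0, [4, 2, 4], [2]), (0, [3, 4, 3], [4, 3, 4]),
  (0, [3, 4, 3], [4, 3, 4]), (0, [3, 4, 3], [4, 3, 4]), (0, [3, 4, 3], [4, 3, 4]), (0, [4, 2, 4], [2]),
  (0, [4, 2, 4], [3, 2, 3]), (0, [4, 2, 4], [3, 2, 3]), (0, [4, 2, 4], [2]), (0, [4, 2, 4], [3, 2, 3]),
  (0, [3, 4, 3], [4, 3, 4]), (0, [4, 2, 4], [2]), (0, [4, 2, 4], [3, 2, 3]), (0, [3, 4, 2, 4, 3], [4, 2, 4]),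
  (0, [4, 2, 4], [2]), (0, [3, 4, 3], [4, 3, 4]), (0, [3, 4, 2, 4, 3], [4, 2, 4]), (0, [4, 2, 4], [2]),
  (0, [4, 2, 4], [2]), (0, [3, 4, 3], [4, 3, 4]), (0, [3, 4, 3], [4, 3, 4]), (0, [4, 2, 4], [3, 2, 3]),
  (0, [3, 4, 3], [4, 3, 4]), (0, [3, 4, 3], [4, 3, 4]), (0, [4, 2, 4], [2]), (0, [4, 2, 4], [2]),
  (0, [4, 2, 4], [2]), (0, [4, 2, 4], [2]), (0, [4, 2, 4], [3, 2, 3]), (0, [4, 2, 4], [2]),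
  (0, [3, 4, 2, 4, 3], [4, 2, 4]), (0, [3, 4, 2, 4, 3], [4, 2, 4]), (0, [4, 2, 4], [2]), (0, [4, 2, 4], [2]),
  (0, [4, 2, 4], [3, 2, 3]), (0, [4, 2, 4], [2]), (0, [4, 2, 4], [2]), (0, [3, 4, 3], [4, 3, 4]),
  (0, [3, 4, 3], [4, 3, 4]), (0, [4, 2, 4], [2]), (0, [4, 2, 4], [3, 2, 3]), (0, [4, 2, 4], [2]),
  (0, [4, 2, 4], [3, 2, 3]), (0, [4, 2, 4], [2]), (0, [4, 2, 4], [3, 2, 3]), (0, [3, 4, 3], [4, 3, 4]),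
  (0, [3, 4, 3], [4, 3, 4]), (0, [4, 2, 4], [2]), (0, [4, 2, 4], [3, 2, 3]), (0, [4, 2, 4], [3, 2, 3]),
  (0, [4, 2, 4], [2]), (0, [4, 2, 4], [3, 2, 3]), (0, [4, 2, 4], [2]), (0, [4, 2, 4], [2]),
  (0, [3, 4, 3], [4, 3, 4]), (0, [3, 4, 3], [4, 3, 4]), (0, [4, 2, 4], [2]), (0, [4, 2, 4], [2]),
  (0, [3, 4, 3], [4, 3, 4]), (0, [3, 4, 3], [4, 3, 4]), (0, [3, 4, 3], [4, 3, 4]), (0, [3, 4, 3], [4, 3, 4]),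
  (0, [4, 2, 4], [2]), (0, [4, 2, 4], [2]), (0, [3, 4, 3], [4, 3, 4]), (0, [3, 4, 3], [4, 3, 4]),
  (0, [4, 2, 4], [2])]

/-- A node. -/
def tNode62 : TNode := ⟨[0, 1, 159, 28], [1, 0, 174, 214], 230, tOpt62x0 ++ tOpt62x1 ++ tOpt62x2 ++ tOpt62x3, []⟩

/-- Some options of a node. -/
def tOpt63x0 : List (ℕ × List ℕ × List ℕ) := [
  (0, [1], [3]), (0, [0], [3]), (0, [3, 2, 3], [2]), (1, [], []),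
  (1, [20, 21, 16, 19, 20, 19, 16], []), (2, [], []), (1, [17, 16, 19, 20, 18, 16, 19, 17, 16, 22], []), (1, [18, 17, 19, 16, 18, 21, 20, 17, 16], []),
  (2, [19], []), (3, [], []), (3, [16, 19, 17, 16, 19, 16], []), (3, [20, 21, 16, 19, 20, 19, 16], []),
  (3, [19, 18, 16, 18, 21, 20, 16, 18, 17, 22, 23], []), (3, [20, 16, 19, 17, 21, 20, 16, 19, 16, 22, 23], []), (3, [19], []), (3, [16, 19, 17, 19, 16], []),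
  (3, [20, 19, 17, 21, 17, 20, 17, 23], []), (3, [20, 16, 19, 21, 17, 20, 17, 19, 16, 22], []), (3, [18, 19, 16, 18, 21, 16, 19, 20, 18, 17, 22, 23], []), (1, [17, 16, 19, 20, 17, 20, 16, 19, 17, 16, 22], []),
  (1, [17, 20, 18, 19, 21, 18, 16, 19, 17, 19, 20, 16], []), (4, [], []), (1, [17, 16, 19, 18, 17, 21, 20, 16, 19, 17, 16, 22], []), (1, [16, 18, 21, 19, 17, 20, 18, 16, 18, 19, 16], []),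
  (1, [16, 19, 17, 19, 16], []), (1, [20, 16, 19, 21, 17, 20, 17, 19, 16, 22], []), (1, [18, 19, 16, 18, 21, 16, 19, 20, 18, 17, 22, 23], []), (1, [21, 20, 16, 19, 17, 19, 16, 18, 21, 17], []),
  (0, [3, 2, 3], [2]), (0, [3, 2, 3], [2]), (0, [3, 2, 3], [2]), (3, [21, 20, 19, 18, 16, 19, 17, 21, 19, 17, 16, 22], []),
  (0, [3, 2, 3], [2]), (4, [16, 18, 16, 19, 16, 18, 16, 22], []), (3, [21, 20, 16, 19, 17, 19, 16, 18, 21, 17], []), (0, [3, 2, 3], [2]),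
  (4, [16, 19, 17, 19, 16], []), (0, [3, 2, 3], [2]), (4, [19], []), (0, [3, 2, 3], [2]),
  (5, [], []), (0, [3, 2, 3], [2]), (4, [16, 19, 18, 21, 18, 19, 16, 18, 17], []), (0, [3, 2, 3], [2]),
  (0, [3, 2, 3], [2]), (0, [3, 2, 3], [2]), (0, [3, 2, 3], [2]), (4, [16, 18, 21, 19, 17, 16, 19, 18, 16], []),
  (5, [16, 19, 17, 19, 16], []), (0, [3, 2, 3], [2]), (4, [18, 16, 19, 18, 19, 18, 16], []), (4, [17, 16, 19, 18, 21, 20, 19, 17, 16, 22, 23], []),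
  (4, [20, 21, 18, 19, 21, 16, 18, 17, 16, 22], []), (4, [17, 16, 19, 18, 17, 21, 20, 16, 19, 17, 16, 22], []), (6, [], []), (6, [19, 18, 16, 18, 21, 18, 16, 19, 17, 22, 23], []),
  (6, [18, 19, 16, 18, 17, 21, 18, 16, 18, 17, 23], []), (4, [16, 19, 17, 16, 19, 16], []), (4, [18, 17, 19, 16, 18, 21, 20, 17, 16], []), (4, [16, 18, 17, 21, 17, 20, 17, 16], []),
  (4, [19, 20, 16, 18, 16, 19], []), (6, [19], []), (0, [3, 2, 3], [2]), (6, [20, 19, 21, 18, 17, 21, 20, 19, 17, 23], []),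
  (6, [16, 19, 18, 21, 18, 19, 16, 18, 17], []), (0, [3, 2, 3], [2]), (3, [16, 19, 20, 17, 21, 19, 18, 16], []), (0, [3, 2, 3], [2]),
  (0, [3, 2, 3], [2]), (0, [3, 2, 3], [2]), (5, [18, 16, 19, 18, 19, 18, 16], []), (5, [18, 19, 16, 18, 17, 21, 18, 16, 18, 17, 23], []),
  (5, [16, 18, 16, 19, 16, 18, 16, 22], []), (0, [3, 2, 3], [2]), (0, [3, 2, 3], [2]), (1, [17, 20, 17, 21, 16, 18, 17, 16], []),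
  (5, [19], []), (5, [16, 18, 21, 19, 17, 16, 19, 18, 16], []), (5, [16, 19, 18, 21, 18, 19, 16, 18, 17], []), (1, [16, 19, 20, 17, 21, 19, 18, 16], [])]

/-- Some options of a node. -/
def tOpt63x1 : List (ℕ × List ℕ × List ℕ) := [
  (4, [18, 16, 18, 17, 16, 19, 17, 21, 17, 20, 23], []), (0, [3, 2, 3], [2]), (1, [16, 19, 18, 21, 18, 19, 16, 18, 17], []), (3, [16, 18, 17, 21, 18, 16, 18, 17, 19, 17, 23], []),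
  (4, [21, 18, 21, 16, 19, 17, 20, 18, 19, 17, 16, 22, 23], []), (1, [18, 17, 19, 20, 17, 21, 16, 18, 16], []), (0, [3, 2, 3], [2]), (6, [21, 18, 17, 21, 17, 19, 16, 18, 21, 18, 17, 16], []),
  (3, [17, 20, 17, 21, 16, 18, 17, 16], []), (0, [3, 2, 3], [2]), (3, [18, 19, 16, 18, 17, 21, 18, 16, 18, 17, 23], []), (6, [16, 18, 21, 19, 17, 16, 19, 18, 16], []),
  (0, [3, 2, 3], [2]), (3, [16, 19, 18, 21, 18, 19, 16, 18, 17], []), (1, [20, 17, 16, 19, 21, 16, 18, 17, 19, 16, 22], []), (5, [17, 16, 19, 18, 21, 20, 19, 17, 16, 22, 23], []),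
  (7, [], []), (1, [20, 21, 18, 16, 18, 16, 19, 18], []), (3, [16, 18, 21, 19, 17, 16, 19, 18, 16], []), (3, [17, 20, 18, 21, 18, 16, 18, 16, 22, 23], []),
  (7, [17, 20, 17, 21, 16, 18, 17, 16], []), (7, [19], []), (1, [17, 20, 21, 17, 19, 18, 16, 18, 16], []), (5, [16, 18, 17, 21, 17, 20, 17, 16], []),
  (7, [19, 20, 16, 18, 16, 19], []), (3, [19, 20, 16, 19, 21, 18, 19, 16, 18, 22, 23], []), (6, [19, 20, 16, 18, 16, 19], []), (6, [18, 16, 19, 20, 16, 18, 16, 19, 16, 22], []),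
  (6, [16, 18, 21, 19, 17, 20, 18, 16, 18, 19, 16], []), (3, [20, 21, 19, 18, 17, 21, 20, 17], []), (1, [17, 20, 18, 21, 18, 16, 18, 16, 22, 23], []), (6, [20, 21, 18, 19, 21, 16, 18, 17, 16, 22], []),
  (6, [19, 18, 16, 19, 20, 16, 18, 19, 16, 22], []), (6, [16, 18, 17, 21, 17, 20, 17, 16], []), (3, [20, 21, 18, 17, 21, 19, 20, 19, 17], []), (1, [20, 21, 18, 19, 21, 16, 18, 17, 16, 22], []),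
  (5, [21, 18, 21, 16, 19, 17, 20, 18, 19, 17, 16, 22, 23], []), (5, [17, 16, 19, 18, 17, 21, 20, 16, 19, 17, 16, 22], []), (5, [18, 16, 18, 17, 16, 19, 17, 21, 17, 20, 23], []), (4, [20, 21, 16, 19, 20, 19, 16], []),
  (1, [21, 18, 21, 16, 19, 17, 20, 18, 19, 17, 16, 22, 23], []), (1, [21, 16, 19, 18, 16, 18, 17, 21, 19, 16], []), (5, [18, 17, 19, 16, 18, 21, 20, 17, 16], []), (5, [20, 21, 18, 19, 21, 16, 18, 17, 16, 22], []),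
  (1, [20, 21, 18, 17, 21, 19, 20, 19, 17], []), (5, [19, 20, 16, 18, 16, 19], []), (0, [3, 2, 3], [2]), (0, [3, 2, 3], [2]),
  (0, [3, 2, 3], [2]), (3, [21, 18, 21, 17, 20, 16, 18, 19, 17, 16, 19, 16, 22, 23], []), (3, [21, 18, 21, 16, 19, 17, 20, 18, 19, 17, 16, 22, 23], []), (0, [3, 2, 3], [2]),
  (6, [18, 16, 19, 20, 16, 18, 19, 16, 22], []), (0, [3, 2, 3], [2]), (0, [3, 2, 3], [2]), (4, [17, 20, 18, 19, 21, 18, 16, 19, 17, 19, 20, 16], []),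
  (6, [18, 17, 19, 16, 18, 21, 20, 17, 16], []), (4, [20, 21, 16, 19, 20, 17, 19, 16], []), (0, [3, 2, 3], [2]), (0, [3, 2, 3], [2]),
  (4, [20, 19, 17, 21, 17, 20, 17, 23], []), (4, [20, 18, 21, 17, 20], []), (5, [20, 21, 16, 19, 20, 19, 16], []), (0, [3, 2, 3], [2]),
  (4, [19, 20, 18, 21, 17, 20], []), (0, [3, 2, 3], [2]), (0, [3, 2, 3], [2]), (0, [3, 2, 3], [2]),
  (4, [16, 19, 17, 19, 20, 16, 18, 21, 17, 20], []), (0, [3, 2, 3], [2]), (0, [3, 2, 3], [2]), (0, [3, 2, 3], [2]),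
  (5, [20, 21, 16, 19, 20, 17, 19, 16], []), (6, [20, 21, 16, 19, 20, 19, 16], []), (6, [17, 16, 19, 17, 20, 17, 21, 18, 16, 19, 17, 16, 22], []), (4, [20, 17, 16, 19, 21, 16, 18, 17, 19, 16, 22], []),
  (0, [3, 2, 3], [2]), (6, [20, 19, 17, 21, 17, 20, 17, 23], []), (6, [17, 19, 20, 18, 21, 16, 19, 18, 17, 16, 19, 16, 23], []), (6, [20, 21, 19, 17, 19, 18, 16, 19, 17, 19, 20, 17, 16, 22], [])]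

/-- Some options of a node. -/
def tOpt63x2 : List (ℕ × List ℕ × List ℕ) := [
  (6, [20, 18, 21, 17, 20], []), (5, [20, 17, 16, 19, 21, 16, 18, 17, 19, 16, 22], []), (5, [20, 19, 17, 21, 17, 20, 17, 23], []), (5, [16, 19, 17, 19, 20, 16, 18, 21, 17, 20], []),
  (5, [17, 20, 18, 19, 21, 18, 16, 19, 17, 19, 20, 16], []), (5, [19, 20, 18, 21, 17, 20], []), (5, [20, 18, 21, 17, 20], []), (0, [3, 2, 3], [2]),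
  (6, [20, 18, 21, 16, 18, 16, 19, 17], []), (6, [19, 20, 18, 21, 17, 20], []), (0, [3, 2, 3], [2]), (7, [16, 18, 17, 21, 17, 20, 17, 16], []),
  (7, [16, 19, 18, 21, 18, 19, 16, 18, 17], []), (8, [], []), (0, [3, 2, 3], [2]), (9, [], []),
  (10, [], []), (0, [3, 2, 3], [2]), (0, [3, 2, 3], [2]), (8, [16, 19, 18, 17, 21, 18, 16, 19, 17, 16, 19, 18, 22, 23], []),
  (10, [16, 19, 18, 21, 18, 19, 16, 18, 17], []), (8, [19], []), (9, [16, 19, 18, 21, 18, 19, 16, 18, 17], []), (8, [16, 19, 17, 16, 19, 16], []),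
  (8, [16, 18, 17, 21, 17, 20, 17, 16], []), (8, [16, 19, 17, 19, 16], []), (8, [18, 19, 16, 18, 17, 21, 18, 16, 18, 17, 23], []), (0, [3, 2, 3], [2]),
  (8, [16, 18, 21, 17, 16, 19, 16, 18, 17, 16, 23], []), (0, [3, 2, 3], [2]), (8, [19, 18, 16, 19, 20, 16, 18, 19, 16, 22], []), (8, [19, 18, 16, 18, 21, 18, 16, 19, 17, 22, 23], []),
  (9, [21, 18, 21, 16, 19, 17, 20, 18, 19, 17, 16, 22, 23], []), (0, [3, 2, 3], [2]), (10, [18, 17, 19, 16, 18, 21, 20, 17, 16], []), (8, [19, 20, 16, 18, 16, 19], []),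
  (10, [16, 18, 17, 21, 17, 20, 17, 16], []), (0, [3, 2, 3], [2]), (8, [17, 16, 19, 18, 17, 21, 20, 16, 19, 17, 16, 22], []), (9, [16, 18, 17, 21, 17, 20, 17, 16], []),
  (8, [18, 17, 19, 16, 18, 21, 20, 17, 16], []), (8, [18, 16, 19, 20, 16, 18, 16, 19, 16, 22], []), (8, [20, 21, 16, 19, 20, 19, 16], []), (8, [18, 16, 19, 20, 16, 18, 19, 16, 22], []),
  (0, [3, 2, 3], [2]), (8, [18, 16, 19, 16, 18, 17, 19, 20, 16], []), (0, [3, 2, 3], [2]), (0, [2], [3]),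
  (8, [17, 19, 20, 18, 21, 16, 19, 18, 17, 16, 19, 16, 23], []), (0, [3, 2, 3], [2]), (0, [3, 2, 3], [2]), (0, [3, 2, 3], [2]),
  (9, [20, 21, 16, 19, 20, 19, 16], []), (10, [20, 21, 16, 19, 20, 19, 16], []), (0, [2, 3, 2], [3, 2, 3]), (0, [2, 3, 2], [3, 2, 3]),
  (0, [2, 3, 2], [3, 2, 3]), (0, [3, 2, 3], [2]), (0, [3, 2, 3], [2]), (0, [3, 2, 3], [2]),
  (8, [20, 21, 16, 19, 20, 17, 19, 16], []), (0, [2, 3, 2], [3, 2, 3]), (0, [2, 3, 2], [3, 2, 3]), (0, [2, 3, 2], [3, 2, 3]),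
  (0, [3, 2, 3], [2]), (11, [], []), (11, [16, 19, 18, 21, 18, 19, 16, 18, 17], []), (0, [3, 2, 3], [2]),
  (0, [3, 2, 3], [2]), (0, [3, 2, 3], [2]), (0, [2, 3, 2], [3, 2, 3]), (0, [3, 2, 3], [2]),
  (0, [2, 3, 2], [3, 2, 3]), (11, [20, 21, 16, 19, 20, 19, 16], []), (0, [3, 2, 3], [2]), (11, [17, 20, 17, 21, 16, 18, 17, 16], []),
  (0, [3, 2, 3], [2]), (0, [3, 2, 3], [2]), (0, [3, 2, 3], [2]), (8, [20, 19, 17, 21, 17, 20, 17, 23], [])]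

/-- Some options of a node. -/
def tOpt63x3 : List (ℕ × List ℕ × List ℕ) := [
  (0, [2, 3, 2], [3, 2, 3]), (0, [2, 3, 2], [3, 2, 3]), (0, [2, 3, 2], [3, 2, 3]), (0, [2, 3, 2], [3, 2, 3]),
  (0, [2, 3, 2], [3, 2, 3]), (0, [3, 2, 3], [2]), (8, [20, 18, 19, 21, 18, 16, 18, 17, 16, 19, 18, 23], []), (9, [20, 18, 21, 17, 20], []),
  (0, [2, 3, 2], [3, 2, 3]), (0, [2, 3, 2], [3, 2, 3]), (0, [2, 3, 2], [3, 2, 3]), (0, [2, 3, 2], [3, 2, 3]),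
  (0, [2, 3, 2], [3, 2, 3]), (11, [21, 18, 21, 16, 18, 21, 19, 18, 19, 16, 23], []), (11, [20, 17, 20, 18, 17], []), (0, [3, 2, 3], [2]),
  (0, [2, 3, 2], [3, 2, 3]), (0, [2, 3, 2], [3, 2, 3]), (0, [2, 3, 2], [3, 2, 3]), (0, [2, 3, 2], [3, 2, 3]),
  (0, [2, 3, 2], [3, 2, 3]), (0, [2, 3, 2], [3, 2, 3]), (0, [2, 3, 2], [3, 2, 3]), (8, [17, 20, 18, 19, 21, 18, 16, 19, 17, 19, 20, 16], []),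
  (0, [2, 3, 2], [3, 2, 3]), (0, [2, 3, 2], [3, 2, 3]), (10, [20, 18, 21, 17, 20], []), (0, [2, 3, 2], [3, 2, 3]),
  (0, [2, 3, 2], [3, 2, 3]), (0, [2, 3, 2], [3, 2, 3]), (0, [2, 3, 2], [3, 2, 3]), (0, [2, 3, 2], [3, 2, 3]),
  (11, [17, 20, 18, 21, 18, 16, 18, 16, 22, 23], []), (0, [3, 2, 3], [2]), (11, [20, 16, 19, 21, 17, 20, 17, 19, 16, 22], []), (0, [2, 3, 2], [3, 2, 3]),
  (0, [2, 3, 2], [3, 2, 3]), (0, [2, 3, 2], [3, 2, 3]), (0, [2, 3, 2], [3, 2, 3]), (0, [2, 3, 2], [3, 2, 3]),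
  (8, [20, 18, 21, 16, 18, 16, 19, 17], []), (8, [17, 16, 19, 17, 20, 17, 21, 18, 16, 19, 17, 16, 22], []), (0, [2, 3, 2], [3, 2, 3]), (0, [2, 3, 2], [3, 2, 3]),
  (0, [2, 3, 2], [3, 2, 3]), (0, [2, 3, 2], [3, 2, 3]), (0, [2, 3, 2], [3, 2, 3]), (0, [2, 3, 2], [3, 2, 3]),
  (0, [2, 3, 2], [3, 2, 3]), (0, [2, 3, 2], [3, 2, 3]), (0, [2, 3, 2], [3, 2, 3]), (0, [2, 3, 2], [3, 2, 3]),
  (0, [2, 3, 2], [3, 2, 3]), (0, [2, 3, 2], [3, 2, 3]), (0, [2, 3, 2], [3, 2, 3]), (0, [2, 3, 2], [3, 2, 3]),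
  (0, [2, 3, 2], [3, 2, 3]), (0, [2, 3, 2], [3, 2, 3]), (0, [2, 3, 2], [3, 2, 3]), (0, [2, 3, 2], [3, 2, 3]),
  (0, [2, 3, 2], [3, 2, 3]), (0, [2, 3, 2], [3, 2, 3]), (0, [3, 2, 3], [2]), (0, [2, 3, 2], [3, 2, 3]),
  (0, [2, 3, 2], [3, 2, 3]), (0, [2, 3, 2], [3, 2, 3]), (0, [2, 3, 2], [3, 2, 3]), (11, [18, 17, 19, 16, 18, 21, 20, 17, 16], []),
  (11, [18, 16, 19, 20, 16, 18, 19, 16, 22], []), (0, [3, 2, 3], [2]), (0, [2, 3, 2], [3, 2, 3]), (0, [2, 3, 2], [3, 2, 3]),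
  (0, [2, 3, 2], [3, 2, 3]), (0, [3, 2, 3], [2]), (0, [3, 2, 3], [2]), (11, [20, 16, 18, 16], []),
  (11, [16, 18, 17, 21, 17, 20, 17, 16], [])]

/-- A node. -/
def tNode63 : TNode := ⟨[0, 1, 159], [1, 0, 207], 25, tOpt63x0 ++ tOpt63x1 ++ tOpt63x2 ++ tOpt63x3, [64, 65, 66, 67, 68, 69, 70, 71, 72, 73, 74]⟩

/-- Some options of a node. -/
def tOpt64x0 : List (ℕ × List ℕ × List ℕ) := [
  (0, [1], [4]), (0, [0], [4]), (0, [4, 2, 4], [2]), (0, [3], [4]),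
  (0, [4, 3, 4], [3]), (0, [4, 2, 3, 2, 4], [2, 3, 2]), (0, [4, 2, 3, 2, 4], [2, 3, 2]), (0, [4, 3, 4], [3]),
  (0, [4, 2, 3, 2, 4], [2, 3, 2]), (0, [4, 2, 3, 2, 4], [2, 3, 2]), (0, [4, 2, 3, 2, 4], [2, 3, 2]), (0, [4, 3, 4], [3]),
  (0, [4, 3, 4], [3]), (0, [4, 3, 4], [3]), (0, [4, 2, 3, 2, 4], [2, 3, 2]), (0, [4, 2, 3, 2, 4], [2, 3, 2]),
  (0, [4, 3, 4], [3]), (0, [4, 3, 4], [3]), (0, [4, 3, 4], [3]), (0, [4, 2, 4], [3, 2, 3]),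
  (0, [4, 3, 4], [3]), (0, [4, 3, 4], [3]), (0, [4, 3, 4], [3]), (0, [4, 3, 4], [3]),
  (0, [4, 2, 3, 2, 4], [2, 3, 2]), (0, [4, 3, 4], [3]), (0, [4, 3, 4], [3]), (0, [4, 3, 4], [3]),
  (0, [4, 2, 4], [2]), (0, [4, 2, 4], [2]), (0, [4, 2, 4], [2]), (0, [4, 3, 4], [3]),
  (0, [4, 2, 4], [2]), (0, [4, 3, 4], [3]), (0, [4, 3, 4], [3]), (0, [4, 2, 4], [2]),
  (0, [4, 3, 4], [3]), (0, [4, 2, 4], [2]), (0, [4, 3, 4], [3]), (0, [4, 2, 4], [2]),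
  (0, [4, 3, 4], [3]), (0, [4, 2, 4], [2]), (0, [4, 3, 4], [3]), (0, [4, 2, 4], [2]),
  (0, [4, 2, 4], [2]), (0, [4, 2, 4], [2]), (0, [4, 2, 4], [2]), (0, [4, 3, 4], [3]),
  (0, [4, 3, 4], [3]), (0, [4, 2, 4], [2]), (0, [4, 3, 4], [3]), (0, [4, 3, 4], [3]),
  (0, [4, 3, 4], [3]), (0, [4, 3, 4], [3]), (0, [4, 3, 4], [3]), (0, [4, 3, 4], [3]),
  (0, [4, 3, 4], [3]), (0, [4, 3, 4], [3]), (0, [4, 3, 4], [3]), (0, [4, 3, 4], [3]),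
  (0, [4, 3, 4], [3]), (0, [4, 3, 4], [3]), (0, [4, 2, 4], [2]), (0, [4, 3, 4], [3]),
  (0, [4, 3, 4], [3]), (0, [4, 2, 4], [2]), (0, [4, 3, 4], [3]), (0, [4, 2, 4], [2]),
  (0, [4, 2, 4], [2]), (0, [4, 2, 4], [2]), (0, [4, 3, 4], [3]), (0, [4, 3, 4], [3]),
  (0, [4, 3, 4], [3]), (0, [4, 2, 4], [2]), (0, [4, 2, 4], [2]), (0, [4, 3, 4], [3]),
  (0, [4, 3, 4], [3]), (0, [4, 3, 4], [3]), (0, [4, 3, 4], [3]), (0, [4, 3, 4], [3])]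

/-- Some options of a node. -/
def tOpt64x1 : List (ℕ × List ℕ × List ℕ) := [
  (0, [4, 3, 4], [3]), (0, [4, 2, 4], [2]), (0, [4, 3, 4], [3]), (0, [4, 3, 4], [3]),
  (0, [4, 3, 4], [3]), (0, [4, 3, 4], [3]), (0, [4, 2, 4], [2]), (0, [4, 3, 4], [3]),
  (0, [4, 3, 4], [3]), (0, [4, 2, 4], [2]), (0, [4, 3, 4], [3]), (0, [4, 3, 4], [3]),
  (0, [4, 2, 4], [2]), (0, [4, 3, 4], [3]), (0, [4, 3, 4], [3]), (0, [4, 3, 4], [3]),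
  (0, [4, 3, 4], [3]), (0, [4, 3, 4], [3]), (0, [4, 3, 4], [3]), (0, [4, 3, 4], [3]),
  (0, [4, 3, 4], [3]), (0, [4, 3, 4], [3]), (0, [4, 3, 4], [3]), (0, [4, 3, 4], [3]),
  (0, [4, 3, 4], [3]), (0, [4, 3, 4], [3]), (0, [4, 3, 4], [3]), (0, [4, 3, 4], [3]),
  (0, [4, 3, 4], [3]), (0, [4, 2, 3, 2, 4], [2, 3, 2]), (0, [4, 3, 4], [3]), (0, [4, 3, 4], [3]),
  (0, [4, 3, 4], [3]), (0, [4, 3, 4], [3]), (0, [4, 2, 3, 2, 4], [2, 3, 2]), (0, [4, 2, 4], [3, 2, 3]),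
  (0, [4, 3, 4], [3]), (0, [4, 3, 4], [3]), (0, [4, 3, 4], [3]), (0, [4, 2, 3, 2, 4], [2, 3, 2]),
  (0, [4, 2, 4], [3, 2, 3]), (0, [4, 2, 3, 2, 4], [2, 3, 2]), (0, [4, 3, 4], [3]), (0, [4, 3, 4], [3]),
  (0, [4, 2, 3, 2, 4], [2, 3, 2]), (0, [4, 3, 4], [3]), (0, [4, 2, 4], [2]), (0, [4, 2, 4], [2]),
  (0, [4, 2, 4], [2]), (0, [4, 2, 3, 2, 4], [2, 3, 2]), (0, [4, 2, 3, 2, 4], [2, 3, 2]), (0, [4, 2, 4], [2]),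
  (0, [4, 3, 4], [3]), (0, [4, 2, 4], [2]), (0, [4, 2, 4], [2]), (0, [4, 2, 3, 2, 4], [2, 3, 2]),
  (0, [4, 3, 4], [3]), (0, [4, 2, 3, 2, 4], [2, 3, 2]), (0, [4, 2, 4], [2]), (0, [4, 2, 4], [2]),
  (0, [4, 2, 3, 2, 4], [2, 3, 2]), (0, [4, 2, 3, 2, 4], [2, 3, 2]), (0, [4, 2, 4], [3, 2, 3]), (0, [4, 2, 4], [2]),
  (0, [4, 2, 3, 2, 4], [2, 3, 2]), (0, [4, 2, 4], [2]), (0, [4, 2, 4], [2]), (0, [4, 2, 4], [2]),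
  (0, [4, 2, 3, 2, 4], [2, 3, 2]), (0, [4, 2, 4], [2]), (0, [4, 2, 4], [2]), (0, [4, 2, 4], [2]),
  (0, [4, 2, 3, 2, 4], [2, 3, 2]), (0, [4, 2, 3, 2, 4], [2, 3, 2]), (0, [4, 2, 3, 2, 4], [2, 3, 2]), (0, [4, 2, 3, 2, 4], [2, 3, 2]),
  (0, [4, 2, 4], [2]), (0, [4, 2, 3, 2, 4], [2, 3, 2]), (0, [4, 2, 3, 2, 4], [2, 3, 2]), (0, [4, 2, 3, 2, 4], [2, 3, 2])]

/-- Some options of a node. -/
def tOpt64x2 : List (ℕ × List ℕ × List ℕ) := [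
  (0, [4, 2, 3, 2, 4], [2, 3, 2]), (0, [4, 2, 3, 2, 4], [2, 3, 2]), (0, [4, 2, 4], [3, 2, 3]), (0, [4, 2, 4], [3, 2, 3]),
  (0, [4, 2, 4], [3, 2, 3]), (0, [4, 2, 3, 2, 4], [2, 3, 2]), (0, [4, 2, 3, 2, 4], [2, 3, 2]), (0, [4, 2, 4], [2]),
  (0, [4, 2, 3, 2, 4], [2, 3, 2]), (0, [4, 2, 3, 2, 4], [2, 3, 2]), (0, [4, 2, 4], [2]), (0, [4, 2, 3, 2, 4], [2, 3, 2]),
  (0, [4, 2, 3, 2, 4], [2, 3, 2]), (0, [4, 3, 4], [3]), (0, [4, 2, 4], [2]), (0, [4, 3, 4], [3]),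
  (0, [4, 3, 4], [3]), (0, [4, 2, 4], [2]), (0, [4, 2, 4], [2]), (0, [4, 3, 4], [3]),
  (0, [4, 3, 4], [3]), (0, [4, 3, 4], [3]), (0, [4, 3, 4], [3]), (0, [4, 3, 4], [3]),
  (0, [4, 3, 4], [3]), (0, [4, 3, 4], [3]), (0, [4, 3, 4], [3]), (0, [4, 2, 4], [2]),
  (0, [4, 3, 4], [3]), (0, [4, 2, 4], [2]), (0, [4, 3, 4], [3]), (0, [4, 3, 4], [3]),
  (0, [4, 3, 4], [3]), (0, [4, 2, 4], [2]), (0, [4, 3, 4], [3]), (0, [4, 3, 4], [3]),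
  (0, [4, 3, 4], [3]), (0, [4, 2, 4], [2]), (0, [4, 3, 4], [3]), (0, [4, 3, 4], [3]),
  (0, [4, 3, 4], [3]), (0, [4, 3, 4], [3]), (0, [4, 2, 3, 2, 4], [2, 3, 2]), (0, [4, 3, 4], [3]),
  (0, [4, 2, 4], [2]), (0, [4, 3, 4], [3]), (0, [4, 2, 4], [2]), (0, [2], [4]),
  (0, [4, 2, 3, 2, 4], [2, 3, 2]), (0, [4, 2, 4], [2]), (0, [4, 2, 4], [2]), (0, [3, 2, 3], [4]),
  (0, [4, 2, 3, 2, 4], [2, 3, 2]), (0, [4, 2, 3, 2, 4], [2, 3, 2]), (0, [4, 3, 4], [3]), (0, [4, 3, 4], [3]),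
  (0, [4, 3, 4], [3]), (0, [4, 2, 4], [2]), (0, [4, 2, 4], [2]), (0, [4, 2, 4], [2]),
  (0, [4, 2, 3, 2, 4], [2, 3, 2]), (0, [2, 4, 2], [4, 2, 4]), (0, [2, 4, 2], [4, 2, 4]), (0, [2, 4, 2], [4, 2, 4]),
  (0, [4, 2, 4], [2]), (0, [4, 2, 3, 2, 4], [2, 3, 2]), (0, [4, 3, 4], [3]), (0, [4, 2, 4], [2]),
  (0, [4, 2, 4], [2]), (0, [4, 2, 4], [2]), (0, [4, 3, 4], [3]), (0, [4, 2, 4], [2]),
  (0, [4, 3, 4], [3]), (0, [4, 3, 4], [3]), (0, [4, 2, 4], [2]), (0, [4, 3, 4], [3]),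
  (0, [4, 2, 4], [2]), (0, [4, 2, 4], [2]), (0, [4, 2, 4], [2]), (0, [4, 2, 3, 2, 4], [2, 3, 2])]

/-- Some options of a node. -/
def tOpt64x3 : List (ℕ × List ℕ × List ℕ) := [
  (0, [4, 3, 4], [3]), (0, [4, 3, 4], [3]), (0, [4, 3, 4], [3]), (0, [4, 3, 4], [3]),
  (0, [4, 3, 4], [3]), (0, [4, 2, 4], [2]), (0, [4, 2, 3, 2, 4], [2, 3, 2]), (0, [4, 2, 3, 2, 4], [2, 3, 2]),
  (0, [4, 3, 4], [3]), (0, [2, 4, 2], [4, 2, 4]), (0, [4, 3, 4], [3]), (0, [2, 4, 2], [4, 2, 4]),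
  (0, [4, 3, 4], [3]), (0, [4, 3, 4], [3]), (0, [4, 2, 3, 2, 4], [2, 3, 2]), (0, [4, 2, 4], [2]),
  (0, [4, 3, 4], [3]), (0, [2, 4, 2], [4, 2, 4]), (0, [4, 3, 4], [3]), (0, [4, 3, 4], [3]),
  (0, [4, 3, 4], [3]), (0, [4, 3, 4], [3]), (0, [4, 3, 4], [3]), (0, [4, 2, 3, 2, 4], [2, 3, 2]),
  (0, [4, 3, 4], [3]), (0, [4, 3, 4], [3]), (0, [4, 2, 3, 2, 4], [2, 3, 2]), (0, [4, 3, 4], [3]),
  (0, [4, 3, 4], [3]), (0, [4, 3, 4], [3]), (0, [4, 3, 4], [3]), (0, [4, 3, 4], [3]),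
  (0, [4, 3, 4], [3]), (0, [4, 2, 4], [2]), (0, [4, 3, 4], [3]), (0, [2, 4, 2], [4, 2, 4]),
  (0, [2, 4, 2], [4, 2, 4]), (0, [4, 3, 4], [3]), (0, [4, 3, 4], [3]), (0, [4, 3, 4], [3]),
  (0, [4, 2, 3, 2, 4], [2, 3, 2]), (0, [4, 2, 3, 2, 4], [2, 3, 2]), (0, [4, 3, 4], [3]), (0, [4, 3, 4], [3]),
  (0, [4, 3, 4], [3]), (0, [2, 4, 2], [4, 2, 4]), (0, [2, 4, 2], [4, 2, 4]), (0, [4, 3, 4], [3]),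
  (0, [2, 4, 2], [4, 2, 4]), (0, [4, 3, 4], [3]), (0, [4, 3, 4], [3]), (0, [4, 3, 4], [3]),
  (0, [4, 3, 4], [3]), (0, [4, 3, 4], [3]), (0, [4, 3, 4], [3]), (0, [4, 3, 4], [3]),
  (0, [4, 3, 4], [3]), (0, [4, 3, 4], [3]), (0, [4, 3, 4], [3]), (0, [2, 4, 2], [4, 2, 4]),
  (0, [4, 3, 4], [3]), (0, [2, 4, 2], [4, 2, 4]), (0, [4, 2, 4], [2]), (0, [4, 3, 4], [3]),
  (0, [2, 4, 2], [4, 2, 4]), (0, [4, 3, 4], [3]), (0, [2, 4, 2], [4, 2, 4]), (0, [4, 3, 4], [3]),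
  (0, [4, 2, 3, 2, 4], [2, 3, 2]), (0, [4, 2, 4], [2]), (0, [4, 3, 4], [3]), (0, [2, 4, 2], [4, 2, 4]),
  (0, [4, 3, 4], [3]), (0, [4, 2, 4], [2]), (0, [4, 2, 4], [2]), (0, [4, 2, 3, 2, 4], [2, 3, 2]),
  (0, [4, 3, 4], [3])]

/-- A node. -/
def tNode64 : TNode := ⟨[0, 1, 159, 25], [1, 0, 207, 3], 237, tOpt64x0 ++ tOpt64x1 ++ tOpt64x2 ++ tOpt64x3, []⟩

/-- Some options of a node. -/
def tOpt65x0 : List (ℕ × List ℕ × List ℕ) := [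
  (0, [1], [4]), (0, [0], [4]), (0, [4, 2, 4], [2]), (0, [4, 3, 4], [3]),
  (0, [4, 3, 4], [3]), (0, [3], [4]), (0, [4, 3, 4], [3]), (0, [4, 3, 4], [3]),
  (0, [4, 2, 4], [3, 2, 3]), (0, [4, 3, 4], [3]), (0, [4, 3, 4], [3]), (0, [4, 3, 4], [3]),
  (0, [4, 3, 4], [3]), (0, [4, 3, 4], [3]), (0, [4, 3, 4], [3]), (0, [4, 3, 4], [3]),
  (0, [4, 3, 4], [3]), (0, [4, 3, 4], [3]), (0, [4, 3, 4], [3]), (0, [4, 3, 4], [3]),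
  (0, [4, 3, 4], [3]), (0, [4, 3, 4], [3]), (0, [4, 3, 4], [3]), (0, [4, 3, 4], [3]),
  (0, [4, 3, 4], [3]), (0, [4, 3, 4], [3]), (0, [4, 3, 4], [3]), (0, [4, 3, 4], [3]),
  (0, [4, 2, 4], [2]), (0, [4, 2, 4], [2]), (0, [4, 2, 4], [2]), (0, [4, 3, 4], [3]),
  (0, [4, 2, 4], [2]), (0, [4, 3, 4], [3]), (0, [4, 3, 4], [3]), (0, [4, 2, 4], [2]),
  (0, [4, 3, 4], [3]), (0, [4, 2, 4], [2]), (0, [4, 3, 4], [3]), (0, [4, 2, 4], [2]),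
  (0, [4, 3, 4], [3]), (0, [4, 2, 4], [2]), (0, [4, 3, 4], [3]), (0, [4, 2, 4], [2]),
  (0, [4, 2, 4], [2]), (0, [4, 2, 4], [2]), (0, [4, 2, 4], [2]), (0, [4, 3, 4], [3]),
  (0, [4, 3, 4], [3]), (0, [4, 2, 4], [2]), (0, [4, 3, 4], [3]), (0, [4, 3, 4], [3]),
  (0, [4, 3, 4], [3]), (0, [4, 3, 4], [3]), (0, [4, 3, 4], [3]), (0, [4, 3, 4], [3]),
  (0, [4, 3, 4], [3]), (0, [4, 3, 4], [3]), (0, [4, 3, 4], [3]), (0, [4, 3, 4], [3]),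
  (0, [4, 3, 4], [3]), (0, [4, 3, 4], [3]), (0, [4, 2, 4], [2]), (0, [4, 3, 4], [3]),
  (0, [4, 3, 4], [3]), (0, [4, 2, 4], [2]), (0, [4, 3, 4], [3]), (0, [4, 2, 4], [2]),
  (0, [4, 2, 4], [2]), (0, [4, 2, 4], [2]), (0, [4, 3, 4], [3]), (0, [4, 3, 4], [3]),
  (0, [4, 3, 4], [3]), (0, [4, 2, 4], [2]), (0, [4, 2, 4], [2]), (0, [4, 3, 4], [3]),
  (0, [4, 3, 4], [3]), (0, [4, 3, 4], [3]), (0, [4, 3, 4], [3]), (0, [4, 3, 4], [3])]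

/-- Some options of a node. -/
def tOpt65x1 : List (ℕ × List ℕ × List ℕ) := [
  (0, [4, 3, 4], [3]), (0, [4, 2, 4], [2]), (0, [4, 3, 4], [3]), (0, [4, 3, 4], [3]),
  (0, [4, 3, 4], [3]), (0, [4, 3, 4], [3]), (0, [4, 2, 4], [2]), (0, [4, 3, 4], [3]),
  (0, [4, 3, 4], [3]), (0, [4, 2, 4], [2]), (0, [4, 3, 4], [3]), (0, [4, 3, 4], [3]),
  (0, [4, 2, 4], [2]), (0, [4, 3, 4], [3]), (0, [4, 3, 4], [3]), (0, [4, 3, 4], [3]),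
  (0, [4, 2, 4], [3, 2, 3]), (0, [4, 3, 4], [3]), (0, [4, 3, 4], [3]), (0, [4, 3, 4], [3]),
  (0, [4, 2, 4], [3, 2, 3]), (0, [4, 2, 4], [3, 2, 3]), (0, [4, 3, 4], [3]), (0, [4, 3, 4], [3]),
  (0, [4, 2, 4], [3, 2, 3]), (0, [4, 3, 4], [3]), (0, [4, 3, 4], [3]), (0, [4, 3, 4], [3]),
  (0, [4, 3, 4], [3]), (0, [4, 3, 4], [3]), (0, [4, 3, 4], [3]), (0, [4, 3, 4], [3]),
  (0, [4, 3, 4], [3]), (0, [4, 3, 4], [3]), (0, [4, 3, 4], [3]), (0, [4, 3, 4], [3]),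
  (0, [4, 3, 4], [3]), (0, [4, 3, 4], [3]), (0, [4, 3, 4], [3]), (0, [4, 3, 4], [3]),
  (0, [4, 3, 4], [3]), (0, [4, 3, 4], [3]), (0, [4, 3, 4], [3]), (0, [4, 3, 4], [3]),
  (0, [4, 3, 4], [3]), (0, [4, 3, 4], [3]), (0, [4, 2, 4], [2]), (0, [4, 2, 4], [2]),
  (0, [4, 2, 4], [2]), (0, [4, 3, 4], [3]), (0, [4, 3, 4], [3]), (0, [4, 2, 4], [2]),
  (0, [4, 3, 4], [3]), (0, [4, 2, 4], [2]), (0, [4, 2, 4], [2]), (0, [4, 3, 4], [3]),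
  (0, [4, 3, 4], [3]), (0, [4, 3, 4], [3]), (0, [4, 2, 4], [2]), (0, [4, 2, 4], [2]),
  (0, [4, 3, 4], [3]), (0, [4, 3, 4], [3]), (0, [4, 3, 4], [3]), (0, [4, 2, 4], [2]),
  (0, [4, 3, 4], [3]), (0, [4, 2, 4], [2]), (0, [4, 2, 4], [2]), (0, [4, 2, 4], [2]),
  (0, [4, 3, 4], [3]), (0, [4, 2, 4], [2]), (0, [4, 2, 4], [2]), (0, [4, 2, 4], [2]),
  (0, [4, 3, 4], [3]), (0, [4, 3, 4], [3]), (0, [4, 3, 4], [3]), (0, [4, 3, 4], [3]),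
  (0, [4, 2, 4], [2]), (0, [4, 3, 4], [3]), (0, [4, 3, 4], [3]), (0, [4, 3, 4], [3])]

/-- Some options of a node. -/
def tOpt65x2 : List (ℕ × List ℕ × List ℕ) := [
  (0, [4, 3, 4], [3]), (0, [4, 3, 4], [3]), (0, [4, 3, 4], [3]), (0, [4, 3, 4], [3]),
  (0, [4, 3, 4], [3]), (0, [4, 3, 4], [3]), (0, [4, 3, 4], [3]), (0, [4, 2, 4], [2]),
  (0, [4, 3, 4], [3]), (0, [4, 3, 4], [3]), (0, [4, 2, 4], [2]), (0, [4, 2, 4], [3, 2, 3]),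
  (0, [4, 2, 4], [3, 2, 3]), (0, [4, 3, 4], [3]), (0, [4, 2, 4], [2]), (0, [4, 2, 4], [3, 2, 3]),
  (0, [4, 2, 4], [3, 2, 3]), (0, [4, 2, 4], [2]), (0, [4, 2, 4], [2]), (0, [4, 3, 4], [3]),
  (0, [4, 2, 4], [3, 2, 3]), (0, [4, 3, 4], [3]), (0, [4, 2, 4], [3, 2, 3]), (0, [4, 3, 4], [3]),
  (0, [4, 3, 4], [3]), (0, [4, 3, 4], [3]), (0, [4, 3, 4], [3]), (0, [4, 2, 4], [2]),
  (0, [4, 3, 4], [3]), (0, [4, 2, 4], [2]), (0, [4, 3, 4], [3]), (0, [4, 3, 4], [3]),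
  (0, [4, 2, 4], [3, 2, 3]), (0, [4, 2, 4], [2]), (0, [4, 2, 4], [3, 2, 3]), (0, [4, 3, 4], [3]),
  (0, [4, 2, 4], [3, 2, 3]), (0, [4, 2, 4], [2]), (0, [4, 3, 4], [3]), (0, [4, 2, 4], [3, 2, 3]),
  (0, [4, 3, 4], [3]), (0, [4, 3, 4], [3]), (0, [4, 3, 4], [3]), (0, [4, 3, 4], [3]),
  (0, [4, 2, 4], [2]), (0, [4, 3, 4], [3]), (0, [4, 2, 4], [2]), (0, [2], [4]),
  (0, [4, 3, 4], [3]), (0, [4, 2, 4], [2]), (0, [3, 2, 3], [4]), (0, [4, 2, 4], [2]),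
  (0, [4, 2, 4], [3, 2, 3]), (0, [4, 2, 4], [3, 2, 3]), (0, [4, 3, 4], [3]), (0, [4, 3, 4], [3]),
  (0, [2, 4, 2], [4, 2, 4]), (0, [4, 2, 4], [2]), (0, [4, 2, 4], [2]), (0, [4, 2, 4], [2]),
  (0, [4, 3, 4], [3]), (0, [4, 3, 4], [3]), (0, [4, 3, 4], [3]), (0, [2, 4, 2], [4, 2, 4]),
  (0, [4, 2, 4], [2]), (0, [4, 2, 4], [3, 2, 3]), (0, [4, 2, 4], [3, 2, 3]), (0, [4, 2, 4], [2]),
  (0, [4, 2, 4], [2]), (0, [4, 2, 4], [2]), (0, [2, 4, 2], [4, 2, 4]), (0, [4, 2, 4], [2]),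
  (0, [2, 4, 2], [4, 2, 4]), (0, [4, 2, 4], [3, 2, 3]), (0, [4, 2, 4], [2]), (0, [4, 2, 4], [3, 2, 3]),
  (0, [4, 2, 4], [2]), (0, [4, 2, 4], [2]), (0, [4, 2, 4], [2]), (0, [4, 3, 4], [3])]

/-- Some options of a node. -/
def tOpt65x3 : List (ℕ × List ℕ × List ℕ) := [
  (0, [4, 3, 4], [3]), (0, [4, 3, 4], [3]), (0, [2, 4, 2], [4, 2, 4]), (0, [2, 4, 2], [4, 2, 4]),
  (0, [2, 4, 2], [4, 2, 4]), (0, [4, 2, 4], [2]), (0, [4, 3, 4], [3]), (0, [4, 2, 4], [3, 2, 3]),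
  (0, [4, 3, 4], [3]), (0, [4, 3, 4], [3]), (0, [2, 4, 2], [4, 2, 4]), (0, [2, 4, 2], [4, 2, 4]),
  (0, [2, 4, 2], [4, 2, 4]), (0, [4, 2, 4], [3, 2, 3]), (0, [4, 2, 4], [3, 2, 3]), (0, [4, 2, 4], [2]),
  (0, [4, 3, 4], [3]), (0, [4, 3, 4], [3]), (0, [4, 3, 4], [3]), (0, [4, 3, 4], [3]),
  (0, [2, 4, 2], [4, 2, 4]), (0, [4, 3, 4], [3]), (0, [4, 3, 4], [3]), (0, [4, 3, 4], [3]),
  (0, [2, 4, 2], [4, 2, 4]), (0, [2, 4, 2], [4, 2, 4]), (0, [4, 2, 4], [3, 2, 3]), (0, [4, 3, 4], [3]),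
  (0, [2, 4, 2], [4, 2, 4]), (0, [2, 4, 2], [4, 2, 4]), (0, [2, 4, 2], [4, 2, 4]), (0, [4, 3, 4], [3]),
  (0, [4, 2, 4], [3, 2, 3]), (0, [4, 2, 4], [2]), (0, [4, 2, 4], [3, 2, 3]), (0, [4, 3, 4], [3]),
  (0, [2, 4, 2], [4, 2, 4]), (0, [2, 4, 2], [4, 2, 4]), (0, [4, 3, 4], [3]), (0, [4, 3, 4], [3]),
  (0, [4, 3, 4], [3]), (0, [4, 3, 4], [3]), (0, [4, 3, 4], [3]), (0, [4, 3, 4], [3]),
  (0, [4, 3, 4], [3]), (0, [2, 4, 2], [4, 2, 4]), (0, [4, 3, 4], [3]), (0, [2, 4, 2], [4, 2, 4]),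
  (0, [2, 4, 2], [4, 2, 4]), (0, [2, 4, 2], [4, 2, 4]), (0, [4, 3, 4], [3]), (0, [4, 3, 4], [3]),
  (0, [4, 3, 4], [3]), (0, [4, 3, 4], [3]), (0, [4, 3, 4], [3]), (0, [2, 4, 2], [4, 2, 4]),
  (0, [2, 4, 2], [4, 2, 4]), (0, [2, 4, 2], [4, 2, 4]), (0, [4, 3, 4], [3]), (0, [4, 3, 4], [3]),
  (0, [4, 3, 4], [3]), (0, [4, 3, 4], [3]), (0, [4, 2, 4], [2]), (0, [2, 4, 2], [4, 2, 4]),
  (0, [2, 4, 2], [4, 2, 4]), (0, [2, 4, 2], [4, 2, 4]), (0, [2, 4, 2], [4, 2, 4]), (0, [4, 2, 4], [3, 2, 3]),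
  (0, [4, 2, 4], [3, 2, 3]), (0, [4, 2, 4], [2]), (0, [2, 4, 2], [4, 2, 4]), (0, [2, 4, 2], [4, 2, 4]),
  (0, [2, 4, 2], [4, 2, 4]), (0, [4, 2, 4], [2]), (0, [4, 2, 4], [2]), (0, [4, 2, 4], [3, 2, 3]),
  (0, [4, 2, 4], [3, 2, 3])]

/-- A node. -/
def tNode65 : TNode := ⟨[0, 1, 159, 25], [1, 0, 207, 5], 244, tOpt65x0 ++ tOpt65x1 ++ tOpt65x2 ++ tOpt65x3, []⟩

/-- Some options of a node. -/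
def tOpt66x0 : List (ℕ × List ℕ × List ℕ) := [
  (0, [1], [4]), (0, [0], [4]), (0, [4, 2, 4], [2]), (0, [4, 2, 3, 2, 4], [2, 3, 2]),
  (0, [4, 3, 4], [3]), (0, [4, 2, 3, 2, 4], [2, 3, 2]), (0, [4, 2, 3, 2, 4], [2, 3, 2]), (0, [4, 3, 4], [3]),
  (0, [4, 2, 3, 2, 4], [2, 3, 2]), (0, [3], [4]), (0, [4, 2, 3, 2, 4], [2, 3, 2]), (0, [4, 3, 4], [3]),
  (0, [4, 3, 4], [3]), (0, [4, 3, 4], [3]), (0, [4, 2, 3, 2, 4], [2, 3, 2]), (0, [4, 2, 4], [3, 2, 3]),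
  (0, [4, 3, 4], [3]), (0, [4, 3, 4], [3]), (0, [4, 3, 4], [3]), (0, [4, 2, 3, 2, 4], [2, 3, 2]),
  (0, [4, 3, 4], [3]), (0, [4, 3, 4], [3]), (0, [4, 3, 4], [3]), (0, [4, 3, 4], [3]),
  (0, [4, 2, 3, 2, 4], [2, 3, 2]), (0, [4, 3, 4], [3]), (0, [4, 3, 4], [3]), (0, [4, 3, 4], [3]),
  (0, [4, 2, 4], [2]), (0, [4, 2, 4], [2]), (0, [4, 2, 4], [2]), (0, [4, 3, 4], [3]),
  (0, [4, 2, 4], [2]), (0, [4, 3, 4], [3]), (0, [4, 3, 4], [3]), (0, [4, 2, 4], [2]),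
  (0, [4, 3, 4], [3]), (0, [4, 2, 4], [2]), (0, [4, 3, 4], [3]), (0, [4, 2, 4], [2]),
  (0, [4, 3, 4], [3]), (0, [4, 2, 4], [2]), (0, [4, 3, 4], [3]), (0, [4, 2, 4], [2]),
  (0, [4, 2, 4], [2]), (0, [4, 2, 4], [2]), (0, [4, 2, 4], [2]), (0, [4, 3, 4], [3]),
  (0, [4, 3, 4], [3]), (0, [4, 2, 4], [2]), (0, [4, 3, 4], [3]), (0, [4, 3, 4], [3]),
  (0, [4, 3, 4], [3]), (0, [4, 3, 4], [3]), (0, [4, 3, 4], [3]), (0, [4, 3, 4], [3]),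
  (0, [4, 3, 4], [3]), (0, [4, 3, 4], [3]), (0, [4, 3, 4], [3]), (0, [4, 3, 4], [3]),
  (0, [4, 3, 4], [3]), (0, [4, 3, 4], [3]), (0, [4, 2, 4], [2]), (0, [4, 3, 4], [3]),
  (0, [4, 3, 4], [3]), (0, [4, 2, 4], [2]), (0, [4, 3, 4], [3]), (0, [4, 2, 4], [2]),
  (0, [4, 2, 4], [2]), (0, [4, 2, 4], [2]), (0, [4, 3, 4], [3]), (0, [4, 3, 4], [3]),
  (0, [4, 3, 4], [3]), (0, [4, 2, 4], [2]), (0, [4, 2, 4], [2]), (0, [4, 3, 4], [3]),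
  (0, [4, 3, 4], [3]), (0, [4, 3, 4], [3]), (0, [4, 3, 4], [3]), (0, [4, 3, 4], [3])]

/-- Some options of a node. -/
def tOpt66x1 : List (ℕ × List ℕ × List ℕ) := [
  (0, [4, 3, 4], [3]), (0, [4, 2, 4], [2]), (0, [4, 3, 4], [3]), (0, [4, 3, 4], [3]),
  (0, [4, 3, 4], [3]), (0, [4, 3, 4], [3]), (0, [4, 2, 4], [2]), (0, [4, 3, 4], [3]),
  (0, [4, 3, 4], [3]), (0, [4, 2, 4], [2]), (0, [4, 3, 4], [3]), (0, [4, 3, 4], [3]),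
  (0, [4, 2, 4], [2]), (0, [4, 3, 4], [3]), (0, [4, 3, 4], [3]), (0, [4, 3, 4], [3]),
  (0, [4, 3, 4], [3]), (0, [4, 3, 4], [3]), (0, [4, 3, 4], [3]), (0, [4, 3, 4], [3]),
  (0, [4, 3, 4], [3]), (0, [4, 3, 4], [3]), (0, [4, 3, 4], [3]), (0, [4, 3, 4], [3]),
  (0, [4, 3, 4], [3]), (0, [4, 3, 4], [3]), (0, [4, 3, 4], [3]), (0, [4, 3, 4], [3]),
  (0, [4, 3, 4], [3]), (0, [4, 2, 4], [3, 2, 3]), (0, [4, 3, 4], [3]), (0, [4, 3, 4], [3]),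
  (0, [4, 3, 4], [3]), (0, [4, 3, 4], [3]), (0, [4, 2, 3, 2, 4], [2, 3, 2]), (0, [4, 2, 3, 2, 4], [2, 3, 2]),
  (0, [4, 3, 4], [3]), (0, [4, 3, 4], [3]), (0, [4, 3, 4], [3]), (0, [4, 2, 3, 2, 4], [2, 3, 2]),
  (0, [4, 2, 3, 2, 4], [2, 3, 2]), (0, [4, 2, 3, 2, 4], [2, 3, 2]), (0, [4, 3, 4], [3]), (0, [4, 3, 4], [3]),
  (0, [4, 2, 3, 2, 4], [2, 3, 2]), (0, [4, 3, 4], [3]), (0, [4, 2, 4], [2]), (0, [4, 2, 4], [2]),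
  (0, [4, 2, 4], [2]), (0, [4, 2, 4], [3, 2, 3]), (0, [4, 2, 3, 2, 4], [2, 3, 2]), (0, [4, 2, 4], [2]),
  (0, [4, 3, 4], [3]), (0, [4, 2, 4], [2]), (0, [4, 2, 4], [2]), (0, [4, 2, 3, 2, 4], [2, 3, 2]),
  (0, [4, 3, 4], [3]), (0, [4, 2, 3, 2, 4], [2, 3, 2]), (0, [4, 2, 4], [2]), (0, [4, 2, 4], [2]),
  (0, [4, 2, 3, 2, 4], [2, 3, 2]), (0, [4, 2, 3, 2, 4], [2, 3, 2]), (0, [4, 2, 3, 2, 4], [2, 3, 2]), (0, [4, 2, 4], [2]),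
  (0, [4, 2, 3, 2, 4], [2, 3, 2]), (0, [4, 2, 4], [2]), (0, [4, 2, 4], [2]), (0, [4, 2, 4], [2]),
  (0, [4, 2, 3, 2, 4], [2, 3, 2]), (0, [4, 2, 4], [2]), (0, [4, 2, 4], [2]), (0, [4, 2, 4], [2]),
  (0, [4, 2, 3, 2, 4], [2, 3, 2]), (0, [4, 2, 4], [3, 2, 3]), (0, [4, 2, 4], [3, 2, 3]), (0, [4, 2, 3, 2, 4], [2, 3, 2]),
  (0, [4, 2, 4], [2]), (0, [4, 2, 3, 2, 4], [2, 3, 2]), (0, [4, 2, 4], [3, 2, 3]), (0, [4, 2, 3, 2, 4], [2, 3, 2])]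

/-- Some options of a node. -/
def tOpt66x2 : List (ℕ × List ℕ × List ℕ) := [
  (0, [4, 2, 3, 2, 4], [2, 3, 2]), (0, [4, 2, 3, 2, 4], [2, 3, 2]), (0, [4, 2, 3, 2, 4], [2, 3, 2]), (0, [4, 2, 3, 2, 4], [2, 3, 2]),
  (0, [4, 2, 3, 2, 4], [2, 3, 2]), (0, [4, 2, 3, 2, 4], [2, 3, 2]), (0, [4, 2, 3, 2, 4], [2, 3, 2]), (0, [4, 2, 4], [2]),
  (0, [4, 2, 3, 2, 4], [2, 3, 2]), (0, [4, 2, 4], [3, 2, 3]), (0, [4, 2, 4], [2]), (0, [4, 2, 3, 2, 4], [2, 3, 2]),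
  (0, [4, 2, 3, 2, 4], [2, 3, 2]), (0, [4, 3, 4], [3]), (0, [4, 2, 4], [2]), (0, [4, 3, 4], [3]),
  (0, [4, 3, 4], [3]), (0, [4, 2, 4], [2]), (0, [4, 2, 4], [2]), (0, [4, 3, 4], [3]),
  (0, [4, 3, 4], [3]), (0, [4, 3, 4], [3]), (0, [4, 3, 4], [3]), (0, [4, 3, 4], [3]),
  (0, [4, 3, 4], [3]), (0, [4, 3, 4], [3]), (0, [4, 3, 4], [3]), (0, [4, 2, 4], [2]),
  (0, [4, 3, 4], [3]), (0, [4, 2, 4], [2]), (0, [4, 3, 4], [3]), (0, [4, 3, 4], [3]),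
  (0, [4, 3, 4], [3]), (0, [4, 2, 4], [2]), (0, [4, 3, 4], [3]), (0, [4, 3, 4], [3]),
  (0, [4, 3, 4], [3]), (0, [4, 2, 4], [2]), (0, [4, 3, 4], [3]), (0, [4, 3, 4], [3]),
  (0, [4, 3, 4], [3]), (0, [4, 3, 4], [3]), (0, [4, 2, 3, 2, 4], [2, 3, 2]), (0, [4, 3, 4], [3]),
  (0, [4, 2, 4], [2]), (0, [4, 3, 4], [3]), (0, [4, 2, 4], [2]), (0, [2], [4]),
  (0, [4, 2, 3, 2, 4], [2, 3, 2]), (0, [4, 2, 4], [2]), (0, [4, 2, 4], [2]), (0, [4, 2, 4], [2]),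
  (0, [4, 2, 3, 2, 4], [2, 3, 2]), (0, [4, 2, 3, 2, 4], [2, 3, 2]), (0, [4, 3, 4], [3]), (0, [4, 3, 4], [3]),
  (0, [4, 3, 4], [3]), (0, [4, 2, 4], [2]), (0, [4, 2, 4], [2]), (0, [4, 2, 4], [2]),
  (0, [4, 2, 3, 2, 4], [2, 3, 2]), (0, [2, 4, 2], [4, 2, 4]), (0, [2, 4, 2], [4, 2, 4]), (0, [4, 3, 4], [3]),
  (0, [4, 2, 4], [2]), (0, [4, 3, 4], [3]), (0, [4, 2, 3, 2, 4], [2, 3, 2]), (0, [4, 2, 4], [2]),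
  (0, [4, 2, 4], [2]), (0, [4, 2, 4], [2]), (0, [4, 3, 4], [3]), (0, [4, 2, 4], [2]),
  (0, [4, 3, 4], [3]), (0, [4, 3, 4], [3]), (0, [3, 2, 3], [4]), (0, [4, 3, 4], [3]),
  (0, [4, 2, 4], [2]), (0, [4, 2, 4], [2]), (0, [4, 2, 4], [2]), (0, [4, 2, 3, 2, 4], [2, 3, 2])]

/-- Some options of a node. -/
def tOpt66x3 : List (ℕ × List ℕ × List ℕ) := [
  (0, [4, 3, 4], [3]), (0, [4, 3, 4], [3]), (0, [4, 3, 4], [3]), (0, [4, 3, 4], [3]),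
  (0, [4, 3, 4], [3]), (0, [4, 2, 4], [2]), (0, [4, 2, 3, 2, 4], [2, 3, 2]), (0, [4, 2, 3, 2, 4], [2, 3, 2]),
  (0, [4, 3, 4], [3]), (0, [2, 4, 2], [4, 2, 4]), (0, [2, 4, 2], [4, 2, 4]), (0, [4, 3, 4], [3]),
  (0, [2, 4, 2], [4, 2, 4]), (0, [4, 2, 3, 2, 4], [2, 3, 2]), (0, [4, 3, 4], [3]), (0, [4, 2, 4], [2]),
  (0, [4, 3, 4], [3]), (0, [2, 4, 2], [4, 2, 4]), (0, [4, 3, 4], [3]), (0, [4, 3, 4], [3]),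
  (0, [4, 3, 4], [3]), (0, [4, 3, 4], [3]), (0, [4, 3, 4], [3]), (0, [4, 2, 3, 2, 4], [2, 3, 2]),
  (0, [4, 3, 4], [3]), (0, [4, 3, 4], [3]), (0, [4, 2, 3, 2, 4], [2, 3, 2]), (0, [4, 3, 4], [3]),
  (0, [4, 3, 4], [3]), (0, [4, 3, 4], [3]), (0, [4, 3, 4], [3]), (0, [4, 3, 4], [3]),
  (0, [4, 3, 4], [3]), (0, [4, 2, 4], [2]), (0, [4, 3, 4], [3]), (0, [2, 4, 2], [4, 2, 4]),
  (0, [4, 3, 4], [3]), (0, [4, 3, 4], [3]), (0, [4, 3, 4], [3]), (0, [4, 3, 4], [3]),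
  (0, [4, 2, 3, 2, 4], [2, 3, 2]), (0, [4, 2, 3, 2, 4], [2, 3, 2]), (0, [4, 3, 4], [3]), (0, [4, 3, 4], [3]),
  (0, [4, 3, 4], [3]), (0, [4, 3, 4], [3]), (0, [2, 4, 2], [4, 2, 4]), (0, [2, 4, 2], [4, 2, 4]),
  (0, [4, 3, 4], [3]), (0, [2, 4, 2], [4, 2, 4]), (0, [4, 3, 4], [3]), (0, [4, 3, 4], [3]),
  (0, [4, 3, 4], [3]), (0, [4, 3, 4], [3]), (0, [4, 3, 4], [3]), (0, [4, 3, 4], [3]),
  (0, [4, 3, 4], [3]), (0, [4, 3, 4], [3]), (0, [4, 3, 4], [3]), (0, [2, 4, 2], [4, 2, 4]),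
  (0, [4, 3, 4], [3]), (0, [2, 4, 2], [4, 2, 4]), (0, [4, 2, 4], [2]), (0, [2, 4, 2], [4, 2, 4]),
  (0, [4, 3, 4], [3]), (0, [2, 4, 2], [4, 2, 4]), (0, [4, 3, 4], [3]), (0, [4, 2, 3, 2, 4], [2, 3, 2]),
  (0, [4, 3, 4], [3]), (0, [4, 2, 4], [2]), (0, [2, 4, 2], [4, 2, 4]), (0, [4, 3, 4], [3]),
  (0, [2, 4, 2], [4, 2, 4]), (0, [4, 2, 4], [2]), (0, [4, 2, 4], [2]), (0, [4, 3, 4], [3]),
  (0, [4, 2, 3, 2, 4], [2, 3, 2])]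

/-- A node. -/
def tNode66 : TNode := ⟨[0, 1, 159, 25], [1, 0, 207, 9], 211, tOpt66x0 ++ tOpt66x1 ++ tOpt66x2 ++ tOpt66x3, []⟩

/-- Some options of a node. -/
def tOpt67x0 : List (ℕ × List ℕ × List ℕ) := [
  (0, [1], [4]), (0, [0], [4]), (0, [4, 2, 4], [2]), (0, [4, 3, 4], [3]),
  (0, [4, 2, 3, 2, 4], [2, 3, 2]), (0, [4, 2, 3, 2, 4], [2, 3, 2]), (0, [4, 3, 4], [3]), (0, [4, 2, 3, 2, 4], [2, 3, 2]),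
  (0, [4, 2, 3, 2, 4], [2, 3, 2]), (0, [4, 3, 4], [3]), (0, [4, 3, 4], [3]), (0, [4, 2, 3, 2, 4], [2, 3, 2]),
  (0, [4, 2, 3, 2, 4], [2, 3, 2]), (0, [4, 2, 3, 2, 4], [2, 3, 2]), (0, [4, 3, 4], [3]), (0, [4, 3, 4], [3]),
  (0, [4, 2, 3, 2, 4], [2, 3, 2]), (0, [4, 2, 3, 2, 4], [2, 3, 2]), (0, [4, 2, 3, 2, 4], [2, 3, 2]), (0, [4, 3, 4], [3]),
  (0, [4, 2, 3, 2, 4], [2, 3, 2]), (0, [3], [4]), (0, [4, 2, 3, 2, 4], [2, 3, 2]), (0, [4, 2, 3, 2, 4], [2, 3, 2]),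
  (0, [4, 3, 4], [3]), (0, [4, 2, 3, 2, 4], [2, 3, 2]), (0, [4, 2, 3, 2, 4], [2, 3, 2]), (0, [4, 2, 3, 2, 4], [2, 3, 2]),
  (0, [4, 2, 4], [2]), (0, [4, 2, 4], [2]), (0, [4, 2, 4], [2]), (0, [4, 2, 3, 2, 4], [2, 3, 2]),
  (0, [4, 2, 4], [2]), (0, [4, 2, 4], [3, 2, 3]), (0, [4, 2, 3, 2, 4], [2, 3, 2]), (0, [4, 2, 4], [2]),
  (0, [4, 2, 3, 2, 4], [2, 3, 2]), (0, [4, 2, 4], [2]), (0, [4, 2, 3, 2, 4], [2, 3, 2]), (0, [4, 2, 4], [2]),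
  (0, [4, 2, 3, 2, 4], [2, 3, 2]), (0, [4, 2, 4], [2]), (0, [4, 2, 4], [3, 2, 3]), (0, [4, 2, 4], [2]),
  (0, [4, 2, 4], [2]), (0, [4, 2, 4], [2]), (0, [4, 2, 4], [2]), (0, [4, 2, 3, 2, 4], [2, 3, 2]),
  (0, [4, 2, 3, 2, 4], [2, 3, 2]), (0, [4, 2, 4], [2]), (0, [4, 2, 3, 2, 4], [2, 3, 2]), (0, [4, 3, 4], [3]),
  (0, [4, 3, 4], [3]), (0, [4, 3, 4], [3]), (0, [4, 2, 3, 2, 4], [2, 3, 2]), (0, [4, 2, 3, 2, 4], [2, 3, 2]),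
  (0, [4, 2, 3, 2, 4], [2, 3, 2]), (0, [4, 2, 4], [3, 2, 3]), (0, [4, 3, 4], [3]), (0, [4, 3, 4], [3]),
  (0, [4, 3, 4], [3]), (0, [4, 2, 3, 2, 4], [2, 3, 2]), (0, [4, 2, 4], [2]), (0, [4, 2, 3, 2, 4], [2, 3, 2]),
  (0, [4, 2, 3, 2, 4], [2, 3, 2]), (0, [4, 2, 4], [2]), (0, [4, 3, 4], [3]), (0, [4, 2, 4], [2]),
  (0, [4, 2, 4], [2]), (0, [4, 2, 4], [2]), (0, [4, 2, 3, 2, 4], [2, 3, 2]), (0, [4, 2, 3, 2, 4], [2, 3, 2]),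
  (0, [4, 2, 3, 2, 4], [2, 3, 2]), (0, [4, 2, 4], [2]), (0, [4, 2, 4], [2]), (0, [4, 3, 4], [3]),
  (0, [4, 2, 3, 2, 4], [2, 3, 2]), (0, [4, 2, 3, 2, 4], [2, 3, 2]), (0, [4, 2, 3, 2, 4], [2, 3, 2]), (0, [4, 3, 4], [3])]

/-- Some options of a node. -/
def tOpt67x1 : List (ℕ × List ℕ × List ℕ) := [
  (0, [4, 3, 4], [3]), (0, [4, 2, 4], [2]), (0, [4, 3, 4], [3]), (0, [4, 3, 4], [3]),
  (0, [4, 3, 4], [3]), (0, [4, 3, 4], [3]), (0, [4, 2, 4], [2]), (0, [4, 2, 3, 2, 4], [2, 3, 2]),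
  (0, [4, 3, 4], [3]), (0, [4, 2, 4], [2]), (0, [4, 3, 4], [3]), (0, [4, 2, 3, 2, 4], [2, 3, 2]),
  (0, [4, 2, 4], [2]), (0, [4, 3, 4], [3]), (0, [4, 3, 4], [3]), (0, [4, 3, 4], [3]),
  (0, [4, 3, 4], [3]), (0, [4, 3, 4], [3]), (0, [4, 3, 4], [3]), (0, [4, 3, 4], [3]),
  (0, [4, 2, 3, 2, 4], [2, 3, 2]), (0, [4, 3, 4], [3]), (0, [4, 3, 4], [3]), (0, [4, 3, 4], [3]),
  (0, [4, 2, 3, 2, 4], [2, 3, 2]), (0, [4, 3, 4], [3]), (0, [4, 3, 4], [3]), (0, [4, 3, 4], [3]),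
  (0, [4, 3, 4], [3]), (0, [4, 3, 4], [3]), (0, [4, 3, 4], [3]), (0, [4, 3, 4], [3]),
  (0, [4, 3, 4], [3]), (0, [4, 3, 4], [3]), (0, [4, 3, 4], [3]), (0, [4, 3, 4], [3]),
  (0, [4, 3, 4], [3]), (0, [4, 3, 4], [3]), (0, [4, 3, 4], [3]), (0, [4, 3, 4], [3]),
  (0, [4, 3, 4], [3]), (0, [4, 3, 4], [3]), (0, [4, 3, 4], [3]), (0, [4, 3, 4], [3]),
  (0, [4, 3, 4], [3]), (0, [4, 3, 4], [3]), (0, [4, 2, 4], [2]), (0, [4, 2, 4], [2]),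
  (0, [4, 2, 4], [2]), (0, [4, 3, 4], [3]), (0, [4, 3, 4], [3]), (0, [4, 2, 4], [2]),
  (0, [4, 3, 4], [3]), (0, [4, 2, 4], [2]), (0, [4, 2, 4], [2]), (0, [4, 3, 4], [3]),
  (0, [4, 3, 4], [3]), (0, [4, 3, 4], [3]), (0, [4, 2, 4], [2]), (0, [4, 2, 4], [2]),
  (0, [4, 3, 4], [3]), (0, [4, 3, 4], [3]), (0, [4, 3, 4], [3]), (0, [4, 2, 4], [2]),
  (0, [4, 3, 4], [3]), (0, [4, 2, 4], [2]), (0, [4, 2, 4], [2]), (0, [4, 2, 4], [2]),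
  (0, [4, 3, 4], [3]), (0, [4, 2, 4], [2]), (0, [4, 2, 4], [2]), (0, [4, 2, 4], [2]),
  (0, [4, 3, 4], [3]), (0, [4, 3, 4], [3]), (0, [4, 3, 4], [3]), (0, [4, 3, 4], [3]),
  (0, [4, 2, 4], [2]), (0, [4, 3, 4], [3]), (0, [4, 3, 4], [3]), (0, [4, 3, 4], [3])]

/-- Some options of a node. -/
def tOpt67x2 : List (ℕ × List ℕ × List ℕ) := [
  (0, [4, 3, 4], [3]), (0, [4, 3, 4], [3]), (0, [4, 3, 4], [3]), (0, [4, 3, 4], [3]),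
  (0, [4, 3, 4], [3]), (0, [4, 3, 4], [3]), (0, [4, 3, 4], [3]), (0, [4, 2, 4], [2]),
  (0, [4, 3, 4], [3]), (0, [4, 3, 4], [3]), (0, [4, 2, 4], [2]), (0, [4, 3, 4], [3]),
  (0, [4, 3, 4], [3]), (0, [4, 2, 3, 2, 4], [2, 3, 2]), (0, [4, 2, 4], [2]), (0, [4, 2, 3, 2, 4], [2, 3, 2]),
  (0, [4, 2, 3, 2, 4], [2, 3, 2]), (0, [4, 2, 4], [2]), (0, [4, 2, 4], [2]), (0, [4, 2, 4], [3, 2, 3]),
  (0, [4, 2, 3, 2, 4], [2, 3, 2]), (0, [4, 2, 4], [3, 2, 3]), (0, [4, 2, 3, 2, 4], [2, 3, 2]), (0, [4, 2, 3, 2, 4], [2, 3, 2]),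
  (0, [4, 3, 4], [3]), (0, [4, 2, 4], [3, 2, 3]), (0, [4, 2, 4], [3, 2, 3]), (0, [4, 2, 4], [2]),
  (0, [4, 2, 3, 2, 4], [2, 3, 2]), (0, [4, 2, 4], [2]), (0, [4, 3, 4], [3]), (0, [4, 2, 3, 2, 4], [2, 3, 2]),
  (0, [4, 3, 4], [3]), (0, [4, 2, 4], [2]), (0, [4, 3, 4], [3]), (0, [4, 3, 4], [3]),
  (0, [4, 3, 4], [3]), (0, [4, 2, 4], [2]), (0, [4, 3, 4], [3]), (0, [4, 3, 4], [3]),
  (0, [4, 3, 4], [3]), (0, [4, 3, 4], [3]), (0, [4, 3, 4], [3]), (0, [4, 3, 4], [3]),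
  (0, [4, 2, 4], [2]), (0, [4, 3, 4], [3]), (0, [4, 2, 4], [2]), (0, [2], [4]),
  (0, [4, 3, 4], [3]), (0, [4, 2, 4], [2]), (0, [4, 2, 4], [2]), (0, [4, 2, 4], [2]),
  (0, [4, 3, 4], [3]), (0, [4, 3, 4], [3]), (0, [4, 3, 4], [3]), (0, [4, 3, 4], [3]),
  (0, [4, 3, 4], [3]), (0, [4, 2, 4], [2]), (0, [4, 2, 4], [2]), (0, [4, 2, 4], [2]),
  (0, [4, 3, 4], [3]), (0, [4, 3, 4], [3]), (0, [4, 3, 4], [3]), (0, [4, 3, 4], [3]),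
  (0, [4, 2, 4], [2]), (0, [4, 2, 3, 2, 4], [2, 3, 2]), (0, [4, 2, 3, 2, 4], [2, 3, 2]), (0, [3, 2, 3], [4]),
  (0, [4, 2, 4], [2]), (0, [4, 2, 4], [2]), (0, [4, 3, 4], [3]), (0, [4, 2, 4], [2]),
  (0, [4, 3, 4], [3]), (0, [4, 3, 4], [3]), (0, [4, 2, 4], [2]), (0, [4, 3, 4], [3]),
  (0, [4, 2, 4], [2]), (0, [4, 2, 4], [2]), (0, [4, 2, 4], [2]), (0, [4, 3, 4], [3])]

/-- Some options of a node. -/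
def tOpt67x3 : List (ℕ × List ℕ × List ℕ) := [
  (0, [2, 4, 2], [4, 2, 4]), (0, [4, 3, 4], [3]), (0, [4, 3, 4], [3]), (0, [4, 3, 4], [3]),
  (0, [4, 3, 4], [3]), (0, [4, 2, 4], [2]), (0, [4, 3, 4], [3]), (0, [4, 3, 4], [3]),
  (0, [4, 3, 4], [3]), (0, [2, 4, 2], [4, 2, 4]), (0, [4, 3, 4], [3]), (0, [4, 3, 4], [3]),
  (0, [4, 3, 4], [3]), (0, [4, 2, 3, 2, 4], [2, 3, 2]), (0, [4, 2, 3, 2, 4], [2, 3, 2]), (0, [4, 2, 4], [2]),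
  (0, [4, 3, 4], [3]), (0, [4, 3, 4], [3]), (0, [2, 4, 2], [4, 2, 4]), (0, [4, 3, 4], [3]),
  (0, [4, 3, 4], [3]), (0, [2, 4, 2], [4, 2, 4]), (0, [4, 3, 4], [3]), (0, [4, 3, 4], [3]),
  (0, [4, 3, 4], [3]), (0, [4, 3, 4], [3]), (0, [4, 3, 4], [3]), (0, [4, 3, 4], [3]),
  (0, [4, 3, 4], [3]), (0, [2, 4, 2], [4, 2, 4]), (0, [2, 4, 2], [4, 2, 4]), (0, [4, 3, 4], [3]),
  (0, [4, 3, 4], [3]), (0, [4, 2, 4], [2]), (0, [4, 3, 4], [3]), (0, [4, 3, 4], [3]),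
  (0, [4, 3, 4], [3]), (0, [4, 3, 4], [3]), (0, [4, 3, 4], [3]), (0, [4, 3, 4], [3]),
  (0, [4, 3, 4], [3]), (0, [4, 3, 4], [3]), (0, [2, 4, 2], [4, 2, 4]), (0, [4, 3, 4], [3]),
  (0, [4, 3, 4], [3]), (0, [4, 3, 4], [3]), (0, [2, 4, 2], [4, 2, 4]), (0, [4, 3, 4], [3]),
  (0, [4, 3, 4], [3]), (0, [4, 3, 4], [3]), (0, [4, 3, 4], [3]), (0, [2, 4, 2], [4, 2, 4]),
  (0, [4, 3, 4], [3]), (0, [2, 4, 2], [4, 2, 4]), (0, [4, 3, 4], [3]), (0, [2, 4, 2], [4, 2, 4]),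
  (0, [2, 4, 2], [4, 2, 4]), (0, [4, 3, 4], [3]), (0, [4, 3, 4], [3]), (0, [4, 3, 4], [3]),
  (0, [4, 3, 4], [3]), (0, [4, 3, 4], [3]), (0, [4, 2, 4], [2]), (0, [4, 3, 4], [3]),
  (0, [2, 4, 2], [4, 2, 4]), (0, [2, 4, 2], [4, 2, 4]), (0, [4, 3, 4], [3]), (0, [4, 3, 4], [3]),
  (0, [4, 3, 4], [3]), (0, [4, 2, 4], [2]), (0, [2, 4, 2], [4, 2, 4]), (0, [2, 4, 2], [4, 2, 4]),
  (0, [4, 3, 4], [3]), (0, [4, 2, 4], [2]), (0, [4, 2, 4], [2]), (0, [4, 3, 4], [3]),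
  (0, [4, 3, 4], [3])]

/-- A node. -/
def tNode67 : TNode := ⟨[0, 1, 159, 25], [1, 0, 207, 21], 269, tOpt67x0 ++ tOpt67x1 ++ tOpt67x2 ++ tOpt67x3, []⟩

/-- Some options of a node. -/
def tOpt68x0 : List (ℕ × List ℕ × List ℕ) := [
  (0, [1], [4]), (0, [0], [4]), (0, [4, 3, 4], [3]), (0, [4, 2, 4], [2]),
  (0, [4, 2, 4], [2]), (0, [4, 2, 4], [2]), (0, [4, 2, 4], [2]), (0, [4, 2, 4], [2]),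
  (0, [4, 2, 4], [2]), (0, [4, 2, 4], [2]), (0, [4, 2, 4], [2]), (0, [4, 2, 4], [2]),
  (0, [4, 2, 4], [2]), (0, [4, 2, 4], [2]), (0, [4, 2, 4], [2]), (0, [4, 2, 4], [2]),
  (0, [4, 2, 4], [2]), (0, [4, 2, 4], [2]), (0, [4, 2, 4], [2]), (0, [4, 2, 4], [2]),
  (0, [4, 2, 4], [2]), (0, [4, 2, 4], [2]), (0, [4, 2, 4], [2]), (0, [4, 2, 4], [2]),
  (0, [4, 2, 4], [2]), (0, [4, 2, 4], [2]), (0, [4, 2, 4], [2]), (0, [4, 2, 4], [2]),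
  (0, [4, 3, 4], [3]), (0, [4, 3, 4], [3]), (0, [4, 3, 4], [3]), (0, [4, 2, 4], [2]),
  (0, [4, 3, 4], [3]), (0, [4, 2, 4], [2]), (0, [4, 2, 4], [2]), (0, [4, 3, 4], [3]),
  (0, [4, 2, 4], [2]), (0, [4, 3, 4], [3]), (0, [4, 2, 4], [2]), (0, [3, 4, 3], [4, 3, 4]),
  (0, [3], [4]), (0, [4, 3, 4], [3]), (0, [4, 2, 4], [2]), (0, [4, 3, 4], [3]),
  (0, [4, 3, 4], [3]), (0, [3, 4, 3], [4, 3, 4]), (0, [4, 3, 4], [3]), (0, [4, 2, 4], [2]),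
  (0, [4, 2, 4], [2]), (0, [4, 3, 4], [3]), (0, [4, 2, 4], [2]), (0, [4, 2, 4], [2]),
  (0, [4, 2, 4], [2]), (0, [4, 2, 4], [2]), (0, [4, 2, 4], [2]), (0, [4, 2, 4], [2]),
  (0, [4, 2, 4], [2]), (0, [4, 2, 4], [2]), (0, [4, 2, 4], [2]), (0, [4, 2, 4], [2]),
  (0, [4, 2, 4], [2]), (0, [4, 2, 4], [2]), (0, [4, 3, 4], [3]), (0, [4, 2, 4], [2]),
  (0, [4, 2, 4], [2]), (0, [3, 4, 3], [4, 3, 4]), (0, [4, 2, 4], [2]), (0, [3, 4, 3], [4, 3, 4]),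
  (0, [3, 4, 3], [4, 3, 4]), (0, [3, 4, 3], [4, 3, 4]), (0, [4, 2, 4], [2]), (0, [4, 2, 4], [2]),
  (0, [4, 2, 4], [2]), (0, [3, 4, 3], [4, 3, 4]), (0, [3, 4, 3], [4, 3, 4]), (0, [4, 2, 4], [2]),
  (0, [4, 2, 4], [2]), (0, [4, 2, 4], [2]), (0, [4, 2, 4], [2]), (0, [4, 2, 4], [2])]

/-- Some options of a node. -/
def tOpt68x1 : List (ℕ × List ℕ × List ℕ) := [
  (0, [4, 2, 4], [2]), (0, [3, 4, 3], [4, 3, 4]), (0, [4, 2, 4], [2]), (0, [4, 2, 4], [2]),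
  (0, [4, 2, 4], [2]), (0, [4, 2, 4], [2]), (0, [4, 3, 4], [3]), (0, [4, 2, 4], [2]),
  (0, [4, 2, 4], [2]), (0, [3, 4, 3], [4, 3, 4]), (0, [4, 2, 4], [2]), (0, [4, 2, 4], [2]),
  (0, [4, 3, 4], [3]), (0, [4, 2, 4], [2]), (0, [4, 2, 4], [2]), (0, [4, 2, 4], [2]),
  (0, [4, 2, 4], [2]), (0, [4, 2, 4], [2]), (0, [4, 2, 4], [2]), (0, [4, 2, 4], [2]),
  (0, [4, 2, 4], [2]), (0, [4, 2, 4], [2]), (0, [4, 2, 4], [2]), (0, [4, 2, 4], [2]),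
  (0, [4, 2, 4], [2]), (0, [4, 2, 4], [2]), (0, [4, 2, 4], [2]), (0, [4, 2, 4], [2]),
  (0, [4, 2, 4], [2]), (0, [4, 2, 4], [2]), (0, [4, 2, 4], [2]), (0, [4, 2, 4], [2]),
  (0, [4, 2, 4], [2]), (0, [4, 2, 4], [2]), (0, [4, 2, 4], [2]), (0, [4, 2, 4], [2]),
  (0, [4, 2, 4], [2]), (0, [4, 2, 4], [2]), (0, [4, 2, 4], [2]), (0, [4, 2, 4], [2]),
  (0, [4, 2, 4], [2]), (0, [4, 2, 4], [2]), (0, [4, 2, 4], [2]), (0, [4, 2, 4], [2]),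
  (0, [4, 2, 4], [2]), (0, [4, 2, 4], [2]), (0, [3, 4, 3], [4, 3, 4]), (0, [3, 4, 3], [4, 3, 4]),
  (0, [3, 4, 3], [4, 3, 4]), (0, [4, 2, 4], [2]), (0, [4, 2, 4], [2]), (0, [3, 4, 3], [4, 3, 4]),
  (0, [4, 2, 4], [2]), (0, [3, 4, 3], [4, 3, 4]), (0, [3, 4, 3], [4, 3, 4]), (0, [4, 2, 4], [2]),
  (0, [4, 2, 4], [2]), (0, [4, 2, 4], [2]), (0, [3, 4, 3], [4, 3, 4]), (0, [3, 4, 3], [4, 3, 4]),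
  (0, [4, 2, 4], [2]), (0, [4, 2, 4], [2]), (0, [4, 2, 4], [2]), (0, [3, 4, 3], [4, 3, 4]),
  (0, [4, 2, 4], [2]), (0, [3, 4, 3], [4, 3, 4]), (0, [3, 4, 3], [4, 3, 4]), (0, [3, 4, 3], [4, 3, 4]),
  (0, [4, 2, 4], [2]), (0, [3, 4, 3], [4, 3, 4]), (0, [3, 4, 3], [4, 3, 4]), (0, [3, 4, 3], [4, 3, 4]),
  (0, [4, 2, 4], [2]), (0, [4, 2, 4], [2]), (0, [4, 2, 4], [2]), (0, [4, 2, 4], [2]),
  (0, [3, 4, 3], [4, 3, 4]), (0, [4, 2, 4], [2]), (0, [4, 2, 4], [2]), (0, [4, 2, 4], [2])]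

/-- Some options of a node. -/
def tOpt68x2 : List (ℕ × List ℕ × List ℕ) := [
  (0, [4, 2, 4], [2]), (0, [4, 2, 4], [2]), (0, [4, 2, 4], [2]), (0, [4, 2, 4], [2]),
  (0, [4, 2, 4], [2]), (0, [4, 2, 4], [2]), (0, [4, 2, 4], [2]), (0, [3, 4, 3], [4, 3, 4]),
  (0, [4, 2, 4], [2]), (0, [4, 2, 4], [2]), (0, [3, 4, 3], [4, 3, 4]), (0, [4, 2, 4], [2]),
  (0, [4, 2, 4], [2]), (0, [4, 2, 4], [2]), (0, [4, 3, 4], [3]), (0, [4, 2, 4], [2]),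
  (0, [4, 2, 4], [2]), (0, [4, 3, 4], [3]), (0, [4, 3, 4], [3]), (0, [4, 2, 4], [2]),
  (0, [4, 2, 4], [2]), (0, [4, 2, 4], [2]), (0, [4, 2, 4], [2]), (0, [4, 2, 4], [2]),
  (0, [4, 2, 4], [2]), (0, [4, 2, 4], [2]), (0, [4, 2, 4], [2]), (0, [4, 3, 4], [3]),
  (0, [4, 2, 4], [2]), (0, [4, 3, 4], [3]), (0, [4, 2, 4], [2]), (0, [4, 2, 4], [2]),
  (0, [4, 2, 4], [2]), (0, [3, 4, 3], [4, 3, 4]), (0, [4, 2, 4], [2]), (0, [4, 2, 4], [2]),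
  (0, [4, 2, 4], [2]), (0, [3, 4, 3], [4, 3, 4]), (0, [4, 2, 4], [2]), (0, [4, 2, 4], [2]),
  (0, [4, 2, 4], [2]), (0, [4, 2, 4], [2]), (0, [4, 2, 4], [2]), (0, [4, 2, 4], [2]),
  (0, [4, 3, 4], [3]), (0, [4, 2, 4], [2]), (0, [4, 3, 4], [3]), (0, [2], [4]),
  (0, [4, 2, 4], [2]), (0, [3, 2, 3], [4]), (0, [4, 3, 4], [2, 3, 2]), (0, [3, 4, 3], [4, 3, 4]),
  (0, [4, 2, 4], [2]), (0, [4, 2, 4], [2]), (0, [4, 2, 4], [2]), (0, [4, 2, 4], [2]),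
  (0, [4, 2, 4], [2]), (0, [4, 3, 4], [2, 3, 2]), (0, [3, 4, 3], [4, 3, 4]), (0, [3, 4, 3], [4, 3, 4]),
  (0, [4, 2, 4], [2]), (0, [4, 2, 4], [2]), (0, [4, 2, 4], [2]), (0, [4, 2, 4], [2]),
  (0, [4, 3, 4], [2, 3, 2]), (0, [4, 2, 4], [2]), (0, [4, 2, 4], [2]), (0, [4, 3, 4], [2, 3, 2]),
  (0, [3, 4, 3], [4, 3, 4]), (0, [3, 4, 3], [4, 3, 4]), (0, [4, 2, 4], [2]), (0, [3, 4, 3], [4, 3, 4]),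
  (0, [4, 2, 4], [2]), (0, [4, 2, 4], [2]), (0, [3, 4, 3], [4, 3, 4]), (0, [4, 2, 4], [2]),
  (0, [4, 3, 4], [2, 3, 2]), (0, [3, 4, 3], [4, 3, 4]), (0, [3, 4, 3], [4, 3, 4]), (0, [4, 2, 4], [2])]

/-- Some options of a node. -/
def tOpt68x3 : List (ℕ × List ℕ × List ℕ) := [
  (0, [4, 2, 4], [2]), (0, [4, 2, 4], [2]), (0, [4, 2, 4], [2]), (0, [4, 2, 4], [2]),
  (0, [4, 2, 4], [2]), (0, [4, 3, 4], [3]), (0, [4, 2, 4], [2]), (0, [4, 2, 4], [2]),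
  (0, [4, 2, 4], [2]), (0, [4, 2, 4], [2]), (0, [4, 2, 4], [2]), (0, [4, 2, 4], [2]),
  (0, [4, 2, 4], [2]), (0, [4, 2, 4], [2]), (0, [4, 2, 4], [2]), (0, [4, 3, 4], [2, 3, 2]),
  (0, [4, 2, 4], [2]), (0, [4, 2, 4], [2]), (0, [4, 2, 4], [2]), (0, [4, 2, 4], [2]),
  (0, [4, 2, 4], [2]), (0, [4, 2, 4], [2]), (0, [4, 2, 4], [2]), (0, [4, 2, 4], [2]),
  (0, [4, 2, 4], [2]), (0, [4, 2, 4], [2]), (0, [4, 2, 4], [2]), (0, [4, 2, 4], [2]),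
  (0, [4, 2, 4], [2]), (0, [4, 2, 4], [2]), (0, [4, 2, 4], [2]), (0, [4, 2, 4], [2]),
  (0, [4, 2, 4], [2]), (0, [3, 4, 3], [4, 3, 4]), (0, [4, 2, 4], [2]), (0, [4, 2, 4], [2]),
  (0, [4, 2, 4], [2]), (0, [4, 2, 4], [2]), (0, [4, 2, 4], [2]), (0, [4, 2, 4], [2]),
  (0, [4, 2, 4], [2]), (0, [4, 2, 4], [2]), (0, [4, 2, 4], [2]), (0, [4, 2, 4], [2]),
  (0, [4, 2, 4], [2]), (0, [4, 2, 4], [2]), (0, [4, 2, 4], [2]), (0, [4, 2, 4], [2]),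
  (0, [4, 2, 4], [2]), (0, [4, 2, 4], [2]), (0, [4, 2, 4], [2]), (0, [4, 2, 4], [2]),
  (0, [4, 2, 4], [2]), (0, [4, 2, 4], [2]), (0, [4, 2, 4], [2]), (0, [4, 2, 4], [2]),
  (0, [4, 2, 4], [2]), (0, [4, 2, 4], [2]), (0, [4, 2, 4], [2]), (0, [4, 2, 4], [2]),
  (0, [4, 2, 4], [2]), (0, [4, 2, 4], [2]), (0, [3, 4, 3], [4, 3, 4]), (0, [4, 2, 4], [2]),
  (0, [4, 2, 4], [2]), (0, [4, 2, 4], [2]), (0, [4, 2, 4], [2]), (0, [4, 2, 4], [2]),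
  (0, [4, 2, 4], [2]), (0, [3, 4, 3], [4, 3, 4]), (0, [4, 2, 4], [2]), (0, [4, 2, 4], [2]),
  (0, [4, 2, 4], [2]), (0, [3, 4, 3], [4, 3, 4]), (0, [3, 4, 3], [4, 3, 4]), (0, [4, 2, 4], [2]),
  (0, [4, 2, 4], [2])]

/-- A node. -/
def tNode68 : TNode := ⟨[0, 1, 159, 25], [1, 0, 207, 40], 151, tOpt68x0 ++ tOpt68x1 ++ tOpt68x2 ++ tOpt68x3, []⟩

/-- Some options of a node. -/
def tOpt69x0 : List (ℕ × List ℕ × List ℕ) := [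
  (0, [1], [4]), (0, [0], [4]), (0, [4, 3, 4], [3]), (0, [4, 2, 4], [2]),
  (0, [4, 2, 4], [2]), (0, [4, 2, 4], [2]), (0, [4, 2, 4], [2]), (0, [4, 2, 4], [2]),
  (0, [4, 2, 4], [2]), (0, [4, 2, 4], [2]), (0, [4, 2, 4], [2]), (0, [4, 2, 4], [2]),
  (0, [4, 2, 4], [2]), (0, [4, 2, 4], [2]), (0, [4, 2, 4], [2]), (0, [4, 2, 4], [2]),
  (0, [4, 2, 4], [2]), (0, [4, 2, 4], [2]), (0, [4, 2, 4], [2]), (0, [4, 2, 4], [2]),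
  (0, [4, 2, 4], [2]), (0, [4, 2, 4], [2]), (0, [4, 2, 4], [2]), (0, [4, 2, 4], [2]),
  (0, [4, 2, 4], [2]), (0, [4, 2, 4], [2]), (0, [4, 2, 4], [2]), (0, [4, 2, 4], [2]),
  (0, [4, 3, 4], [3]), (0, [4, 3, 4], [3]), (0, [4, 3, 4], [3]), (0, [4, 2, 4], [2]),
  (0, [4, 3, 4], [3]), (0, [4, 2, 4], [2]), (0, [4, 2, 4], [2]), (0, [4, 3, 4], [3]),
  (0, [4, 2, 4], [2]), (0, [4, 3, 4], [3]), (0, [4, 2, 4], [2]), (0, [3, 4, 3], [4, 3, 4]),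
  (0, [4, 2, 4], [2]), (0, [4, 3, 4], [3]), (0, [4, 2, 4], [2]), (0, [4, 3, 4], [3]),
  (0, [4, 3, 4], [3]), (0, [3, 4, 3], [4, 3, 4]), (0, [4, 3, 4], [3]), (0, [4, 2, 4], [2]),
  (0, [4, 2, 4], [2]), (0, [4, 3, 4], [3]), (0, [4, 2, 4], [2]), (0, [4, 2, 4], [2]),
  (0, [4, 2, 4], [2]), (0, [4, 2, 4], [2]), (0, [3], [4]), (0, [4, 2, 4], [2]),
  (0, [4, 2, 4], [2]), (0, [4, 2, 4], [2]), (0, [4, 2, 4], [2]), (0, [4, 2, 4], [2]),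
  (0, [4, 2, 4], [2]), (0, [4, 2, 4], [2]), (0, [4, 3, 4], [3]), (0, [4, 2, 4], [2]),
  (0, [4, 2, 4], [2]), (0, [3, 4, 3], [4, 3, 4]), (0, [4, 2, 4], [2]), (0, [3, 4, 3], [4, 3, 4]),
  (0, [3, 4, 3], [4, 3, 4]), (0, [3, 4, 3], [4, 3, 4]), (0, [4, 2, 4], [2]), (0, [4, 2, 4], [2]),
  (0, [4, 2, 4], [2]), (0, [3, 4, 3], [4, 3, 4]), (0, [3, 4, 3], [4, 3, 4]), (0, [4, 2, 4], [2]),
  (0, [4, 2, 4], [2]), (0, [4, 2, 4], [2]), (0, [4, 2, 4], [2]), (0, [4, 2, 4], [2])]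

/-- Some options of a node. -/
def tOpt69x1 : List (ℕ × List ℕ × List ℕ) := [
  (0, [4, 2, 4], [2]), (0, [3, 4, 3], [4, 3, 4]), (0, [4, 2, 4], [2]), (0, [4, 2, 4], [2]),
  (0, [4, 2, 4], [2]), (0, [4, 2, 4], [2]), (0, [4, 3, 4], [3]), (0, [4, 2, 4], [2]),
  (0, [4, 2, 4], [2]), (0, [3, 4, 3], [4, 3, 4]), (0, [4, 2, 4], [2]), (0, [4, 2, 4], [2]),
  (0, [4, 3, 4], [3]), (0, [4, 2, 4], [2]), (0, [4, 2, 4], [2]), (0, [4, 2, 4], [2]),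
  (0, [4, 2, 4], [2]), (0, [4, 2, 4], [2]), (0, [4, 2, 4], [2]), (0, [4, 2, 4], [2]),
  (0, [4, 2, 4], [2]), (0, [4, 2, 4], [2]), (0, [4, 2, 4], [2]), (0, [4, 2, 4], [2]),
  (0, [4, 2, 4], [2]), (0, [4, 2, 4], [2]), (0, [4, 2, 4], [2]), (0, [4, 2, 4], [2]),
  (0, [4, 2, 4], [2]), (0, [4, 2, 4], [2]), (0, [4, 2, 4], [2]), (0, [4, 2, 4], [2]),
  (0, [4, 2, 4], [2]), (0, [4, 2, 4], [2]), (0, [4, 2, 4], [2]), (0, [4, 2, 4], [2]),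
  (0, [4, 2, 4], [2]), (0, [4, 2, 4], [2]), (0, [4, 2, 4], [2]), (0, [4, 2, 4], [2]),
  (0, [4, 2, 4], [2]), (0, [4, 2, 4], [2]), (0, [4, 2, 4], [2]), (0, [4, 2, 4], [2]),
  (0, [4, 2, 4], [2]), (0, [4, 2, 4], [2]), (0, [3, 4, 3], [4, 3, 4]), (0, [3, 4, 3], [4, 3, 4]),
  (0, [3, 4, 3], [4, 3, 4]), (0, [4, 2, 4], [2]), (0, [4, 2, 4], [2]), (0, [3, 4, 3], [4, 3, 4]),
  (0, [4, 2, 4], [2]), (0, [3, 4, 3], [4, 3, 4]), (0, [3, 4, 3], [4, 3, 4]), (0, [4, 2, 4], [2]),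
  (0, [4, 2, 4], [2]), (0, [4, 2, 4], [2]), (0, [3, 4, 3], [4, 3, 4]), (0, [3, 4, 3], [4, 3, 4]),
  (0, [4, 2, 4], [2]), (0, [4, 2, 4], [2]), (0, [4, 2, 4], [2]), (0, [3, 4, 3], [4, 3, 4]),
  (0, [4, 2, 4], [2]), (0, [3, 4, 3], [4, 3, 4]), (0, [3, 4, 3], [4, 3, 4]), (0, [3, 4, 3], [4, 3, 4]),
  (0, [4, 2, 4], [2]), (0, [3, 4, 3], [4, 3, 4]), (0, [3, 4, 3], [4, 3, 4]), (0, [3, 4, 3], [4, 3, 4]),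
  (0, [4, 2, 4], [2]), (0, [4, 2, 4], [2]), (0, [4, 2, 4], [2]), (0, [4, 2, 4], [2]),
  (0, [3, 4, 3], [4, 3, 4]), (0, [4, 2, 4], [2]), (0, [4, 2, 4], [2]), (0, [4, 2, 4], [2])]

/-- Some options of a node. -/
def tOpt69x2 : List (ℕ × List ℕ × List ℕ) := [
  (0, [4, 2, 4], [2]), (0, [4, 2, 4], [2]), (0, [4, 2, 4], [2]), (0, [4, 2, 4], [2]),
  (0, [4, 2, 4], [2]), (0, [4, 2, 4], [2]), (0, [4, 2, 4], [2]), (0, [3, 4, 3], [4, 3, 4]),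
  (0, [4, 2, 4], [2]), (0, [4, 2, 4], [2]), (0, [3, 4, 3], [4, 3, 4]), (0, [4, 2, 4], [2]),
  (0, [4, 2, 4], [2]), (0, [4, 2, 4], [2]), (0, [4, 3, 4], [3]), (0, [4, 2, 4], [2]),
  (0, [4, 2, 4], [2]), (0, [4, 3, 4], [3]), (0, [4, 3, 4], [3]), (0, [4, 2, 4], [2]),
  (0, [4, 2, 4], [2]), (0, [4, 2, 4], [2]), (0, [4, 2, 4], [2]), (0, [4, 2, 4], [2]),
  (0, [4, 2, 4], [2]), (0, [4, 2, 4], [2]), (0, [4, 2, 4], [2]), (0, [4, 3, 4], [3]),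
  (0, [4, 2, 4], [2]), (0, [3, 4, 3], [4, 3, 4]), (0, [4, 2, 4], [2]), (0, [4, 2, 4], [2]),
  (0, [4, 2, 4], [2]), (0, [4, 3, 4], [3]), (0, [4, 2, 4], [2]), (0, [4, 2, 4], [2]),
  (0, [4, 2, 4], [2]), (0, [4, 3, 4], [3]), (0, [4, 2, 4], [2]), (0, [4, 2, 4], [2]),
  (0, [4, 2, 4], [2]), (0, [4, 2, 4], [2]), (0, [4, 2, 4], [2]), (0, [4, 2, 4], [2]),
  (0, [3, 4, 3], [4, 3, 4]), (0, [4, 2, 4], [2]), (0, [3, 4, 3], [4, 3, 4]), (0, [2], [4]),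
  (0, [4, 2, 4], [2]), (0, [4, 3, 4], [2, 3, 2]), (0, [4, 3, 4], [2, 3, 2]), (0, [3, 4, 3], [4, 3, 4]),
  (0, [4, 2, 4], [2]), (0, [4, 2, 4], [2]), (0, [4, 2, 4], [2]), (0, [4, 2, 4], [2]),
  (0, [4, 2, 4], [2]), (0, [4, 3, 4], [2, 3, 2]), (0, [3, 4, 3], [4, 3, 4]), (0, [3, 4, 3], [4, 3, 4]),
  (0, [4, 2, 4], [2]), (0, [4, 2, 4], [2]), (0, [4, 2, 4], [2]), (0, [4, 2, 4], [2]),
  (0, [3, 2, 3], [4]), (0, [4, 2, 4], [2]), (0, [4, 2, 4], [2]), (0, [4, 3, 4], [2, 3, 2]),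
  (0, [3, 4, 3], [4, 3, 4]), (0, [3, 4, 3], [4, 3, 4]), (0, [4, 2, 4], [2]), (0, [4, 3, 4], [3]),
  (0, [4, 2, 4], [2]), (0, [4, 2, 4], [2]), (0, [3, 4, 3], [4, 3, 4]), (0, [4, 2, 4], [2]),
  (0, [4, 3, 4], [2, 3, 2]), (0, [3, 4, 3], [4, 3, 4]), (0, [4, 3, 4], [3]), (0, [4, 2, 4], [2])]

/-- Some options of a node. -/
def tOpt69x3 : List (ℕ × List ℕ × List ℕ) := [
  (0, [4, 2, 4], [2]), (0, [4, 2, 4], [2]), (0, [4, 2, 4], [2]), (0, [4, 2, 4], [2]),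
  (0, [4, 2, 4], [2]), (0, [3, 4, 3], [4, 3, 4]), (0, [4, 2, 4], [2]), (0, [4, 2, 4], [2]),
  (0, [4, 2, 4], [2]), (0, [4, 2, 4], [2]), (0, [4, 2, 4], [2]), (0, [4, 2, 4], [2]),
  (0, [4, 2, 4], [2]), (0, [4, 2, 4], [2]), (0, [4, 2, 4], [2]), (0, [4, 3, 4], [2, 3, 2]),
  (0, [4, 2, 4], [2]), (0, [4, 2, 4], [2]), (0, [4, 2, 4], [2]), (0, [4, 2, 4], [2]),
  (0, [4, 2, 4], [2]), (0, [4, 2, 4], [2]), (0, [4, 2, 4], [2]), (0, [4, 2, 4], [2]),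
  (0, [4, 2, 4], [2]), (0, [4, 2, 4], [2]), (0, [4, 2, 4], [2]), (0, [4, 2, 4], [2]),
  (0, [4, 2, 4], [2]), (0, [4, 2, 4], [2]), (0, [4, 2, 4], [2]), (0, [4, 2, 4], [2]),
  (0, [4, 2, 4], [2]), (0, [3, 4, 3], [4, 3, 4]), (0, [4, 2, 4], [2]), (0, [4, 2, 4], [2]),
  (0, [4, 2, 4], [2]), (0, [4, 2, 4], [2]), (0, [4, 2, 4], [2]), (0, [4, 2, 4], [2]),
  (0, [4, 2, 4], [2]), (0, [4, 2, 4], [2]), (0, [4, 2, 4], [2]), (0, [4, 2, 4], [2]),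
  (0, [4, 2, 4], [2]), (0, [4, 2, 4], [2]), (0, [4, 2, 4], [2]), (0, [4, 2, 4], [2]),
  (0, [4, 2, 4], [2]), (0, [4, 2, 4], [2]), (0, [4, 2, 4], [2]), (0, [4, 2, 4], [2]),
  (0, [4, 2, 4], [2]), (0, [4, 2, 4], [2]), (0, [4, 2, 4], [2]), (0, [4, 2, 4], [2]),
  (0, [4, 2, 4], [2]), (0, [4, 2, 4], [2]), (0, [4, 2, 4], [2]), (0, [4, 2, 4], [2]),
  (0, [4, 2, 4], [2]), (0, [4, 2, 4], [2]), (0, [3, 4, 3], [4, 3, 4]), (0, [4, 2, 4], [2]),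
  (0, [4, 2, 4], [2]), (0, [4, 2, 4], [2]), (0, [4, 2, 4], [2]), (0, [4, 2, 4], [2]),
  (0, [4, 2, 4], [2]), (0, [3, 4, 3], [4, 3, 4]), (0, [4, 2, 4], [2]), (0, [4, 2, 4], [2]),
  (0, [4, 2, 4], [2]), (0, [3, 4, 3], [4, 3, 4]), (0, [3, 4, 3], [4, 3, 4]), (0, [4, 2, 4], [2]),
  (0, [4, 2, 4], [2])]

/-- A node. -/
def tNode69 : TNode := ⟨[0, 1, 159, 25], [1, 0, 207, 54], 10, tOpt69x0 ++ tOpt69x1 ++ tOpt69x2 ++ tOpt69x3, []⟩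

/-- Some options of a node. -/
def tOpt70x0 : List (ℕ × List ℕ × List ℕ) := [
  (0, [1], [4]), (0, [0], [4]), (0, [4, 2, 4], [2]), (0, [3, 4, 2, 4, 3], [4, 2, 4]),
  (0, [3, 4, 2, 4, 3], [4, 2, 4]), (0, [4, 2, 4], [3, 2, 3]), (0, [3, 4, 2, 4, 3], [4, 2, 4]), (0, [3, 4, 2, 4, 3], [4, 2, 4]),
  (0, [4, 2, 4], [3, 2, 3]), (0, [3, 4, 2, 4, 3], [4, 2, 4]), (0, [3, 4, 2, 4, 3], [4, 2, 4]), (0, [3, 4, 2, 4, 3], [4, 2, 4]),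
  (0, [3, 4, 2, 4, 3], [4, 2, 4]), (0, [3, 4, 2, 4, 3], [4, 2, 4]), (0, [3, 4, 2, 4, 3], [4, 2, 4]), (0, [3, 4, 2, 4, 3], [4, 2, 4]),
  (0, [3, 4, 2, 4, 3], [4, 2, 4]), (0, [3, 4, 2, 4, 3], [4, 2, 4]), (0, [3, 4, 2, 4, 3], [4, 2, 4]), (0, [3, 4, 2, 4, 3], [4, 2, 4]),
  (0, [3, 4, 2, 4, 3], [4, 2, 4]), (0, [3, 4, 2, 4, 3], [4, 3, 2, 3, 4]), (0, [3, 4, 2, 4, 3], [4, 2, 4]), (0, [3, 4, 2, 4, 3], [4, 2, 4]),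
  (0, [3, 4, 2, 4, 3], [4, 2, 4]), (0, [3, 4, 2, 4, 3], [4, 2, 4]), (0, [3, 4, 2, 4, 3], [4, 2, 4]), (0, [3, 4, 2, 4, 3], [4, 2, 4]),
  (0, [4, 2, 4], [2]), (0, [4, 2, 4], [2]), (0, [4, 2, 4], [2]), (0, [3, 4, 2, 4, 3], [4, 2, 4]),
  (0, [4, 2, 4], [2]), (0, [3, 4, 2, 4, 3], [4, 3, 2, 3, 4]), (0, [3, 4, 2, 4, 3], [4, 2, 4]), (0, [4, 2, 4], [2]),
  (0, [3, 4, 2, 4, 3], [4, 3, 2, 3, 4]), (0, [4, 2, 4], [2]), (0, [3, 4, 2, 4, 3], [4, 3, 2, 3, 4]), (0, [4, 2, 4], [2]),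
  (0, [3, 4, 2, 4, 3], [4, 2, 4]), (0, [4, 2, 4], [2]), (0, [3, 4, 2, 4, 3], [4, 3, 2, 3, 4]), (0, [4, 2, 4], [2]),
  (0, [4, 2, 4], [2]), (0, [4, 2, 4], [2]), (0, [4, 2, 4], [2]), (0, [3, 4, 2, 4, 3], [4, 3, 2, 3, 4]),
  (0, [3, 4, 2, 4, 3], [4, 2, 4]), (0, [4, 2, 4], [2]), (0, [3, 4, 2, 4, 3], [4, 3, 2, 3, 4]), (0, [4, 3, 4], [3]),
  (0, [4, 3, 4], [3]), (0, [4, 3, 4], [3]), (0, [3, 4, 2, 4, 3], [4, 2, 4]), (0, [3, 4, 2, 4, 3], [4, 2, 4]),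
  (0, [3, 4, 2, 4, 3], [4, 2, 4]), (0, [3, 4, 2, 4, 3], [4, 3, 2, 3, 4]), (0, [4, 3, 4], [3]), (0, [4, 3, 4], [3]),
  (0, [4, 3, 4], [3]), (0, [3, 4, 2, 4, 3], [4, 2, 4]), (0, [4, 2, 4], [2]), (0, [3, 4, 2, 4, 3], [4, 2, 4]),
  (0, [3, 4, 2, 4, 3], [4, 2, 4]), (0, [4, 2, 4], [2]), (0, [4, 3, 4], [3]), (0, [4, 2, 4], [2]),
  (0, [4, 2, 4], [2]), (0, [4, 2, 4], [2]), (0, [3, 4, 2, 4, 3], [4, 2, 4]), (0, [3, 4, 2, 4, 3], [4, 2, 4]),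
  (0, [3, 4, 2, 4, 3], [4, 2, 4]), (0, [4, 2, 4], [2]), (0, [4, 2, 4], [2]), (0, [4, 3, 4], [3]),
  (0, [3, 4, 2, 4, 3], [4, 2, 4]), (0, [3, 4, 2, 4, 3], [4, 2, 4]), (0, [3, 4, 2, 4, 3], [4, 2, 4]), (0, [4, 3, 4], [3])]

/-- Some options of a node. -/
def tOpt70x1 : List (ℕ × List ℕ × List ℕ) := [
  (0, [4, 3, 4], [3]), (0, [4, 2, 4], [2]), (0, [4, 3, 4], [3]), (0, [4, 3, 4], [3]),
  (0, [4, 3, 4], [3]), (0, [4, 3, 4], [3]), (0, [4, 2, 4], [2]), (0, [3, 4, 2, 4, 3], [4, 2, 4]),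
  (0, [4, 3, 4], [3]), (0, [4, 2, 4], [2]), (0, [4, 3, 4], [3]), (0, [3, 4, 2, 4, 3], [4, 2, 4]),
  (0, [4, 2, 4], [2]), (0, [4, 3, 4], [3]), (0, [4, 3, 4], [3]), (0, [4, 3, 4], [3]),
  (0, [3], [4]), (0, [4, 3, 4], [3]), (0, [4, 3, 4], [3]), (0, [4, 3, 4], [3]),
  (0, [4, 2, 4], [3, 2, 3]), (0, [4, 2, 4], [3, 2, 3]), (0, [4, 3, 4], [3]), (0, [4, 3, 4], [3]),
  (0, [4, 2, 4], [3, 2, 3]), (0, [4, 3, 4], [3]), (0, [4, 3, 4], [3]), (0, [4, 3, 4], [3]),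
  (0, [4, 3, 4], [3]), (0, [3, 4, 2, 4, 3], [4, 2, 4]), (0, [4, 3, 4], [3]), (0, [4, 3, 4], [3]),
  (0, [4, 3, 4], [3]), (0, [4, 3, 4], [3]), (0, [3, 4, 2, 4, 3], [4, 2, 4]), (0, [3, 4, 2, 4, 3], [4, 2, 4]),
  (0, [4, 3, 4], [3]), (0, [4, 3, 4], [3]), (0, [4, 3, 4], [3]), (0, [3, 4, 2, 4, 3], [4, 3, 2, 3, 4]),
  (0, [3, 4, 2, 4, 3], [4, 2, 4]), (0, [3, 4, 2, 4, 3], [4, 2, 4]), (0, [4, 3, 4], [3]), (0, [4, 3, 4], [3]),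
  (0, [3, 4, 2, 4, 3], [4, 2, 4]), (0, [4, 3, 4], [3]), (0, [4, 2, 4], [2]), (0, [4, 2, 4], [2]),
  (0, [4, 2, 4], [2]), (0, [3, 4, 2, 4, 3], [4, 2, 4]), (0, [3, 4, 2, 4, 3], [4, 2, 4]), (0, [4, 2, 4], [2]),
  (0, [4, 3, 4], [3]), (0, [4, 2, 4], [2]), (0, [4, 2, 4], [2]), (0, [3, 4, 2, 4, 3], [4, 3, 2, 3, 4]),
  (0, [4, 3, 4], [3]), (0, [3, 4, 2, 4, 3], [4, 3, 2, 3, 4]), (0, [4, 2, 4], [2]), (0, [4, 2, 4], [2]),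
  (0, [3, 4, 2, 4, 3], [4, 3, 2, 3, 4]), (0, [3, 4, 2, 4, 3], [4, 3, 2, 3, 4]), (0, [3, 4, 2, 4, 3], [4, 2, 4]), (0, [4, 2, 4], [2]),
  (0, [3, 4, 2, 4, 3], [4, 3, 2, 3, 4]), (0, [4, 2, 4], [2]), (0, [4, 2, 4], [2]), (0, [4, 2, 4], [2]),
  (0, [3, 4, 2, 4, 3], [4, 3, 2, 3, 4]), (0, [4, 2, 4], [2]), (0, [4, 2, 4], [2]), (0, [4, 2, 4], [2]),
  (0, [3, 4, 2, 4, 3], [4, 2, 4]), (0, [3, 4, 2, 4, 3], [4, 2, 4]), (0, [3, 4, 2, 4, 3], [4, 2, 4]), (0, [3, 4, 2, 4, 3], [4, 3, 2, 3, 4]),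
  (0, [4, 2, 4], [2]), (0, [3, 4, 2, 4, 3], [4, 2, 4]), (0, [3, 4, 2, 4, 3], [4, 2, 4]), (0, [3, 4, 2, 4, 3], [4, 2, 4])]

/-- Some options of a node. -/
def tOpt70x2 : List (ℕ × List ℕ × List ℕ) := [
  (0, [3, 4, 2, 4, 3], [4, 2, 4]), (0, [3, 4, 2, 4, 3], [4, 2, 4]), (0, [3, 4, 2, 4, 3], [4, 2, 4]), (0, [3, 4, 2, 4, 3], [4, 2, 4]),
  (0, [3, 4, 2, 4, 3], [4, 2, 4]), (0, [3, 4, 2, 4, 3], [4, 2, 4]), (0, [3, 4, 2, 4, 3], [4, 2, 4]), (0, [4, 2, 4], [2]),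
  (0, [3, 4, 2, 4, 3], [4, 2, 4]), (0, [3, 4, 2, 4, 3], [4, 2, 4]), (0, [4, 2, 4], [2]), (0, [4, 2, 4], [3, 2, 3]),
  (0, [4, 2, 4], [3, 2, 3]), (0, [4, 3, 4], [3]), (0, [4, 2, 4], [2]), (0, [4, 2, 4], [3, 2, 3]),
  (0, [4, 2, 4], [3, 2, 3]), (0, [4, 2, 4], [2]), (0, [4, 2, 4], [2]), (0, [4, 3, 4], [3]),
  (0, [4, 2, 4], [3, 2, 3]), (0, [4, 3, 4], [3]), (0, [4, 2, 4], [3, 2, 3]), (0, [4, 3, 4], [3]),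
  (0, [4, 3, 4], [3]), (0, [4, 3, 4], [3]), (0, [4, 3, 4], [3]), (0, [4, 2, 4], [2]),
  (0, [4, 3, 4], [3]), (0, [4, 2, 4], [2]), (0, [4, 3, 4], [3]), (0, [4, 3, 4], [3]),
  (0, [4, 2, 4], [3, 2, 3]), (0, [4, 2, 4], [2]), (0, [4, 2, 4], [3, 2, 3]), (0, [4, 3, 4], [3]),
  (0, [4, 2, 4], [3, 2, 3]), (0, [4, 2, 4], [2]), (0, [4, 3, 4], [3]), (0, [4, 2, 4], [3, 2, 3]),
  (0, [4, 3, 4], [3]), (0, [4, 3, 4], [3]), (0, [4, 3, 4], [3]), (0, [4, 3, 4], [3]),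
  (0, [4, 2, 4], [2]), (0, [4, 3, 4], [3]), (0, [4, 2, 4], [2]), (0, [2], [4]),
  (0, [4, 3, 4], [3]), (0, [4, 2, 4], [2]), (0, [3, 2, 3], [4]), (0, [4, 2, 4], [2]),
  (0, [4, 2, 4], [3, 2, 3]), (0, [4, 2, 4], [3, 2, 3]), (0, [2, 4, 2], [4, 2, 4]), (0, [2, 4, 2], [4, 2, 4]),
  (0, [2, 4, 2], [4, 2, 4]), (0, [4, 2, 4], [2]), (0, [4, 2, 4], [2]), (0, [4, 2, 4], [2]),
  (0, [4, 3, 4], [3]), (0, [2, 4, 2], [4, 2, 4]), (0, [2, 4, 2], [4, 2, 4]), (0, [2, 4, 2], [4, 2, 4]),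
  (0, [4, 2, 4], [2]), (0, [4, 2, 4], [3, 2, 3]), (0, [4, 2, 4], [3, 2, 3]), (0, [4, 2, 4], [2]),
  (0, [4, 2, 4], [2]), (0, [4, 2, 4], [2]), (0, [2, 4, 2], [4, 2, 4]), (0, [4, 2, 4], [2]),
  (0, [2, 4, 2], [4, 2, 4]), (0, [4, 2, 4], [3, 2, 3]), (0, [4, 2, 4], [2]), (0, [4, 2, 4], [3, 2, 3]),
  (0, [4, 2, 4], [2]), (0, [4, 2, 4], [2]), (0, [4, 2, 4], [2]), (0, [4, 3, 4], [3])]

/-- Some options of a node. -/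
def tOpt70x3 : List (ℕ × List ℕ × List ℕ) := [
  (0, [2, 4, 2], [4, 2, 4]), (0, [2, 4, 2], [4, 2, 4]), (0, [2, 4, 2], [4, 2, 4]), (0, [2, 4, 2], [4, 2, 4]),
  (0, [2, 4, 2], [4, 2, 4]), (0, [4, 2, 4], [2]), (0, [4, 3, 4], [3]), (0, [4, 2, 4], [3, 2, 3]),
  (0, [2, 4, 2], [4, 2, 4]), (0, [2, 4, 2], [4, 2, 4]), (0, [2, 4, 2], [4, 2, 4]), (0, [2, 4, 2], [4, 2, 4]),
  (0, [2, 4, 2], [4, 2, 4]), (0, [4, 2, 4], [3, 2, 3]), (0, [4, 2, 4], [3, 2, 3]), (0, [4, 2, 4], [2]),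
  (0, [2, 4, 2], [4, 2, 4]), (0, [2, 4, 2], [4, 2, 4]), (0, [2, 4, 2], [4, 2, 4]), (0, [2, 4, 2], [4, 2, 4]),
  (0, [2, 4, 2], [4, 2, 4]), (0, [2, 4, 2], [4, 2, 4]), (0, [2, 4, 2], [4, 2, 4]), (0, [4, 3, 4], [3]),
  (0, [2, 4, 2], [4, 2, 4]), (0, [2, 4, 2], [4, 2, 4]), (0, [4, 2, 4], [3, 2, 3]), (0, [2, 4, 2], [4, 2, 4]),
  (0, [2, 4, 2], [4, 2, 4]), (0, [2, 4, 2], [4, 2, 4]), (0, [2, 4, 2], [4, 2, 4]), (0, [2, 4, 2], [4, 2, 4]),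
  (0, [4, 2, 4], [3, 2, 3]), (0, [4, 2, 4], [2]), (0, [4, 2, 4], [3, 2, 3]), (0, [2, 4, 2], [4, 2, 4]),
  (0, [2, 4, 2], [4, 2, 4]), (0, [2, 4, 2], [4, 2, 4]), (0, [2, 4, 2], [4, 2, 4]), (0, [2, 4, 2], [4, 2, 4]),
  (0, [4, 3, 4], [3]), (0, [4, 3, 4], [3]), (0, [2, 4, 2], [4, 2, 4]), (0, [2, 4, 2], [4, 2, 4]),
  (0, [2, 4, 2], [4, 2, 4]), (0, [2, 4, 2], [4, 2, 4]), (0, [2, 4, 2], [4, 2, 4]), (0, [2, 4, 2], [4, 2, 4]),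
  (0, [2, 4, 2], [4, 2, 4]), (0, [2, 4, 2], [4, 2, 4]), (0, [2, 4, 2], [4, 2, 4]), (0, [2, 4, 2], [4, 2, 4]),
  (0, [2, 4, 2], [4, 2, 4]), (0, [2, 4, 2], [4, 2, 4]), (0, [2, 4, 2], [4, 2, 4]), (0, [2, 4, 2], [4, 2, 4]),
  (0, [2, 4, 2], [4, 2, 4]), (0, [2, 4, 2], [4, 2, 4]), (0, [2, 4, 2], [4, 2, 4]), (0, [2, 4, 2], [4, 2, 4]),
  (0, [2, 4, 2], [4, 2, 4]), (0, [2, 4, 2], [4, 2, 4]), (0, [4, 2, 4], [2]), (0, [2, 4, 2], [4, 2, 4]),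
  (0, [2, 4, 2], [4, 2, 4]), (0, [2, 4, 2], [4, 2, 4]), (0, [2, 4, 2], [4, 2, 4]), (0, [4, 2, 4], [3, 2, 3]),
  (0, [4, 2, 4], [3, 2, 3]), (0, [4, 2, 4], [2]), (0, [2, 4, 2], [4, 2, 4]), (0, [2, 4, 2], [4, 2, 4]),
  (0, [2, 4, 2], [4, 2, 4]), (0, [4, 2, 4], [2]), (0, [4, 2, 4], [2]), (0, [4, 2, 4], [3, 2, 3]),
  (0, [4, 2, 4], [3, 2, 3])]

/-- A node. -/
def tNode70 : TNode := ⟨[0, 1, 159, 25], [1, 0, 207, 96], 243, tOpt70x0 ++ tOpt70x1 ++ tOpt70x2 ++ tOpt70x3, []⟩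

/-- Some options of a node. -/
def tOpt71x0 : List (ℕ × List ℕ × List ℕ) := [
  (0, [1], [4]), (0, [0], [4]), (0, [4, 2, 4], [2]), (0, [3, 4, 2, 3, 2, 4, 3], [4, 2, 3, 2, 4]),
  (0, [4, 3, 4], [3]), (0, [4, 3, 4], [3]), (0, [3, 4, 2, 3, 2, 4, 3], [4, 2, 3, 2, 4]), (0, [4, 3, 4], [3]),
  (0, [4, 3, 4], [3]), (0, [3, 4, 2, 3, 2, 4, 3], [4, 2, 3, 2, 4]), (0, [3, 4, 2, 3, 2, 4, 3], [4, 2, 3, 2, 4]), (0, [4, 3, 4], [3]),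
  (0, [4, 3, 4], [3]), (0, [4, 3, 4], [3]), (0, [3, 4, 2, 3, 2, 4, 3], [4, 2, 3, 2, 4]), (0, [3, 4, 2, 3, 2, 4, 3], [4, 2, 3, 2, 4]),
  (0, [4, 3, 4], [3]), (0, [4, 3, 4], [3]), (0, [4, 3, 4], [3]), (0, [3, 4, 2, 3, 2, 4, 3], [4, 2, 3, 2, 4]),
  (0, [4, 3, 4], [3]), (0, [4, 3, 4], [3]), (0, [4, 3, 4], [3]), (0, [4, 3, 4], [3]),
  (0, [3, 4, 2, 3, 2, 4, 3], [4, 2, 3, 2, 4]), (0, [4, 3, 4], [3]), (0, [4, 3, 4], [3]), (0, [4, 3, 4], [3]),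
  (0, [4, 2, 4], [2]), (0, [4, 2, 4], [2]), (0, [4, 2, 4], [2]), (0, [4, 3, 4], [3]),
  (0, [4, 2, 4], [2]), (0, [4, 3, 4], [3]), (0, [4, 3, 4], [3]), (0, [4, 2, 4], [2]),
  (0, [4, 2, 4], [3, 2, 3]), (0, [4, 2, 4], [2]), (0, [4, 2, 4], [3, 2, 3]), (0, [4, 2, 4], [2]),
  (0, [4, 3, 4], [3]), (0, [4, 2, 4], [2]), (0, [4, 3, 4], [3]), (0, [4, 2, 4], [2]),
  (0, [4, 2, 4], [2]), (0, [4, 2, 4], [2]), (0, [4, 2, 4], [2]), (0, [4, 2, 4], [3, 2, 3]),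
  (0, [4, 3, 4], [3]), (0, [4, 2, 4], [2]), (0, [4, 2, 4], [3, 2, 3]), (0, [4, 3, 2, 3, 4], [3, 2, 3]),
  (0, [4, 3, 2, 3, 4], [3, 2, 3]), (0, [4, 3, 2, 3, 4], [3, 2, 3]), (0, [4, 3, 4], [3]), (0, [4, 3, 4], [3]),
  (0, [4, 3, 4], [3]), (0, [4, 3, 4], [3]), (0, [4, 3, 2, 3, 4], [3, 2, 3]), (0, [4, 3, 2, 3, 4], [3, 2, 3]),
  (0, [4, 3, 2, 3, 4], [3, 2, 3]), (0, [4, 3, 4], [3]), (0, [4, 2, 4], [2]), (0, [4, 3, 4], [3]),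
  (0, [4, 3, 4], [3]), (0, [4, 2, 4], [2]), (0, [3, 4, 2, 3, 2, 4, 3], [4, 2, 3, 2, 4]), (0, [4, 2, 4], [2]),
  (0, [4, 2, 4], [2]), (0, [4, 2, 4], [2]), (0, [4, 3, 4], [3]), (0, [4, 3, 4], [3]),
  (0, [4, 3, 4], [3]), (0, [4, 2, 4], [2]), (0, [4, 2, 4], [2]), (0, [3, 4, 2, 3, 2, 4, 3], [4, 2, 3, 2, 4]),
  (0, [4, 3, 4], [3]), (0, [4, 3, 4], [3]), (0, [4, 3, 4], [3]), (0, [3, 4, 2, 3, 2, 4, 3], [4, 2, 3, 2, 4])]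

/-- Some options of a node. -/
def tOpt71x1 : List (ℕ × List ℕ × List ℕ) := [
  (0, [4, 3, 2, 3, 4], [3, 2, 3]), (0, [4, 2, 4], [2]), (0, [3, 4, 2, 3, 2, 4, 3], [4, 2, 3, 2, 4]), (0, [3, 4, 2, 3, 2, 4, 3], [4, 2, 3, 2, 4]),
  (0, [4, 3, 2, 3, 4], [3, 2, 3]), (0, [3, 4, 2, 3, 2, 4, 3], [4, 2, 3, 2, 4]), (0, [4, 2, 4], [2]), (0, [4, 3, 4], [3]),
  (0, [3, 4, 2, 3, 2, 4, 3], [4, 2, 3, 2, 4]), (0, [4, 2, 4], [2]), (0, [3, 4, 2, 3, 2, 4, 3], [4, 2, 3, 2, 4]), (0, [4, 3, 4], [3]),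
  (0, [4, 2, 4], [2]), (0, [3, 4, 2, 3, 2, 4, 3], [4, 2, 3, 2, 4]), (0, [3, 4, 2, 3, 2, 4, 3], [4, 2, 3, 2, 4]), (0, [4, 2, 3, 2, 4], [2, 3, 2]),
  (0, [4, 3, 4], [3]), (0, [3, 4, 2, 3, 2, 4, 3], [4, 2, 3, 2, 4]), (0, [3, 4, 2, 3, 2, 4, 3], [4, 2, 3, 2, 4]), (0, [3, 4, 2, 3, 2, 4, 3], [4, 2, 3, 2, 4]),
  (0, [4, 3, 4], [3]), (0, [4, 3, 4], [3]), (0, [3, 4, 2, 3, 2, 4, 3], [4, 2, 3, 2, 4]), (0, [4, 2, 3, 2, 4], [2, 3, 2]),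
  (0, [4, 3, 4], [3]), (0, [3, 4, 2, 3, 2, 4, 3], [4, 2, 3, 2, 4]), (0, [4, 2, 3, 2, 4], [2, 3, 2]), (0, [4, 2, 3, 2, 4], [2, 3, 2]),
  (0, [4, 3, 4], [3]), (0, [3, 4, 2, 3, 2, 4, 3], [4, 2, 3, 2, 4]), (0, [3, 4, 2, 3, 2, 4, 3], [4, 2, 3, 2, 4]), (0, [4, 3, 4], [3]),
  (0, [4, 2, 3, 2, 4], [2, 3, 2]), (0, [4, 2, 3, 2, 4], [2, 3, 2]), (0, [3, 4, 2, 3, 2, 4, 3], [4, 2, 3, 2, 4]), (0, [3, 4, 2, 3, 2, 4, 3], [4, 2, 3, 2, 4]),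
  (0, [4, 2, 3, 2, 4], [2, 3, 2]), (0, [4, 3, 4], [3]), (0, [4, 3, 4], [3]), (0, [4, 3, 2, 3, 4], [3, 2, 3]),
  (0, [3, 4, 2, 3, 2, 4, 3], [4, 2, 3, 2, 4]), (0, [3, 4, 2, 3, 2, 4, 3], [4, 2, 3, 2, 4]), (0, [4, 3, 4], [3]), (0, [4, 3, 4], [3]),
  (0, [3, 4, 2, 3, 2, 4, 3], [4, 2, 3, 2, 4]), (0, [4, 2, 3, 2, 4], [2, 3, 2]), (0, [4, 2, 4], [2]), (0, [4, 2, 4], [2]),
  (0, [4, 2, 4], [2]), (0, [3, 4, 2, 3, 2, 4, 3], [4, 2, 3, 2, 4]), (0, [3, 4, 2, 3, 2, 4, 3], [4, 2, 3, 2, 4]), (0, [4, 2, 4], [2]),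
  (0, [4, 3, 4], [3]), (0, [4, 2, 4], [2]), (0, [4, 2, 4], [2]), (0, [4, 3, 2, 3, 4], [3, 2, 3]),
  (0, [4, 3, 4], [3]), (0, [4, 3, 2, 3, 4], [3, 2, 3]), (0, [4, 2, 4], [2]), (0, [4, 2, 4], [2]),
  (0, [4, 3, 2, 3, 4], [3, 2, 3]), (0, [4, 3, 2, 3, 4], [3, 2, 3]), (0, [4, 2, 3, 2, 4], [2, 3, 2]), (0, [4, 2, 4], [2]),
  (0, [4, 3, 2, 3, 4], [3, 2, 3]), (0, [4, 2, 4], [2]), (0, [4, 2, 4], [2]), (0, [4, 2, 4], [2]),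
  (0, [4, 3, 2, 3, 4], [3, 2, 3]), (0, [4, 2, 4], [2]), (0, [4, 2, 4], [2]), (0, [4, 2, 4], [2]),
  (0, [4, 2, 3, 2, 4], [2, 3, 2]), (0, [4, 2, 3, 2, 4], [2, 3, 2]), (0, [4, 3, 4], [3]), (0, [4, 3, 2, 3, 4], [3, 2, 3]),
  (0, [4, 2, 4], [2]), (0, [4, 3, 4], [3]), (0, [4, 2, 3, 2, 4], [2, 3, 2]), (0, [4, 2, 3, 2, 4], [2, 3, 2])]

/-- Some options of a node. -/
def tOpt71x2 : List (ℕ × List ℕ × List ℕ) := [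
  (0, [4, 2, 3, 2, 4], [2, 3, 2]), (0, [4, 3, 4], [3]), (0, [4, 3, 4], [3]), (0, [4, 2, 3, 2, 4], [2, 3, 2]),
  (0, [4, 3, 4], [3]), (0, [4, 3, 4], [3]), (0, [4, 2, 3, 2, 4], [2, 3, 2]), (0, [4, 2, 4], [2]),
  (0, [4, 3, 4], [3]), (0, [4, 3, 4], [3]), (0, [4, 2, 4], [2]), (0, [4, 3, 4], [3]),
  (0, [4, 3, 4], [3]), (0, [3], [4]), (0, [4, 2, 4], [2]), (0, [4, 3, 4], [3]),
  (0, [4, 3, 4], [3]), (0, [4, 2, 4], [2]), (0, [4, 2, 4], [2]), (0, [4, 3, 4], [3]),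
  (0, [4, 3, 4], [3]), (0, [4, 3, 4], [3]), (0, [4, 3, 4], [3]), (0, [4, 2, 4], [3, 2, 3]),
  (0, [4, 3, 4], [3]), (0, [4, 3, 4], [3]), (0, [4, 3, 4], [3]), (0, [4, 2, 4], [2]),
  (0, [4, 2, 4], [3, 2, 3]), (0, [4, 2, 4], [2]), (0, [4, 3, 4], [3]), (0, [4, 2, 4], [3, 2, 3]),
  (0, [4, 3, 2, 3, 4], [3, 2, 3]), (0, [4, 2, 4], [2]), (0, [4, 3, 2, 3, 4], [3, 2, 3]), (0, [4, 3, 4], [3]),
  (0, [4, 3, 2, 3, 4], [3, 2, 3]), (0, [4, 2, 4], [2]), (0, [3, 4, 2, 4, 3], [4, 3, 2, 3, 4]), (0, [4, 3, 2, 3, 4], [3, 2, 3]),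
  (0, [3, 4, 2, 4, 3], [4, 3, 2, 3, 4]), (0, [4, 3, 4], [3]), (0, [4, 3, 4], [3]), (0, [3, 4, 2, 4, 3], [4, 3, 2, 3, 4]),
  (0, [4, 2, 4], [2]), (0, [3, 4, 2, 4, 3], [4, 3, 2, 3, 4]), (0, [4, 2, 4], [2]), (0, [2], [4]),
  (0, [4, 3, 4], [3]), (0, [4, 2, 4], [2]), (0, [4, 2, 4], [2]), (0, [4, 2, 4], [2]),
  (0, [4, 3, 2, 3, 4], [3, 2, 3]), (0, [4, 3, 2, 3, 4], [3, 2, 3]), (0, [4, 3, 4], [3]), (0, [4, 3, 4], [3]),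
  (0, [2, 4, 2], [4, 2, 4]), (0, [3, 2, 3], [4]), (0, [4, 2, 4], [2]), (0, [4, 2, 4], [2]),
  (0, [4, 3, 4], [3]), (0, [4, 3, 4], [3]), (0, [4, 3, 4], [3]), (0, [2, 4, 2], [4, 2, 4]),
  (0, [4, 2, 4], [2]), (0, [3, 4, 2, 4, 3], [4, 3, 2, 3, 4]), (0, [3, 4, 2, 4, 3], [4, 3, 2, 3, 4]), (0, [4, 2, 4], [2]),
  (0, [4, 2, 4], [2]), (0, [4, 2, 4], [2]), (0, [2, 4, 2], [4, 2, 4]), (0, [4, 2, 4], [2]),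
  (0, [2, 4, 2], [4, 2, 4]), (0, [4, 3, 2, 3, 4], [3, 2, 3]), (0, [4, 2, 4], [2]), (0, [4, 3, 2, 3, 4], [3, 2, 3]),
  (0, [4, 2, 4], [2]), (0, [4, 2, 4], [2]), (0, [4, 2, 4], [2]), (0, [3, 4, 2, 4, 3], [4, 3, 2, 3, 4])]

/-- Some options of a node. -/
def tOpt71x3 : List (ℕ × List ℕ × List ℕ) := [
  (0, [2, 4, 2], [4, 2, 4]), (0, [4, 3, 4], [3]), (0, [2, 4, 2], [4, 2, 4]), (0, [2, 4, 2], [4, 2, 4]),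
  (0, [2, 4, 2], [4, 2, 4]), (0, [4, 2, 4], [2]), (0, [4, 3, 4], [3]), (0, [4, 3, 2, 3, 4], [3, 2, 3]),
  (0, [4, 3, 4], [3]), (0, [2, 4, 2], [4, 2, 4]), (0, [2, 4, 2], [4, 2, 4]), (0, [2, 4, 2], [4, 2, 4]),
  (0, [2, 4, 2], [4, 2, 4]), (0, [3, 4, 2, 4, 3], [4, 3, 2, 3, 4]), (0, [3, 4, 2, 4, 3], [4, 3, 2, 3, 4]), (0, [4, 2, 4], [2]),
  (0, [4, 3, 4], [3]), (0, [4, 3, 4], [3]), (0, [2, 4, 2], [4, 2, 4]), (0, [2, 4, 2], [4, 2, 4]),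
  (0, [2, 4, 2], [4, 2, 4]), (0, [2, 4, 2], [4, 2, 4]), (0, [2, 4, 2], [4, 2, 4]), (0, [3, 4, 2, 4, 3], [4, 3, 2, 3, 4]),
  (0, [2, 4, 2], [4, 2, 4]), (0, [2, 4, 2], [4, 2, 4]), (0, [4, 3, 2, 3, 4], [3, 2, 3]), (0, [4, 3, 4], [3]),
  (0, [2, 4, 2], [4, 2, 4]), (0, [2, 4, 2], [4, 2, 4]), (0, [2, 4, 2], [4, 2, 4]), (0, [2, 4, 2], [4, 2, 4]),
  (0, [4, 3, 2, 3, 4], [3, 2, 3]), (0, [4, 2, 4], [2]), (0, [4, 3, 2, 3, 4], [3, 2, 3]), (0, [4, 3, 4], [3]),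
  (0, [2, 4, 2], [4, 2, 4]), (0, [2, 4, 2], [4, 2, 4]), (0, [4, 3, 4], [3]), (0, [4, 3, 4], [3]),
  (0, [3, 4, 2, 4, 3], [4, 3, 2, 3, 4]), (0, [3, 4, 2, 4, 3], [4, 3, 2, 3, 4]), (0, [2, 4, 2], [4, 2, 4]), (0, [4, 3, 4], [3]),
  (0, [4, 3, 4], [3]), (0, [2, 4, 2], [4, 2, 4]), (0, [2, 4, 2], [4, 2, 4]), (0, [2, 4, 2], [4, 2, 4]),
  (0, [2, 4, 2], [4, 2, 4]), (0, [2, 4, 2], [4, 2, 4]), (0, [4, 3, 4], [3]), (0, [2, 4, 2], [4, 2, 4]),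
  (0, [2, 4, 2], [4, 2, 4]), (0, [2, 4, 2], [4, 2, 4]), (0, [2, 4, 2], [4, 2, 4]), (0, [2, 4, 2], [4, 2, 4]),
  (0, [2, 4, 2], [4, 2, 4]), (0, [2, 4, 2], [4, 2, 4]), (0, [2, 4, 2], [4, 2, 4]), (0, [2, 4, 2], [4, 2, 4]),
  (0, [4, 3, 4], [3]), (0, [2, 4, 2], [4, 2, 4]), (0, [4, 2, 4], [2]), (0, [2, 4, 2], [4, 2, 4]),
  (0, [2, 4, 2], [4, 2, 4]), (0, [2, 4, 2], [4, 2, 4]), (0, [2, 4, 2], [4, 2, 4]), (0, [4, 3, 2, 3, 4], [3, 2, 3]),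
  (0, [4, 3, 2, 3, 4], [3, 2, 3]), (0, [4, 2, 4], [2]), (0, [2, 4, 2], [4, 2, 4]), (0, [2, 4, 2], [4, 2, 4]),
  (0, [2, 4, 2], [4, 2, 4]), (0, [4, 2, 4], [2]), (0, [4, 2, 4], [2]), (0, [4, 3, 2, 3, 4], [3, 2, 3]),
  (0, [4, 3, 2, 3, 4], [3, 2, 3])]

/-- A node. -/
def tNode71 : TNode := ⟨[0, 1, 159, 25], [1, 0, 207, 173], 252, tOpt71x0 ++ tOpt71x1 ++ tOpt71x2 ++ tOpt71x3, []⟩

/-- Some options of a node. -/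
def tOpt72x0 : List (ℕ × List ℕ × List ℕ) := [
  (0, [1], [4]), (0, [0], [4]), (0, [4, 2, 4], [2]), (0, [3, 4, 3], [4, 3, 4]),
  (0, [4, 3, 4], [3]), (0, [4, 2, 4], [3, 2, 3]), (0, [3, 4, 3], [4, 3, 4]), (0, [4, 3, 4], [3]),
  (0, [4, 2, 4], [3, 2, 3]), (0, [3, 4, 3], [4, 3, 4]), (0, [3, 4, 3], [4, 3, 4]), (0, [4, 3, 4], [3]),
  (0, [4, 3, 4], [3]), (0, [4, 3, 4], [3]), (0, [3, 4, 3], [4, 3, 4]), (0, [3, 4, 3], [4, 3, 4]),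
  (0, [4, 3, 4], [3]), (0, [4, 3, 4], [3]), (0, [4, 3, 4], [3]), (0, [3, 4, 3], [4, 3, 4]),
  (0, [4, 3, 4], [3]), (0, [4, 3, 4], [3]), (0, [4, 3, 4], [3]), (0, [4, 3, 4], [3]),
  (0, [3, 4, 3], [4, 3, 4]), (0, [4, 3, 4], [3]), (0, [4, 3, 4], [3]), (0, [4, 3, 4], [3]),
  (0, [4, 2, 4], [2]), (0, [4, 2, 4], [2]), (0, [4, 2, 4], [2]), (0, [4, 3, 4], [3]),
  (0, [4, 2, 4], [2]), (0, [4, 3, 4], [3]), (0, [4, 3, 4], [3]), (0, [4, 2, 4], [2]),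
  (0, [4, 3, 4], [3]), (0, [4, 2, 4], [2]), (0, [4, 3, 4], [3]), (0, [4, 2, 4], [2]),
  (0, [4, 3, 4], [3]), (0, [4, 2, 4], [2]), (0, [4, 3, 4], [3]), (0, [4, 2, 4], [2]),
  (0, [4, 2, 4], [2]), (0, [4, 2, 4], [2]), (0, [4, 2, 4], [2]), (0, [4, 3, 4], [3]),
  (0, [4, 3, 4], [3]), (0, [4, 2, 4], [2]), (0, [4, 3, 4], [3]), (0, [3, 4, 3], [4, 3, 4]),
  (0, [3, 4, 3], [4, 3, 4]), (0, [3, 4, 3], [4, 3, 4]), (0, [4, 3, 4], [3]), (0, [4, 3, 4], [3]),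
  (0, [4, 3, 4], [3]), (0, [4, 3, 4], [3]), (0, [3, 4, 3], [4, 3, 4]), (0, [3, 4, 3], [4, 3, 4]),
  (0, [3, 4, 3], [4, 3, 4]), (0, [4, 3, 4], [3]), (0, [4, 2, 4], [2]), (0, [4, 3, 4], [3]),
  (0, [4, 3, 4], [3]), (0, [4, 2, 4], [2]), (0, [3, 4, 3], [4, 3, 4]), (0, [4, 2, 4], [2]),
  (0, [4, 2, 4], [2]), (0, [4, 2, 4], [2]), (0, [4, 3, 4], [3]), (0, [4, 3, 4], [3]),
  (0, [4, 3, 4], [3]), (0, [4, 2, 4], [2]), (0, [4, 2, 4], [2]), (0, [3, 4, 3], [4, 3, 4]),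
  (0, [4, 3, 4], [3]), (0, [4, 3, 4], [3]), (0, [4, 3, 4], [3]), (0, [3, 4, 3], [4, 3, 4])]

/-- Some options of a node. -/
def tOpt72x1 : List (ℕ × List ℕ × List ℕ) := [
  (0, [3, 4, 3], [4, 3, 4]), (0, [4, 2, 4], [2]), (0, [3, 4, 3], [4, 3, 4]), (0, [3, 4, 3], [4, 3, 4]),
  (0, [3, 4, 3], [4, 3, 4]), (0, [3, 4, 3], [4, 3, 4]), (0, [4, 2, 4], [2]), (0, [4, 3, 4], [3]),
  (0, [3, 4, 3], [4, 3, 4]), (0, [4, 2, 4], [2]), (0, [3, 4, 3], [4, 3, 4]), (0, [4, 3, 4], [3]),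
  (0, [4, 2, 4], [2]), (0, [3, 4, 3], [4, 3, 4]), (0, [3, 4, 3], [4, 3, 4]), (0, [4, 3, 4], [3]),
  (0, [4, 2, 4], [3, 2, 3]), (0, [3, 4, 3], [4, 3, 4]), (0, [3, 4, 3], [4, 3, 4]), (0, [3, 4, 3], [4, 3, 4]),
  (0, [4, 2, 4], [3, 2, 3]), (0, [4, 2, 4], [3, 2, 3]), (0, [3, 4, 3], [4, 3, 4]), (0, [4, 3, 4], [3]),
  (0, [4, 2, 4], [3, 2, 3]), (0, [3, 4, 3], [4, 3, 4]), (0, [3, 4, 3], [4, 3, 4]), (0, [3, 4, 3], [4, 3, 4]),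
  (0, [3, 4, 3], [4, 3, 4]), (0, [3, 4, 3], [4, 3, 4]), (0, [3, 4, 3], [4, 3, 4]), (0, [3, 4, 3], [4, 3, 4]),
  (0, [3, 4, 3], [4, 3, 4]), (0, [3, 4, 3], [4, 3, 4]), (0, [3, 4, 3], [4, 3, 4]), (0, [3, 4, 3], [4, 3, 4]),
  (0, [4, 3, 4], [3]), (0, [4, 3, 4], [3]), (0, [4, 3, 4], [3]), (0, [3, 4, 3], [4, 3, 4]),
  (0, [3, 4, 3], [4, 3, 4]), (0, [3, 4, 3], [4, 3, 4]), (0, [4, 3, 4], [3]), (0, [4, 3, 4], [3]),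
  (0, [3, 4, 3], [4, 3, 4]), (0, [4, 3, 4], [3]), (0, [4, 2, 4], [2]), (0, [4, 2, 4], [2]),
  (0, [4, 2, 4], [2]), (0, [3, 4, 3], [4, 3, 4]), (0, [3, 4, 3], [4, 3, 4]), (0, [4, 2, 4], [2]),
  (0, [3, 4, 3], [4, 3, 4]), (0, [4, 2, 4], [2]), (0, [4, 2, 4], [2]), (0, [3, 4, 3], [4, 3, 4]),
  (0, [3, 4, 3], [4, 3, 4]), (0, [3, 4, 3], [4, 3, 4]), (0, [4, 2, 4], [2]), (0, [4, 2, 4], [2]),
  (0, [3, 4, 3], [4, 3, 4]), (0, [3, 4, 3], [4, 3, 4]), (0, [4, 3, 4], [3]), (0, [4, 2, 4], [2]),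
  (0, [3, 4, 3], [4, 3, 4]), (0, [4, 2, 4], [2]), (0, [4, 2, 4], [2]), (0, [4, 2, 4], [2]),
  (0, [3, 4, 3], [4, 3, 4]), (0, [4, 2, 4], [2]), (0, [4, 2, 4], [2]), (0, [4, 2, 4], [2]),
  (0, [4, 3, 4], [3]), (0, [3, 4, 3], [4, 3, 4]), (0, [3, 4, 3], [4, 3, 4]), (0, [3, 4, 3], [4, 3, 4]),
  (0, [4, 2, 4], [2]), (0, [3, 4, 3], [4, 3, 4]), (0, [3, 4, 3], [4, 3, 4]), (0, [3, 4, 3], [4, 3, 4])]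

/-- Some options of a node. -/
def tOpt72x2 : List (ℕ × List ℕ × List ℕ) := [
  (0, [3, 4, 3], [4, 3, 4]), (0, [4, 3, 4], [3]), (0, [4, 3, 4], [3]), (0, [4, 3, 4], [3]),
  (0, [4, 3, 4], [3]), (0, [4, 3, 4], [3]), (0, [4, 3, 4], [3]), (0, [4, 2, 4], [2]),
  (0, [3, 4, 3], [4, 3, 4]), (0, [3, 4, 3], [4, 3, 4]), (0, [4, 2, 4], [2]), (0, [4, 2, 4], [3, 2, 3]),
  (0, [4, 2, 4], [3, 2, 3]), (0, [4, 3, 4], [3]), (0, [4, 2, 4], [2]), (0, [3], [4]),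
  (0, [4, 2, 4], [3, 2, 3]), (0, [4, 2, 4], [2]), (0, [4, 2, 4], [2]), (0, [4, 3, 4], [3]),
  (0, [4, 2, 4], [3, 2, 3]), (0, [4, 3, 4], [3]), (0, [4, 2, 4], [3, 2, 3]), (0, [4, 3, 4], [3]),
  (0, [3, 4, 3], [4, 3, 4]), (0, [4, 3, 4], [3]), (0, [4, 3, 4], [3]), (0, [4, 2, 4], [2]),
  (0, [4, 3, 4], [3]), (0, [4, 2, 4], [2]), (0, [3, 4, 3], [4, 3, 4]), (0, [4, 3, 4], [3]),
  (0, [4, 2, 4], [3, 2, 3]), (0, [4, 2, 4], [2]), (0, [4, 2, 4], [3, 2, 3]), (0, [3, 4, 3], [4, 3, 4]),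
  (0, [4, 2, 4], [3, 2, 3]), (0, [4, 2, 4], [2]), (0, [3, 4, 3], [4, 3, 4]), (0, [4, 2, 4], [3, 2, 3]),
  (0, [3, 4, 3], [4, 3, 4]), (0, [3, 4, 3], [4, 3, 4]), (0, [3, 4, 3], [4, 3, 4]), (0, [3, 4, 3], [4, 3, 4]),
  (0, [4, 2, 4], [2]), (0, [3, 4, 3], [4, 3, 4]), (0, [4, 2, 4], [2]), (0, [2], [4]),
  (0, [3, 4, 3], [4, 3, 4]), (0, [4, 2, 4], [2]), (0, [3, 2, 3], [4]), (0, [4, 2, 4], [2]),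
  (0, [4, 2, 4], [3, 2, 3]), (0, [4, 2, 4], [3, 2, 3]), (0, [2, 4, 2], [4, 2, 4]), (0, [4, 3, 4], [3]),
  (0, [2, 4, 2], [4, 2, 4]), (0, [4, 2, 4], [2]), (0, [4, 2, 4], [2]), (0, [4, 2, 4], [2]),
  (0, [3, 4, 3], [4, 3, 4]), (0, [2, 4, 2], [4, 2, 4]), (0, [4, 3, 4], [3]), (0, [2, 4, 2], [4, 2, 4]),
  (0, [4, 2, 4], [2]), (0, [4, 2, 4], [3, 2, 3]), (0, [4, 2, 4], [3, 2, 3]), (0, [4, 2, 4], [2]),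
  (0, [4, 2, 4], [2]), (0, [4, 2, 4], [2]), (0, [2, 4, 2], [4, 2, 4]), (0, [4, 2, 4], [2]),
  (0, [2, 4, 2], [4, 2, 4]), (0, [4, 2, 4], [3, 2, 3]), (0, [4, 2, 4], [2]), (0, [4, 2, 4], [3, 2, 3]),
  (0, [4, 2, 4], [2]), (0, [4, 2, 4], [2]), (0, [4, 2, 4], [2]), (0, [3, 4, 3], [4, 3, 4])]

/-- Some options of a node. -/
def tOpt72x3 : List (ℕ × List ℕ × List ℕ) := [
  (0, [4, 3, 4], [3]), (0, [4, 3, 4], [3]), (0, [2, 4, 2], [4, 2, 4]), (0, [4, 3, 4], [3]),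
  (0, [4, 3, 4], [3]), (0, [4, 2, 4], [2]), (0, [3, 4, 3], [4, 3, 4]), (0, [4, 2, 4], [3, 2, 3]),
  (0, [2, 4, 2], [4, 2, 4]), (0, [4, 3, 4], [3]), (0, [2, 4, 2], [4, 2, 4]), (0, [4, 3, 4], [3]),
  (0, [4, 3, 4], [3]), (0, [4, 2, 4], [3, 2, 3]), (0, [4, 2, 4], [3, 2, 3]), (0, [4, 2, 4], [2]),
  (0, [2, 4, 2], [4, 2, 4]), (0, [2, 4, 2], [4, 2, 4]), (0, [4, 3, 4], [3]), (0, [2, 4, 2], [4, 2, 4]),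
  (0, [4, 3, 4], [3]), (0, [4, 3, 4], [3]), (0, [2, 4, 2], [4, 2, 4]), (0, [3, 4, 3], [4, 3, 4]),
  (0, [2, 4, 2], [4, 2, 4]), (0, [4, 3, 4], [3]), (0, [4, 2, 4], [3, 2, 3]), (0, [4, 3, 4], [3]),
  (0, [2, 4, 2], [4, 2, 4]), (0, [4, 3, 4], [3]), (0, [4, 3, 4], [3]), (0, [2, 4, 2], [4, 2, 4]),
  (0, [4, 2, 4], [3, 2, 3]), (0, [4, 2, 4], [2]), (0, [4, 2, 4], [3, 2, 3]), (0, [4, 3, 4], [3]),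
  (0, [2, 4, 2], [4, 2, 4]), (0, [2, 4, 2], [4, 2, 4]), (0, [2, 4, 2], [4, 2, 4]), (0, [4, 3, 4], [3]),
  (0, [3, 4, 3], [4, 3, 4]), (0, [3, 4, 3], [4, 3, 4]), (0, [4, 3, 4], [3]), (0, [4, 3, 4], [3]),
  (0, [2, 4, 2], [4, 2, 4]), (0, [2, 4, 2], [4, 2, 4]), (0, [4, 3, 4], [3]), (0, [4, 3, 4], [3]),
  (0, [4, 3, 4], [3]), (0, [2, 4, 2], [4, 2, 4]), (0, [2, 4, 2], [4, 2, 4]), (0, [4, 3, 4], [3]),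
  (0, [2, 4, 2], [4, 2, 4]), (0, [4, 3, 4], [3]), (0, [2, 4, 2], [4, 2, 4]), (0, [4, 3, 4], [3]),
  (0, [4, 3, 4], [3]), (0, [2, 4, 2], [4, 2, 4]), (0, [2, 4, 2], [4, 2, 4]), (0, [2, 4, 2], [4, 2, 4]),
  (0, [4, 3, 4], [3]), (0, [2, 4, 2], [4, 2, 4]), (0, [4, 2, 4], [2]), (0, [2, 4, 2], [4, 2, 4]),
  (0, [4, 3, 4], [3]), (0, [4, 3, 4], [3]), (0, [2, 4, 2], [4, 2, 4]), (0, [4, 2, 4], [3, 2, 3]),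
  (0, [4, 2, 4], [3, 2, 3]), (0, [4, 2, 4], [2]), (0, [4, 3, 4], [3]), (0, [4, 3, 4], [3]),
  (0, [2, 4, 2], [4, 2, 4]), (0, [4, 2, 4], [2]), (0, [4, 2, 4], [2]), (0, [4, 2, 4], [3, 2, 3]),
  (0, [4, 2, 4], [3, 2, 3])]

/-- A node. -/
def tNode72 : TNode := ⟨[0, 1, 159, 25], [1, 0, 207, 175], 99, tOpt72x0 ++ tOpt72x1 ++ tOpt72x2 ++ tOpt72x3, []⟩

/-- Some options of a node. -/
def tOpt73x0 : List (ℕ × List ℕ × List ℕ) := [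
  (0, [1], [4]), (0, [0], [4]), (0, [4, 2, 4], [2]), (0, [3, 4, 2, 4, 3], [4, 2, 4]),
  (0, [4, 3, 4], [3]), (0, [4, 2, 4], [3, 2, 3]), (0, [3, 4, 2, 4, 3], [4, 2, 4]), (0, [4, 3, 4], [3]),
  (0, [4, 2, 4], [3, 2, 3]), (0, [3, 4, 2, 4, 3], [4, 3, 2, 3, 4]), (0, [3, 4, 2, 4, 3], [4, 3, 2, 3, 4]), (0, [4, 3, 4], [3]),
  (0, [4, 3, 4], [3]), (0, [4, 3, 4], [3]), (0, [3, 4, 2, 4, 3], [4, 3, 2, 3, 4]), (0, [3, 4, 2, 4, 3], [4, 3, 2, 3, 4]),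
  (0, [4, 3, 4], [3]), (0, [4, 3, 4], [3]), (0, [4, 3, 4], [3]), (0, [3, 4, 2, 4, 3], [4, 2, 4]),
  (0, [4, 3, 4], [3]), (0, [4, 3, 4], [3]), (0, [4, 3, 4], [3]), (0, [4, 3, 4], [3]),
  (0, [3, 4, 2, 4, 3], [4, 2, 4]), (0, [4, 3, 4], [3]), (0, [4, 3, 4], [3]), (0, [4, 3, 4], [3]),
  (0, [4, 2, 4], [2]), (0, [4, 2, 4], [2]), (0, [4, 2, 4], [2]), (0, [4, 3, 4], [3]),
  (0, [4, 2, 4], [2]), (0, [4, 3, 4], [3]), (0, [4, 3, 4], [3]), (0, [4, 2, 4], [2]),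
  (0, [4, 3, 4], [3]), (0, [4, 2, 4], [2]), (0, [4, 3, 4], [3]), (0, [4, 2, 4], [2]),
  (0, [4, 3, 4], [3]), (0, [4, 2, 4], [2]), (0, [4, 3, 4], [3]), (0, [4, 2, 4], [2]),
  (0, [4, 2, 4], [2]), (0, [4, 2, 4], [2]), (0, [4, 2, 4], [2]), (0, [4, 3, 4], [3]),
  (0, [4, 3, 4], [3]), (0, [4, 2, 4], [2]), (0, [4, 3, 4], [3]), (0, [3, 4, 2, 4, 3], [4, 2, 4]),
  (0, [3, 4, 2, 4, 3], [4, 2, 4]), (0, [3, 4, 2, 4, 3], [4, 2, 4]), (0, [4, 3, 4], [3]), (0, [4, 3, 4], [3]),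
  (0, [4, 3, 4], [3]), (0, [4, 3, 4], [3]), (0, [3, 4, 2, 4, 3], [4, 2, 4]), (0, [3, 4, 2, 4, 3], [4, 2, 4]),
  (0, [3, 4, 2, 4, 3], [4, 2, 4]), (0, [4, 3, 4], [3]), (0, [4, 2, 4], [2]), (0, [4, 3, 4], [3]),
  (0, [4, 3, 4], [3]), (0, [4, 2, 4], [2]), (0, [3, 4, 2, 4, 3], [4, 3, 2, 3, 4]), (0, [4, 2, 4], [2]),
  (0, [4, 2, 4], [2]), (0, [4, 2, 4], [2]), (0, [4, 3, 4], [3]), (0, [4, 3, 4], [3]),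
  (0, [4, 3, 4], [3]), (0, [4, 2, 4], [2]), (0, [4, 2, 4], [2]), (0, [3, 4, 2, 4, 3], [4, 2, 4]),
  (0, [4, 3, 4], [3]), (0, [4, 3, 4], [3]), (0, [4, 3, 4], [3]), (0, [3, 4, 2, 4, 3], [4, 2, 4])]

/-- Some options of a node. -/
def tOpt73x1 : List (ℕ × List ℕ × List ℕ) := [
  (0, [3, 4, 2, 4, 3], [4, 2, 4]), (0, [4, 2, 4], [2]), (0, [3, 4, 2, 4, 3], [4, 2, 4]), (0, [3, 4, 2, 4, 3], [4, 3, 2, 3, 4]),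
  (0, [3, 4, 2, 4, 3], [4, 2, 4]), (0, [3, 4, 2, 4, 3], [4, 2, 4]), (0, [4, 2, 4], [2]), (0, [4, 3, 4], [3]),
  (0, [3, 4, 2, 4, 3], [4, 3, 2, 3, 4]), (0, [4, 2, 4], [2]), (0, [3, 4, 2, 4, 3], [4, 3, 2, 3, 4]), (0, [4, 3, 4], [3]),
  (0, [4, 2, 4], [2]), (0, [3, 4, 2, 4, 3], [4, 3, 2, 3, 4]), (0, [3, 4, 2, 4, 3], [4, 2, 4]), (0, [3, 4, 2, 4, 3], [4, 2, 4]),
  (0, [4, 2, 4], [3, 2, 3]), (0, [3, 4, 2, 4, 3], [4, 2, 4]), (0, [3, 4, 2, 4, 3], [4, 3, 2, 3, 4]), (0, [3, 4, 2, 4, 3], [4, 3, 2, 3, 4]),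
  (0, [4, 2, 4], [3, 2, 3]), (0, [4, 2, 4], [3, 2, 3]), (0, [3, 4, 2, 4, 3], [4, 2, 4]), (0, [3, 4, 2, 4, 3], [4, 2, 4]),
  (0, [4, 2, 4], [3, 2, 3]), (0, [3, 4, 2, 4, 3], [4, 3, 2, 3, 4]), (0, [4, 3, 4], [3]), (0, [4, 3, 4], [3]),
  (0, [4, 3, 4], [3]), (0, [3, 4, 2, 4, 3], [4, 3, 2, 3, 4]), (0, [3, 4, 2, 4, 3], [4, 2, 4]), (0, [4, 3, 4], [3]),
  (0, [4, 3, 4], [3]), (0, [4, 3, 4], [3]), (0, [3, 4, 2, 4, 3], [4, 3, 2, 3, 4]), (0, [3, 4, 2, 4, 3], [4, 2, 4]),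
  (0, [3, 4, 2, 4, 3], [4, 2, 4]), (0, [3, 4, 2, 4, 3], [4, 2, 4]), (0, [3, 4, 2, 4, 3], [4, 2, 4]), (0, [3, 4, 2, 4, 3], [4, 2, 4]),
  (0, [3, 4, 2, 4, 3], [4, 2, 4]), (0, [3, 4, 2, 4, 3], [4, 2, 4]), (0, [3, 4, 2, 4, 3], [4, 2, 4]), (0, [3, 4, 2, 4, 3], [4, 2, 4]),
  (0, [3, 4, 2, 4, 3], [4, 2, 4]), (0, [3, 4, 2, 4, 3], [4, 2, 4]), (0, [4, 2, 4], [2]), (0, [4, 2, 4], [2]),
  (0, [4, 2, 4], [2]), (0, [3, 4, 2, 4, 3], [4, 3, 2, 3, 4]), (0, [3, 4, 2, 4, 3], [4, 3, 2, 3, 4]), (0, [4, 2, 4], [2]),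
  (0, [4, 3, 4], [3]), (0, [4, 2, 4], [2]), (0, [4, 2, 4], [2]), (0, [3, 4, 2, 4, 3], [4, 2, 4]),
  (0, [4, 3, 4], [3]), (0, [3, 4, 2, 4, 3], [4, 2, 4]), (0, [4, 2, 4], [2]), (0, [4, 2, 4], [2]),
  (0, [3, 4, 2, 4, 3], [4, 2, 4]), (0, [3, 4, 2, 4, 3], [4, 2, 4]), (0, [3, 4, 2, 4, 3], [4, 2, 4]), (0, [4, 2, 4], [2]),
  (0, [3, 4, 2, 4, 3], [4, 2, 4]), (0, [4, 2, 4], [2]), (0, [4, 2, 4], [2]), (0, [4, 2, 4], [2]),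
  (0, [3, 4, 2, 4, 3], [4, 2, 4]), (0, [4, 2, 4], [2]), (0, [4, 2, 4], [2]), (0, [4, 2, 4], [2]),
  (0, [3, 4, 2, 4, 3], [4, 2, 4]), (0, [4, 3, 4], [3]), (0, [4, 3, 4], [3]), (0, [3, 4, 2, 4, 3], [4, 2, 4]),
  (0, [4, 2, 4], [2]), (0, [4, 3, 4], [3]), (0, [4, 3, 4], [3]), (0, [4, 3, 4], [3])]

/-- Some options of a node. -/
def tOpt73x2 : List (ℕ × List ℕ × List ℕ) := [
  (0, [4, 3, 4], [3]), (0, [3, 4, 2, 4, 3], [4, 2, 4]), (0, [3, 4, 2, 4, 3], [4, 2, 4]), (0, [3, 4, 2, 4, 3], [4, 2, 4]),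
  (0, [3, 4, 2, 4, 3], [4, 2, 4]), (0, [3, 4, 2, 4, 3], [4, 2, 4]), (0, [3, 4, 2, 4, 3], [4, 2, 4]), (0, [4, 2, 4], [2]),
  (0, [4, 3, 4], [3]), (0, [4, 3, 4], [3]), (0, [4, 2, 4], [2]), (0, [4, 2, 4], [3, 2, 3]),
  (0, [4, 2, 4], [3, 2, 3]), (0, [4, 3, 4], [3]), (0, [4, 2, 4], [2]), (0, [4, 2, 4], [3, 2, 3]),
  (0, [3], [4]), (0, [4, 2, 4], [2]), (0, [4, 2, 4], [2]), (0, [4, 3, 4], [3]),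
  (0, [4, 2, 4], [3, 2, 3]), (0, [4, 3, 4], [3]), (0, [4, 2, 4], [3, 2, 3]), (0, [4, 3, 4], [3]),
  (0, [3, 4, 2, 4, 3], [4, 2, 4]), (0, [4, 3, 4], [3]), (0, [4, 3, 4], [3]), (0, [4, 2, 4], [2]),
  (0, [4, 3, 4], [3]), (0, [4, 2, 4], [2]), (0, [3, 4, 2, 4, 3], [4, 2, 4]), (0, [4, 3, 4], [3]),
  (0, [4, 2, 4], [3, 2, 3]), (0, [4, 2, 4], [2]), (0, [4, 2, 4], [3, 2, 3]), (0, [3, 4, 2, 4, 3], [4, 2, 4]),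
  (0, [4, 2, 4], [3, 2, 3]), (0, [4, 2, 4], [2]), (0, [3, 4, 2, 4, 3], [4, 2, 4]), (0, [4, 2, 4], [3, 2, 3]),
  (0, [3, 4, 2, 4, 3], [4, 2, 4]), (0, [3, 4, 2, 4, 3], [4, 2, 4]), (0, [3, 4, 2, 4, 3], [4, 2, 4]), (0, [3, 4, 2, 4, 3], [4, 2, 4]),
  (0, [4, 2, 4], [2]), (0, [3, 4, 2, 4, 3], [4, 2, 4]), (0, [4, 2, 4], [2]), (0, [2], [4]),
  (0, [3, 4, 2, 4, 3], [4, 2, 4]), (0, [4, 2, 4], [2]), (0, [3, 2, 3], [4]), (0, [4, 2, 4], [2]),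
  (0, [4, 2, 4], [3, 2, 3]), (0, [4, 2, 4], [3, 2, 3]), (0, [2, 4, 2], [4, 2, 4]), (0, [2, 4, 2], [4, 2, 4]),
  (0, [2, 4, 2], [4, 2, 4]), (0, [4, 2, 4], [2]), (0, [4, 2, 4], [2]), (0, [4, 2, 4], [2]),
  (0, [3, 4, 2, 4, 3], [4, 2, 4]), (0, [2, 4, 2], [4, 2, 4]), (0, [2, 4, 2], [4, 2, 4]), (0, [2, 4, 2], [4, 2, 4]),
  (0, [4, 2, 4], [2]), (0, [4, 2, 4], [3, 2, 3]), (0, [4, 2, 4], [3, 2, 3]), (0, [4, 2, 4], [2]),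
  (0, [4, 2, 4], [2]), (0, [4, 2, 4], [2]), (0, [2, 4, 2], [4, 2, 4]), (0, [4, 2, 4], [2]),
  (0, [2, 4, 2], [4, 2, 4]), (0, [4, 2, 4], [3, 2, 3]), (0, [4, 2, 4], [2]), (0, [4, 2, 4], [3, 2, 3]),
  (0, [4, 2, 4], [2]), (0, [4, 2, 4], [2]), (0, [4, 2, 4], [2]), (0, [3, 4, 2, 4, 3], [4, 2, 4])]

/-- Some options of a node. -/
def tOpt73x3 : List (ℕ × List ℕ × List ℕ) := [
  (0, [2, 4, 2], [4, 2, 4]), (0, [2, 4, 2], [4, 2, 4]), (0, [2, 4, 2], [4, 2, 4]), (0, [2, 4, 2], [4, 2, 4]),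
  (0, [2, 4, 2], [4, 2, 4]), (0, [4, 2, 4], [2]), (0, [3, 4, 2, 4, 3], [4, 2, 4]), (0, [4, 2, 4], [3, 2, 3]),
  (0, [2, 4, 2], [4, 2, 4]), (0, [2, 4, 2], [4, 2, 4]), (0, [2, 4, 2], [4, 2, 4]), (0, [2, 4, 2], [4, 2, 4]),
  (0, [2, 4, 2], [4, 2, 4]), (0, [4, 2, 4], [3, 2, 3]), (0, [4, 2, 4], [3, 2, 3]), (0, [4, 2, 4], [2]),
  (0, [2, 4, 2], [4, 2, 4]), (0, [2, 4, 2], [4, 2, 4]), (0, [2, 4, 2], [4, 2, 4]), (0, [2, 4, 2], [4, 2, 4]),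
  (0, [2, 4, 2], [4, 2, 4]), (0, [2, 4, 2], [4, 2, 4]), (0, [2, 4, 2], [4, 2, 4]), (0, [3, 4, 2, 4, 3], [4, 2, 4]),
  (0, [2, 4, 2], [4, 2, 4]), (0, [2, 4, 2], [4, 2, 4]), (0, [4, 2, 4], [3, 2, 3]), (0, [2, 4, 2], [4, 2, 4]),
  (0, [2, 4, 2], [4, 2, 4]), (0, [2, 4, 2], [4, 2, 4]), (0, [2, 4, 2], [4, 2, 4]), (0, [2, 4, 2], [4, 2, 4]),
  (0, [4, 2, 4], [3, 2, 3]), (0, [4, 2, 4], [2]), (0, [4, 2, 4], [3, 2, 3]), (0, [2, 4, 2], [4, 2, 4]),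
  (0, [2, 4, 2], [4, 2, 4]), (0, [2, 4, 2], [4, 2, 4]), (0, [2, 4, 2], [4, 2, 4]), (0, [2, 4, 2], [4, 2, 4]),
  (0, [3, 4, 2, 4, 3], [4, 2, 4]), (0, [3, 4, 2, 4, 3], [4, 2, 4]), (0, [2, 4, 2], [4, 2, 4]), (0, [2, 4, 2], [4, 2, 4]),
  (0, [2, 4, 2], [4, 2, 4]), (0, [2, 4, 2], [4, 2, 4]), (0, [2, 4, 2], [4, 2, 4]), (0, [2, 4, 2], [4, 2, 4]),
  (0, [2, 4, 2], [4, 2, 4]), (0, [2, 4, 2], [4, 2, 4]), (0, [2, 4, 2], [4, 2, 4]), (0, [2, 4, 2], [4, 2, 4]),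
  (0, [2, 4, 2], [4, 2, 4]), (0, [2, 4, 2], [4, 2, 4]), (0, [2, 4, 2], [4, 2, 4]), (0, [2, 4, 2], [4, 2, 4]),
  (0, [2, 4, 2], [4, 2, 4]), (0, [2, 4, 2], [4, 2, 4]), (0, [2, 4, 2], [4, 2, 4]), (0, [2, 4, 2], [4, 2, 4]),
  (0, [2, 4, 2], [4, 2, 4]), (0, [2, 4, 2], [4, 2, 4]), (0, [4, 2, 4], [2]), (0, [2, 4, 2], [4, 2, 4]),
  (0, [2, 4, 2], [4, 2, 4]), (0, [2, 4, 2], [4, 2, 4]), (0, [2, 4, 2], [4, 2, 4]), (0, [4, 2, 4], [3, 2, 3]),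
  (0, [4, 2, 4], [3, 2, 3]), (0, [4, 2, 4], [2]), (0, [2, 4, 2], [4, 2, 4]), (0, [2, 4, 2], [4, 2, 4]),
  (0, [2, 4, 2], [4, 2, 4]), (0, [4, 2, 4], [2]), (0, [4, 2, 4], [2]), (0, [4, 2, 4], [3, 2, 3]),
  (0, [4, 2, 4], [3, 2, 3])]

/-- A node. -/
def tNode73 : TNode := ⟨[0, 1, 159, 25], [1, 0, 207, 176], 264, tOpt73x0 ++ tOpt73x1 ++ tOpt73x2 ++ tOpt73x3, []⟩

/-- Some options of a node. -/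
def tOpt74x0 : List (ℕ × List ℕ × List ℕ) := [
  (0, [1], [4]), (0, [0], [4]), (0, [4, 3, 4], [3]), (0, [4, 2, 4], [2]),
  (0, [4, 2, 4], [2]), (0, [4, 2, 4], [2]), (0, [4, 2, 4], [2]), (0, [4, 2, 4], [2]),
  (0, [4, 2, 4], [2]), (0, [4, 2, 4], [2]), (0, [4, 2, 4], [2]), (0, [4, 2, 4], [2]),
  (0, [4, 2, 4], [2]), (0, [4, 2, 4], [2]), (0, [4, 2, 4], [2]), (0, [4, 2, 4], [2]),
  (0, [4, 2, 4], [2]), (0, [4, 2, 4], [2]), (0, [4, 2, 4], [2]), (0, [4, 2, 4], [2]),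
  (0, [4, 2, 4], [2]), (0, [4, 2, 4], [2]), (0, [4, 2, 4], [2]), (0, [4, 2, 4], [2]),
  (0, [4, 2, 4], [2]), (0, [4, 2, 4], [2]), (0, [4, 2, 4], [2]), (0, [4, 2, 4], [2]),
  (0, [3, 4, 3], [4, 3, 4]), (0, [4, 3, 4], [3]), (0, [3, 4, 3], [4, 3, 4]), (0, [4, 2, 4], [2]),
  (0, [3, 4, 3], [4, 3, 4]), (0, [4, 2, 4], [2]), (0, [4, 2, 4], [2]), (0, [4, 3, 4], [3]),
  (0, [4, 2, 4], [2]), (0, [3, 4, 3], [4, 3, 4]), (0, [4, 2, 4], [2]), (0, [3, 4, 3], [4, 3, 4]),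
  (0, [4, 2, 4], [2]), (0, [4, 3, 4], [3]), (0, [4, 2, 4], [2]), (0, [3, 4, 3], [4, 3, 4]),
  (0, [3, 4, 3], [4, 3, 4]), (0, [3, 4, 3], [4, 3, 4]), (0, [4, 3, 4], [3]), (0, [4, 2, 4], [2]),
  (0, [4, 2, 4], [2]), (0, [3, 4, 3], [4, 3, 4]), (0, [4, 2, 4], [2]), (0, [4, 2, 4], [2]),
  (0, [4, 2, 4], [2]), (0, [4, 2, 4], [2]), (0, [4, 2, 4], [2]), (0, [4, 2, 4], [2]),
  (0, [4, 2, 4], [2]), (0, [4, 2, 4], [2]), (0, [4, 2, 4], [2]), (0, [4, 2, 4], [2]),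
  (0, [4, 2, 4], [2]), (0, [4, 2, 4], [2]), (0, [3, 4, 3], [4, 3, 4]), (0, [4, 2, 4], [2]),
  (0, [4, 2, 4], [2]), (0, [3, 4, 3], [4, 3, 4]), (0, [4, 2, 4], [2]), (0, [3, 4, 3], [4, 3, 4]),
  (0, [3, 4, 3], [4, 3, 4]), (0, [3, 4, 3], [4, 3, 4]), (0, [4, 2, 4], [2]), (0, [4, 2, 4], [2]),
  (0, [4, 2, 4], [2]), (0, [3, 4, 3], [4, 3, 4]), (0, [3, 4, 3], [4, 3, 4]), (0, [4, 2, 4], [2]),
  (0, [4, 2, 4], [2]), (0, [4, 2, 4], [2]), (0, [4, 2, 4], [2]), (0, [4, 2, 4], [2])]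

/-- Some options of a node. -/
def tOpt74x1 : List (ℕ × List ℕ × List ℕ) := [
  (0, [4, 2, 4], [2]), (0, [4, 3, 4], [3]), (0, [4, 2, 4], [2]), (0, [4, 2, 4], [2]),
  (0, [4, 2, 4], [2]), (0, [4, 2, 4], [2]), (0, [4, 3, 4], [3]), (0, [4, 2, 4], [2]),
  (0, [4, 2, 4], [2]), (0, [4, 3, 4], [3]), (0, [4, 2, 4], [2]), (0, [4, 2, 4], [2]),
  (0, [4, 3, 4], [3]), (0, [4, 2, 4], [2]), (0, [4, 2, 4], [2]), (0, [4, 2, 4], [2]),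
  (0, [4, 2, 4], [2]), (0, [4, 2, 4], [2]), (0, [4, 2, 4], [2]), (0, [4, 2, 4], [2]),
  (0, [4, 2, 4], [2]), (0, [4, 2, 4], [2]), (0, [4, 2, 4], [2]), (0, [4, 2, 4], [2]),
  (0, [4, 2, 4], [2]), (0, [4, 2, 4], [2]), (0, [4, 2, 4], [2]), (0, [4, 2, 4], [2]),
  (0, [4, 2, 4], [2]), (0, [4, 2, 4], [2]), (0, [4, 2, 4], [2]), (0, [4, 2, 4], [2]),
  (0, [4, 2, 4], [2]), (0, [4, 2, 4], [2]), (0, [4, 2, 4], [2]), (0, [4, 2, 4], [2]),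
  (0, [4, 2, 4], [2]), (0, [4, 2, 4], [2]), (0, [4, 2, 4], [2]), (0, [4, 2, 4], [2]),
  (0, [4, 2, 4], [2]), (0, [4, 2, 4], [2]), (0, [4, 2, 4], [2]), (0, [4, 2, 4], [2]),
  (0, [4, 2, 4], [2]), (0, [4, 2, 4], [2]), (0, [3, 4, 3], [4, 3, 4]), (0, [3, 4, 3], [4, 3, 4]),
  (0, [4, 3, 4], [3]), (0, [4, 2, 4], [2]), (0, [4, 2, 4], [2]), (0, [4, 3, 4], [3]),
  (0, [4, 2, 4], [2]), (0, [3, 4, 3], [4, 3, 4]), (0, [3, 4, 3], [4, 3, 4]), (0, [4, 2, 4], [2]),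
  (0, [4, 2, 4], [2]), (0, [4, 2, 4], [2]), (0, [4, 3, 4], [3]), (0, [4, 3, 4], [3]),
  (0, [4, 2, 4], [2]), (0, [4, 2, 4], [2]), (0, [4, 2, 4], [2]), (0, [3, 4, 3], [4, 3, 4]),
  (0, [4, 2, 4], [2]), (0, [4, 3, 4], [2, 3, 2]), (0, [4, 3, 4], [2, 3, 2]), (0, [4, 3, 4], [2, 3, 2]),
  (0, [4, 2, 4], [2]), (0, [3, 4, 3], [4, 3, 4]), (0, [4, 3, 4], [2, 3, 2]), (0, [3, 4, 3], [4, 3, 4]),
  (0, [4, 2, 4], [2]), (0, [4, 2, 4], [2]), (0, [4, 2, 4], [2]), (0, [4, 2, 4], [2]),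
  (0, [3, 4, 3], [4, 3, 4]), (0, [4, 2, 4], [2]), (0, [4, 2, 4], [2]), (0, [4, 2, 4], [2])]

/-- Some options of a node. -/
def tOpt74x2 : List (ℕ × List ℕ × List ℕ) := [
  (0, [4, 2, 4], [2]), (0, [4, 2, 4], [2]), (0, [4, 2, 4], [2]), (0, [4, 2, 4], [2]),
  (0, [4, 2, 4], [2]), (0, [4, 2, 4], [2]), (0, [4, 2, 4], [2]), (0, [4, 3, 4], [3]),
  (0, [4, 2, 4], [2]), (0, [4, 2, 4], [2]), (0, [4, 3, 4], [3]), (0, [4, 2, 4], [2]),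
  (0, [4, 2, 4], [2]), (0, [4, 2, 4], [2]), (0, [4, 3, 4], [2, 3, 2]), (0, [4, 2, 4], [2]),
  (0, [4, 2, 4], [2]), (0, [4, 3, 4], [2, 3, 2]), (0, [4, 3, 4], [2, 3, 2]), (0, [4, 2, 4], [2]),
  (0, [4, 2, 4], [2]), (0, [4, 2, 4], [2]), (0, [4, 2, 4], [2]), (0, [4, 2, 4], [2]),
  (0, [4, 2, 4], [2]), (0, [4, 2, 4], [2]), (0, [4, 2, 4], [2]), (0, [4, 3, 4], [2, 3, 2]),
  (0, [4, 2, 4], [2]), (0, [4, 3, 4], [2, 3, 2]), (0, [4, 2, 4], [2]), (0, [4, 2, 4], [2]),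
  (0, [4, 2, 4], [2]), (0, [4, 3, 4], [3]), (0, [4, 2, 4], [2]), (0, [4, 2, 4], [2]),
  (0, [4, 2, 4], [2]), (0, [4, 3, 4], [3]), (0, [4, 2, 4], [2]), (0, [4, 2, 4], [2]),
  (0, [4, 2, 4], [2]), (0, [4, 2, 4], [2]), (0, [4, 2, 4], [2]), (0, [4, 2, 4], [2]),
  (0, [4, 3, 4], [2, 3, 2]), (0, [4, 2, 4], [2]), (0, [4, 3, 4], [3]), (0, [2], [4]),
  (0, [4, 2, 4], [2]), (0, [4, 3, 4], [3]), (0, [3, 2, 3], [4]), (0, [4, 3, 4], [2, 3, 2]),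
  (0, [4, 2, 4], [2]), (0, [4, 2, 4], [2]), (0, [4, 2, 4], [2]), (0, [4, 2, 4], [2]),
  (0, [4, 2, 4], [2]), (0, [4, 3, 4], [2, 3, 2]), (0, [4, 3, 4], [3]), (0, [4, 3, 4], [3]),
  (0, [4, 2, 4], [2]), (0, [4, 2, 4], [2]), (0, [4, 2, 4], [2]), (0, [4, 2, 4], [2]),
  (0, [4, 3, 4], [3]), (0, [3], [4]), (0, [4, 2, 4], [2]), (0, [4, 3, 4], [2, 3, 2]),
  (0, [4, 3, 4], [3]), (0, [4, 3, 4], [3]), (0, [4, 2, 4], [2]), (0, [4, 3, 4], [2, 3, 2]),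
  (0, [4, 2, 4], [2]), (0, [4, 2, 4], [2]), (0, [4, 3, 4], [3]), (0, [4, 2, 4], [2]),
  (0, [4, 3, 4], [3]), (0, [4, 3, 4], [2, 3, 2]), (0, [4, 3, 4], [2, 3, 2]), (0, [4, 2, 4], [2])]

/-- Some options of a node. -/
def tOpt74x3 : List (ℕ × List ℕ × List ℕ) := [
  (0, [4, 2, 4], [2]), (0, [4, 2, 4], [2]), (0, [4, 2, 4], [2]), (0, [4, 2, 4], [2]),
  (0, [4, 2, 4], [2]), (0, [4, 3, 4], [3]), (0, [4, 2, 4], [2]), (0, [4, 2, 4], [2]),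
  (0, [4, 2, 4], [2]), (0, [4, 2, 4], [2]), (0, [4, 2, 4], [2]), (0, [4, 2, 4], [2]),
  (0, [4, 2, 4], [2]), (0, [4, 2, 4], [2]), (0, [4, 2, 4], [2]), (0, [4, 3, 4], [3]),
  (0, [4, 2, 4], [2]), (0, [4, 2, 4], [2]), (0, [4, 2, 4], [2]), (0, [4, 2, 4], [2]),
  (0, [4, 2, 4], [2]), (0, [4, 2, 4], [2]), (0, [4, 2, 4], [2]), (0, [4, 2, 4], [2]),
  (0, [4, 2, 4], [2]), (0, [4, 2, 4], [2]), (0, [4, 2, 4], [2]), (0, [4, 2, 4], [2]),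
  (0, [4, 2, 4], [2]), (0, [4, 2, 4], [2]), (0, [4, 2, 4], [2]), (0, [4, 2, 4], [2]),
  (0, [4, 2, 4], [2]), (0, [4, 3, 4], [3]), (0, [4, 2, 4], [2]), (0, [4, 2, 4], [2]),
  (0, [4, 2, 4], [2]), (0, [4, 2, 4], [2]), (0, [4, 2, 4], [2]), (0, [4, 2, 4], [2]),
  (0, [4, 2, 4], [2]), (0, [4, 2, 4], [2]), (0, [4, 2, 4], [2]), (0, [4, 2, 4], [2]),
  (0, [4, 2, 4], [2]), (0, [4, 2, 4], [2]), (0, [4, 2, 4], [2]), (0, [4, 2, 4], [2]),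
  (0, [4, 2, 4], [2]), (0, [4, 2, 4], [2]), (0, [4, 2, 4], [2]), (0, [4, 2, 4], [2]),
  (0, [4, 2, 4], [2]), (0, [4, 2, 4], [2]), (0, [4, 2, 4], [2]), (0, [4, 2, 4], [2]),
  (0, [4, 2, 4], [2]), (0, [4, 2, 4], [2]), (0, [4, 2, 4], [2]), (0, [4, 2, 4], [2]),
  (0, [4, 2, 4], [2]), (0, [4, 2, 4], [2]), (0, [4, 3, 4], [3]), (0, [4, 2, 4], [2]),
  (0, [4, 2, 4], [2]), (0, [4, 2, 4], [2]), (0, [4, 2, 4], [2]), (0, [4, 2, 4], [2]),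
  (0, [4, 2, 4], [2]), (0, [4, 3, 4], [2, 3, 2]), (0, [4, 2, 4], [2]), (0, [4, 2, 4], [2]),
  (0, [4, 2, 4], [2]), (0, [4, 3, 4], [3]), (0, [4, 3, 4], [2, 3, 2]), (0, [4, 2, 4], [2]),
  (0, [4, 2, 4], [2])]

/-- A node. -/
def tNode74 : TNode := ⟨[0, 1, 159, 25], [1, 0, 207, 225], 127, tOpt74x0 ++ tOpt74x1 ++ tOpt74x2 ++ tOpt74x3, []⟩

end CfsgLib.CoTwoRec
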