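import Cfsg.Agent.Lib.CoTwoRec.RelTreeData0
import Cfsg.Agent.Lib.CoTwoRec.RelTreeData1
import Cfsg.Agent.Lib.CoTwoRec.RelTreeData2

/-!
# The nodes of the forcing tree (generated)
-/

set_option autoImplicit false
set_option maxRecDepth 100000

namespace CfsgLib.CoTwoRec

/-- The nodes. -/
def treeTab : List TNode := [tNode0, tNode1, tNode2, tNode3, tNode4, tNode5, tNode6, tNode7, tNode8, tNode9, tNode10, tNode11, tNode12, tNode13, tNode14, tNode15, tNode16, tNode17, tNode18, tNode19, tNode20, tNode21, tNode22, tNode23, tNode24, tNode25, tNode26, tNode27, tNode28, tNode29, tNode30, tNode31, tNode32, tNode33, tNode34, tNode35, tNode36, tNode37, tNode38, tNode39, tNode40, tNode41, tNode42, tNode43, tNode44, tNode45, tNode46, tNode47, tNode48, tNode49, tNode50, tNode51, tNode52, tNode53, tNode54, tNode55, tNode56, tNode57, tNode58, tNode59, tNode60, tNode61, tNode62, tNode63, tNode64, tNode65, tNode66, tNode67, tNode68, tNode69, tNode70, tNode71, tNode72, tNode73, tNode74]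

/-- The node of the model. -/
def treeLeaf : ℕ := 9

/-- The generators as products of the sources of that node. -/
def genSrc : List (List ℕ) := [
  [3, 10, 4, 5, 10, 9, 4, 3, 0, 1],
  [6, 4, 7, 4, 6],
  [10, 7, 6, 7, 6, 0],
  [3, 6, 4, 6, 3],
  [9, 6, 4, 2, 4, 0, 1],
  [9, 7, 4, 3, 4, 0, 1]]

end CfsgLib.CoTwoRec
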