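import Cfsg.Agent.Lib.CoTwoRec.RelWords
import Cfsg.Agent.Lib.CoTwoRec.RelTreeTab

/-!
# The conjugates as extended letters, for the forcing tree
-/

set_option autoImplicit false
set_option maxRecDepth 100000

namespace CfsgLib.CoTwoRec.Rel

/-- The conjugates of the central involution as words. -/
def kX : List (List ℕ) := (List.range 317).map fun k => [22 + k]

/-- The checks of some nodes. -/
noncomputable def nodesB (a b : ℕ) : Bool :=
  (List.range' a b).all fun i => Nat.beq i treeLeaf ||
    (Nat.beq (nodeAt treeTab i).opts.length 317 && TNode.rangeB eqX kX treeTab i 0 317)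

end CfsgLib.CoTwoRec.Rel
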