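import Cfsg.Agent.Lib.CoTwoRec.RelsData
import Cfsg.Agent.Lib.CoTwoRec.RelCodes
import Cfsg.Agent.Lib.CoTwoRec.RelChain
import Cfsg.Agent.Lib.CoTwoRec.RelPack

/-!
# An extended alphabet for the centraliser, with a test for equal values

The sixteen letters, the six generators of the centraliser of the pair and the conjugates of the central involution
commuting with its neighbour; each has its code, so products are compared by their codes.
-/

set_option autoImplicit false
set_option maxRecDepth 100000

namespace CfsgLib.CoTwoRec.Rel

open CfsgLib.CoTwoRec CfsgLib.Rigid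

/-- The word of an extended letter. -/
noncomputable def wordX (l : ℕ) : List ℕ :=
  if Nat.blt l numX then (wordTab.getD (l / 16) []).getD (l % 16) [] else []

/-- The code of an extended letter. -/
noncomputable def codeX (l : ℕ) : List ℕ :=
  if Nat.blt l numX then (codeTab.getD (l / 16) []).getD (l % 16) [] else Co2.data.one

/-- The value of an extended letter. -/
noncomputable def fX (l : ℕ) : Cm := ev xm (wordX l)

/-- The code of a word of extended letters. -/
noncomputable def cX (w : List ℕ) : List ℕ := w.foldr (fun l a => mulF (codeX l) a) Co2.data.one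

/-- A unit in each slot. -/
def onesP : ℕ := 84162174444369509363047648492557931458934031467869867251102187298593809265835959756231825250112746111673226788512798573475466243063076465474272906035325026060097600745476145338912739096670129952326200894456594433

/-- The low half of each slot. -/
def halfP : ℕ := 180736893315244832582558211219572359008207684629033945845802789949661311493819799361057951065578807181081090336053562386743491712678483899116561164926028097793908436824845031343910379970076656225985406030482309496178737151

/-- The unit matrix, packed. -/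
def idP : ℕ := 353001744879621998854269339034519465904522799896724856054373768603429726274801602399651717236626645257192779597247357824008355976276810145304355971674570218215611686843486288401920834370089758527398988817309316579065857

/-- The packed code of a word. -/
noncomputable def cP (w : List ℕ) : ℕ := w.foldr (fun l a => mulP onesP halfP (codeX l) a) idP

/-- Equal values, tested on the packed codes. -/
noncomputable def eqX (u v : List ℕ) : Bool := Nat.beq (cP u) (cP v)

theorem pack_ok : slots 1 23 = onesP ∧ slots 2147483647 23 = halfP ∧ pk Co2.data.one = idP ∧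
    (Co2.data.one.length == 23) = true ∧ Co2.data.one.all (fun a => Nat.blt a 4294967296) = true ∧
    ((List.range numX).all fun l => (codeX l).all fun a => Nat.blt a 4294967296) = true := by
  decide +kernel

/-- The codes are those of the words. -/
noncomputable def tabB : Bool :=
  (List.range numX).all fun l => (wordX l).all (fun a => Nat.blt a 16) && eqL (codeX l) (cEv (wordX l))

theorem tab_ok : tabB = true := by decide +kernel

theorem wordX_lt (l : ℕ) : ∀ a ∈ wordX l, a < 16 := by
  by_cases hl : l < numX
  · have h := tab_ok
    simp only [tabB, List.all_eq_true, List.mem_range, Bool.and_eq_true, Nat.blt_eq] at h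
    exact (h l hl).1
  · simp [wordX, hl]

theorem code_fX (l : ℕ) : code ((fX l : Cm) : CoG) = codeX l := by
  rw [fX, coe_ev_xm (wordX_lt l), code_ev fun a ha => Nat.lt_succ_of_lt (wordX_lt l a ha)]
  by_cases hl : l < numX
  · have h := tab_ok
    simp only [tabB, List.all_eq_true, List.mem_range, Bool.and_eq_true, eqL_iff] at h
    exact (h l hl).2.symm
  · simp [wordX, codeX, hl, cEv]

theorem code_wp : ∀ w : List ℕ, code ((wp fX w : Cm) : CoG) = cX w
  | [] => code_one
  | l :: w => by
    rw [show wp fX (l :: w) = fX l * wp fX w by simp [wp], Subgroup.coe_mul, code_mul, code_fX, code_wp w]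
    rfl

theorem codeX_lt (l : ℕ) : ∀ a ∈ codeX l, a < 2 ^ 32 := by
  obtain ⟨-, -, -, -, h1, h⟩ := pack_ok
  simp only [List.all_eq_true, List.mem_range, Nat.blt_eq] at h h1
  intro a ha
  rw [show (2 : ℕ) ^ 32 = 4294967296 by norm_num]
  by_cases hl : l < numX
  · exact h l hl a ha
  · simp only [codeX, show Nat.blt l numX = false from by
      rw [← Bool.not_eq_true, Nat.blt_eq]; exact hl] at ha
    exact h1 a ha

theorem cX_good : ∀ w : List ℕ, (cX w).length = 23 ∧ (∀ a ∈ cX w, a < 2 ^ 32) ∧ cP w = pk (cX w)
  | [] => by
    obtain ⟨-, -, h, hl, h1, -⟩ := pack_ok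
    simp only [List.all_eq_true, Nat.blt_eq, beq_iff_eq] at h1 hl
    exact ⟨hl, fun a ha => by have := h1 a ha; simpa using this, h.symm⟩
  | l :: w => by
    obtain ⟨hn, hb, e⟩ := cX_good w
    refine ⟨by show (mulF _ (cX w)).length = 23; rw [mulF, List.length_map, hn], fun a ha => ?_, ?_⟩
    · obtain ⟨b, -, rfl⟩ := List.mem_map.1 (show a ∈ mulF (codeX l) (cX w) from ha)
      exact img_lt_word _ _ (codeX_lt l)
    · show mulP onesP halfP (codeX l) (cP w) = pk (mulF (codeX l) (cX w))
      have h := mulP_pk (codeX l) (cX w) (codeX_lt l) hb
      rwa [hn, pack_ok.1, pack_ok.2.1, ← e] at h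

theorem decides : Decides fX eqX := by
  intro u v
  simp only [eqX, Nat.beq_eq, (cX_good u).2.2, (cX_good v).2.2]
  refine ⟨fun h => Subtype.ext (code_injective ?_), fun h => ?_⟩
  · rw [code_wp, code_wp]
    exact pk_inj ((cX_good u).1.trans (cX_good v).1.symm) (cX_good u).2.1 (cX_good v).2.1 h
  · rw [← code_wp, ← code_wp, h]

theorem eq_of_eqX {u v : List ℕ} (h : eqX u v = true) : wp fX u = wp fX v := decides.eq h

theorem ne_of_eqX {u v : List ℕ} (h : eqX u v = false) : wp fX u ≠ wp fX v := decides.ne h

theorem wp_xm (w : List ℕ) : wp xm w = ev xm w := rfl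

/-- The first sixteen letters are the letters. -/
noncomputable def headB : Bool := (List.range 16).all fun l => decide (wordX l = [l]) && eqX [l, l] []

theorem head_ok : headB = true := by decide +kernel

theorem fX_letter {l : ℕ} (hl : l < 16) : fX l = xm l := by
  have h := head_ok
  simp only [headB, List.all_eq_true, List.mem_range, Bool.and_eq_true, decide_eq_true_eq] at h
  rw [fX, (h l hl).1]; simp [ev]

theorem wp_raw : ∀ {w : List ℕ}, (∀ a ∈ w, a < 16) → wp fX w = ev xm w
  | [], _ => rfl
  | a :: w, h => by
    rw [show wp fX (a :: w) = fX a * wp fX w by simp [wp], show ev xm (a :: w) = xm a * ev xm w by simp [ev],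
      fX_letter (h a List.mem_cons_self), wp_raw fun b hb => h b (List.mem_cons_of_mem _ hb)]

theorem wp_reverse : ∀ {w : List ℕ}, (∀ a ∈ w, fX a * fX a = 1) → wp fX w.reverse = (wp fX w)⁻¹
  | [], _ => by simp [wp]
  | a :: w, h => by
    rw [List.reverse_cons, wp_append, wp_reverse fun b hb => h b (List.mem_cons_of_mem _ hb),
      show wp fX (a :: w) = fX a * wp fX w by simp [wp], mul_inv_rev]
    congr 1
    rw [show wp fX [a] = fX a by simp [wp]]
    exact (inv_eq_of_mul_eq_one_right (h a List.mem_cons_self)).symm

theorem raw_sq {a : ℕ} (ha : a < 16) : fX a * fX a = 1 := by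
  have h := head_ok
  simp only [headB, List.all_eq_true, List.mem_range, Bool.and_eq_true] at h
  have h' := eq_of_eqX (h a ha).2
  simpa [wp] using h'

end CfsgLib.CoTwoRec.Rel
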