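import Cfsg.Agent.Lib.CoTwoRec.Basic

/-!
# The relators of Co2 over the involution centraliser

The further element conjugates six generators of the centraliser of the pair as listed, is an involution, and
satisfies one triangle relator.
-/

set_option autoImplicit false
set_option maxRecDepth 100000

namespace CfsgLib.CoTwoRec

/-- Generators of the centraliser of the pair. -/
def dWords : List (List ℕ) := [[5], [6], [2, 7], [8, 2, 8], [3, 0, 6, 3], [4, 1, 6, 4]]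

/-- Their images under the further element. -/
def dImgs : List (List ℕ) := [[8, 2, 8, 2, 7, 5, 8, 2, 8, 5, 2, 7, 8, 2, 8],
  [4, 1, 6, 4, 5, 8, 2, 8, 5, 2, 7, 4, 1, 6, 4, 6, 5, 8, 2, 8, 5, 8, 15, 8, 15, 0, 1, 6, 11],
  [8, 2, 8, 3, 0, 6, 3, 5, 8, 2, 8, 3, 0, 6, 3, 2, 7, 5, 8, 2, 8, 5, 0, 1, 6, 11],
  [5, 2, 7, 4, 1, 6, 4, 2, 7, 5, 8, 2, 8, 5, 2, 7, 4, 1, 6, 4, 2, 7, 5],
  [3, 0, 6, 3, 8, 2, 8, 2, 7, 5, 2, 7, 5, 8, 2, 8, 2, 7, 0, 1, 6, 11],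
  [2, 7, 5, 8, 2, 8, 4, 1, 6, 4, 2, 7, 6, 8, 2, 8, 2, 7, 5, 2, 7, 6, 8, 15, 8, 15]]

/-- The three segments of the triangle. -/
def triSeg : List ℕ × List ℕ × List ℕ := ([2, 4], [4, 2], [6, 7, 2, 3, 6, 0, 3, 8, 2, 8, 7, 2, 3, 6, 0, 3, 6, 2, 4])

/-- The relators. -/
def rels : List (List ℕ) := [
  [16, 5, 16, 8, 2, 8, 7, 2, 5, 8, 2, 8, 5, 7, 2, 8, 2, 8],
  [16, 6, 16, 11, 6, 1, 0, 15, 8, 15, 8, 5, 8, 2, 8, 5, 6, 4, 6, 1, 4, 7, 2, 5, 8, 2, 8, 5, 4, 6, 1, 4],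
  [16, 2, 7, 16, 11, 6, 1, 0, 5, 8, 2, 8, 5, 7, 2, 3, 6, 0, 3, 8, 2, 8, 5, 3, 6, 0, 3, 8, 2, 8],
  [16, 8, 2, 8, 16, 5, 7, 2, 4, 6, 1, 4, 7, 2, 5, 8, 2, 8, 5, 7, 2, 4, 6, 1, 4, 7, 2, 5],
  [16, 3, 0, 6, 3, 16, 11, 6, 1, 0, 7, 2, 8, 2, 8, 5, 7, 2, 5, 7, 2, 8, 2, 8, 3, 6, 0, 3],
  [16, 4, 1, 6, 4, 16, 15, 8, 15, 8, 6, 7, 2, 5, 7, 2, 8, 2, 8, 6, 7, 2, 4, 6, 1, 4, 8, 2, 8, 5, 7, 2],
  [16, 16],
  [16, 2, 4, 16, 4, 2, 16, 6, 7, 2, 3, 6, 0, 3, 8, 2, 8, 7, 2, 3, 6, 0, 3, 6, 2, 4]]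

/-- The relators hold. -/
def Amal {M : Type*} [Group M] (ι : Cm →* M) (n : M) : Prop := ∀ w ∈ rels, ev (gl ι n) w = 1

theorem rels_model_ok : rels.all (fun w => sameC w []) = true := by decide +kernel

theorem rels_shape : rels = ((List.range dWords.length).map fun l =>
    [16] ++ dWords.getD l [] ++ [16] ++ (dImgs.getD l []).reverse) ++
    [[16, 16], [16] ++ triSeg.1 ++ [16] ++ triSeg.2.1 ++ [16] ++ triSeg.2.2] ∧
    (dWords ++ dImgs ++ [triSeg.1, triSeg.2.1, triSeg.2.2]).all (fun w => w.all fun l => Nat.blt l 16) = true := by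
  decide +kernel

theorem gl_model {l : ℕ} (hl : l < 17) : gl Cm.subtype (letter 16) l = letter l := by
  unfold gl
  split
  · next h => exact coe_xm h
  · next h => rw [show l = 16 by omega]

/-- The relators hold in the model. -/
theorem amal_model : Amal Cm.subtype (letter 16) := by
  intro w hw
  have h := List.all_eq_true.1 rels_model_ok w hw
  have hlt : ∀ l ∈ w, l < 17 := by
    have h' := h
    simp only [sameC, Bool.and_eq_true, List.all_eq_true, Nat.blt_eq] at h'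
    exact h'.1.1
  rw [show ev (gl Cm.subtype (letter 16)) w = ev letter w by
    simp only [ev]
    exact congrArg List.prod (List.map_congr_left fun l hl => gl_model (hlt l hl))]
  exact (ev_eq_of_sameC h).trans rfl

end CfsgLib.CoTwoRec
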