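import Cfsg.Agent.Lib.CoTwoRec.SpinModule
import Cfsg.Agent.Lib.CoTwoRec.SpCertData

/-!
# The checks of the certificate of the Sylow 2-subgroup
-/

set_option autoImplicit false
set_option maxRecDepth 100000

namespace CfsgLib.CoTwoRec

open Subgroup CfsgLib.ExtraNine CfsgLib.Schur.Tails.SpSix CfsgLib.ThType.Perm CfsgLib.ThType.Coords

/-- The image of a basis combination under a code. -/
def img (c i : ℕ) : ℕ := (c >>> (8 * i)) % 256

/-- The map of a code. -/
def app (c u : ℕ) : ℕ := linN (img c) 8 u

theorem img_lt (c i : ℕ) : img c i < 256 := Nat.mod_lt _ (by norm_num)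

theorem app_lt (c u : ℕ) : app c u < 256 := linN_lt (fun i _ => img_lt c i) u

theorem app_xor (c u w : ℕ) : app c (u ^^^ w) = app c u ^^^ app c w := linN_xor _ 8 u w

/-- The image under a product of transvections, the first one applied last. -/
def evT (w : List (Fin 8)) (u : ℕ) : ℕ := w.foldr fT u

theorem fT_lt' (k : Fin 8) {u : ℕ} (h : u < 256) : fT k u < 256 := by
  simpa using List.all_eq_true.1 (fT_lt k) u (List.mem_range.2 h)

theorem evT_lt : ∀ (w : List (Fin 8)) {u : ℕ}, u < 256 → evT w u < 256
  | [], _, h => h
  | k :: w, _, h => fT_lt' k (evT_lt w h)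

/-- An element of the list. -/
noncomputable def sel (i : ℕ) : ℕ := (sylAll >>> (64 * i)) % 2 ^ 64

/-- The earlier element and the generator of an element. -/
def parAt (i : ℕ) : ℕ × ℕ := ((sylPar >>> (32 * i)) % 2 ^ 16, (sylPar >>> (32 * i + 16)) % 2 ^ 16)

/-- The position of the product with a generator. -/
def succAt (i k : ℕ) : ℕ := (sylSucc >>> (16 * (6 * i + k))) % 2 ^ 16

/-- The value of a generator. -/
def genV (k u : ℕ) : ℕ := img (sylTab.getD k 0) u

/-- The position of a code, by bisection. -/
def findPos (c : ℕ) : ℕ → ℕ → ℕ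
  | 0, lo => (sylSort >>> (80 * lo)) % 2 ^ 10
  | n + 1, lo => bif Nat.ble ((((sylSort >>> (80 * (lo + 2 ^ n))) % 2 ^ 80) >>> 10)) c
      then findPos c n (lo + 2 ^ n) else findPos c n lo

/-- A representative of a class. -/
def rep (t : ℕ) : Sp2 := tvW (repW.getD t [])

theorem gen_ok : ((List.range 6).all fun k => (List.range 8).all fun j =>
    Nat.beq (img (sylGen.getD k 0) j) (evT (sylW.getD k []) (2 ^ j))) = true := by decide +kernel

theorem tab_ok : ((List.range 6).all fun k => (List.range 256).all fun u =>
    Nat.beq (genV k u) (app (sylGen.getD k 0) u)) = true := by decide +kernel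

theorem succ_ok : ((List.range 512).all fun i => (List.range 6).all fun k =>
    Nat.blt (succAt i k) 512 && (List.range 8).all fun j =>
      Nat.beq (img (sel (succAt i k)) j) (genV k (img (sel i) j))) = true := by
  decide +kernel

theorem one_ok : ((List.range 8).all fun j => Nat.beq (img (sel 0) j) (2 ^ j)) = true := by decide +kernel

theorem par_ok : ((List.range 511).all fun i => Nat.blt (parAt (i + 1)).1 (i + 1) &&
    Nat.blt (parAt (i + 1)).2 6 && (List.range 8).all fun j =>
      Nat.beq (img (sel (i + 1)) j)
        (genV (parAt (i + 1)).2 (img (sel (parAt (i + 1)).1) j))) = true := by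
  decide +kernel

theorem find_ok : ((List.range 512).all fun i => Nat.beq (findPos (sel i) 9 0) i) = true := by decide +kernel

theorem basis_ok : ∀ u < 256, linN (fun i => 2 ^ i) 8 u = u := by decide +kernel

theorem img_inj {c d : ℕ} (hc : c < 2 ^ 64) (hd : d < 2 ^ 64) (h : ∀ i < 8, img c i = img d i) : c = d := by
  have h0 := h 0 (by norm_num)
  have h1 := h 1 (by norm_num)
  have h2 := h 2 (by norm_num)
  have h3 := h 3 (by norm_num)
  have h4 := h 4 (by norm_num)
  have h5 := h 5 (by norm_num)
  have h6 := h 6 (by norm_num)
  have h7 := h 7 (by norm_num)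
  simp only [img, Nat.shiftRight_eq_div_pow, Nat.mul_zero, pow_zero, Nat.div_one] at h0 h1 h2 h3 h4 h5 h6 h7
  norm_num at hc hd h1 h2 h3 h4 h5 h6 h7
  omega

/-- The first three representatives are central. -/
theorem central_ok : ((List.range 3).all fun t => (List.range 6).all fun k => (List.range 8).all fun j =>
    Nat.beq (genV k (evT (repW.getD t []) (2 ^ j))) (evT (repW.getD t []) (genV k (2 ^ j)))) = true := by
  decide +kernel

/-- The check of one element of the table of the classes. -/
noncomputable def invAt (i : ℕ) : Bool :=
    if (List.range 8).all (fun j => Nat.beq (app (sel (i + 1)) (img (sel (i + 1)) j)) (2 ^ j)) then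
      invTab.any fun e => Nat.beq e.1 (i + 1) && Nat.blt e.2.1 4 && (List.range 8).all fun j =>
        Nat.beq (evT (e.2.2 ++ repW.getD e.2.1 [] ++ e.2.2.reverse) (2 ^ j)) (img (sel (i + 1)) j)
    else true

theorem inv0_ok : (List.range' 0 86).all invAt = true := by decide +kernel

theorem inv86_ok : (List.range' 86 85).all invAt = true := by decide +kernel

theorem inv171_ok : (List.range' 171 85).all invAt = true := by decide +kernel

theorem inv256_ok : (List.range' 256 85).all invAt = true := by decide +kernel

theorem inv341_ok : (List.range' 341 85).all invAt = true := by decide +kernel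

theorem inv426_ok : (List.range' 426 85).all invAt = true := by decide +kernel

theorem range_inv : List.range 511 = List.range' 0 86 ++ List.range' 86 85 ++ List.range' 171 85 ++ List.range' 256 85 ++ List.range' 341 85 ++ List.range' 426 85 := by
  decide +kernel

/-- The table of the classes. -/
theorem inv_ok : ((List.range 511).all fun i =>
    if (List.range 8).all (fun j => Nat.beq (app (sel (i + 1)) (img (sel (i + 1)) j)) (2 ^ j)) then
      invTab.any fun e => Nat.beq e.1 (i + 1) && Nat.blt e.2.1 4 && (List.range 8).all fun j =>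
        Nat.beq (evT (e.2.2 ++ repW.getD e.2.1 [] ++ e.2.2.reverse) (2 ^ j)) (img (sel (i + 1)) j)
    else true) = true := by
  show (List.range 511).all invAt = true
  rw [range_inv, List.all_append, List.all_append, List.all_append, List.all_append, List.all_append,
    inv0_ok, inv86_ok, inv171_ok, inv256_ok, inv341_ok, inv426_ok]
  rfl

end CfsgLib.CoTwoRec
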