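import Mathlib.Data.Nat.Notation

/-!
# Data on the four classes of involutions of Sp6(2) on the spin module
-/

set_option autoImplicit false
set_option maxRecDepth 100000

namespace CfsgLib.CoTwoRec

/-- The positions of the representatives. -/
def repIx : List ℕ := [2, 440, 273, 154]

/-- A basis of the fixed vectors of the representative of each of the first two classes. -/
def fixB16 : List (List ℕ) := [[2, 8, 32, 128], [2, 8, 32, 128]]

/-- A basis of the commutators of the third representative. -/
def imB : List ℕ := [8, 128]

/-- The commutators of the third representative. -/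
def imL : List ℕ := [0, 8, 128, 136]

/-- Four fixed vectors of the third representative completing them. -/
def quoB : List ℕ := [2, 4, 32, 64]

/-- The position of the transvection fixing the fixed vectors of the second representative. -/
def trIx : ℕ := 2

/-- An involution of the fourth class in the Sylow subgroup: its position, and a conjugation from a chosen one. -/
def twTab : List (ℕ × ℕ × ℕ) := [(4, 0, 4), (13, 17, 4), (15, 0, 15), (26, 0, 26), (29, 5, 26), (30, 0, 30), (33, 0, 33), (58, 43, 26), (61, 77, 26), (62, 3, 4), (104, 6, 4), (149, 1, 26), (154, 0, 154), (159, 5, 33), (167, 10, 26), (170, 20, 33), (172, 29, 4), (179, 3, 15), (187, 0, 187), (190, 4, 15), (200, 20, 187), (203, 4, 187), (205, 20, 15), (212, 23, 4), (216, 5, 15), (219, 17, 33), (222, 5, 30), (235, 21, 30), (245, 23, 26), (257, 5, 154), (259, 26, 30), (263, 79, 26), (267, 4, 26), (272, 96, 26), (275, 20, 26), (281, 20, 154), (284, 4, 33), (286, 29, 30), (296, 25, 26), (298, 20, 30), (309, 41, 26), (321, 3, 33), (323, 4, 30), (335, 6, 30), (340, 0, 340), (344, 0, 344), (353, 27, 4), (378, 6,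 344), (394, 5, 187), (396, 5, 344), (400, 0, 400), (405, 23, 15), (406, 4, 344), (407, 17, 15), (433, 9, 26), (435, 19, 33), (436, 90, 26), (443, 4, 154), (451, 23, 33), (452, 38, 26), (466, 20, 400), (468, 6, 340), (471, 26, 340), (479, 5, 400), (490, 19, 15), (497, 5, 4), (500, 5, 340), (501, 4, 400)]

/-- The chosen ones: position, fixed vectors of the kernel with preimages, a moved vector with its preimage. -/
def twReps : List (ℕ × List ℕ × List ℕ × ℕ × ℕ) := [(4, [6, 8, 128], [3, 2, 32], 234, 16),
  (15, [8, 102, 128], [4, 23, 2], 194, 1),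
  (26, [40, 94, 128], [2, 15, 8], 156, 1),
  (30, [32, 72, 128], [10, 12, 8], 242, 1),
  (33, [8, 34, 128], [4, 17, 6], 206, 1),
  (154, [8, 64, 128], [6, 16, 4], 228, 1),
  (187, [8, 32, 128], [4, 18, 2], 202, 1),
  (340, [8, 96, 128], [2, 16, 6], 166, 1),
  (344, [32, 64, 128], [2, 4, 8], 152, 1),
  (400, [40, 64, 128], [2, 12, 8], 180, 1)]

end CfsgLib.CoTwoRec
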