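import Cfsg.Agent.Lib.CoTwoRec.SpCertChecks
import Cfsg.Agent.Lib.CoTwoRec.SpOutData

/-!
# The checks on the four classes of involutions
-/

set_option autoImplicit false
set_option maxRecDepth 100000

namespace CfsgLib.CoTwoRec

open CfsgLib.ThType.Coords

/-- The code of the representative of a class. -/
noncomputable def rC (t : ℕ) : ℕ := sel (repIx.getD t 0)

/-- The span of a list, as a list. -/
def spanL (b : List ℕ) : List ℕ := b.foldl (fun s v => s ++ s.map (fun w => w ^^^ v)) [0]

/-- The fixed combinations of a code. -/
def fixOf (c : ℕ) : List ℕ := (List.range 256).filter fun u => Nat.beq (app c u) u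

/-- The number of members of the Sylow subgroup with a property. -/
def cnt (p : ℕ → Bool) : ℕ := ((List.range 512).filter p).length

/-- The member fixes the vectors of a list. -/
noncomputable def fixesL (vs : List ℕ) (i : ℕ) : Bool := vs.all fun v => Nat.beq (app (sel i) v) v

/-- The member moves the vectors of a list by at most one given vector. -/
noncomputable def nearL (vs : List ℕ) (r : ℕ) (i : ℕ) : Bool :=
  vs.all fun v => Nat.beq (app (sel i) v) v || Nat.beq (app (sel i) v) (v ^^^ r)

/-- Two codes commute. -/
def commC (a b : ℕ) : Bool := (List.range 8).all fun n => Nat.beq (app a (img b n)) (app b (img a n))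

/-- The number of points fixed by a product. -/
noncomputable def nfix (w : List (Fin 8)) : ℕ := ((List.range 63).filter fun a => Nat.beq (evalT w a) a).length

theorem rep_ok : ((List.range 4).all fun t => Nat.blt (repIx.getD t 0) 512 && (List.range 8).all fun j =>
    Nat.beq (img (rC t) j) (evT (repW.getD t []) (2 ^ j))) = true := by decide +kernel

theorem nfix_ok : ((List.range 4).all fun t =>
    Nat.beq (nfix (repW.getD t [])) ([31, 15, 15, 7].getD t 0)) = true := by decide +kernel

theorem fix_count_ok : ((List.range 4).all fun t =>
    Nat.beq (fixOf (rC t)).length ([16, 16, 64, 16].getD t 0)) = true := by decide +kernel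

/-- Fixed vectors are commutators, in the three classes with sixteen of them. -/
theorem image_ok : ([0, 1, 3].all fun t => (fixOf (rC t)).all fun v =>
    (List.range 256).any fun u => Nat.beq (app (rC t) u ^^^ u) v) = true := by decide +kernel

theorem plain_ok : ((List.range 3).all fun t => (List.range 256).all fun u =>
    !beta u (app (rC t) u)) = true := by decide +kernel

theorem rep0_sq : ((List.range 8).all fun n =>
    Nat.beq (evT (repW.getD 0 []) (evT (repW.getD 0 []) (2 ^ n))) (2 ^ n)) = true := by decide +kernel

theorem twisted_ok : ((List.range 256).any fun u => beta u (app (rC 3) u)) = true := by decide +kernel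

theorem basis16_ok : ((List.range 2).all fun t =>
    (fixB16.getD t []).all fun v => Nat.blt v 256 && Nat.beq (app (rC t) v) v) = true := by decide +kernel

theorem sq_ok : ((List.range 2).all fun t => ([sqW0, sqW1].getD t []).all fun w =>
    (List.range 8).all fun n =>
      Nat.beq (evT (w ++ repW.getD t []) (2 ^ n)) (evT (repW.getD t [] ++ w) (2 ^ n))) = true := by decide +kernel

theorem orbit_ok : ((List.range 2).all fun t => (List.range 256).all fun u => Nat.beq (app (rC t) u) u ||
    ([sqW0, sqW1].getD t []).any fun w => !Nat.beq (evT (w ++ w) (app (rC t) u ^^^ u)) (app (rC t) u ^^^ u) &&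
      !beta u (evT (w ++ w) (app (rC t) u ^^^ u))) = true := by decide +kernel

theorem fix945_ok : (Nat.ble (cnt (fixesL (fixB16.getD 1 []))) 32 && fixesL (fixB16.getD 1 []) trIx &&
    invTab.any (fun e => Nat.beq e.1 trIx && (List.range 8).all fun n =>
      Nat.beq (evT (e.2.2 ++ repW.getD 0 [] ++ e.2.2.reverse) (2 ^ n)) (img (sel trIx) n))) = true := by decide +kernel

theorem unique945_ok : (((List.range 512).filter (fixesL (fixB16.getD 1 []))).all fun i => Nat.beq i trIx ||
    invTab.all fun e => !Nat.beq e.1 i || !Nat.beq (nfix (repW.getD e.2.1 [])) 31) = true := by decide +kernel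

theorem pair63_ok : (((List.range 512).filter fun i => fixesL (fixB16.getD 0 []) i &&
      Nat.beq (fixOf (sel i)).length 64).all fun i =>
    ((List.range 512).filter fun i => fixesL (fixB16.getD 0 []) i && Nat.beq (fixOf (sel i)).length 64).all fun j =>
      !(List.range 8).all fun n => Nat.beq (img (sel j) n) (app (sel i) (img (rC 0) n))) = true := by
  decide +kernel

theorem only63_ok : (((List.range 512).filter (fixesL (fixB16.getD 0 []))).all fun i =>
    Nat.beq i 0 || Nat.beq i (repIx.getD 0 0) ||
      invTab.all fun e => !Nat.beq e.1 i || !Nat.beq (nfix (repW.getD e.2.1 [])) 31) = true := by decide +kernel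

/-- The functional of a lift on the four completing vectors. -/
def bitAt (b j : ℕ) : Bool := b.testBit j

/-- Vectors annihilated by a functional given on the completing vectors. -/
def kerB (b : ℕ) : List ℕ :=
  imB ++ (List.range 4).filterMap fun j =>
    if bitAt b j then
      match (List.range 4).find? (bitAt b) with
      | some k => if k = j then none else some (quoB.getD k 0 ^^^ quoB.getD j 0)
      | none => none
    else some (quoB.getD j 0)

/-- A vector that can carry an intersection outside the commutators. -/
noncomputable def outRad (b r : ℕ) : Bool :=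
  Nat.beq (app (rC 2) r) r && !(imL.any (Nat.beq r)) && !qT r && (kerB b).all fun v => !beta r v

theorem imB_ok : (imB.all fun v => imL.any (Nat.beq v)) = true := by decide +kernel

theorem quo_ok : ((imB ++ quoB).all fun v => Nat.blt v 256 && Nat.beq (app (rC 2) v) v) = true := by decide +kernel

theorem im_ok : (imL.all fun v => (List.range 256).any fun u => Nat.beq (app (rC 2) u ^^^ u) v) = true := by
  decide +kernel

theorem im_conv_ok : ((List.range 256).all fun u => imL.any (Nat.beq (app (rC 2) u ^^^ u))) = true := by
  decide +kernel

theorem span_fix_ok : ((fixOf (rC 2)).all fun v => (spanL (kerB 0)).any (Nat.beq v)) = true := by decide +kernel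

theorem d_zero_ok : ((List.range 16).all fun b => Nat.blt (cnt (fixesL (kerB b))) 32) = true := by decide +kernel

theorem d_out_ok : ((List.range 15).all fun b => (List.range 256).all fun r =>
    !outRad (b + 1) r || Nat.blt (cnt (nearL (kerB (b + 1)) r)) 16) = true := by decide +kernel

theorem rad_ok : ((List.range 15).all fun b =>
    ((List.range 256).filter (outRad (b + 1))).all fun r => ((List.range 256).filter (outRad (b + 1))).all fun s =>
      imL.any (Nat.beq (r ^^^ s))) = true := by decide +kernel

theorem rad_zero_ok : ((List.range 256).all fun r => !outRad 0 r) = true := by decide +kernel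

theorem d_in_ok : (imL.all fun r => Nat.beq r 0 || Nat.blt (cnt (nearL (kerB 0) r)) 16) = true := by decide +kernel

/-- The fourth class inside the Sylow subgroup. -/
theorem tw_cover_ok : (invTab.all fun e => !Nat.beq (nfix (repW.getD e.2.1 [])) 7 ||
    twTab.any fun x => Nat.beq x.1 e.1) = true := by decide +kernel

theorem tw_tab_ok : (twTab.all fun x => Nat.blt x.2.1 512 && Nat.blt x.2.2 512 && twReps.any (fun y => Nat.beq y.1 x.2.2) &&
    (List.range 8).all fun n =>
      Nat.beq (app (sel x.2.1) (img (sel x.2.2) n)) (app (sel x.1) (img (sel x.2.1) n))) = true := by decide +kernel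

theorem tw_rep_ok : (twReps.all fun y => Nat.blt y.2.2.2.2 256 && beta y.2.2.2.2 (app (sel y.1) y.2.2.2.2) &&
    Nat.beq y.2.2.2.1 (app (sel y.1) y.2.2.2.2 ^^^ y.2.2.2.2) &&
    (List.range 3).all (fun n => Nat.blt (y.2.2.1.getD n 0) 256 &&
      Nat.beq (y.2.1.getD n 0) (app (sel y.1) (y.2.2.1.getD n 0) ^^^ y.2.2.1.getD n 0) &&
      !beta (y.2.2.1.getD n 0) (y.2.1.getD n 0)) &&
    decide (y.2.1.length = 3) &&
    Nat.ble (cnt fun i => fixesL y.2.1 i && commC (sel i) (sel y.1)) 16 &&
    (List.range 256).any fun s => ((List.range 512).filter fun i => fixesL y.2.1 i && commC (sel i) (sel y.1)).all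
      fun i => Nat.beq (app (sel i) y.2.2.2.1) y.2.2.2.1 || Nat.beq (app (sel i) y.2.2.2.1) s) = true := by
  decide +kernel

end CfsgLib.CoTwoRec
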