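import Cfsg.Agent.Lib.CoTwoRec.SpCert
import Cfsg.Agent.Lib.CoTwoRec.SpOutChecks
import Cfsg.Agent.Lib.CoTwoRec.OutGen

/-!
# The four classes of involutions on the spin module
-/

set_option autoImplicit false
set_option linter.unusedSectionVars false
set_option maxRecDepth 100000

namespace CfsgLib.CoTwoRec

open Subgroup CfsgLib.ExtraNine CfsgLib.Schur.Tails.SpSix CfsgLib.ThType.Perm CfsgLib.ThType.Coords
  CfsgLib.ThType.Fusion

variable {V : Type*} [AddCommGroup V] {S : QV V} {A : Act Sp2 V} (P : SpinChart S A)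

/-- The number of fixed points on the natural module. -/
noncomputable def nfixP (g : Sp2) : ℕ := Nat.card {a : Fin 63 // phi g a = a}

theorem card_fix_conj {X : Type*} (p q : Equiv.Perm X) :
    Nat.card {a // (p * q * p⁻¹) a = a} = Nat.card {a // q a = a} :=
  (Nat.card_congr (Equiv.subtypeEquiv p fun a => by simp)).symm

theorem phi_conj {M : Type*} [Group M] (f : Sp2 →* M) (h g : Sp2) : f (h * g * h⁻¹) = f h * f g * (f h)⁻¹ := by
  rw [map_mul, map_mul, map_inv]

attribute [local irreducible] CfsgLib.Schur.Tails.SpSix.phi in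
theorem nfixP_conj (h g : Sp2) : nfixP (h * g * h⁻¹) = nfixP g := by
  unfold nfixP
  rw [phi_conj phi h g]
  exact card_fix_conj _ _

theorem nfixP_tvW (w : List (Fin 8)) : nfixP (tvW w) = nfix w := by
  classical
  rw [nfixP, Nat.card_eq_fintype_card, Fintype.card_subtype, nfix]
  have e : ((Finset.univ : Finset (Fin 63)).filter fun a => phi (tvW w) a = a).image Fin.val =
      ((List.range 63).filter fun a => Nat.beq (evalT w a) a).toFinset := by
    ext n
    simp only [Finset.mem_image, Finset.mem_filter, Finset.mem_univ, true_and, List.mem_toFinset,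
      List.mem_filter, List.mem_range, Nat.beq_eq]
    constructor
    · rintro ⟨a, ha, rfl⟩
      exact ⟨a.isLt, by rw [← phi_tvW_apply, ha]⟩
    · rintro ⟨h1, h2⟩
      exact ⟨⟨n, h1⟩, Fin.ext ((phi_tvW_apply w ⟨n, h1⟩).trans h2), rfl⟩
  rw [← Finset.card_image_of_injective _ Fin.val_injective, e, List.toFinset_card_of_nodup
    (List.Nodup.filter _ List.nodup_range)]

theorem nfix_ty {t : ℕ} (ht : t < 4) {α : Sp2} (hα : Ty t α) : nfixP α = [31, 15, 15, 7].getD t 0 := by
  obtain ⟨h, rfl⟩ := hα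
  rw [nfixP_conj, rep, nfixP_tvW, Nat.eq_of_beq_eq_true (all_lt nfix_ok ht)]

theorem pC_rep {t : ℕ} (ht : t < 4) : IsC P (rC t) (rep t) := isC_of_basis P fun j hj => by
  have h := all_lt rep_ok ht
  simp only [Bool.and_eq_true] at h
  rw [rep, σ_tvW P _ (pow_lt hj), Nat.eq_of_beq_eq_true (all_lt h.2 hj)]

/-- The vector of a combination carried by an element. -/
def vh (h : Sp2) (u : ℕ) : V := A.σ h (P.c u)

theorem σ_conj (h r : Sp2) (v : V) : A.σ (h * r * h⁻¹) (A.σ h v) = A.σ h (A.σ r v) := by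
  rw [map_mul, map_mul, map_inv]; simp

theorem σ_vh {h r : Sp2} {c : ℕ} (hc : IsC P c r) {u : ℕ} (hu : u < 256) :
    A.σ (h * r * h⁻¹) (vh P h u) = vh P h (app c u) := by rw [vh, σ_conj, hc u hu]; rfl

theorem vh_surj (h : Sp2) (v : V) : ∃ u < 256, vh P h u = v := by
  obtain ⟨u, hu, e⟩ := P.surj ((A.σ h).symm v)
  exact ⟨u, hu, by rw [vh, e, Equiv.apply_symm_apply]⟩

theorem vh_inj (h : Sp2) {u w : ℕ} (hu : u < 256) (hw : w < 256) (e : vh P h u = vh P h w) : u = w :=
  P.inj u hu w hw ((A.σ h).injective e)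

theorem vh_xor (h : Sp2) (u w : ℕ) : vh P h (u ^^^ w) = vh P h u + vh P h w := by
  rw [vh, P.xor, A.add]; rfl

theorem vh_zero (h : Sp2) : vh P h 0 = 0 := by rw [vh, c_zero P]; exact map_zero (A.a h)

theorem vh_B (hiso : ∀ g, A.σ g ∈ S.Iso) (h : Sp2) {u w : ℕ} (hu : u < 256) (hw : w < 256) :
    S.B (vh P h u) (vh P h w) = if beta u w then 1 else 0 := by
  rw [vh, vh, QV.iso_B (hiso h), P.polar u hu w hw]

theorem vh_q (hiso : ∀ g, A.σ g ∈ S.Iso) (h : Sp2) {u : ℕ} (hu : u < 256) :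
    S.q (vh P h u) = if qT u then 1 else 0 := by rw [vh, (hiso h).2, P.form u hu]

theorem σ_add_self {h r : Sp2} {c : ℕ} (hc : IsC P c r) {u : ℕ} (hu : u < 256) :
    A.σ (h * r * h⁻¹) (vh P h u) + vh P h u = vh P h (app c u ^^^ u) := by rw [σ_vh P hc hu, vh_xor]

theorem fix_iff {h r : Sp2} {c : ℕ} (hc : IsC P c r) {u : ℕ} (hu : u < 256) :
    A.σ (h * r * h⁻¹) (vh P h u) = vh P h u ↔ app c u = u := by
  rw [σ_vh P hc hu]
  exact ⟨fun e => vh_inj P h (app_lt _ _) hu e, fun e => by rw [e]⟩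

theorem card_fix {h r : Sp2} {c : ℕ} (hc : IsC P c r) :
    Nat.card {v : V // A.σ (h * r * h⁻¹) v = v} = (fixOf c).length := by
  classical
  have hm : ∀ u ∈ fixOf c, u < 256 ∧ app c u = u := fun u hu => by
    simpa [fixOf] using hu
  let f : {u // u ∈ (fixOf c).toFinset} → {v : V // A.σ (h * r * h⁻¹) v = v} := fun u =>
    ⟨vh P h u, (fix_iff P hc (hm u (List.mem_toFinset.1 u.2)).1).2 (hm u (List.mem_toFinset.1 u.2)).2⟩
  have hf : Function.Bijective f := by
    constructor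
    · intro a b e
      exact Subtype.ext (vh_inj P h (hm a (List.mem_toFinset.1 a.2)).1 (hm b (List.mem_toFinset.1 b.2)).1
        (congrArg Subtype.val e))
    · rintro ⟨v, hv⟩
      obtain ⟨u, hu, rfl⟩ := vh_surj P h v
      exact ⟨⟨u, List.mem_toFinset.2 (by simpa [fixOf] using ⟨hu, (fix_iff P hc hu).1 hv⟩)⟩, rfl⟩
  rw [← Nat.card_congr (Equiv.ofBijective f hf), Nat.card_eq_fintype_card, Fintype.card_coe]
  exact List.toFinset_card_of_nodup (List.Nodup.filter _ List.nodup_range)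

include P in
theorem ty_fix {t : ℕ} (ht : t < 4) {α : Sp2} (hα : Ty t α) :
    Nat.card {v : V // A.σ α v = v} = [16, 16, 64, 16].getD t 0 := by
  obtain ⟨h, rfl⟩ := hα
  rw [card_fix P (pC_rep P ht), Nat.eq_of_beq_eq_true (all_lt fix_count_ok ht)]

include P in
theorem ty_image {t : ℕ} (ht : t = 0 ∨ t = 1 ∨ t = 3) {α : Sp2} (hα : Ty t α) : FixImage (A.σ α) := by
  obtain ⟨h, rfl⟩ := hα
  intro v hv
  have ht4 : t < 4 := by omega
  obtain ⟨u, hu, rfl⟩ := vh_surj P h v
  have hm : t ∈ [0, 1, 3] := by rcases ht with rfl | rfl | rfl <;> simp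
  have h1 := List.all_eq_true.1 (List.all_eq_true.1 image_ok t hm) u
    (by simpa [fixOf] using ⟨hu, (fix_iff P (pC_rep P ht4) hu).1 hv⟩)
  simp only [List.any_eq_true, List.mem_range, Nat.beq_eq] at h1
  obtain ⟨w, hw, e⟩ := h1
  exact ⟨vh P h w, by rw [σ_add_self P (pC_rep P ht4) hw, e]⟩

include P in
theorem ty_plain (hiso : ∀ g, A.σ g ∈ S.Iso) {t : ℕ} (ht : t < 3) {α : Sp2} (hα : Ty t α) :
    ¬ Twisted S (A.σ α) := by
  obtain ⟨h, rfl⟩ := hα
  rintro ⟨v, hv⟩
  obtain ⟨u, hu, rfl⟩ := vh_surj P h v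
  rw [σ_vh P (pC_rep P (by omega)) hu, vh_B P hiso h hu (app_lt _ _)] at hv
  have h1 := all_lt (all_lt plain_ok ht) hu
  simp only [Bool.not_eq_true'] at h1
  rw [h1] at hv
  exact absurd hv (by simp)

include P in
theorem ty_twisted (hiso : ∀ g, A.σ g ∈ S.Iso) {α : Sp2} (hα : Ty 3 α) : Twisted S (A.σ α) := by
  obtain ⟨h, rfl⟩ := hα
  obtain ⟨u, hu, e⟩ := List.any_eq_true.1 twisted_ok
  rw [List.mem_range] at hu
  exact ⟨vh P h u, by rw [σ_vh P (pC_rep P (by norm_num)) hu, vh_B P hiso h hu (app_lt _ _), e]; rfl⟩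

include P in
/-- A property of all members of a conjugate bounds the order of a group carried into the list. -/
theorem card_le_cnt (hinj : Function.Injective A.σ) (M : Subgroup Sp2) (h : Sp2)
    (hS : ∀ m ∈ M, h⁻¹ * m * h ∈ sylS) (p : ℕ → Bool)
    (hp : ∀ m ∈ M, ∀ i < 512, IsC P (sel i) (h⁻¹ * m * h) → p i = true) :
    Nat.card M ≤ cnt p ∧ (cnt p ≤ Nat.card M → ∀ i < 512, p i = true →
      ∃ m ∈ M, IsC P (sel i) (h⁻¹ * m * h)) := by
  classical
  choose e he1 he2 using fun m : M => exists_el P (hS m m.2)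
  let f : M → {i // i ∈ ((List.range 512).filter p).toFinset} := fun m =>
    ⟨e m, by simpa using ⟨he1 m, hp m m.2 _ (he1 m) (he2 m)⟩⟩
  have hf : Function.Injective f := fun a b hab => by
    have h' : e a = e b := congrArg Subtype.val hab
    have := isC_eq P hinj (he2 a) (h' ▸ he2 b)
    exact Subtype.ext (mul_left_cancel (mul_right_cancel this))
  have hc : Fintype.card {i // i ∈ ((List.range 512).filter p).toFinset} = cnt p := by
    rw [Fintype.card_coe, List.toFinset_card_of_nodup (List.Nodup.filter _ List.nodup_range), cnt]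
  refine ⟨?_, fun hle i hi hpi => ?_⟩
  · have := Nat.card_le_card_of_injective f hf
    simp only [Nat.card_eq_fintype_card] at this ⊢
    exact this.trans hc.le
  · haveI := Fintype.ofFinite M
    have hb : Function.Bijective f := (Fintype.bijective_iff_injective_and_card f).2 ⟨hf, le_antisymm
      (Fintype.card_le_of_injective f hf) (by rw [hc]; rw [Nat.card_eq_fintype_card] at hle; exact hle)⟩
    obtain ⟨m, hm⟩ := hb.2 ⟨i, by simpa using ⟨hi, hpi⟩⟩
    have h' : e m = i := congrArg Subtype.val hm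
    exact ⟨m, m.2, h' ▸ he2 m⟩

/-- The vectors of a span stay in a subgroup. -/
theorem spanL_mem (W : AddSubgroup V) (h : Sp2) : ∀ (b s : List ℕ), (∀ v ∈ b, vh P h v ∈ W) →
    (∀ v ∈ s, vh P h v ∈ W) → ∀ v ∈ b.foldl (fun s v => s ++ s.map (fun w => w ^^^ v)) s, vh P h v ∈ W
  | [], _, _, hs => hs
  | x :: b, s, hb, hs => by
    rw [List.foldl_cons]
    refine spanL_mem W h b _ (fun v hv => hb v (List.mem_cons_of_mem _ hv)) fun v hv => ?_
    rw [List.mem_append, List.mem_map] at hv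
    rcases hv with hv | ⟨w, hw, rfl⟩
    · exact hs v hv
    · rw [vh_xor]; exact add_mem (hs w hw) (hb x List.mem_cons_self)

end CfsgLib.CoTwoRec
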