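import Cfsg.Agent.Lib.CoTwoRec.SpGenData
import Cfsg.Agent.Lib.LeechPSU.Perm
import Cfsg.Agent.Lib.Tails.SpSixModel

/-!
# Eight transvections generate the symplectic group of dimension six over two elements
-/

set_option autoImplicit false
set_option maxRecDepth 100000

namespace CfsgLib.CoTwoRec

open CfsgLib.Schur.Tails.SpSix CfsgLib.LeechPSU Matrix

/-- The symplectic product of two bit patterns. -/
def bx (x v : ℕ) : ZMod 2 :=
  ∑ i : Fin 3, (bits x (.inl i) * bits v (.inr i) + bits x (.inr i) * bits v (.inl i))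

/-- The matrix of a transvection. -/
def tvM (x : ℕ) : Matrix I I (ZMod 2) :=
  Matrix.of fun i j => (if i = j then 1 else 0) + bits x i * bx x (2 ^ pos j)

theorem tvM_mem_test : ∀ k : Fin 8, ∀ p : I × I,
    (tvM (tvVecs.getD k.val 0) * Matrix.J (Fin 3) (ZMod 2) * (tvM (tvVecs.getD k.val 0))ᵀ) p.1 p.2 =
      Matrix.J (Fin 3) (ZMod 2) p.1 p.2 := by
  decide +kernel

/-- A transvection of the list. -/
def tv (k : Fin 8) : Sp2 :=
  ⟨tvM (tvVecs.getD k.val 0), SymplecticGroup.mem_iff.2 (Matrix.ext fun i j => tvM_mem_test k (i, j))⟩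

theorem tv_act_test : ∀ k : Fin 8, ∀ p : Fin 63 × I, fieldAt (tvCodes.getD k.val 0) p.1.val < 63 ∧
    (tvM (tvVecs.getD k.val 0) *ᵥ bits (p.1.val + 1)) p.2 =
      bits (fieldAt (tvCodes.getD k.val 0) p.1.val + 1) p.2 := by
  decide +kernel

theorem isCode_tv (k : Fin 8) : IsCode (tvCodes.getD k.val 0) (phi (tv k)) := fun a => by
  have h := fun i => tv_act_test k (a, i)
  have e : phi (tv k) a = ⟨fieldAt (tvCodes.getD k.val 0) a.val, (h (.inl 0)).1⟩ := by
    refine pts.injective (Subtype.ext (funext fun i => ?_))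
    show (pts (pts.symm (onVec (tv k) (pts a)))).1 i = _
    rw [Equiv.apply_symm_apply]
    exact (h i).2
  rw [e]

/-- The certificate of the order. -/
def tvCert : CfsgLib.LeechPSU.Cert := ⟨tvOps, tvLevs.map fun L => ⟨L.1, L.2.1, L.2.2⟩⟩

theorem tvCert_ok : tvCert.ok 63 tvCodes 1451520 = true := by decide +kernel

theorem tv_generate : Subgroup.closure (Set.range tv) = ⊤ := by
  have hcodes : ∀ P ∈ tvCodes, ∃ k : Fin 8, tvCodes.getD k.val 0 = P := fun P hP => by
    obtain ⟨i, hi, rfl⟩ := List.getElem_of_mem hP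
    exact ⟨⟨i, hi⟩, List.getD_eq_getElem _ _ hi⟩
  have h1 := le_card_permGroup tvCert tvCert_ok fun P hP => by
    obtain ⟨k, rfl⟩ := hcodes P hP
    exact ⟨_, isCode_tv k⟩
  have h2 : permGroup 63 tvCodes ≤ (Subgroup.closure (Set.range tv)).map phi := by
    refine (Subgroup.closure_le _).2 ?_
    rintro σ ⟨P, hP, hσ⟩
    obtain ⟨k, rfl⟩ := hcodes P hP
    exact ⟨tv k, Subgroup.subset_closure ⟨k, rfl⟩, isCode_unique (isCode_tv k) hσ⟩
  have h3 := h1.trans (Subgroup.card_le_of_le h2)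
  rw [Subgroup.card_map_of_injective phi_injective] at h3
  exact Subgroup.eq_top_of_le_card _ (by rw [card_sp2]; exact h3)

/-- Two homomorphisms agreeing on the transvections are equal. -/
theorem eq_of_tv {H : Type*} [Group H] {f g : Sp2 →* H} (h : ∀ k, f (tv k) = g (tv k)) : f = g :=
  MonoidHom.eq_of_eqOn_dense tv_generate (by rintro _ ⟨k, rfl⟩; exact h k)

end CfsgLib.CoTwoRec
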