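import Cfsg.Agent.Lib.CoTwoRec.SpClasses
import Cfsg.Agent.Lib.ThType.Fusion.Main

/-!
# A commuting conjugate outside the extraspecial subgroup, on the spin module

It lies over a transvection or over the class with sixty four fixed vectors and full centraliser, and it is not
conjugate to its product with the central involution; there is one of the second kind.
-/

set_option autoImplicit false
set_option linter.unusedSectionVars false
set_option maxRecDepth 100000

namespace CfsgLib.CoTwoRec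

open Subgroup CfsgLib.ExtraNine CfsgLib.LargeExtra CfsgLib.Schur.Tails.SpSix CfsgLib.ThType.Perm
  CfsgLib.ThType.Coords CfsgLib.ThType.Fusion

attribute [local irreducible] sel app

variable {G : Type*} [Group G] [Finite G] {V : Type*} [AddCommGroup V] {N : Nine G V} {A : Act Sp2 V}
  (P : SpinChart N.S A) (hinj : Function.Injective A.σ) (hr : A.σ.range = N.ρ.range) {g : G} (O : Out N g)

include hr in
theorem spin_iso (γ : Sp2) : A.σ γ ∈ N.S.Iso := by
  obtain ⟨k, hk⟩ := (hr ▸ ⟨γ, rfl⟩ : A.σ γ ∈ N.ρ.range)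
  rw [← hk]; exact N.ρ_mem k

include P in
theorem spin_finite : Finite V :=
  Finite.of_surjective (fun u : Fin 256 => P.c u) fun v => by
    obtain ⟨u, hu, e⟩ := P.surj v
    exact ⟨⟨u, hu⟩, e⟩

theorem comm_codes {a b : ℕ} {γ δ : Sp2} (ha : IsC P a γ) (hb : IsC P b δ) (h : γ * δ = δ * γ) {n : ℕ}
    (hn : n < 8) : app a (img b n) = app b (img a n) := by
  refine P.inj _ (app_lt _ _) _ (app_lt _ _) ?_
  rw [← ha (img b n) (img_lt _ _), ← hb (img a n) (img_lt _ _), ← isC_basis P hb hn, ← isC_basis P ha hn,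
    ← Equiv.Perm.mul_apply, ← Equiv.Perm.mul_apply, ← map_mul, ← map_mul, h]

include P hinj hr O in
theorem exists_alpha : ∃ α, A.σ α = N.ρ O.inv' ∧ ∃ t < 4, Ty t α := by
  obtain ⟨α, hα⟩ := (hr.symm ▸ ⟨O.inv', rfl⟩ : N.ρ O.inv' ∈ A.σ.range)
  refine ⟨α, hα, classify P hinj (hinj ?_) fun e => O.a_sq.2 ?_⟩
  · rw [map_mul, hα, O.a_sq.1, map_one]
  · rw [← hα, e, map_one]

variable {α : Sp2} (hα : A.σ α = N.ρ O.inv')

include P hr hα in
theorem sG_small {t : ℕ} (ht : t < 2) (hT : Ty t α) : Nat.card ↥(sG N g) = 32 := by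
  haveI := spin_finite P
  rw [O.card_s_plain (hα ▸ ty_image P (by omega) hT) (hα ▸ ty_plain P (spin_iso hr) (by omega) hT), ← hα,
    ty_fix P (by omega) hT]
  interval_cases t <;> rfl

include P hr hα in
theorem sG_tw (hT : Ty 3 α) : Nat.card ↥(sG N g) = 16 ∧ Nat.card ↥(dG N g) = 1 := by
  haveI := spin_finite P
  refine ⟨?_, O.d_trivial (hα ▸ ty_image P (by omega) hT) (hα ▸ ty_twisted P (spin_iso hr) hT)⟩
  rw [O.card_s_twisted (hα ▸ ty_twisted P (spin_iso hr) hT), ← hα, ty_fix P (by norm_num) hT]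
  rfl

include P O hα in
theorem sG_two (hT : Ty 2 α) : 64 ≤ Nat.card ↥(sG N g) := by
  classical
  haveI := spin_finite P
  have h64 : Nat.card {v : V // N.ρ O.inv' v = v} = 64 := by rw [← hα, ty_fix P (by norm_num) hT]; rfl
  rw [card_sG O]
  suffices h : Nat.card {v : V // N.ρ O.inv' v = v} ≤ 2 * Nat.card ↥(klV N g) by omega
  by_cases hall : ∀ v : V, N.ρ O.inv' v = v → lf N g v = 0
  · have := Nat.card_le_card_of_injective (fun v : {v : V // N.ρ O.inv' v = v} =>
      (⟨v.1, (mem_klV O).2 ⟨v.2, hall _ v.2⟩⟩ : ↥(klV N g))) fun a b e =>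
        Subtype.ext (congrArg (fun x : ↥(klV N g) => (x : V)) e)
    omega
  push Not at hall
  obtain ⟨v₀, hv₀, hl₀⟩ := hall
  have hl₀' : lf N g v₀ = 1 := (zmod_two_cases _).resolve_left hl₀
  let f : {v : V // N.ρ O.inv' v = v} → Bool × ↥(klV N g) := fun v =>
    if h : lf N g v.1 = 0 then (false, ⟨v.1, (mem_klV O).2 ⟨v.2, h⟩⟩)
    else (true, ⟨v.1 + v₀, (mem_klV O).2 ⟨by rw [O.a_add, v.2, hv₀], by
      rw [O.lfun_lfun.1 _ _ v.2 hv₀, (zmod_two_cases _).resolve_left h, hl₀']; decide⟩⟩)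
  have := Nat.card_le_card_of_injective f fun a b e => by
    by_cases ha : lf N g a.1 = 0 <;> by_cases hb : lf N g b.1 = 0 <;> simp [f, ha, hb] at e
    · exact Subtype.ext e
    · exact Subtype.ext e
  rwa [Nat.card_prod, Nat.card_eq_fintype_card (α := Bool), Fintype.card_bool] at this

/-- The image of the other extraspecial subgroup in the abstract group. -/
noncomputable def m2 (A : Act Sp2 V) (N : Nine G V) (g : G) : Subgroup Sp2 := (mG N g).comap A.σ

include hinj hr O in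
theorem m2_facts : Nat.card (m2 A N g) = Nat.card (mG N g) ∧ IsPGroup 2 (m2 A N g) := by
  refine ⟨?_, (mG_two O).comap_of_injective _ hinj⟩
  rw [← card_map_of_injective (K := m2 A N g) hinj, m2, map_comap_eq_self]
  exact hr.symm ▸ map_le_range _ _

include hinj hα in
theorem m2_comm : α ∈ m2 A N g ∧ ∀ m ∈ m2 A N g, m * α = α * m := by
  refine ⟨show A.σ α ∈ mG N g from hα ▸ inv'_mem O, fun m hm => hinj ?_⟩
  have h := (O.k_le_centralizer ((mG_normal O).1 hm)).2
  rw [map_mul, map_mul, hα]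
  exact mem_centralizer_singleton_iff.1 h

include P hr hα in
/-- Squares of the centraliser of a small class lie in the stabiliser. -/
theorem sq_mem {t : ℕ} (ht : t < 2) (hT : Ty t α) {γ : Sp2} (hγ : γ * α = α * γ) :
    ∃ k ∈ kG N g, N.ρ k = A.σ (γ * γ) := by
  haveI := spin_finite P
  have hb := O.orbit_bound (card_bool_fix N.S _ 16 (by rw [← hα, ty_fix P (by omega) hT]; interval_cases t <;> rfl))
  rw [O.card_k, sG_small P hr O hα ht hT] at hb
  set H := N.ρ.range ⊓ centralizer ({N.ρ O.inv'} : Set (Equiv.Perm V)) with hH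
  set L := ((kG N g).map N.ρ).subgroupOf H with hL
  have hLc : Nat.card L = Nat.card ↥((kG N g).map N.ρ) :=
    Nat.card_congr (subgroupOfEquivOfLe O.k_le_centralizer).toEquiv
  have hi := L.card_mul_index
  have hLpos : 0 < Nat.card L := Nat.card_pos
  have hidx : L.index ≤ 2 := Nat.le_of_mul_le_mul_left (by rw [hi, hLc]; omega) hLpos
  have hγH : A.σ γ ∈ H := ⟨hr ▸ ⟨γ, rfl⟩, mem_centralizer_singleton_iff.2 (by
    rw [← hα, ← map_mul, hγ, map_mul])⟩
  have hmem : (⟨A.σ γ, hγH⟩ : H) ^ 2 ∈ L := by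
    rcases (show L.index = 1 ∨ L.index = 2 by have := L.index_ne_zero_of_finite; omega) with h | h
    · rw [index_eq_one.1 h]; exact mem_top _
    · exact sq_mem_of_index_two h _
  rw [hL, mem_subgroupOf] at hmem
  obtain ⟨k, hk, e⟩ := hmem
  exact ⟨k, hk, e.trans (show A.σ γ ^ 2 = A.σ (γ * γ) by rw [map_mul, sq])⟩

include P hinj hr hα in
/-- The fourth class inside the list. -/
theorem pull_tw (hT : Ty 3 α) : ∃ y ∈ twReps, ∃ r h : Sp2, IsC P (sel y.1) r ∧ h * r * h⁻¹ = α ∧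
    ∀ m ∈ m2 A N g, h⁻¹ * m * h ∈ sylS := by
  obtain ⟨hαm, -⟩ := m2_comm hinj O hα
  obtain ⟨k, hk⟩ := exists_conj_S P hinj (m2_facts hinj hr O).2
  obtain ⟨i, hi, hc⟩ := exists_el P (hk α hαm)
  have h2 : α * α = 1 := hinj (by rw [map_mul, hα, O.a_sq.1, map_one])
  obtain ⟨e, he, hei, het, heT⟩ := tab_type P hinj hi hc
    (by rw [show k * α * k⁻¹ * (k * α * k⁻¹) = k * (α * α) * k⁻¹ by group, h2]; group)
    (fun h => O.a_sq.2 (by rw [← hα, conj_eq_one_iff.1 h, map_one]))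
  have h7 : nfix (repW.getD e.2.1 []) = 7 := by
    obtain ⟨h, hh⟩ := heT
    rw [← nfixP_tvW, ← rep, ← nfixP_conj h, hh, nfixP_conj, nfix_ty (t := 3) (by norm_num) hT]
    rfl
  have hcov := List.all_eq_true.1 tw_cover_ok e he
  simp only [h7, Bool.or_eq_true, Bool.not_eq_true', List.any_eq_true, Nat.beq_eq,
    show Nat.beq 7 7 = true from rfl, Bool.true_eq_false, false_or] at hcov
  obtain ⟨x, hx, hxi⟩ := hcov
  have htab := List.all_eq_true.1 tw_tab_ok x hx
  simp only [Bool.and_eq_true, Nat.blt_eq, List.any_eq_true, Nat.beq_eq, List.all_eq_true,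
    List.mem_range] at htab
  obtain ⟨⟨⟨hk', hr'⟩, y, hy, hye⟩, hconj⟩ := htab
  obtain ⟨gk, hgk, hck⟩ := el_exists P _ hk'
  obtain ⟨gr, -, hcr⟩ := el_exists P _ hr'
  have hcomm : gk * gr = k * α * k⁻¹ * gk := hinj (σ_ext P fun n hn => by
    rw [map_mul, map_mul, Equiv.Perm.mul_apply, Equiv.Perm.mul_apply, isC_basis P hcr hn, isC_basis P hck hn,
      hck _ (img_lt _ _), hc _ (img_lt _ _), hconj n hn, hxi, hei])
  refine ⟨y, hy, gr, k⁻¹ * gk, hye ▸ hcr, ?_, fun m hm => ?_⟩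
  · calc k⁻¹ * gk * gr * (k⁻¹ * gk)⁻¹ = k⁻¹ * (gk * gr * gk⁻¹) * k := by group
      _ = α := by rw [hcomm]; group
  · rw [show (k⁻¹ * gk)⁻¹ * m * (k⁻¹ * gk) = gk⁻¹ * (k * m * k⁻¹) * gk by group]
    exact mul_mem (mul_mem (inv_mem hgk) (hk m hm)) hgk

include P hinj hr hα in
/-- The fourth class does not occur. -/
theorem no_tw (hT : Ty 3 α) : False := by
  haveI := spin_finite P
  obtain ⟨-, hd⟩ := sG_tw P hr O hα hT
  obtain ⟨y, hy, r, h, hc, rfl, hS⟩ := pull_tw P hinj hr O hα hT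
  have hchk := List.all_eq_true.1 tw_rep_ok y hy
  simp only [Bool.and_eq_true, Nat.blt_eq, Nat.beq_eq, Nat.ble_eq, List.all_eq_true, List.mem_range,
    decide_eq_true_eq, List.any_eq_true, Bool.not_eq_true', Bool.or_eq_true] at hchk
  obtain ⟨⟨⟨⟨⟨⟨hu, hB⟩, hrv⟩, hkl⟩, hlen⟩, hcnt⟩, s, hs, hmv⟩ := hchk
  have hiso := spin_iso hr
  have hkl' : ∀ v ∈ y.2.1, v < 256 ∧ vh P h v ∈ klV N g := by
    intro v hv
    obtain ⟨n, hn, rfl⟩ := List.getElem_of_mem hv
    obtain ⟨⟨hp, e⟩, hb⟩ := hkl n (by omega)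
    rw [List.getD_eq_getElem _ _ hn] at e hb
    have hv256 : y.2.1[n] < 256 := e ▸ Nat.xor_lt_two_pow (n := 8) (app_lt _ _) hp
    refine ⟨hv256, ?_⟩
    rw [e, ← σ_add_self P hc hp, hα, mem_klV O]
    refine ⟨O.fix_comm _, ?_⟩
    rw [O.lfun_lfun.2]
    have hB' : N.S.B (vh P h (y.2.2.1.getD n 0)) (N.ρ O.inv' (vh P h (y.2.2.1.getD n 0)) +
        vh P h (y.2.2.1.getD n 0)) = 0 := by
      rw [← hα, σ_add_self P hc hp, vh_B P hiso h hp (e ▸ hv256), ← e, hb]; simp
    rwa [N.S.B_add_right, N.S.B_self, add_zero] at hB'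
  have hd0 : dV N g = ⊥ := AddSubgroup.eq_bot_of_card_eq _ (by rw [card_dV O, hd])
  have hp : ∀ m ∈ m2 A N g, ∀ i < 512, IsC P (sel i) (h⁻¹ * m * h) →
      (fixesL y.2.1 i && commC (sel i) (sel y.1)) = true := by
    intro m hm i hi hci
    simp only [Bool.and_eq_true, fixesL, commC, List.all_eq_true, List.mem_range, Nat.beq_eq]
    refine ⟨fun v hv => ?_, fun n hn => ?_⟩
    · obtain ⟨hv256, hvk⟩ := hkl' v hv
      have h1 := com_dV O (show A.σ m ∈ mG N g from hm) hvk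
      rw [hd0, AddSubgroup.mem_bot, show m = h * (h⁻¹ * m * h) * h⁻¹ by group, σ_add_self P hci hv256,
        ← vh_zero P h] at h1
      exact Nat.xor_eq_zero_iff.1 (vh_inj P h (Nat.xor_lt_two_pow (n := 8) (app_lt _ _) hv256) (by norm_num) h1)
    · have hcomm : h⁻¹ * m * h * r = r * (h⁻¹ * m * h) := by
        calc h⁻¹ * m * h * r = h⁻¹ * (m * (h * r * h⁻¹)) * h := by group
          _ = h⁻¹ * (h * r * h⁻¹ * m) * h := by rw [(m2_comm hinj O hα).2 m hm]
          _ = _ := by group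
      exact comm_codes P hci hc hcomm hn
  have hM : Nat.card (mG N g) ≤ 16 := by
    rw [← (m2_facts hinj hr O).1]
    exact (card_le_cnt P hinj _ h hS _ hp).1.trans hcnt
  have hM' := card_mG O
  rw [hd, mul_one] at hM'
  -- the partner is of the same class
  obtain ⟨β, hβ, t, ht, hTβ⟩ := exists_alpha P hinj hr O.symm
  have ht3 : t = 3 := by
    by_contra hne
    rcases (show t < 2 ∨ t = 2 by omega) with h2 | rfl
    · have := sG_small P hr O.symm hβ h2 hTβ; omega
    · have := sG_two P O.symm hβ hTβ; omega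
  subst ht3
  -- a moved element
  obtain ⟨pq, hpq⟩ := N.surj (vh P h y.2.2.2.1)
  obtain ⟨sq', hsq⟩ := N.surj (vh P h s)
  have hfix : N.ρ O.inv' (N.π pq) = N.π pq := by rw [hpq, hrv, ← σ_add_self P hc hu, hα, O.fix_comm]
  have hl : lf N g (N.π pq) ≠ 0 := by
    rw [hpq, hrv, ← σ_add_self P hc hu, hα, O.lfun_lfun.2, ← hα, σ_vh P hc hu, vh_B P hiso h hu (app_lt _ _), hB]
    simp
  let T : Set G := {(pq : G), (pq : G) * N.z, (sq' : G), (sq' : G) * N.z}
  obtain ⟨k, Pk, hk, hbound⟩ := moved_bound O (conj_mul_of_moved O hfix hl) (T := T) (Set.toFinite _) fun c hc' => by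
    have hcm : N.ρ c ∈ mG N g := mem_map_of_mem _ hc'
    obtain ⟨m, hme⟩ := (hr.symm ▸ ⟨c, rfl⟩ : N.ρ c ∈ A.σ.range)
    have hm : m ∈ m2 A N g := show A.σ m ∈ mG N g from hme ▸ hcm
    obtain ⟨i, hi, hci⟩ := exists_el P (hS m hm)
    have hv256 : y.2.2.2.1 < 256 := hrv ▸ Nat.xor_lt_two_pow (n := 8) (app_lt _ _) hu
    have h1 := hmv i (List.mem_filter.2 ⟨List.mem_range.2 hi, hp m hm i hi hci⟩)
    have e : N.π ⟨(c : G) * pq * (c : G)⁻¹, N.conj_mem c.2 pq⟩ = vh P h (app (sel i) y.2.2.2.1) := by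
      refine (N.ρ_π c pq).symm.trans ?_
      rw [hpq, ← hme]
      conv_lhs => rw [show m = h * (h⁻¹ * m * h) * h⁻¹ by group]
      exact σ_vh P hci hv256
    rcases h1 with h1 | h1 <;> rw [h1] at e
    · rcases N.π_eq (hpq.trans e.symm) with e' | e' <;> simp only at e' <;> rw [e'] <;> simp [T]
    · rcases N.π_eq (hsq.trans e.symm) with e' | e' <;> simp only at e' <;> rw [e'] <;> simp [T]
  have hd' := (sG_tw P hr Pk (hk ▸ hβ) hTβ).2
  have hT4 : T.ncard ≤ 4 := by
    have h1 := Set.ncard_insert_le (pq : G) ({(pq : G) * N.z, (sq' : G), (sq' : G) * N.z} : Set G)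
    have h2 := Set.ncard_insert_le ((pq : G) * N.z) ({(sq' : G), (sq' : G) * N.z} : Set G)
    have h3 := Set.ncard_insert_le (sq' : G) ({(sq' : G) * N.z} : Set G)
    rw [Set.ncard_singleton] at h3
    simp only [T]
    omega
  have := (sG_tw P hr O.symm hβ hTβ).1
  rw [hd', mul_one] at hbound
  omega

end CfsgLib.CoTwoRec
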