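import Cfsg.Agent.Lib.CoTwoRec.SpOut

/-!
# The classes of a commuting conjugate outside, on the spin module

Two classes remain. In both the conjugate is not conjugate to its product with the central involution, and the
class with sixty four fixed vectors occurs.
-/

set_option autoImplicit false
set_option linter.unusedSectionVars false
set_option maxRecDepth 100000

namespace CfsgLib.CoTwoRec

open Subgroup CfsgLib.ExtraNine CfsgLib.LargeExtra CfsgLib.Schur.Tails.SpSix CfsgLib.ThType.Perm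
  CfsgLib.ThType.Coords CfsgLib.ThType.Fusion

attribute [local irreducible] sel app

variable {G : Type*} [Group G] [Finite G] {V : Type*} [AddCommGroup V] {N : Nine G V} {A : Act Sp2 V}
  (P : SpinChart N.S A) (hinj : Function.Injective A.σ) (hr : A.σ.range = N.ρ.range) {g : G} (O : Out N g)
  {α : Sp2} (hα : A.σ α = N.ρ O.inv')

theorem pick_bits : ∀ a b c d : Bool, ∃ e : Fin 16, bitAt e.val 0 = a ∧ bitAt e.val 1 = b ∧ bitAt e.val 2 = c ∧
    bitAt e.val 3 = d := by decide +kernel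

theorem xor_lt' {u w : ℕ} (hu : u < 256) (hw : w < 256) : u ^^^ w < 256 := Nat.xor_lt_two_pow (n := 8) hu hw

theorem beq_ne {a b : ℕ} (h : Nat.beq a b = false) : a ≠ b := fun e => by
  subst e
  simp [Nat.beq_refl] at h

theorem filter_mem {n i : ℕ} {p : ℕ → Bool} (hi : i < n) (hp : p i = true) : i ∈ (List.range n).filter p :=
  List.mem_filter.2 ⟨List.mem_range.2 hi, hp⟩

include P hr O hα in
theorem commutator_mem {t : ℕ} (ht : t < 3) (hT : Ty t α) (w : V) : A.σ α w + w ∈ klV N g := by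
  rw [hα, mem_klV O]
  refine ⟨O.fix_comm w, ?_⟩
  rw [O.lfun_lfun.2]
  exact (zmod_two_cases _).resolve_right fun h => ty_plain P (spin_iso hr) ht hT ⟨w, hα ▸ h⟩

include P hr O hα in
theorem fixed_mem {t : ℕ} (ht : t < 2) (hT : Ty t α) {v : V} (hv : A.σ α v = v) : v ∈ klV N g := by
  obtain ⟨w, rfl⟩ := ty_image P (t := t) (by omega) hT v hv
  exact commutator_mem P hr O hα (by omega) hT w

include P hinj hr hα in
/-- The classes with sixteen fixed vectors move every one of them by squares of the centraliser. -/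
theorem sq_move {t : ℕ} (ht : t < 2) (h : Sp2) (hT : h * rep t * h⁻¹ = α) {w : List (Fin 8)}
    (hw : w ∈ [sqW0, sqW1].getD t []) {r : ℕ} (hr' : r < 256) :
    ∃ k ∈ kG N g, N.ρ k (vh P h r) = vh P h (evT (w ++ w) r) := by
  have hc : tvW w * rep t = rep t * tvW w := hinj (σ_ext P fun n hn => by
    have hchk := List.all_eq_true.1 (List.all_eq_true.1 (all_lt sq_ok ht) w hw) n (List.mem_range.2 hn)
    rw [Nat.beq_eq] at hchk
    rw [rep, ← tvW_append, ← tvW_append, σ_tvW P _ (pow_lt hn), σ_tvW P _ (pow_lt hn), hchk])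
  obtain ⟨k, hk, e⟩ := sq_mem P hr O hα ht ⟨h, hT⟩ (γ := h * tvW w * h⁻¹) (by
    rw [← hT]
    calc h * tvW w * h⁻¹ * (h * rep t * h⁻¹) = h * (tvW w * rep t) * h⁻¹ := by group
      _ = _ := by rw [hc]; group)
  refine ⟨k, hk, ?_⟩
  rw [e, show h * tvW w * h⁻¹ * (h * tvW w * h⁻¹) = h * tvW (w ++ w) * h⁻¹ by rw [tvW_append]; group, vh, σ_conj,
    σ_tvW P _ hr']
  rfl

include P hinj hr hα in
/-- On the other side of the second class no vector is fixed. -/
theorem no_fixed {t : ℕ} (ht : t < 2) (hT : Ty t α) {v : V} (hv : v ∈ klV N g) (hv0 : v ≠ 0)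
    (hfix : ∀ k ∈ kG N g, N.ρ k v = v) : False := by
  obtain ⟨h, hh⟩ := hT
  have hfix' := hα ▸ (mem_klV O).1 hv |>.1
  obtain ⟨x, hx⟩ := ty_image P (t := t) (by omega) ⟨h, hh⟩ v hfix'
  obtain ⟨u, hu, rfl⟩ := vh_surj P h x
  subst hh
  rw [σ_add_self P (pC_rep P (by omega)) hu] at hx
  have hne : Nat.beq (app (rC t) u) u = false := by
    rw [Bool.eq_false_iff]
    intro e
    rw [Nat.beq_eq] at e
    exact hv0 (by rw [← hx, e, Nat.xor_self, vh_zero])
  have key : ∃ w ∈ [sqW0, sqW1].getD t [], evT (w ++ w) (app (rC t) u ^^^ u) ≠ app (rC t) u ^^^ u := by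
    have h1 := all_lt (all_lt orbit_ok ht) hu
    rw [hne, Bool.false_or, List.any_eq_true] at h1
    obtain ⟨w, hw, e⟩ := h1
    rw [Bool.and_eq_true] at e
    exact ⟨w, hw, beq_ne (by simpa using e.1)⟩
  obtain ⟨w, hw, hmv⟩ := key
  have hlt := xor_lt' (app_lt (rC t) u) hu
  obtain ⟨k, hk, e⟩ := sq_move P hinj hr O hα ht h rfl hw hlt
  have e2 := hfix k hk
  rw [← hx, e] at e2
  exact hmv (vh_inj P h (evT_lt _ hlt) hlt e2)

include P hinj hr hα in
theorem small_d {t : ℕ} (ht : t < 2) (hT : Ty t α) : dV N g = ⊥ := by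
  refine (AddSubgroup.eq_bot_iff_forall _).2 fun v hv => by_contra fun hv0 => ?_
  obtain ⟨h, hh⟩ := hT
  have hfix := hα ▸ (mem_klV O).1 (dV_le_klV O hv) |>.1
  obtain ⟨x, hx⟩ := ty_image P (t := t) (by omega) ⟨h, hh⟩ v hfix
  obtain ⟨u, hu, rfl⟩ := vh_surj P h x
  have hxu : N.ρ O.inv' (vh P h u) + vh P h u = v := hα ▸ hx
  subst hh
  rw [σ_add_self P (pC_rep P (by omega)) hu] at hx
  have h1 := all_lt (all_lt orbit_ok ht) hu
  have hne : Nat.beq (app (rC t) u) u = false := by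
    rw [Bool.eq_false_iff]
    intro e
    rw [Nat.beq_eq] at e
    exact hv0 (by rw [← hx, e, Nat.xor_self, vh_zero])
  rw [hne, Bool.false_or, List.any_eq_true] at h1
  obtain ⟨w, hw, e⟩ := h1
  simp only [Bool.and_eq_true, Bool.not_eq_true'] at e
  have hlt := xor_lt' (app_lt (rC t) u) hu
  obtain ⟨k, hk, ek⟩ := sq_move P hinj hr O hα ht h rfl hw hlt
  have hv' : N.ρ k v ∈ dV N g := dV_inv O hk hv
  rw [← hx, ek] at hv'
  have hv'0 : vh P h (evT (w ++ w) (app (rC t) u ^^^ u)) ≠ 0 := fun e0 => hv0 (by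
    rw [← hx]
    have : N.ρ k (vh P h (app (rC t) u ^^^ u)) = 0 := ek.trans e0
    exact (N.ρ k).injective (this.trans (QV.iso_zero (N.ρ_mem k)).symm))
  obtain ⟨r, hr2⟩ := ty_image P (t := t) (by omega) ⟨h, rfl⟩ _ (hα ▸ ((mem_klV O).1 (dV_le_klV O hv')).1)
  have h1' := pair_one O hv hv' hv0 hv'0 (fun e' => beq_ne e.1 (vh_inj P h (evT_lt _ hlt) hlt (hx.trans e').symm))
    hxu (hα ▸ hr2)
  rw [vh_B P (spin_iso hr) h hu (evT_lt _ hlt), e.2] at h1'
  exact absurd h1' (by simp)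

include P hinj hr hα in
/-- The second class does not occur. -/
theorem no_ty1 (hT : Ty 1 α) : False := by
  haveI := spin_finite P
  have hdV := small_d P hinj hr O hα (t := 1) (by norm_num) hT
  have hd : Nat.card ↥(dG N g) = 1 := by rw [← card_dV O, hdV, AddSubgroup.card_bot]
  obtain ⟨β, hβ, t, ht, hTβ⟩ := exists_alpha P hinj hr O.symm
  obtain ⟨h, hh, hS⟩ := exists_pull P hinj (t := 1) (by norm_num) hT (m2_facts hinj hr O).2
    (m2_comm hinj O hα).2
  have hb := all_lt basis16_ok (show 1 < 2 by norm_num)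
  simp only [List.all_eq_true, Bool.and_eq_true, Nat.blt_eq, Nat.beq_eq] at hb
  have hp : ∀ m ∈ m2 A N g, ∀ i < 512, IsC P (sel i) (h⁻¹ * m * h) →
      fixesL (fixB16.getD 1 []) i = true := by
    intro m hm i _ hci
    simp only [fixesL, List.all_eq_true, Nat.beq_eq]
    intro v hv
    obtain ⟨hv256, hvf⟩ := hb v hv
    have hvk : vh P h v ∈ klV N g := fixed_mem P hr O hα (t := 1) (by norm_num) ⟨h, hh⟩
      (hh ▸ (fix_iff P (pC_rep P (by norm_num)) hv256).2 hvf)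
    have h1 := com_dV O (show A.σ m ∈ mG N g from hm) hvk
    rw [hdV, AddSubgroup.mem_bot, show m = h * (h⁻¹ * m * h) * h⁻¹ by group, σ_add_self P hci hv256,
      ← vh_zero P h] at h1
    exact Nat.xor_eq_zero_iff.1 (vh_inj P h (xor_lt' (app_lt _ _) hv256) (by norm_num) h1)
  obtain ⟨hle, hall⟩ := card_le_cnt P hinj _ h hS _ hp
  have hchk := fix945_ok
  simp only [Bool.and_eq_true, Nat.ble_eq, List.any_eq_true, List.all_eq_true, List.mem_range, Nat.beq_eq] at hchk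
  obtain ⟨⟨hcnt, htr⟩, e, -, -, hecode⟩ := hchk
  have hM := card_mG O
  rw [hd, mul_one] at hM
  rw [(m2_facts hinj hr O).1, hM] at hle hall
  have htlt : trIx < 512 := by decide +kernel
  rcases (show t < 2 ∨ t = 2 ∨ t = 3 by omega) with h2 | rfl | rfl
  rotate_left
  · have := sG_two P O.symm hβ hTβ; omega
  · exact no_tw P hinj hr O.symm hβ hTβ
  have hs := sG_small P hr O.symm hβ h2 hTβ
  obtain ⟨m, hm, hcm⟩ := hall (by omega) trIx htlt htr
  -- it is a transvection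
  have hm0 : Ty 0 m := by
    refine ⟨h * tvW e.2.2, ?_⟩
    have heq : tvW (e.2.2 ++ repW.getD 0 [] ++ e.2.2.reverse) = h⁻¹ * m * h :=
      isC_eq P hinj (isC_of_basis P fun j hj => by rw [σ_tvW P _ (pow_lt hj), hecode j hj]) hcm
    rw [tvW_append, tvW_append, tvW_rev] at heq
    calc h * tvW e.2.2 * rep 0 * (h * tvW e.2.2)⁻¹ = h * (tvW e.2.2 * rep 0 * (tvW e.2.2)⁻¹) * h⁻¹ := by group
      _ = m := by rw [rep, heq]; group
  have hm31 : nfixP m = 31 := by rw [nfix_ty (t := 0) (by norm_num) hm0]; rfl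
  have hm2 : m * m = 1 := by
    obtain ⟨γ, hγ⟩ := hm0
    have : rep 0 * rep 0 = 1 := hinj (σ_ext P fun n hn => by
      rw [← hγ] at hm31
      rw [map_mul, Equiv.Perm.mul_apply, map_one, Equiv.Perm.one_apply, rep, σ_tvW P _ (pow_lt hn),
        σ_tvW P _ (evT_lt _ (pow_lt hn))]
      exact congrArg _ (Nat.eq_of_beq_eq_true (all_lt rep0_sq hn)))
    rw [← hγ, show γ * rep 0 * γ⁻¹ * (γ * rep 0 * γ⁻¹) = γ * (rep 0 * rep 0) * γ⁻¹ by group, this]; group
  have hmne : ∀ {x : Sp2}, x ∈ ({1, α} : Set Sp2) → m ≠ x := by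
    rintro x (rfl | rfl) rfl
    · have h63 : nfixP (1 : Sp2) = 63 := by rw [nfixP, map_one]; simp
      omega
    · rw [nfix_ty (t := 1) (by norm_num) ⟨h, hh⟩] at hm31
      revert hm31
      decide
  suffices hfx : ∀ k ∈ (kG N g).map N.ρ, k * A.σ m * k⁻¹ = A.σ m ∨ k * A.σ m * k⁻¹ = A.σ m * N.ρ O.inv' by
    obtain ⟨v, hv, hv0, hfix⟩ := fixed_of_pair O hd (m := A.σ m) hm
      (fun e' => hmne (Or.inl rfl) (hinj (e'.trans (map_one _).symm)))
      (fun e' => hmne (Or.inr rfl) (hinj (e'.trans hα.symm))) hfx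
    exact no_fixed P hinj hr O.symm hβ h2 hTβ hv hv0 hfix
  intro k hk
  left
  obtain ⟨κ, hκ⟩ := (hr.symm ▸ map_le_range N.ρ _ hk : k ∈ A.σ.range)
  have hmem : κ * m * κ⁻¹ ∈ m2 A N g := by
    show A.σ _ ∈ mG N g
    rw [map_mul, map_mul, map_inv, hκ]
    exact (mG_normal O).2 k hk _ hm
  obtain ⟨i, hi, hci⟩ := exists_el P (hS _ hmem)
  have hsq : h⁻¹ * (κ * m * κ⁻¹) * h * (h⁻¹ * (κ * m * κ⁻¹) * h) = 1 := by
    rw [show h⁻¹ * (κ * m * κ⁻¹) * h * (h⁻¹ * (κ * m * κ⁻¹) * h) = h⁻¹ * (κ * (m * m) * κ⁻¹) * h by group, hm2]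
    group
  have hne1 : h⁻¹ * (κ * m * κ⁻¹) * h ≠ 1 := fun e' => hmne (Or.inl rfl) (by
    calc m = κ⁻¹ * (h * (h⁻¹ * (κ * m * κ⁻¹) * h) * h⁻¹) * κ := by group
      _ = 1 := by rw [e']; group)
  obtain ⟨e', he', hei, het, heT⟩ := tab_type P hinj hi hci hsq hne1
  have h31 : nfix (repW.getD e'.2.1 []) = 31 := by
    obtain ⟨γ, hγ⟩ := heT
    rw [← nfixP_tvW, ← rep, ← nfixP_conj γ, hγ, show h⁻¹ * (κ * m * κ⁻¹) * h = (h⁻¹ * κ) * m * (h⁻¹ * κ)⁻¹ by
      group, nfixP_conj, hm31]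
  have hu := List.all_eq_true.1 unique945_ok i (filter_mem hi (hp _ hmem i hi hci))
  rw [Bool.or_eq_true, List.all_eq_true] at hu
  rcases hu with hu | hu
  · rw [Nat.beq_eq] at hu
    subst hu
    have e2 := isC_eq P hinj hci hcm
    have e3 : κ * m * κ⁻¹ = m := mul_left_cancel (mul_right_cancel e2)
    rw [← hκ, ← map_inv, ← map_mul, ← map_mul, e3]
  · have h3 := hu e' he'
    rw [hei, h31, Nat.beq_refl, Nat.beq_refl] at h3
    exact absurd h3 (by simp)

end CfsgLib.CoTwoRec
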