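import Cfsg.Agent.Lib.CoTwoRec.SpOutB

/-!
# The two remaining classes outside, on the spin module
-/

set_option autoImplicit false
set_option linter.unusedSectionVars false
set_option maxRecDepth 100000

namespace CfsgLib.CoTwoRec

open Subgroup CfsgLib.ExtraNine CfsgLib.LargeExtra CfsgLib.Schur.Tails.SpSix CfsgLib.ThType.Perm
  CfsgLib.ThType.Coords CfsgLib.ThType.Fusion

attribute [local irreducible] sel app

variable {G : Type*} [Group G] [Finite G] {V : Type*} [AddCommGroup V] {N : Nine G V} {A : Act Sp2 V}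
  (P : SpinChart N.S A) (hinj : Function.Injective A.σ) (hr : A.σ.range = N.ρ.range) {g : G} (O : Out N g)
  {α : Sp2} (hα : A.σ α = N.ρ O.inv')

include P hinj hr in
theorem sG_partner {k : G} (Pk : Out N k) : 32 ≤ Nat.card ↥(sG N k) := by
  obtain ⟨β, hβ, t, ht, hTβ⟩ := exists_alpha P hinj hr Pk
  rcases (show t < 2 ∨ t = 2 ∨ t = 3 by omega) with h2 | rfl | rfl
  · exact (sG_small P hr Pk hβ h2 hTβ).ge
  · exact le_trans (by norm_num) (sG_two P Pk hβ hTβ)
  · exact (no_tw P hinj hr Pk hβ hTβ).elim

include P hinj hr O hα in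
/-- The class with sixty four fixed vectors has the full centraliser and one half. -/
theorem two_facts (hT : Ty 2 α) :
    (∀ v, N.ρ O.inv' v = v → lf N g v = 0) ∧ ¬ IsConj N.z (g * N.z * g⁻¹ * N.z) := by
  classical
  haveI := spin_finite P
  have hiso := spin_iso hr
  obtain ⟨h, hh, hS⟩ := exists_pull P hinj (t := 2) (by norm_num) hT (m2_facts hinj hr O).2
    (m2_comm hinj O hα).2
  have hq := quo_ok
  simp only [List.all_append, Bool.and_eq_true, List.all_eq_true, Nat.blt_eq, Nat.beq_eq] at hq
  have hfx : ∀ u < 256, app (rC 2) u = u → N.ρ O.inv' (vh P h u) = vh P h u := fun u hu e => by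
    rw [← hα, ← hh, fix_iff P (pC_rep P (by norm_num)) hu]; exact e
  have him : ∀ v, imL.any (Nat.beq v) = true → vh P h v ∈ klV N g ∧ ∃ w, N.ρ O.inv' w + w = vh P h v := by
    intro v hv
    rw [List.any_eq_true] at hv
    obtain ⟨v', hv', e⟩ := hv
    rw [Nat.beq_eq] at e
    subst e
    obtain ⟨u, hu, e⟩ := List.any_eq_true.1 (List.all_eq_true.1 im_ok v hv')
    rw [List.mem_range] at hu
    rw [Nat.beq_eq] at e
    have e' : A.σ α (vh P h u) + vh P h u = vh P h v := by rw [← hh, σ_add_self P (pC_rep P (by norm_num)) hu, e]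
    exact ⟨e' ▸ commutator_mem P hr O hα (t := 2) (by norm_num) hT _, vh P h u, hα ▸ e'⟩
  -- the functional on the completing vectors
  let l : ℕ → Bool := fun j => decide (lf N g (vh P h (quoB.getD j 0)) = 1)
  obtain ⟨b, hb0, hb1, hb2, hb3⟩ := pick_bits (l 0) (l 1) (l 2) (l 3)
  have hbit : ∀ j < 4, bitAt b.val j = l j := fun j hj => by interval_cases j <;> assumption
  have hquo : ∀ j < 4, quoB.getD j 0 < 256 ∧ app (rC 2) (quoB.getD j 0) = quoB.getD j 0 := by
    intro j hj
    have : quoB.getD j 0 ∈ quoB := by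
      have hl : quoB.length = 4 := rfl
      rw [List.getD_eq_getElem _ _ (by omega)]
      exact List.getElem_mem _
    exact hq.2 _ this
  have hker : ∀ v ∈ kerB b.val, v < 256 ∧ vh P h v ∈ klV N g := by
    intro v hv
    rw [kerB, List.mem_append, List.mem_filterMap] at hv
    rcases hv with hv | ⟨j, hj, hv⟩
    · exact ⟨(hq.1 v hv).1, (him v (List.all_eq_true.1 imB_ok v hv)).1⟩
    rw [List.mem_range] at hj
    split_ifs at hv with hbj
    · split at hv
      · rename_i k hk
        split_ifs at hv with hkj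
        rw [Option.some.injEq] at hv
        subst hv
        have hk4 : k < 4 := List.mem_range.1 (List.mem_of_find?_eq_some hk)
        have hbk := List.find?_some hk
        obtain ⟨a1, a2⟩ := hquo k hk4
        obtain ⟨b1, b2⟩ := hquo j hj
        refine ⟨xor_lt' a1 b1, (mem_klV O).2 ⟨hfx _ (xor_lt' a1 b1) (by rw [app_xor, a2, b2]), ?_⟩⟩
        rw [hbit k hk4] at hbk
        rw [hbit j hj] at hbj
        simp only [l, decide_eq_true_eq] at hbk hbj
        rw [vh_xor, O.lfun_lfun.1 _ _ (hfx _ a1 a2) (hfx _ b1 b2), hbk, hbj]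
        decide
      · simp at hv
    · rw [Option.some.injEq] at hv
      subst hv
      refine ⟨(hquo j hj).1, (mem_klV O).2 ⟨hfx _ (hquo j hj).1 (hquo j hj).2, ?_⟩⟩
      rw [hbit j hj] at hbj
      simp only [l, decide_eq_true_eq] at hbj
      exact (zmod_two_cases _).resolve_right hbj
  -- the size of the intersection
  have hcom : ∀ m ∈ m2 A N g, ∀ i < 512, IsC P (sel i) (h⁻¹ * m * h) → ∀ v ∈ kerB b.val,
      vh P h (app (sel i) v ^^^ v) ∈ dV N g := by
    intro m hm i _ hci v hv
    obtain ⟨hv256, hvk⟩ := hker v hv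
    have h1 := com_dV O (show A.σ m ∈ mG N g from hm) hvk
    rwa [show m = h * (h⁻¹ * m * h) * h⁻¹ by group, σ_add_self P hci hv256] at h1
  have hM := card_mG O
  have hge := sG_partner P hinj hr O.symm
  rw [← hM, ← (m2_facts hinj hr O).1, ← card_dV O] at hge
  have hd1 : ∃ v ∈ dV N g, v ≠ 0 := by
    by_contra hno
    push Not at hno
    have hbot : dV N g = ⊥ := (AddSubgroup.eq_bot_iff_forall _).2 hno
    rw [hbot, AddSubgroup.card_bot, mul_one] at hge
    have hle := (card_le_cnt P hinj _ h hS (fixesL (kerB b.val)) fun m hm i hi hci => by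
      simp only [fixesL, List.all_eq_true, Nat.beq_eq]
      intro v hv
      have h1 := hcom m hm i hi hci v hv
      rw [hbot, AddSubgroup.mem_bot, ← vh_zero P h] at h1
      exact Nat.xor_eq_zero_iff.1 (vh_inj P h (xor_lt' (app_lt _ _) (hker v hv).1) (by norm_num) h1)).1
    have := all_lt d_zero_ok b.isLt
    rw [Nat.blt_eq] at this
    omega
  have hout : ∀ u < 256, vh P h u ∈ dV N g → vh P h u ≠ 0 →
      imL.any (Nat.beq u) = true ∨ outRad b.val u = true := by
    intro u hu hud hu0
    by_cases hi : imL.any (Nat.beq u) = true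
    · exact Or.inl hi
    refine Or.inr ?_
    have hfu : app (rC 2) u = u := by
      have := hα ▸ ((mem_klV O).1 (dV_le_klV O hud)).1
      rwa [← hh, fix_iff P (pC_rep P (by norm_num)) hu] at this
    have hqu : qT u = false := by
      have := (dV_perp O hud (dV_le_klV O hud)).2
      rw [vh_q P hiso h hu] at this
      revert this
      cases qT u <;> simp
    simp only [outRad, Bool.and_eq_true, Bool.not_eq_true', List.all_eq_true, Nat.beq_eq]
    refine ⟨⟨⟨hfu, Bool.eq_false_iff.2 hi⟩, hqu⟩, fun v hv => ?_⟩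
    obtain ⟨hv256, hvk⟩ := hker v hv
    have := (dV_perp O hud hvk).1
    rw [vh_B P hiso h hu hv256] at this
    revert this
    cases beta u v <;> simp
  obtain ⟨b, hb⟩ := b
  rcases b with _ | b
  · -- the functional vanishes
    simp only at hker hout hbit hcom
    refine ⟨fun v hv => ?_, fun hj => ?_⟩
    · obtain ⟨u, hu, rfl⟩ := vh_surj P h v
      rw [← hα, ← hh, fix_iff P (pC_rep P (by norm_num)) hu] at hv
      have hs := List.all_eq_true.1 span_fix_ok u (List.mem_filter.2 ⟨List.mem_range.2 hu, by simpa using hv⟩)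
      rw [List.any_eq_true] at hs
      obtain ⟨u', hu', e⟩ := hs
      rw [Nat.beq_eq] at e
      subst e
      exact ((mem_klV O).1 (spanL_mem P (klV N g) h _ [0] (fun x hx => (hker x hx).2)
        (fun x hx => by rw [List.mem_singleton.1 hx, vh_zero]; exact zero_mem _) u hu')).2
    · obtain ⟨v, hv, hv0⟩ := hd1
      obtain ⟨u, hu, rfl⟩ := vh_surj P h v
      rcases hout u hu hv hv0 with hi | ho
      · exact d_no_image O hj hv hv0 (him u hi).2
      · have := all_lt rad_zero_ok hu
        rw [ho] at this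
        exact absurd this (by simp)
  -- a nonzero functional
  exfalso
  simp only at hker hout hbit hcom hb
  have hj : IsConj N.z (g * N.z * g⁻¹ * N.z) := by
    obtain ⟨j, hj, hbj⟩ : ∃ j < 4, bitAt (b + 1) j = true := by
      have hall : ∀ e : Fin 15, ∃ j : Fin 4, bitAt (e.val + 1) j.val = true := by decide +kernel
      obtain ⟨j, hj⟩ := hall ⟨b, by omega⟩
      exact ⟨j.val, j.isLt, hj⟩
    rw [hbit j hj] at hbj
    simp only [l, decide_eq_true_eq] at hbj
    obtain ⟨q, hq'⟩ := N.surj (vh P h (quoB.getD j 0))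
    exact (isConj_conj g).trans (isConj_iff.2 ⟨q, conj_mul_of_moved O (by
      rw [hq']; exact hfx _ (hquo j hj).1 (hquo j hj).2) (by rw [hq', hbj]; decide)⟩)
  obtain ⟨v, hv, hv0⟩ := hd1
  obtain ⟨r, hr', rfl⟩ := vh_surj P h v
  have hor : outRad (b + 1) r = true :=
    (hout r hr' hv hv0).resolve_left fun hi => d_no_image O hj hv hv0 (him r hi).2
  have hall : ∀ u < 256, vh P h u ∈ dV N g → u = 0 ∨ u = r := by
    intro u hu hud
    by_cases hu0 : vh P h u = 0
    · exact Or.inl (vh_inj P h hu (by norm_num) (hu0.trans (vh_zero P h).symm))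
    refine Or.inr (by_contra fun hne => ?_)
    have hou : outRad (b + 1) u = true :=
      (hout u hu hud hu0).resolve_left fun hi => d_no_image O hj hud hu0 (him u hi).2
    have h1 := List.all_eq_true.1 (List.all_eq_true.1 (all_lt rad_ok (show b < 15 by omega)) r
      (filter_mem hr' hor)) u (filter_mem hu hou)
    have hmem : vh P h (r ^^^ u) ∈ dV N g := by rw [vh_xor]; exact add_mem hv hud
    refine d_no_image O hj hmem (fun e => hne ?_) (him _ h1).2
    exact (Nat.xor_eq_zero_iff.1 (vh_inj P h (xor_lt' hr' hu) (by norm_num) (e.trans (vh_zero P h).symm))).symm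
  have hd2 : Nat.card ↥(dV N g) ≤ 2 := by
    have := Nat.card_le_card_of_injective (fun x : ↥(dV N g) => decide ((x : V) = 0)) fun x y e => by
      obtain ⟨u, hu, eu⟩ := vh_surj P h (x : V)
      obtain ⟨w, hw, ew⟩ := vh_surj P h (y : V)
      rcases hall u hu (eu ▸ x.2) with rfl | rfl <;> rcases hall w hw (ew ▸ y.2) with rfl | rfl
      · exact Subtype.ext (eu.symm.trans ew)
      · exfalso
        simp only [decide_eq_decide] at e
        rw [← eu, ← ew, vh_zero] at e
        simp [hv0] at e
      · exfalso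
        simp only [decide_eq_decide] at e
        rw [← eu, ← ew, vh_zero] at e
        simp [hv0] at e
      · exact Subtype.ext (eu.symm.trans ew)
    simpa using this
  have hle := (card_le_cnt P hinj _ h hS (nearL (kerB (b + 1)) r) fun m hm i hi hci => by
    simp only [nearL, List.all_eq_true, Bool.or_eq_true, Nat.beq_eq]
    intro w hw
    have hw256 := (hker w hw).1
    rcases hall _ (xor_lt' (app_lt _ _) hw256) (hcom m hm i hi hci w hw) with e | e
    · exact Or.inl (Nat.xor_eq_zero_iff.1 e)
    · refine Or.inr ?_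
      rw [← e, Nat.xor_comm w, Nat.xor_assoc, Nat.xor_self, Nat.xor_zero]).1
  have hc := all_lt (all_lt d_out_ok (show b < 15 by omega)) hr'
  rw [hor, Bool.not_true, Bool.false_or, Nat.blt_eq] at hc
  have hprod := Nat.mul_le_mul hle hd2
  omega

end CfsgLib.CoTwoRec
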