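import Cfsg.Agent.Lib.CoTwoRec.SpOutC

/-!
# Conjugates outside on the spin module: two classes, each with one half, and the second occurs
-/

set_option autoImplicit false
set_option linter.unusedSectionVars false
set_option maxRecDepth 100000

namespace CfsgLib.CoTwoRec

open Subgroup CfsgLib.ExtraNine CfsgLib.LargeExtra CfsgLib.Schur.Tails.SpSix CfsgLib.ThType.Perm
  CfsgLib.ThType.Coords CfsgLib.ThType.Fusion

attribute [local irreducible] sel app

variable {G : Type*} [Group G] [Finite G] {V : Type*} [AddCommGroup V] {N : Nine G V} {A : Act Sp2 V}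
  (P : SpinChart N.S A) (hinj : Function.Injective A.σ) (hr : A.σ.range = N.ρ.range) {g : G} (O : Out N g)
  {α : Sp2} (hα : A.σ α = N.ρ O.inv')

/-- A conjugate commuting with the central involution, moving the quotient, is outside. -/
theorem mk_out {k : G} (hweak : Weak N) (h : k * N.z * k⁻¹ ∈ centralizer ({N.z} : Set G))
    (hne : N.ρ ⟨k * N.z * k⁻¹, h⟩ ≠ 1) : ∃ Pk : Out N k, N.ρ Pk.inv' = N.ρ ⟨k * N.z * k⁻¹, h⟩ :=
  ⟨⟨hweak, mem_centralizer_singleton_iff.1 h, fun hq => hne ((N.ρ_eq_one_iff _).2 hq)⟩, rfl⟩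

include O in
/-- Each element of the other extraspecial subgroup gives a further conjugate over it or over its product. -/
theorem out_over (hfi : FixImage (N.ρ O.symm.inv')) {c : centralizer ({N.z} : Set G)} (hc : c ∈ tG N g)
    (h1 : N.ρ c ≠ 1) (h2 : N.ρ c * N.ρ O.inv' ≠ 1) :
    ∃ k, ∃ Pk : Out N k, (N.ρ Pk.inv' = N.ρ c ∨ N.ρ Pk.inv' = N.ρ c * N.ρ O.inv') ∧
      (IsConj N.z (g * N.z * g⁻¹ * N.z) → ∃ k', ∃ Pk' : Out N k',
        N.ρ Pk'.inv' = N.ρ Pk.inv' * N.ρ O.inv') := by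
  have hs := g_inv_mem c.2 (mem_tG.1 hc)
  obtain ⟨w, hw⟩ := hfi _ (O.symm.s_le_p hs)
  obtain ⟨u, rfl⟩ := N.surj w
  set x' := g⁻¹ * N.z * g⁻¹⁻¹ with hx'
  have he := O.symm.comm'_spec u
  have hcu : (O.symm.comm' u : G) = g⁻¹ * (c : G) * g ∨ (O.symm.comm' u : G) = g⁻¹ * (c : G) * g * N.z :=
    N.π_eq (a := (⟨_, hs.1⟩ : ↥N.Q)) (b := O.symm.comm' u) (by rw [O.symm.π_comm']; exact hw.symm)
  set x : centralizer ({N.z} : Set G) := O.inv' with hxdef
  let zc : centralizer ({N.z} : Set G) := ⟨N.z, mem_centralizer_singleton_iff.2 rfl⟩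
  have hρz : N.ρ zc = 1 := (N.ρ_eq_one_iff _).2 N.z_mem
  set k := g * (u : G) * g⁻¹ with hk
  have hky : k * N.z * k⁻¹ = g * ((u : G) * x' * (u : G)⁻¹) * g⁻¹ := by rw [hk, hx']; group
  obtain ⟨y, hy, hρy⟩ : ∃ y : centralizer ({N.z} : Set G), k * N.z * k⁻¹ = y ∧
      (N.ρ y = N.ρ c ∨ N.ρ y = N.ρ c * N.ρ x) := by
    rcases hcu with e | e
    · refine ⟨c * zc, ?_, Or.inl (by rw [map_mul, hρz, mul_one])⟩
      rw [hky, he, e]
      show _ = (c : G) * N.z
      group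
    · refine ⟨c * x * zc, ?_, Or.inr (by rw [map_mul, map_mul, hρz, mul_one])⟩
      rw [hky, he, e]
      show _ = (c : G) * (g * N.z * g⁻¹) * N.z
      group
  have hmem : k * N.z * k⁻¹ ∈ centralizer ({N.z} : Set G) := hy ▸ y.2
  have hye : (⟨k * N.z * k⁻¹, hmem⟩ : centralizer ({N.z} : Set G)) = y := Subtype.ext hy
  have hne : N.ρ ⟨k * N.z * k⁻¹, hmem⟩ ≠ 1 := by
    rw [hye]; rcases hρy with e | e <;> rw [e] <;> assumption
  obtain ⟨Pk, hPk⟩ := mk_out O.weak hmem hne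
  refine ⟨k, Pk, by rw [hPk, hye]; exact hρy, fun hj => ?_⟩
  -- the product with the other is conjugate as well
  have hj' : IsConj N.z (x' * N.z) := by
    refine hj.trans (isConj_iff.2 ⟨g⁻¹, ?_⟩)
    rw [hx']
    calc g⁻¹ * (g * N.z * g⁻¹ * N.z) * g⁻¹⁻¹ = N.z * (g⁻¹ * N.z * g⁻¹⁻¹) := by group
      _ = _ := O.symm.comm.symm
  obtain ⟨w', hw'⟩ := isConj_iff.1 hj'
  set k' := g * (u : G) * w' with hk'
  have hky' : k' * N.z * k'⁻¹ = ((y * x : centralizer ({N.z} : Set G)) : G) := by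
    calc k' * N.z * k'⁻¹ = g * ((u : G) * (w' * N.z * w'⁻¹) * (u : G)⁻¹) * g⁻¹ := by rw [hk']; group
      _ = g * ((u : G) * (x' * N.z) * (u : G)⁻¹) * g⁻¹ := by rw [hw']
      _ = g * ((u : G) * x' * (u : G)⁻¹) * g⁻¹ * (g * ((u : G) * N.z * (u : G)⁻¹) * g⁻¹) := by group
      _ = _ := by
        rw [← hky, hy, N.z_comm u.2, mul_inv_cancel_right]
        rfl
  have hmem' : k' * N.z * k'⁻¹ ∈ centralizer ({N.z} : Set G) := hky' ▸ (y * x).2
  have hye' : (⟨k' * N.z * k'⁻¹, hmem'⟩ : centralizer ({N.z} : Set G)) = y * x := Subtype.ext hky'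
  obtain ⟨Pk', hPk'⟩ := mk_out O.weak hmem' (by
    rw [hye', map_mul]
    intro e
    rcases hρy with e' | e' <;> rw [e'] at e
    · exact h2 e
    · rw [mul_assoc, O.a_sq.1, mul_one] at e; exact h1 e)
  exact ⟨k', Pk', by rw [hPk', hye', hPk, hye, map_mul]⟩

include P hinj hr hα in
/-- Over a transvection with a transvection on the other side: the second class occurs, and one half. -/
theorem zero_facts (hT : Ty 0 α) {β : Sp2} (hβ : A.σ β = N.ρ O.symm.inv') (hTβ : Ty 0 β) :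
    (∃ k, ∃ Pk : Out N k, ∃ γ, A.σ γ = N.ρ Pk.inv' ∧ Ty 2 γ) ∧
      ¬ IsConj N.z (g * N.z * g⁻¹ * N.z) := by
  classical
  haveI := spin_finite P
  have hfi : FixImage (N.ρ O.symm.inv') := hβ ▸ ty_image P (t := 0) (by omega) hTβ
  have hd : Nat.card ↥(dG N g) ≤ 4 := O.d_le_four (hα ▸ ty_image P (t := 0) (by omega) hT)
  have hM := card_mG O
  rw [sG_small P hr O.symm hβ (t := 0) (by norm_num) hTβ] at hM
  obtain ⟨h, hh, hS⟩ := exists_pull P hinj (t := 0) (by norm_num) hT (m2_facts hinj hr O).2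
    (m2_comm hinj O hα).2
  have hb := all_lt basis16_ok (show 0 < 2 by norm_num)
  simp only [List.all_eq_true, Bool.and_eq_true, Nat.blt_eq, Nat.beq_eq] at hb
  have hαm := (m2_comm hinj O hα).1
  have hα1 : α ≠ 1 := fun e => O.a_sq.2 (by rw [← hα, e, map_one])
  have hα2 : α * α = 1 := hinj (by rw [map_mul, hα, O.a_sq.1, map_one])
  -- all members fix the commutators of the class
  have hdV : ∀ v ∈ klV N g, ∀ m ∈ m2 A N g, A.σ m v + v ∈ dV N g := fun v hv m hm => com_dV O hm hv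
  have hdbot : dV N g = ⊥ := small_d P hinj hr O hα (t := 0) (by norm_num) hT
  have hp : ∀ m ∈ m2 A N g, ∀ i < 512, IsC P (sel i) (h⁻¹ * m * h) →
      fixesL (fixB16.getD 0 []) i = true := by
    intro m hm i _ hci
    simp only [fixesL, List.all_eq_true, Nat.beq_eq]
    intro v hv
    obtain ⟨hv256, hvf⟩ := hb v hv
    have h1 := hdV _ (fixed_mem P hr O hα (t := 0) (by norm_num) ⟨h, hh⟩
      (hh ▸ (fix_iff P (pC_rep P (by norm_num)) hv256).2 hvf)) m hm
    rw [hdbot, AddSubgroup.mem_bot, show m = h * (h⁻¹ * m * h) * h⁻¹ by group, σ_add_self P hci hv256,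
      ← vh_zero P h] at h1
    exact Nat.xor_eq_zero_iff.1 (vh_inj P h (xor_lt' (app_lt _ _) hv256) (by norm_num) h1)
  have hnot : ∀ m ∈ m2 A N g, m ≠ 1 → m ≠ α → m * m = 1 → ¬ Ty 0 m := by
    intro m hm hm1 hma hmm h0
    obtain ⟨i, hi, hci⟩ := exists_el P (hS m hm)
    have hsq : h⁻¹ * m * h * (h⁻¹ * m * h) = 1 := by
      rw [show h⁻¹ * m * h * (h⁻¹ * m * h) = h⁻¹ * (m * m) * h by group, hmm]; group
    have hne1 : h⁻¹ * m * h ≠ 1 := fun e => hm1 (by
      rw [show m = h * (h⁻¹ * m * h) * h⁻¹ by group, e]; group)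
    obtain ⟨e, he, hei, het, heT⟩ := tab_type P hinj hi hci hsq hne1
    have h31 : nfix (repW.getD e.2.1 []) = 31 := by
      obtain ⟨γ, hγ⟩ := heT
      rw [← nfixP_tvW, ← rep, ← nfixP_conj γ, hγ, show h⁻¹ * m * h = h⁻¹ * m * h⁻¹⁻¹ by group, nfixP_conj,
        nfix_ty (t := 0) (by norm_num) h0]
      rfl
    have hchk := List.all_eq_true.1 only63_ok i (filter_mem hi (hp m hm i hi hci))
    simp only [Bool.or_eq_true, Nat.beq_eq, List.all_eq_true] at hchk
    rcases hchk with (hc0 | hcr) | hall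
    · subst hc0
      exact hne1 (isC_eq P hinj hci (isC_one P))
    · subst hcr
      have := isC_eq P hinj hci (pC_rep P (t := 0) (by norm_num))
      exact hma (by rw [← hh, ← this]; group)
    · have := hall e he
      rw [hei, h31] at this
      simp only [Nat.beq_refl, Bool.not_true, Bool.or_self, Bool.false_eq_true, Bool.not_eq_true'] at this
      rcases this with h' | h' <;> simp at h'
  -- every such member lies under a conjugate of the second class
  have hkind : ∀ {k : G} (Pk : Out N k) (m : Sp2), m ∈ m2 A N g → m ≠ 1 → m ≠ α →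
      A.σ m = N.ρ Pk.inv' → Ty 2 m := by
    intro k Pk m hm hm1 hma e
    have hmm : m * m = 1 := hinj (by rw [map_mul, e, Pk.a_sq.1, map_one])
    obtain ⟨t, ht, hTm⟩ := classify P hinj hmm hm1
    interval_cases t
    · exact absurd hTm (hnot m hm hm1 hma hmm)
    · exact (no_ty1 P hinj hr Pk e hTm).elim
    · exact hTm
    · exact (no_tw P hinj hr Pk e hTm).elim
  obtain ⟨m, hm, hm1, hma⟩ : ∃ m ∈ m2 A N g, m ≠ 1 ∧ m ≠ α := by
    by_contra hno
    push Not at hno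
    have hle : Nat.card (m2 A N g) ≤ 2 := by
      have := Nat.card_le_card_of_injective (fun m : m2 A N g => decide ((m : Sp2) = 1)) fun a b e => by
        simp only [decide_eq_decide] at e
        by_cases ha : (a : Sp2) = 1
        · exact Subtype.ext (ha.trans (e.1 ha).symm)
        · exact Subtype.ext ((hno a a.2 ha).trans (hno b b.2 fun hb => ha (e.2 hb)).symm)
      simpa using this
    rw [(m2_facts hinj hr O).1] at hle
    have := Nat.mul_le_mul hle hd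
    omega
  have hm' : m * α ∈ m2 A N g := mul_mem hm hαm
  have hm'1 : m * α ≠ 1 := fun e => hma ((eq_inv_of_mul_eq_one_left e).trans (inv_eq_of_mul_eq_one_right hα2))
  have hm'a : m * α ≠ α := fun e => hm1 (mul_eq_right.1 e)
  have hmG : A.σ m ∈ mG N g := hm
  obtain ⟨c, hc, hcm⟩ := hmG
  obtain ⟨k, Pk, hρk, hmore⟩ := out_over O hfi hc (fun e => hm1 (hinj (by rw [← hcm, e, map_one])))
    (fun e => hm'1 (hinj (by rw [map_mul, ← hcm, hα, e, map_one])))
  refine ⟨?_, fun hj => ?_⟩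
  · rcases hρk with e | e
    · exact ⟨k, Pk, m, hcm.symm.trans e.symm, hkind Pk m hm hm1 hma (hcm.symm.trans e.symm)⟩
    · have e' : A.σ (m * α) = N.ρ Pk.inv' := by rw [map_mul, ← hcm, hα, e]
      exact ⟨k, Pk, _, e', hkind Pk _ hm' hm'1 hm'a e'⟩
  obtain ⟨k', Pk', hρk'⟩ := hmore hj
  obtain ⟨n, hn, hn1, hna, eA, eB⟩ : ∃ n ∈ m2 A N g, n ≠ 1 ∧ n ≠ α ∧ A.σ n = N.ρ Pk.inv' ∧
      A.σ (n * α) = N.ρ Pk'.inv' := by
    rcases hρk with e | e
    · exact ⟨m, hm, hm1, hma, hcm.symm.trans e.symm, by rw [map_mul, ← hcm, hα, hρk', e]⟩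
    · refine ⟨m * α, hm', hm'1, hm'a, by rw [map_mul, ← hcm, hα, e], ?_⟩
      rw [map_mul, map_mul, ← hcm, hα, hρk', e]
  have hn' : n * α ∈ m2 A N g := mul_mem hn hαm
  have h2a := hkind Pk n hn hn1 hna eA
  have h2b := hkind Pk' _ hn' (fun e => hna ((eq_inv_of_mul_eq_one_left e).trans (inv_eq_of_mul_eq_one_right hα2)))
    (fun e => hn1 (mul_eq_right.1 e)) eB
  obtain ⟨i, hi, hci⟩ := exists_el P (hS n hn)
  obtain ⟨j, hj', hcj⟩ := exists_el P (hS _ hn')
  have h64 : ∀ {x : Sp2} {c : ℕ}, Ty 2 x → IsC P c (h⁻¹ * x * h) → (fixOf c).length = 64 := by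
    intro x c hx hc'
    rw [← card_fix P (h := h) hc', show h * (h⁻¹ * x * h) * h⁻¹ = x by group, ty_fix P (by norm_num) hx]
    rfl
  have hchk := List.all_eq_true.1 (List.all_eq_true.1 pair63_ok i (filter_mem hi (by
    rw [hp n hn i hi hci, h64 h2a hci]; rfl))) j (filter_mem hj' (by
    rw [hp _ hn' j hj' hcj, h64 h2b hcj]; rfl))
  simp only [Bool.not_eq_true', ← Bool.not_eq_true, List.all_eq_true, List.mem_range, Nat.beq_eq] at hchk
  refine hchk fun q hq => P.inj _ (img_lt _ _) _ (app_lt _ _) ?_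
  rw [← isC_basis P hcj hq, ← hci (img (rC 0) q) (img_lt _ _), ← isC_basis P (pC_rep P (t := 0) (by norm_num)) hq,
    ← Equiv.Perm.mul_apply, ← map_mul, show h⁻¹ * (n * α) * h = h⁻¹ * n * h * rep 0 by rw [← hh]; group]

include P hinj hr hα in
/-- The classes of a conjugate outside. -/
theorem out_classes : (Ty 0 α ∨ Ty 2 α ∧ ∀ v, N.ρ O.inv' v = v → lf N g v = 0) ∧
    ¬ IsConj N.z (g * N.z * g⁻¹ * N.z) ∧ ∃ k, ∃ Pk : Out N k, ∃ γ, A.σ γ = N.ρ Pk.inv' ∧ Ty 2 γ := by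
  have hα2 : α * α = 1 := hinj (by rw [map_mul, hα, O.a_sq.1, map_one])
  obtain ⟨t, ht, hT⟩ := classify P hinj hα2 fun e => O.a_sq.2 (by rw [← hα, e, map_one])
  interval_cases t
  · obtain ⟨β, hβ, t, ht', hTβ⟩ := exists_alpha P hinj hr O.symm
    interval_cases t
    · obtain ⟨h1, h2⟩ := zero_facts P hinj hr O hα hT hβ hTβ
      exact ⟨Or.inl hT, h2, h1⟩
    · exact (no_ty1 P hinj hr O.symm hβ hTβ).elim
    · refine ⟨Or.inl hT, fun hj => (two_facts P hinj hr O.symm hβ hTβ).2 ?_, g⁻¹, O.symm, β, hβ, hTβ⟩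
      refine hj.trans (isConj_iff.2 ⟨g⁻¹, ?_⟩)
      calc g⁻¹ * (g * N.z * g⁻¹ * N.z) * g⁻¹⁻¹ = N.z * (g⁻¹ * N.z * g⁻¹⁻¹) := by group
        _ = _ := O.symm.comm.symm
    · exact (no_tw P hinj hr O.symm hβ hTβ).elim
  · exact (no_ty1 P hinj hr O hα hT).elim
  · obtain ⟨h1, h2⟩ := two_facts P hinj hr O hα hT
    exact ⟨Or.inr ⟨hT, h1⟩, h2, g, O, α, hα, hT⟩
  · exact (no_tw P hinj hr O hα hT).elim

end CfsgLib.CoTwoRec
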